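import Groth.Agent.H1.Classical.Invariant

/-!
# Subgroups with complete quotient contain Borel subgroups, on points
-/

universe u v w

namespace Groth.Agent.H1.Classical.Absorb

set_option linter.style.haveILetI false
set_option linter.unusedSectionVars false

open Module Kolchin Open Complete

variable {k : Type u} [Field k] [IsAlgClosed k] {Γ : Type v} [Group Γ] (D : Alg k Γ)

/-- A closed subgroup is the stabiliser of a subspace of a representation. -/
theorem exists_stab_subspace (hmul : HasMul D) (T : Subgroup Γ) (hT : D.IsCl T) :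
    ∃ (W : Submodule k D.R) (_ : FiniteDimensional k W) (σ : Representation k Γ W) (_ : EndFn D.R (fun g => σ g))
      (U : Submodule k W), ∀ g, g ∈ T ↔ U.map (σ g) = U := by
  classical
  haveI := D.isNoetherianRing
  obtain ⟨F, hF⟩ := (IsNoetherian.noetherian (D.vI (T : Set Γ)) : (D.vI (T : Set Γ)).FG)
  choose n a b hab using fun f : D.R => hmul f
  let W : Submodule k D.R := Submodule.span k (⋃ f ∈ F, Set.range fun h : Γ => D.rTrans h f)
  have hfd : FiniteDimensional k W := by
    haveI : FiniteDimensional k (Submodule.span k (⋃ f ∈ F, Set.range (a f))) :=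
      FiniteDimensional.span_of_finite k (F.finite_toSet.biUnion fun f _ => Set.finite_range _)
    refine Submodule.finiteDimensional_of_le (S₂ := Submodule.span k (⋃ f ∈ F, Set.range (a f))) ?_
    · refine Submodule.span_le.mpr ?_
      rintro _ hx
      simp only [Set.mem_iUnion, Set.mem_range] at hx
      obtain ⟨f, hf, h, rfl⟩ := hx
      rw [show D.rTrans h f = ∑ i, (b f i : Γ → k) h • a f i from Subtype.ext (funext fun g => by
        show (f : Γ → k) (g * h) = evalR D g (∑ i, (b f i : Γ → k) h • a f i)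
        rw [hab f g h, map_sum]
        refine Finset.sum_congr rfl fun i _ => ?_
        rw [map_smul, smul_eq_mul, mul_comm]
        rfl)]
      exact Submodule.sum_mem _ fun i _ => Submodule.smul_mem _ _
        (Submodule.subset_span (Set.mem_biUnion hf ⟨i, rfl⟩))
  have hstab : ∀ g, ∀ f ∈ W, (D.rTrans g).toLinearMap f ∈ W := by
    intro g
    suffices W ≤ W.comap (D.rTrans g).toLinearMap from fun f hf => this hf
    refine Submodule.span_le.mpr ?_
    rintro _ hx
    simp only [Set.mem_iUnion, Set.mem_range] at hx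
    obtain ⟨f, hf, h, rfl⟩ := hx
    refine Submodule.subset_span (Set.mem_biUnion hf ⟨g * h, Subtype.ext (funext fun x => ?_)⟩)
    show (f : Γ → k) (x * (g * h)) = (f : Γ → k) (x * g * h)
    rw [mul_assoc]
  let σ : Representation k Γ W :=
    { toFun := fun g => (D.rTrans g).toLinearMap.restrict (hstab g)
      map_one' := LinearMap.ext fun w => Subtype.ext (Subtype.ext (funext fun x => by
        show ((w : D.R) : Γ → k) (x * 1) = _
        rw [mul_one]; rfl))
      map_mul' := fun g h => LinearMap.ext fun w => Subtype.ext (Subtype.ext (funext fun x => by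
        show ((w : D.R) : Γ → k) (x * (g * h)) = ((w : D.R) : Γ → k) (x * g * h)
        rw [mul_assoc])) }
  have hσ : EndFn D.R (fun g => σ g) := by
    intro w l
    obtain ⟨l', hl'⟩ := LinearMap.exists_extend l
    have : (fun g => l (σ g w)) = ((∑ i, l' (a w i) • b w i : D.R) : Γ → k) := by
      funext g
      rw [← hl']
      show l' (D.rTrans g w) = evalR D g (∑ i, l' (a w i) • b w i)
      rw [show D.rTrans g w = ∑ i, (b w i : Γ → k) g • a w i from Subtype.ext (funext fun x => by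
        show ((w : D.R) : Γ → k) (x * g) = evalR D x (∑ i, (b w i : Γ → k) g • a w i)
        rw [hab w x g, map_sum]
        refine Finset.sum_congr rfl fun i _ => ?_
        rw [map_smul, smul_eq_mul, mul_comm]
        rfl), map_sum, map_sum]
      refine Finset.sum_congr rfl fun i _ => ?_
      rw [map_smul, map_smul, smul_eq_mul, smul_eq_mul, mul_comm]
      rfl
    rw [this]
    exact Subtype.coe_prop _
  let U : Submodule k W := ((D.vI (T : Set Γ)).restrictScalars k).comap W.subtype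
  have hUT : ∀ g, (∀ u ∈ U, σ g u ∈ U) → g ∈ T := by
    intro g hg
    refine hT fun f hf => ?_
    have hle : D.vI (T : Set Γ) ≤ RingHom.ker (evalR D g) := by
      rw [← hF, Ideal.span_le]
      intro f hf
      have hfW : f ∈ W := Submodule.subset_span (Set.mem_biUnion hf ⟨1, Subtype.ext (funext fun x => by
        show (f : Γ → k) (x * 1) = _
        rw [mul_one])⟩)
      have hfU : (⟨f, hfW⟩ : W) ∈ U := by
        show f ∈ D.vI (T : Set Γ)
        rw [← hF]; exact Ideal.subset_span hf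
      have h1 := hg _ hfU
      have h2 : (f : Γ → k) (1 * g) = 0 := h1 1 T.one_mem
      rwa [one_mul] at h2
    exact hle hf
  have hUt : ∀ t ∈ T, ∀ u ∈ U, σ t u ∈ U := fun t ht u hu x hx => hu (x * t) (T.mul_mem hx ht)
  refine ⟨W, hfd, σ, hσ, U, fun g => ⟨fun hg => le_antisymm ?_ fun u hu => ?_, fun hg => hUT g fun u hu => ?_⟩⟩
  · rintro _ ⟨u, hu, rfl⟩
    exact hUt g hg u hu
  · exact ⟨σ g⁻¹ u, hUt _ (T.inv_mem hg) u hu, by
      rw [← End.mul_apply, ← map_mul, mul_inv_cancel, map_one, End.one_apply]⟩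
  · rw [← hg]
    exact Submodule.mem_map_of_mem hu

/-- A group with complete quotient contains a conjugate of each connected solvable group. -/
theorem exists_conj_le (hmul : HasMul D) (P : Subgroup Γ) (hP : D.IsCl P) (hc : Complete D P) (S : Subgroup Γ)
    (hScl : D.IsCl S) (hS : D.SIrr S) [Group.IsSolvable S] : ∃ g : Γ, ∀ s ∈ S, g⁻¹ * s * g ∈ P := by
  classical
  obtain ⟨W, _, σ, hσ, U, hU⟩ := exists_stab_subspace D hmul P hP
  let 𝒮 : Set (Submodule k W) := {F | (∀ s ∈ S, ∀ w ∈ F, σ s w ∈ F) ∧ ∃ g, F ≤ U.map (σ g)}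
  obtain ⟨F, ⟨hFS, g, hFg⟩, hmax⟩ := WellFounded.has_min (r := (· > ·)) wellFounded_gt 𝒮
    ⟨⊥, fun s _ w hw => by rw [(Submodule.mem_bot k).mp hw, map_zero]; exact Submodule.zero_mem _, 1, bot_le⟩
  have hmem : ∀ (h : Γ) (x : W), x ∈ U.map (σ h) ↔ σ h⁻¹ x ∈ U := by
    intro h x
    constructor
    · rintro ⟨u, hu, rfl⟩
      rwa [Invariant.rho_inv_apply]
    · intro hx
      exact ⟨_, hx, by rw [← End.mul_apply, ← map_mul, mul_inv_cancel, map_one, End.one_apply]⟩
  by_cases heq : F = U.map (σ g)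
  · refine ⟨g, fun s hs => (hU _).mpr (le_antisymm ?_ ?_)⟩
    · rintro _ ⟨u, hu, rfl⟩
      obtain ⟨u', hu', h'⟩ := heq ▸ hFS s hs (σ g u) (heq ▸ ⟨u, hu, rfl⟩)
      rw [map_mul, map_mul, End.mul_apply, End.mul_apply, ← h', Invariant.rho_inv_apply]
      exact hu'
    · intro u hu
      obtain ⟨u', hu', h'⟩ := heq ▸ hFS s⁻¹ (S.inv_mem hs) (σ g u) (heq ▸ ⟨u, hu, rfl⟩)
      refine ⟨u', hu', ?_⟩
      rw [map_mul, map_mul, End.mul_apply, End.mul_apply, h', ← End.mul_apply (σ s), ← map_mul σ s, mul_inv_cancel,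
        map_one, End.one_apply, Invariant.rho_inv_apply]
  exfalso
  obtain ⟨w, hw, hwF⟩ := SetLike.exists_of_lt (lt_of_le_of_ne hFg heq)
  obtain ⟨sec, hsec⟩ := F.mkQ.exists_rightInverse_of_surjective F.range_mkQ
  have hsecv : ∀ x, F.mkQ (sec x) = x := LinearMap.congr_fun hsec
  let b := Module.finBasis k (W ⧸ F)
  let DS := D.restrict S hScl
  let τ : Representation k S (W ⧸ F) :=
    { toFun := fun s => F.mapQ F (σ (s : Γ)) fun x hx => hFS s s.2 x hx
      map_one' := Submodule.linearMap_qext _ (LinearMap.ext fun x => by simp)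
      map_mul' := fun s t => Submodule.linearMap_qext _ (LinearMap.ext fun x => by simp) }
  have hτ : EndFn DS.R (fun s => τ s) := by
    intro y l
    obtain ⟨x, rfl⟩ := Submodule.mkQ_surjective F y
    exact ⟨_, hσ x (l.comp F.mkQ), rfl⟩
  let Cs : Set (Γ × (Fin (finrank k (W ⧸ F)) → k)) :=
    {q | F ≤ U.map (σ q.1) ∧ sec (b.equivFun.symm q.2) ∈ U.map (σ q.1)}
  have hUl : ∀ x : W, x ∈ U ↔ ∀ l : Dual k W, l ∈ U.dualAnnihilator → l x = 0 := by
    intro x
    refine ⟨fun hx l hl => (Submodule.mem_dualAnnihilator l).mp hl x hx, fun h => ?_⟩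
    by_contra hx
    obtain ⟨l, hl, hlU⟩ := Submodule.exists_dual_map_eq_bot_of_notMem hx inferInstance
    exact hl (h l ((Submodule.mem_dualAnnihilator l).mpr fun u hu => (Submodule.mem_bot k).mp (hlU ▸ ⟨u, hu, rfl⟩)))
  have hCs : PairCl D Cs := by
    rintro ⟨h, y⟩ hq
    constructor
    · intro x hx
      rw [hmem, hUl]
      intro l hl
      have h0 := hq (MvPolynomial.C ⟨_, D.inv _ (hσ x l)⟩) fun c hc => by
        rw [pev_C]
        exact (hUl _).mp ((hmem _ _).mp (hc.1 hx)) l hl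
      rwa [pev_C] at h0
    · rw [hmem, hUl]
      intro l hl
      have key : ∀ c : Γ × (Fin (finrank k (W ⧸ F)) → k),
          pev D c.1 c.2 (∑ i, MvPolynomial.X i * MvPolynomial.C ⟨_, D.inv _ (hσ (sec (b i)) l)⟩) =
            l (σ c.1⁻¹ (sec (b.equivFun.symm c.2))) := by
        intro c
        simp only [map_sum, map_mul, pev_X, pev_C, Basis.equivFun_symm_apply, map_smul, smul_eq_mul]
      rw [← key (h, y)]
      exact hq _ fun c hc => (key c).trans ((hUl _).mp ((hmem _ _).mp hc.2) l hl)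
  have hinv : ∀ h y, (h, y) ∈ Cs → ∀ p ∈ P, (h * p, y) ∈ Cs := by
    intro h y hq p hp
    have : U.map (σ (h * p)) = U.map (σ h) := by
      rw [map_mul, End.mul_eq_comp, Submodule.map_comp, (hU p).mp hp]
    show F ≤ U.map (σ (h * p)) ∧ sec _ ∈ U.map (σ (h * p))
    rw [this]
    exact hq
  have hY := hc _ Cs hCs hinv
  let Z : Set (W ⧸ F) := {x | ∃ h, F ≤ U.map (σ h) ∧ sec x ∈ U.map (σ h)}
  have hYZ : ∀ x, b.equivFun x ∈ {y | ∃ h, (h, y) ∈ Cs} ↔ x ∈ Z := fun x => by
    refine exists_congr fun h => ?_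
    show F ≤ _ ∧ sec (b.equivFun.symm (b.equivFun x)) ∈ _ ↔ _
    rw [LinearEquiv.symm_apply_apply]
  have hcone : Fixed.IsCone b τ Z := by
    refine ⟨fun x hx => (hYZ x).mp (hY _ fun p hp => hx p fun z hz => hp _ ((hYZ z).mpr hz)),
      fun c x ⟨h, h1, h2⟩ => ⟨h, h1, by rw [map_smul]; exact Submodule.smul_mem _ c h2⟩, ?_⟩
    rintro s x ⟨h, h1, h2⟩
    refine ⟨(s : Γ) * h, ?_⟩
    have h3 : U.map (σ ((s : Γ) * h)) = (U.map (σ h)).map (σ (s : Γ)) := by
      rw [map_mul, End.mul_eq_comp, Submodule.map_comp]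
    have h4 : F ≤ U.map (σ ((s : Γ) * h)) := by
      rw [h3]
      intro y hy
      exact ⟨σ (s : Γ)⁻¹ y, h1 (hFS _ (S.inv_mem s.2) y hy), by
        rw [← End.mul_apply, ← map_mul, mul_inv_cancel, map_one, End.one_apply]⟩
    refine ⟨h4, ?_⟩
    have h5 : sec (τ s x) - σ (s : Γ) (sec x) ∈ F := by
      rw [← Submodule.Quotient.eq]
      show F.mkQ (sec _) = F.mkQ _
      rw [hsecv]
      conv_lhs => rw [← hsecv x]
      rfl
    have h6 := Submodule.add_mem _ (h4 h5) (h3 ▸ Submodule.mem_map_of_mem h2 :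
      σ (s : Γ) (sec x) ∈ U.map (σ ((s : Γ) * h)))
    rwa [sub_add_cancel] at h6
  haveI : Group.IsSolvable (⊤ : Subgroup S) :=
    Group.isSolvable_of_isSolvable_injective (f := (⊤ : Subgroup S).subtype) (Subgroup.subtype_injective _)
  obtain ⟨x, ⟨h, h1, h2⟩, hx0, hxS⟩ := Fixed.exists_fixed b τ hτ hcone
    ⟨F.mkQ w, ⟨g, hFg, by
      have h5 : sec (F.mkQ w) - w ∈ F := (Submodule.Quotient.eq F).mp (hsecv _)
      have h6 := Submodule.add_mem _ (hFg h5) hw
      rwa [sub_add_cancel] at h6⟩, fun h0 => hwF ((Submodule.Quotient.mk_eq_zero F).mp h0)⟩ ⊤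
    (by
      rw [Subgroup.coe_top]
      exact D.sirr_restrict.mpr (by rw [Set.image_univ, Subtype.range_coe_subtype]; exact hS))
  refine hmax ((Submodule.span k {x}).comap F.mkQ) ⟨?_, h, ?_⟩ ?_
  · intro s hs y hy
    obtain ⟨c, hc⟩ := Submodule.mem_span_singleton.mp hy
    obtain ⟨e, he⟩ := hxS ⟨s, hs⟩ (Subgroup.mem_top _)
    refine Submodule.mem_span_singleton.mpr ⟨c * e, ?_⟩
    show (c * e) • x = τ ⟨s, hs⟩ (F.mkQ y)
    rw [← hc, map_smul, he, smul_smul]
  · intro y hy
    obtain ⟨c, hc⟩ := Submodule.mem_span_singleton.mp hy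
    have h5 : y - c • sec x ∈ F := (Submodule.Quotient.eq F).mp (by
      show F.mkQ y = F.mkQ (c • sec x)
      rw [map_smul, hsecv, hc])
    have h6 := Submodule.add_mem _ (h1 h5) (Submodule.smul_mem _ c h2)
    rwa [sub_add_cancel] at h6
  · refine lt_of_le_of_ne (fun y hy => ?_) fun heq' => hx0 ?_
    · show F.mkQ y ∈ Submodule.span k {x}
      rw [Submodule.mkQ_apply, (Submodule.Quotient.mk_eq_zero F).mpr hy]
      exact Submodule.zero_mem _
    · have : sec x ∈ F := heq'.ge (Submodule.mem_comap.mpr (by rw [hsecv]; exact Submodule.mem_span_singleton_self x))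
      rw [← hsecv x]
      exact (Submodule.Quotient.mk_eq_zero F).mpr this

end Groth.Agent.H1.Classical.Absorb
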