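import Mathlib.RingTheory.Ideal.MinimalPrime.Noetherian
import Mathlib.RingTheory.Jacobson.Ring
import Mathlib.RingTheory.Jacobson.Artinian
import Mathlib.FieldTheory.IsAlgClosed.Basic
import Mathlib.RingTheory.Nullstellensatz
import Mathlib.Algebra.Algebra.Pi
import Mathlib.GroupTheory.GroupAction.ConjAct

/-!
# Algebraic groups as groups with an algebra of regular functions

Classical viewpoint over an algebraically closed field: a group `Γ` together with a finitely generated algebra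
`R` of functions, stable under translations and inversion, whose algebra characters are the points of `Γ`.
-/

universe u v w

namespace Groth.Agent.H1.Classical

variable (k : Type u) [Field k]

/-- A group with its algebra of regular functions. -/
structure Alg (Γ : Type v) [Group Γ] where
  R : Subalgebra k (Γ → k)
  fg : R.FG
  pts : ∀ χ : R →ₐ[k] k, ∃ g : Γ, ∀ f : R, χ f = (f : Γ → k) g
  lmul : ∀ a : Γ, ∀ f ∈ R, (fun g => f (a * g)) ∈ R
  rmul : ∀ a : Γ, ∀ f ∈ R, (fun g => f (g * a)) ∈ R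
  inv : ∀ f ∈ R, (fun g => f g⁻¹) ∈ R

variable {k} {Γ : Type v} [Group Γ] (D : Alg k Γ)

set_option linter.style.haveILetI false

namespace Alg

/-- The vanishing ideal of a set of points. -/
def vI (C : Set Γ) : Ideal D.R where
  carrier := {f | ∀ c ∈ C, (f : Γ → k) c = 0}
  add_mem' := fun {f g} hf hg c hc => by simp [hf c hc, hg c hc]
  zero_mem' := fun c hc => rfl
  smul_mem' := fun r f hf c hc => by simp [hf c hc]

theorem mem_vI {C : Set Γ} {f : D.R} : f ∈ D.vI C ↔ ∀ c ∈ C, (f : Γ → k) c = 0 := Iff.rfl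

/-- The common zeroes of an ideal. -/
def zero (I : Ideal D.R) : Set Γ := {g | ∀ f ∈ I, (f : Γ → k) g = 0}

/-- A set cut out by regular functions. -/
def IsCl (C : Set Γ) : Prop := D.zero (D.vI C) ⊆ C

/-- A set on which the regular functions have no zero divisors. -/
def SIrr (C : Set Γ) : Prop :=
  ∀ f f' : D.R, f * f' ∈ D.vI C → f ∈ D.vI C ∨ f' ∈ D.vI C

theorem subset_zero_vI (C : Set Γ) : C ⊆ D.zero (D.vI C) := fun _ hc _ hf => hf _ hc

theorem le_vI_zero (I : Ideal D.R) : I ≤ D.vI (D.zero I) := fun _ hf _ hc => hc _ hf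

theorem zero_anti {I J : Ideal D.R} (h : I ≤ J) : D.zero J ⊆ D.zero I := fun _ hg _ hf => hg _ (h hf)

theorem vI_anti {C C' : Set Γ} (h : C ⊆ C') : D.vI C' ≤ D.vI C := fun _ hf _ hc => hf _ (h hc)

theorem isCl_zero (I : Ideal D.R) : D.IsCl (D.zero I) := D.zero_anti (D.le_vI_zero I)

/-- A set cut out by a family of regular functions is closed. -/
theorem isCl_of_forall {C : Set Γ} (F : Set (Γ → k)) (hF : F ⊆ D.R) (h : ∀ g, g ∈ C ↔ ∀ f ∈ F, f g = 0) :
    D.IsCl C := fun g hg =>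
  (h g).mpr fun f hf => hg ⟨f, hF hf⟩ fun c hc => (h c).mp hc f hf

theorem isCl_inter {C C' : Set Γ} (h : D.IsCl C) (h' : D.IsCl C') : D.IsCl (C ∩ C') :=
  fun _ hg => ⟨h (D.zero_anti (D.vI_anti Set.inter_subset_left) hg),
    h' (D.zero_anti (D.vI_anti Set.inter_subset_right) hg)⟩

/-- Finitely many closed conditions covering an irreducible set: one of them holds throughout. -/
theorem SIrr.exists_forall {C : Set Γ} (hC : D.SIrr C) (hne : C.Nonempty) {ι : Type*} (J : Finset ι)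
    (F : ι → Set (Γ → k)) (hF : ∀ j ∈ J, F j ⊆ D.R) (h : ∀ c ∈ C, ∃ j ∈ J, ∀ f ∈ F j, f c = 0) :
    ∃ j ∈ J, ∀ c ∈ C, ∀ f ∈ F j, f c = 0 := by
  classical
  by_contra hcon
  push Not at hcon
  choose! c hc f hf hfc using hcon
  let P : D.R := ∏ j ∈ J.attach, ⟨f j.1, hF j.1 j.2 (hf j.1 j.2)⟩
  have hP : P ∈ D.vI C := by
    intro x hx
    obtain ⟨j, hj, hjx⟩ := h x hx
    simp only [P, SubmonoidClass.coe_finsetProd, Finset.prod_apply]
    exact Finset.prod_eq_zero (i := (⟨j, hj⟩ : J)) (Finset.mem_attach _ _) (hjx _ (hf j hj))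
  have key : ∀ K : Finset J, (∏ j ∈ K, (⟨f j.1, hF j.1 j.2 (hf j.1 j.2)⟩ : D.R)) ∈ D.vI C → False := by
    intro K
    induction K using Finset.induction_on with
    | empty =>
      intro h1
      have := h1 _ hne.some_mem
      simp at this
    | insert a K ha ih =>
      intro h1
      rw [Finset.prod_insert ha] at h1
      exact (hC _ _ h1).elim (fun h2 => hfc a.1 a.2 (h2 _ (hc a.1 a.2))) ih
  exact key _ hP

/-- Left translation of functions. -/
def lTrans (a : Γ) : D.R →ₐ[k] D.R where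
  toFun f := ⟨fun g => (f : Γ → k) (a * g), D.lmul a _ f.2⟩
  map_one' := rfl
  map_mul' _ _ := rfl
  map_zero' := rfl
  map_add' _ _ := rfl
  commutes' _ := rfl

/-- Right translation of functions. -/
def rTrans (a : Γ) : D.R →ₐ[k] D.R where
  toFun f := ⟨fun g => (f : Γ → k) (g * a), D.rmul a _ f.2⟩
  map_one' := rfl
  map_mul' _ _ := rfl
  map_zero' := rfl
  map_add' _ _ := rfl
  commutes' _ := rfl

/-- Conjugation of functions. -/
def cTrans (a : Γ) : D.R →ₐ[k] D.R := (D.rTrans a⁻¹).comp (D.lTrans a)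

theorem cTrans_apply (a : Γ) (f : D.R) (g : Γ) :
    (D.cTrans a f : Γ → k) g = (f : Γ → k) (a * g * a⁻¹) := by
  show (f : Γ → k) (a * (g * a⁻¹)) = _
  rw [mul_assoc]

theorem SIrr.image {C : Set Γ} (hC : D.SIrr C) (φ : Γ → Γ) (σ : D.R →ₐ[k] D.R)
    (hσ : ∀ f g, (σ f : Γ → k) g = (f : Γ → k) (φ g)) : D.SIrr (φ '' C) := by
  intro f f' h
  have : σ f * σ f' ∈ D.vI C := fun c hc => by
    rw [← map_mul, hσ]; exact h _ ⟨c, hc, rfl⟩
  rcases hC _ _ this with h1 | h1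
  · left; rintro _ ⟨c, hc, rfl⟩; rw [← hσ]; exact h1 c hc
  · right; rintro _ ⟨c, hc, rfl⟩; rw [← hσ]; exact h1 c hc

theorem IsCl.preimage {C : Set Γ} (hC : D.IsCl C) (φ : Γ → Γ) (σ : D.R →ₐ[k] D.R)
    (hσ : ∀ f g, (σ f : Γ → k) g = (f : Γ → k) (φ g)) : D.IsCl (φ ⁻¹' C) := by
  intro g hg
  exact hC fun f hf => hσ f g ▸ hg (σ f) fun c hc => (hσ f c).trans (hf _ hc)

section Noetherian

theorem finiteType : Algebra.FiniteType k D.R := ⟨D.R.fg_top.mpr D.fg⟩

theorem isNoetherianRing : IsNoetherianRing D.R :=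
  haveI := D.finiteType
  Algebra.FiniteType.isNoetherianRing k _

/-- Nullstellensatz. -/
theorem vI_zero [IsAlgClosed k] (p : Ideal D.R) [p.IsPrime] : D.vI (D.zero p) = p := by
  refine le_antisymm (fun f hf => ?_) (D.le_vI_zero p)
  haveI := D.finiteType
  haveI : IsJacobsonRing D.R := isJacobsonRing_of_finiteType (A := k)
  rw [← IsJacobsonRing.out' p (Ideal.IsPrime.isRadical ‹_›), Ideal.jacobson, Ideal.mem_sInf]
  rintro m ⟨hpm, hm⟩
  letI := Ideal.Quotient.field m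
  have : Module.Finite k (D.R ⧸ m) := finite_of_finite_type_of_isJacobsonRing k _
  have : Algebra.IsIntegral k (D.R ⧸ m) := Algebra.IsIntegral.of_finite k _
  let e := AlgEquiv.ofBijective (Algebra.ofId k (D.R ⧸ m))
    (IsAlgClosed.algebraMap_bijective_of_isIntegral (k := k) (K := D.R ⧸ m))
  obtain ⟨g, hg⟩ := D.pts (e.symm.toAlgHom.comp (Ideal.Quotient.mkₐ k m))
  have hgz : g ∈ D.zero p := fun f' hf' => by
    rw [← hg]
    simp [Ideal.Quotient.eq_zero_iff_mem.mpr (hpm hf')]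
  have h0 := hf g hgz
  rw [← hg] at h0
  simpa [Ideal.Quotient.eq_zero_iff_mem] using h0

/-- A conjugate of a closed set contained in it is equal to it. -/
theorem conj_image_eq {C : Set Γ} (hC : D.IsCl C) (a : Γ) (h : (fun g => a * g * a⁻¹) '' C ⊆ C) :
    (fun g => a * g * a⁻¹) '' C = C := by
  haveI := D.isNoetherianRing
  set φ : Γ → Γ := fun g => a * g * a⁻¹ with hφ
  let S : ℕ → Set Γ := fun n => φ^[n] '' C
  have hS : ∀ n, S (n + 1) ⊆ S n := fun n => by
    show φ^[n + 1] '' C ⊆ φ^[n] '' C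
    rw [Function.iterate_succ, Set.image_comp]
    exact Set.image_mono h
  have hcl : ∀ n, D.IsCl (S n) := by
    intro n
    induction n with
    | zero => simpa [S] using hC
    | succ n ih =>
      have : S (n + 1) = (fun g => a⁻¹ * g * a⁻¹⁻¹) ⁻¹' S n := by
        show φ^[n + 1] '' C = _
        rw [Function.iterate_succ', Set.image_comp]
        exact congrFun (Set.image_eq_preimage_of_inverse (f := φ) (g := fun g => a⁻¹ * g * a⁻¹⁻¹)
          (fun g => by show a⁻¹ * (a * g * a⁻¹) * a⁻¹⁻¹ = g; group)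
          (fun g => by show a * (a⁻¹ * g * a⁻¹⁻¹) * a⁻¹ = g; group)) _
      rw [this]
      exact IsCl.preimage D ih (fun g => a⁻¹ * g * a⁻¹⁻¹) (D.cTrans a⁻¹) (D.cTrans_apply a⁻¹)
  obtain ⟨n, hn⟩ := monotone_stabilizes_iff_noetherian.mpr (inferInstance : IsNoetherian D.R D.R)
    ⟨fun n => D.vI (S n), monotone_nat_of_le_succ fun n => D.vI_anti (hS n)⟩
  have heq : S n ⊆ S (n + 1) := fun g hg =>
    hcl (n + 1) (by
      have h1 : D.vI (S n) = D.vI (S (n + 1)) := hn (n + 1) n.le_succ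
      rw [← h1]; exact D.subset_zero_vI _ hg)
  have hinj : Function.Injective φ := fun x y hxy => by simpa [φ] using hxy
  refine h.antisymm fun c hc => ?_
  obtain ⟨d, hd, hde⟩ := heq ⟨c, hc, rfl⟩
  rw [Function.iterate_succ', Function.comp_apply, ← Function.iterate_succ_apply' φ n,
    Function.iterate_succ_apply] at hde
  exact ⟨d, hd, (hinj.iterate n) hde⟩

/-- The connected component of the unit. -/
theorem exists_component [IsAlgClosed k] :
    ∃ C : Subgroup Γ, D.IsCl C ∧ D.SIrr C ∧ ∀ S : Set Γ, D.SIrr S → (1 : Γ) ∈ S → S ⊆ C := by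
  classical
  haveI := D.isNoetherianRing
  have hfin := minimalPrimes.finite_of_isNoetherianRing D.R
  let mp := hfin.toFinset
  have hcover : ∀ g : Γ, ∃ p ∈ mp, g ∈ D.zero p := by
    intro g
    let χ : D.R →+* k :=
      (Pi.evalRingHom (fun _ : Γ => k) g).comp D.R.val.toRingHom
    have : (RingHom.ker χ).IsPrime := RingHom.ker_isPrime χ
    obtain ⟨p, hp, hle⟩ := Ideal.exists_minimalPrimes_le (J := RingHom.ker χ) (bot_le : ⊥ ≤ _)
    exact ⟨p, hfin.mem_toFinset.mpr hp, fun f hf => hle hf⟩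
  -- an irreducible set lies in one component
  have hsub : ∀ S : Set Γ, D.SIrr S → S.Nonempty → ∃ p ∈ mp, S ⊆ D.zero p := by
    intro S hS hne
    obtain ⟨p, hp, h⟩ := SIrr.exists_forall D hS hne mp
      (fun p => (fun f : D.R => (f : Γ → k)) '' (p : Set D.R))
      (fun p _ => by rintro _ ⟨f, -, rfl⟩; exact f.2)
      (fun c _ => by
        obtain ⟨p, hp, h⟩ := hcover c
        exact ⟨p, hp, by rintro _ ⟨f, hf, rfl⟩; exact h f hf⟩)
    exact ⟨p, hp, fun c hc f hf => h c hc _ ⟨f, hf, rfl⟩⟩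
  have hirr : ∀ p ∈ mp, D.SIrr (D.zero p) := by
    intro p hp f f' h
    have : p.IsPrime := (hfin.mem_toFinset.mp hp).1.1
    rw [D.vI_zero p] at h ⊢
    exact this.mem_or_mem h
  have hmax : ∀ p ∈ mp, ∀ q ∈ mp, D.zero p ⊆ D.zero q → p = q := by
    intro p hp q hq h
    have hP : p.IsPrime := (hfin.mem_toFinset.mp hp).1.1
    have hQ : q.IsPrime := (hfin.mem_toFinset.mp hq).1.1
    have hle : q ≤ p := by rw [← D.vI_zero p, ← D.vI_zero q]; exact D.vI_anti h
    exact le_antisymm ((hfin.mem_toFinset.mp hp).2 ⟨hQ, bot_le⟩ hle) hle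
  obtain ⟨p₀, hp₀, -⟩ := hcover 1
  -- a point on `p₀` only
  obtain ⟨g₀, hg₀, hg₀'⟩ : ∃ g₀ ∈ D.zero p₀, ∀ p ∈ mp, g₀ ∈ D.zero p → p = p₀ := by
    have hP : p₀.IsPrime := (hfin.mem_toFinset.mp hp₀).1.1
    have hex : ∀ p ∈ mp.erase p₀, ∃ f ∈ p, f ∉ p₀ := by
      intro p hp
      by_contra hcon
      push Not at hcon
      obtain ⟨hne, hp⟩ := Finset.mem_erase.mp hp
      exact hne (le_antisymm hcon ((hfin.mem_toFinset.mp hp₀).2 ⟨(hfin.mem_toFinset.mp hp).1.1, bot_le⟩ hcon))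
    choose! f hf hf0 using hex
    have hprod : ∏ p ∈ mp.erase p₀, f p ∉ p₀ := by
      intro h
      obtain ⟨p, hp, h'⟩ := Ideal.IsPrime.prod_mem_iff.mp h
      exact hf0 p hp h'
    have hprod' : ∏ p ∈ mp.erase p₀, f p ∉ D.vI (D.zero p₀) := fun h => hprod ((D.vI_zero p₀).le h)
    rw [mem_vI] at hprod'
    push Not at hprod'
    obtain ⟨g₀, hg₀, hne⟩ := hprod'
    refine ⟨g₀, hg₀, fun p hp hgp => ?_⟩
    by_contra hne'
    exact hne (by
      rw [SubmonoidClass.coe_finsetProd, Finset.prod_apply]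
      exact Finset.prod_eq_zero (Finset.mem_erase.mpr ⟨hne', hp⟩) (hgp _ (hf p (Finset.mem_erase.mpr ⟨hne', hp⟩))))
  have huniq : ∀ p ∈ mp, ∀ q ∈ mp, (1 : Γ) ∈ D.zero p → (1 : Γ) ∈ D.zero q → p = q := by
    intro p hp q hq h1 h2
    obtain ⟨l, hl, hlsub⟩ := hsub _ ((hirr p₀ hp₀).image D (g₀⁻¹ * ·) (D.lTrans g₀⁻¹) fun _ _ => rfl)
      ⟨_, g₀, hg₀, rfl⟩
    have key : ∀ r ∈ mp, (1 : Γ) ∈ D.zero r → r = l := by
      intro r hr h
      obtain ⟨s, hs, hsub'⟩ := hsub _ ((hirr r hr).image D (g₀ * ·) (D.lTrans g₀) fun _ _ => rfl)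
        ⟨_, 1, h, rfl⟩
      have hs0 : s = p₀ := hg₀' s hs (hsub' ⟨1, h, mul_one g₀⟩)
      subst hs0
      exact hmax r hr l hl fun x hx => hlsub ⟨g₀ * x, hsub' ⟨x, hx, rfl⟩, by simp⟩
    rw [key p hp h1, key q hq h2]
  obtain ⟨p, hp, h1p⟩ := hcover 1
  have hmaxS : ∀ S : Set Γ, D.SIrr S → (1 : Γ) ∈ S → S ⊆ D.zero p := by
    intro S hS h1
    obtain ⟨q, hq, hq'⟩ := hsub S hS ⟨1, h1⟩
    rwa [huniq p hp q hq h1p (hq' h1)]
  have hstep : ∀ g ∈ D.zero p, ∀ x ∈ D.zero p, g⁻¹ * x ∈ D.zero p := fun g hg x hx =>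
    hmaxS _ ((hirr p hp).image D (g⁻¹ * ·) (D.lTrans g⁻¹) fun _ _ => rfl) ⟨g, hg, inv_mul_cancel g⟩
      ⟨x, hx, rfl⟩
  refine ⟨⟨⟨⟨D.zero p, fun {a b} ha hb => ?_⟩, h1p⟩, fun {a} ha => ?_⟩, D.isCl_zero p, hirr p hp, hmaxS⟩
  · have := hstep _ (hstep a ha 1 h1p) b hb
    simpa using this
  · simpa using hstep a ha 1 h1p

/-- A reduced algebra of functions without idempotents: the group is irreducible. -/
theorem sirr_univ_of_idempotent [IsAlgClosed k]
    (hidem : ∀ e : D.R, IsIdempotentElem e → e = 0 ∨ e = 1) : D.SIrr Set.univ := by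
  classical
  haveI := D.isNoetherianRing
  have hfin := minimalPrimes.finite_of_isNoetherianRing D.R
  obtain ⟨C, -, hC, hCmax⟩ := D.exists_component
  have hdisj : ∀ p ∈ minimalPrimes D.R, ∀ q ∈ minimalPrimes D.R, ∀ g, g ∈ D.zero p → g ∈ D.zero q → p = q := by
    intro p hp q hq g hgp hgq
    have hP : p.IsPrime := hp.1.1
    have hQ : q.IsPrime := hq.1.1
    have hirr : ∀ r : Ideal D.R, r.IsPrime → D.SIrr (D.zero r) := fun r hr f f' h => by
      rw [D.vI_zero r] at h ⊢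
      exact hr.mem_or_mem h
    have hin : ∀ r : Ideal D.R, r.IsPrime → g ∈ D.zero r → D.zero r ⊆ (fun x => g * x) '' (C : Set Γ) := by
      intro r hr hgr x hx
      exact ⟨g⁻¹ * x, hCmax _ ((hirr r hr).image D (fun x => g⁻¹ * x) (D.lTrans g⁻¹) fun _ _ => rfl)
        ⟨g, hgr, inv_mul_cancel g⟩ ⟨x, hx, rfl⟩, mul_inv_cancel_left g x⟩
    obtain ⟨l, hl, hlsub⟩ : ∃ l ∈ minimalPrimes D.R, (fun x => g * x) '' (C : Set Γ) ⊆ D.zero l := by
      haveI : (D.vI ((fun x => g * x) '' (C : Set Γ))).IsPrime :=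
        ⟨fun h => by
          have h1 : (1 : D.R) ∈ D.vI ((fun x => g * x) '' (C : Set Γ)) := by rw [h]; trivial
          exact one_ne_zero (h1 (g * 1) ⟨1, C.one_mem, rfl⟩),
        fun {a b} h => SIrr.image D hC _ (D.lTrans g) (fun _ _ => rfl) a b h⟩
      obtain ⟨l, hl, hle⟩ := Ideal.exists_minimalPrimes_le (J := D.vI ((fun x => g * x) '' (C : Set Γ)))
        (bot_le : ⊥ ≤ _)
      exact ⟨l, hl, fun x hx f hf => hle hf x hx⟩
    have hL : l.IsPrime := hl.1.1
    have key : ∀ r ∈ minimalPrimes D.R, g ∈ D.zero r → r = l := by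
      intro r hr hgr
      have hR : r.IsPrime := hr.1.1
      have h1 : l ≤ r := by
        rw [← D.vI_zero l, ← D.vI_zero r]
        exact D.vI_anti ((hin r hR hgr).trans hlsub)
      exact le_antisymm (hr.2 ⟨hL, bot_le⟩ h1) h1
    rw [key p hp hgp, key q hq hgq]
  obtain ⟨p, hp⟩ := Ideal.nonempty_minimalPrimes (I := (⊥ : Ideal D.R))
    (fun h => by
      have h1 : (1 : D.R) ∈ (⊥ : Ideal D.R) := by rw [h]; trivial
      have h2 : ((1 : D.R) : Γ → k) 1 = 0 := by rw [(Submodule.mem_bot _).mp h1]; rfl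
      exact one_ne_zero (α := k) h2)
  let J : Ideal D.R := (hfin.toFinset.erase p).inf id
  have hcop : p ⊔ J = ⊤ := by
    by_contra h
    obtain ⟨m, hm, hle⟩ := Ideal.exists_le_maximal _ h
    obtain ⟨g, hg⟩ : (D.zero m).Nonempty := by
      by_contra hne
      rw [Set.not_nonempty_iff_eq_empty] at hne
      refine hm.ne_top ((Ideal.eq_top_iff_one _).mpr ?_)
      rw [← D.vI_zero m, hne]
      exact fun _ h => h.elim
    obtain ⟨q, hq, hqm⟩ : ∃ q ∈ hfin.toFinset.erase p, q ≤ m :=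
      (Ideal.IsPrime.inf_le' (f := id) hm.isPrime).mp (le_sup_right.trans hle)
    rw [Finset.mem_erase, Set.Finite.mem_toFinset] at hq
    exact hq.1 (hdisj q hq.2 p hp g (D.zero_anti hqm hg) (D.zero_anti (le_sup_left.trans hle) hg))
  obtain ⟨e, he, f, hf, hef⟩ := Submodule.mem_sup.mp (hcop ▸ Submodule.mem_top : (1 : D.R) ∈ p ⊔ J)
  have hz : e * f = 0 := by
    refine Subtype.ext (funext fun g => ?_)
    let χ : D.R →+* k := (Pi.evalRingHom (fun _ : Γ => k) g).comp D.R.val.toRingHom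
    have : (RingHom.ker χ).IsPrime := RingHom.ker_isPrime χ
    obtain ⟨q, hq, hle⟩ := Ideal.exists_minimalPrimes_le (J := RingHom.ker χ) (bot_le : ⊥ ≤ _)
    show χ (e * f) = 0
    refine hle (x := e * f) ?_
    by_cases h : q = p
    · exact h ▸ p.mul_mem_right f he
    · exact q.mul_mem_left e ((Finset.inf_le (f := id) (Finset.mem_erase.mpr ⟨h, hfin.mem_toFinset.mpr hq⟩)) hf)
  have hidem_e : IsIdempotentElem e := by
    have h1 : e * (e + f) = e := by rw [hef, mul_one]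
    rwa [mul_add, hz, add_zero] at h1
  have hone : ∀ q ∈ minimalPrimes D.R, q = p := by
    intro q hq
    by_contra h
    rcases hidem e hidem_e with h0 | h1
    · rw [h0, zero_add] at hef
      exact hq.1.1.ne_top ((Ideal.eq_top_iff_one _).mpr
        (hef ▸ (Finset.inf_le (f := id) (Finset.mem_erase.mpr ⟨h, hfin.mem_toFinset.mpr hq⟩)) hf))
    · exact hp.1.1.ne_top ((Ideal.eq_top_iff_one _).mpr (h1 ▸ he))
  intro a b hab
  have hab0 : a * b = 0 := Subtype.ext (funext fun g => hab g trivial)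
  have hzero : ∀ x ∈ p, x ∈ D.vI Set.univ := by
    intro x hx g _
    let χ : D.R →+* k := (Pi.evalRingHom (fun _ : Γ => k) g).comp D.R.val.toRingHom
    have : (RingHom.ker χ).IsPrime := RingHom.ker_isPrime χ
    obtain ⟨q, hq, hle⟩ := Ideal.exists_minimalPrimes_le (J := RingHom.ker χ) (bot_le : ⊥ ≤ _)
    exact hle (hone q hq ▸ hx : x ∈ q)
  exact (hp.1.1.mem_or_mem (hab0 ▸ p.zero_mem : a * b ∈ p)).imp (hzero a) (hzero b)

end Noetherian

/-- Restriction of functions to a subgroup. -/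
def res (P : Subgroup Γ) : (Γ → k) →ₐ[k] (P → k) where
  toFun f p := f p
  map_one' := rfl
  map_mul' _ _ := rfl
  map_zero' := rfl
  map_add' _ _ := rfl
  commutes' _ := rfl

/-- The structure on a closed subgroup. -/
def restrict (P : Subgroup Γ) (hP : D.IsCl P) : Alg k P where
  R := D.R.map (res P)
  fg := D.fg.map _
  pts χ := by
    let π : D.R →ₐ[k] D.R.map (res P) :=
      ((res P).comp D.R.val).codRestrict _ fun f => ⟨f, f.2, rfl⟩
    obtain ⟨g, hg⟩ := D.pts (χ.comp π)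
    have hgP : g ∈ P := hP fun f hf => by
      rw [← hg]
      show χ (π f) = 0
      have : π f = 0 := Subtype.ext (funext fun p => hf p p.2)
      rw [this, map_zero]
    refine ⟨⟨g, hgP⟩, ?_⟩
    rintro ⟨_, f, hf, rfl⟩
    exact hg ⟨f, hf⟩
  lmul a := by
    rintro _ ⟨f, hf, rfl⟩
    exact ⟨_, D.lmul a f hf, rfl⟩
  rmul a := by
    rintro _ ⟨f, hf, rfl⟩
    exact ⟨_, D.rmul a f hf, rfl⟩
  inv := by
    rintro _ ⟨f, hf, rfl⟩
    exact ⟨_, D.inv f hf, rfl⟩

theorem sirr_restrict {P : Subgroup Γ} {hP : D.IsCl P} {S : Set P} :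
    (D.restrict P hP).SIrr S ↔ D.SIrr (Subtype.val '' S) := by
  constructor
  · intro h f f' hff
    rcases h ⟨_, f, f.2, rfl⟩ ⟨_, f', f'.2, rfl⟩ (fun c hc => hff c ⟨c, hc, rfl⟩) with h1 | h1
    · left; rintro _ ⟨c, hc, rfl⟩; exact h1 c hc
    · right; rintro _ ⟨c, hc, rfl⟩; exact h1 c hc
  · rintro h ⟨_, f, hf, rfl⟩ ⟨_, f', hf', rfl⟩ hff
    rcases h ⟨f, hf⟩ ⟨f', hf'⟩ (by rintro _ ⟨c, hc, rfl⟩; exact hff c hc) with h1 | h1
    · left; intro c hc; exact h1 c ⟨c, hc, rfl⟩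
    · right; intro c hc; exact h1 c ⟨c, hc, rfl⟩

theorem isCl_image {P : Subgroup Γ} {hP : D.IsCl P} {S : Set P} (hS : (D.restrict P hP).IsCl S) :
    D.IsCl (Subtype.val '' S) := by
  intro g hg
  have hgP : g ∈ P := hP (D.zero_anti (D.vI_anti (Set.image_subset_iff.mpr fun p _ => p.2)) hg)
  refine ⟨⟨g, hgP⟩, hS ?_, rfl⟩
  rintro ⟨_, f, hf, rfl⟩ h0
  exact hg ⟨f, hf⟩ (by rintro _ ⟨c, hc, rfl⟩; exact h0 c hc)

end Alg

end Groth.Agent.H1.Classical
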