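import Groth.Agent.H1.Classical.Invariant

/-!
# Images of Borel subgroups are Borel subgroups, on points
-/

universe u v w v'

namespace Groth.Agent.H1.Classical.Image

set_option linter.style.haveILetI false
set_option linter.unusedSectionVars false

open Module Kolchin Open Complete

variable {k : Type u} [Field k] [IsAlgClosed k] {Γ : Type v} [Group Γ] {Γ' : Type v'} [Group Γ'] {D : Alg k Γ}
  {D' : Alg k Γ'}

/-- A maximal irreducible solvable subgroup. -/
structure IsMax (D : Alg k Γ) (S : Subgroup Γ) : Prop where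
  cl : D.IsCl S
  irr : D.SIrr S
  solv : Group.IsSolvable S
  max : ∀ T : Subgroup Γ, Group.IsSolvable T → D.SIrr T → S ≤ T → T ≤ S

theorem mem_map_conj (a : Γ) (S : Subgroup Γ) (x : Γ) :
    x ∈ S.map (MulAut.conj a).toMonoidHom ↔ a⁻¹ * x * a ∈ S := by
  constructor
  · rintro ⟨s, hs, rfl⟩
    show a⁻¹ * (a * s * a⁻¹) * a ∈ S
    rwa [show a⁻¹ * (a * s * a⁻¹) * a = s by group]
  · intro hx
    exact ⟨_, hx, show a * (a⁻¹ * x * a) * a⁻¹ = x by group⟩

theorem sirr_conj {S : Subgroup Γ} (h : D.SIrr S) (a : Γ) : D.SIrr (S.map (MulAut.conj a).toMonoidHom : Subgroup Γ) := by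
  rw [Subgroup.coe_map]
  exact Alg.SIrr.image D h _ _ (D.cTrans_apply a)

theorem solvable_conj {S : Subgroup Γ} (h : Group.IsSolvable S) (a : Γ) :
    Group.IsSolvable (S.map (MulAut.conj a).toMonoidHom : Subgroup Γ) :=
  haveI := h
  Group.isSolvable_of_surjective ((MulAut.conj a).toMonoidHom.subgroupMap_surjective S)

/-- An absorbing subgroup is maximal. -/
theorem isMax_of_absorbing {B : Subgroup Γ} (hcl : D.IsCl B) (hirr : D.SIrr B) (hsol : Group.IsSolvable B)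
    (habs : ∀ S : Subgroup Γ, Group.IsSolvable S → D.SIrr S → ∃ a, ∀ s ∈ S, a⁻¹ * s * a ∈ B) : IsMax D B := by
  refine ⟨hcl, hirr, hsol, fun T hT hTirr hle x hx => ?_⟩
  obtain ⟨a, ha⟩ := habs T hT hTirr
  have hsub : (fun g => a⁻¹ * g * a⁻¹⁻¹) '' (B : Set Γ) ⊆ B := by
    rintro _ ⟨b, hb, rfl⟩
    simpa using ha b (hle hb)
  obtain ⟨b, hb, hbx⟩ : a⁻¹ * x * a ∈ (fun g => a⁻¹ * g * a⁻¹⁻¹) '' (B : Set Γ) := by
    rw [D.conj_image_eq hcl a⁻¹ hsub]; exact ha x hx
  have : b = x := by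
    have h1 : a⁻¹ * b * a⁻¹⁻¹ = a⁻¹ * x * a := hbx
    rw [_root_.inv_inv] at h1
    exact mul_left_cancel (mul_right_cancel h1)
  exact this ▸ hb

/-- A maximal subgroup is a conjugate of an absorbing one. -/
theorem exists_eq_conj {B S : Subgroup Γ} (hirr : D.SIrr B) (hsol : Group.IsSolvable B)
    (habs : ∀ T : Subgroup Γ, Group.IsSolvable T → D.SIrr T → ∃ a, ∀ s ∈ T, a⁻¹ * s * a ∈ B) (hS : IsMax D S) :
    ∃ a, S = B.map (MulAut.conj a).toMonoidHom := by
  obtain ⟨a, ha⟩ := habs S hS.solv hS.irr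
  have hle : S ≤ B.map (MulAut.conj a).toMonoidHom := fun x hx => (mem_map_conj a B x).mpr (ha x hx)
  exact ⟨a, le_antisymm hle (hS.max _ (solvable_conj hsol a) (sirr_conj hirr a) hle)⟩

theorem IsMax.conj {S : Subgroup Γ} (hS : IsMax D S) (a : Γ) : IsMax D (S.map (MulAut.conj a).toMonoidHom) := by
  refine ⟨?_, sirr_conj hS.irr a, solvable_conj hS.solv a, fun T hT hTirr hle x hx => ?_⟩
  · have hset : ((S.map (MulAut.conj a).toMonoidHom : Subgroup Γ) : Set Γ) = (fun g => a⁻¹ * g * a⁻¹⁻¹) ⁻¹' S := by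
      ext x
      rw [SetLike.mem_coe, mem_map_conj, Set.mem_preimage, _root_.inv_inv]
      rfl
    rw [hset]
    exact Alg.IsCl.preimage D hS.cl _ _ (D.cTrans_apply a⁻¹)
  · have h := hS.max (T.map (MulAut.conj a⁻¹).toMonoidHom) (solvable_conj hT a⁻¹) (sirr_conj hTirr a⁻¹) (fun s hs =>
      (mem_map_conj a⁻¹ T s).mpr (hle ((mem_map_conj a S _).mpr (by
        rwa [show a⁻¹ * (a⁻¹⁻¹ * s * a⁻¹) * a = s by group]))))
    exact (mem_map_conj a S x).mpr (h ((mem_map_conj a⁻¹ T _).mpr (by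
      rwa [show a⁻¹⁻¹ * (a⁻¹ * x * a) * a⁻¹ = x by group])))

variable (r : Γ →* Γ') (hr : ∀ f ∈ D'.R, (fun g => f (r g)) ∈ D.R)

include hr in
theorem sirr_map {S : Subgroup Γ} (h : D.SIrr S) : D'.SIrr (S.map r) := by
  intro f f' hff
  rcases h ⟨_, hr _ f.2⟩ ⟨_, hr _ f'.2⟩ (fun c hc => hff _ ⟨c, hc, rfl⟩) with h1 | h1
  · left; rintro _ ⟨c, hc, rfl⟩; exact h1 c hc
  · right; rintro _ ⟨c, hc, rfl⟩; exact h1 c hc

theorem solvable_map {S : Subgroup Γ} (h : Group.IsSolvable S) : Group.IsSolvable (S.map r) :=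
  haveI := h
  Group.isSolvable_of_surjective (r.subgroupMap_surjective S)

variable (hsep' : ∀ x y : Γ', (∀ f ∈ D'.R, f x = f y) → x = y)

include hr hsep' in
/-- The image of a closed irreducible subgroup is closed. -/
theorem isCl_map {B : Subgroup Γ} (hcl : D.IsCl B) (hirr : D.SIrr B) : D'.IsCl (B.map r) := by
  classical
  intro x hx
  have hirrB : (D.restrict B hcl).SIrr Set.univ :=
    D.sirr_restrict.mpr (by rw [Set.image_univ, Subtype.range_coe_subtype]; exact hirr)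
  haveI := isDomain hirrB
  haveI := (D.restrict B hcl).finiteType
  haveI := D'.finiteType
  let φ : D'.R →ₐ[k] (D.restrict B hcl).R :=
    { toFun := fun f => ⟨fun b => (f : Γ' → k) (r b), _, hr _ f.2, rfl⟩
      map_one' := rfl
      map_mul' := fun _ _ => rfl
      map_zero' := rfl
      map_add' := fun _ _ => rfl
      commutes' := fun _ => rfl }
  haveI : (RingHom.ker φ).IsPrime := RingHom.ker_isPrime φ
  haveI : IsDomain (D'.R ⧸ RingHom.ker φ) := Ideal.Quotient.isDomain _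
  obtain ⟨p₀, hp0, hlift⟩ := Cone.exists_generic_lift (k := k) (Ideal.kerLiftAlg φ) (Ideal.kerLiftAlg_injective φ)
  obtain ⟨p, rfl⟩ := Ideal.Quotient.mk_surjective p₀
  have hzero : ∀ f : D'.R, (∀ b ∈ B, (f : Γ' → k) (r b) = 0) ↔ φ f = 0 := fun f =>
    ⟨fun h => Subtype.ext (funext fun b => h b b.2),
      fun h b hb => congrFun (congrArg (fun q : (D.restrict B hcl).R => (q : B → k)) h) ⟨b, hb⟩⟩
  have hclos : ∀ y ∈ D'.zero (D'.vI (B.map r : Set Γ')), (p : Γ' → k) y ≠ 0 → y ∈ B.map r := by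
    intro y hy hpy
    let χ : D'.R ⧸ RingHom.ker φ →ₐ[k] k := Ideal.Quotient.liftₐ _ (evalR D' y) fun f hf =>
      hy f (by rintro _ ⟨b, hb, rfl⟩; exact (hzero f).mpr hf b hb)
    obtain ⟨χ', hχ'⟩ := hlift χ hpy
    obtain ⟨b, hb⟩ := (D.restrict B hcl).pts χ'
    refine ⟨b, b.2, hsep' _ _ fun f hf => ?_⟩
    have h1 := AlgHom.congr_fun hχ' (Ideal.Quotient.mk _ ⟨f, hf⟩)
    exact (hb _).symm.trans h1
  have htrans : ∀ t ∈ B.map r, ∀ y ∈ D'.zero (D'.vI (B.map r : Set Γ')), t * y ∈ D'.zero (D'.vI (B.map r : Set Γ')) :=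
    fun t ht y hy f hf => hy (D'.lTrans t f) fun s hs => hf _ ((B.map r).mul_mem ht hs)
  have hxinv : x⁻¹ ∈ D'.zero (D'.vI (B.map r : Set Γ')) := fun f hf =>
    hx ⟨_, D'.inv _ f.2⟩ fun s hs => hf _ ((B.map r).inv_mem hs)
  obtain ⟨s, hs, hps⟩ : ∃ s ∈ B, (p : Γ' → k) (r s) ≠ 0 := by
    by_contra hcon
    push Not at hcon
    exact hp0 (Ideal.Quotient.eq_zero_iff_mem.mpr ((hzero p).mp hcon))
  let p' : D'.R := ⟨fun y => (p : Γ' → k) (y⁻¹ * x), D'.inv _ (D'.rmul x _ p.2)⟩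
  have hne : ¬ ∀ b ∈ B, (p : Γ' → k) (r b) * (p' : Γ' → k) (r b) = 0 := by
    intro hall
    have h0 := (hzero (p * p')).mp hall
    rw [map_mul, mul_eq_zero] at h0
    rcases h0 with h0 | h0
    · exact hps ((hzero p).mpr h0 s hs)
    · have hz := (hzero p').mpr h0
      -- `p` would vanish at `r s`
      have hy : x * (r s)⁻¹ ∈ D'.zero (D'.vI (B.map r : Set Γ')) := by
        have h1 := htrans (r s) ⟨s, hs, rfl⟩ _ hxinv
        intro f hf
        have h2 := h1 ⟨_, D'.inv _ f.2⟩ fun t ht => hf _ ((B.map r).inv_mem ht)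
        simpa using h2
      have h3 : (p' : Γ' → k) (x * (r s)⁻¹) = 0 := hy p' (by rintro _ ⟨b, hb, rfl⟩; exact hz b hb)
      refine hps ?_
      simpa [p', mul_assoc] using h3
  push Not at hne
  obtain ⟨b, hb, hbne⟩ := hne
  obtain ⟨-, hb2⟩ := mul_ne_zero_iff.mp hbne
  have h4 := hclos _ (htrans _ ((B.map r).inv_mem ⟨b, hb, rfl⟩) x hx) hb2
  have h5 := (B.map r).mul_mem ⟨b, hb, rfl⟩ h4
  rwa [mul_inv_cancel_left] at h5

include hr hsep' in
/-- A Borel subgroup downstairs is the image of one upstairs. -/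
theorem exists_lift {V : Type w} [AddCommGroup V] [Module k V] [FiniteDimensional k V] (ρ : Representation k Γ V)
    (hρ : EndFn D.R (fun g => ρ g)) (hfaith : Function.Injective ρ) (hmul : HasMul D) (hmul' : HasMul D')
    (hsurj : Function.Surjective r) {S' : Subgroup Γ'} (hS' : IsMax D' S') :
    ∃ S : Subgroup Γ, IsMax D S ∧ S.map r = S' := by
  classical
  let P0 : Subgroup Γ := S'.comap r
  have hP0 : D.IsCl P0 := fun g hg => hS'.cl fun f hf =>
    hg ⟨_, hr _ f.2⟩ fun c hc => hf _ hc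
  obtain ⟨C0, hC0, hC0irr, hC0max⟩ := (D.restrict P0 hP0).exists_component
  let C : Subgroup Γ := C0.map P0.subtype
  have hCset : (C : Set Γ) = Subtype.val '' (C0 : Set P0) := Subgroup.coe_map _ _
  have hCcl : D.IsCl C := by rw [hCset]; exact D.isCl_image hC0
  have hCirr : D.SIrr C := by rw [hCset]; exact D.sirr_restrict.mp hC0irr
  have hCP : C ≤ P0 := fun x hx => by obtain ⟨p, -, rfl⟩ := hx; exact p.2
  have hCmax : ∀ S : Subgroup Γ, D.SIrr S → S ≤ P0 → S ≤ C := by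
    intro S hS hle x hx
    have h := hC0max {p : P0 | (p : Γ) ∈ S} (D.sirr_restrict.mpr (by
      have : Subtype.val '' {p : P0 | (p : Γ) ∈ S} = (S : Set Γ) := by
        ext y
        exact ⟨fun ⟨p, hp, hpy⟩ => hpy ▸ hp, fun hy => ⟨⟨y, hle hy⟩, hy, rfl⟩⟩
      rwa [this])) S.one_mem
    exact ⟨_, h (show ((⟨x, hle hx⟩ : P0) : Γ) ∈ S from hx), rfl⟩
  have hTcl : D'.IsCl (C.map r) := isCl_map r hr hsep' hCcl hCirr
  have hTle : C.map r ≤ S' := Subgroup.map_le_iff_le_comap.mpr hCP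
  have himg : S' ≤ C.map r := by
    obtain ⟨Q, hQ⟩ := finite_cover (D.restrict P0 hP0) C0 hC0max
    obtain ⟨q, -, hq⟩ := Alg.SIrr.exists_forall D' hS'.irr ⟨1, S'.one_mem⟩ Q
      (fun q => (fun f : D'.R => fun y => (f : Γ' → k) ((r (q : Γ))⁻¹ * y)) '' (D'.vI (C.map r : Set Γ') : Set D'.R))
      (fun q _ => by rintro _ ⟨f, -, rfl⟩; exact D'.lmul _ _ f.2)
      (fun c hc => by
        obtain ⟨g, rfl⟩ := hsurj c
        obtain ⟨q, hq, hqg⟩ := hQ ⟨g, hc⟩
        refine ⟨q, hq, ?_⟩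
        rintro _ ⟨f, hf, rfl⟩
        exact hf _ ⟨(q : Γ)⁻¹ * g, ⟨_, hqg, rfl⟩, by rw [map_mul, map_inv]⟩)
    have hmem : ∀ c ∈ S', (r (q : Γ))⁻¹ * c ∈ C.map r := fun c hc => hTcl fun f hf => hq c hc _ ⟨f, hf, rfl⟩
    intro c hc
    have h1 : (r (q : Γ))⁻¹ ∈ C.map r := by simpa using hmem 1 S'.one_mem
    have h2 := (C.map r).mul_mem ((C.map r).inv_mem h1) (hmem c hc)
    rwa [_root_.inv_inv, mul_inv_cancel_left] at h2
  let DC := D.restrict C hCcl
  have hDC : DC.SIrr Set.univ :=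
    D.sirr_restrict.mpr (by rw [Set.image_univ, Subtype.range_coe_subtype]; exact hCirr)
  let σ : Representation k C V := ρ.comp C.subtype
  have hσ : EndFn DC.R (fun g => σ g) := fun v l => ⟨_, hρ v l, rfl⟩
  obtain ⟨B0, hB0cl, hB0irr, ⟨m, hm⟩, hB0abs, hB0comp⟩ := Borel.exists_borel_complete _ DC hDC σ hσ rfl
  have hB0comp := hB0comp (hasMul_restrict D hmul C hCcl)
  have hB0sol : Group.IsSolvable B0 :=
    (Group.isSolvable_def _).mpr ⟨m, (Subgroup.eq_bot_iff_forall _).mpr fun a ha =>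
      Subtype.ext (Subtype.ext (hfaith ((hm a ha).trans (map_one ρ).symm)))⟩
  have hB0max : IsMax DC B0 := isMax_of_absorbing hB0cl hB0irr hB0sol hB0abs
  let B : Subgroup Γ := B0.map C.subtype
  have hBset : (B : Set Γ) = Subtype.val '' (B0 : Set C) := Subgroup.coe_map _ _
  have hBcl : D.IsCl B := by rw [hBset]; exact D.isCl_image hB0cl
  have hBirr : D.SIrr B := by rw [hBset]; exact D.sirr_restrict.mp hB0irr
  have hBsol : Group.IsSolvable B :=
    haveI := hB0sol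
    Group.isSolvable_of_surjective (C.subtype.subgroupMap_surjective B0)
  have hBC : B ≤ C := fun x hx => by obtain ⟨c, -, rfl⟩ := hx; exact c.2
  have hrBle : B.map r ≤ S' := (Subgroup.map_mono hBC).trans hTle
  have hrBcl : D'.IsCl (B.map r) := isCl_map r hr hsep' hBcl hBirr
  let DS := D'.restrict S' hS'.cl
  have hDS : DS.SIrr Set.univ :=
    D'.sirr_restrict.mpr (by rw [Set.image_univ, Subtype.range_coe_subtype]; exact hS'.irr)
  haveI := hS'.solv
  have htop : (B.map r).subgroupOf S' = ⊤ := by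
    refine Invariant.eq_top_of_const DS hDS (hasMul_restrict D' hmul' S' hS'.cl) _ ?_ ?_
    · intro g hg
      refine hrBcl fun f hf => ?_
      exact hg ⟨_, f, f.2, rfl⟩ fun c hc => hf _ hc
    · rintro ⟨_, f, hf, rfl⟩ hinv g
      obtain ⟨c, hc, hcg⟩ := himg g.2
      have hinvC : ∀ x : C, ∀ b ∈ B0, f (r ((x * b : C) : Γ)) = f (r (x : Γ)) := fun x b hb => by
        have := hinv ⟨r (x : Γ), hTle ⟨x, x.2, rfl⟩⟩ ⟨r (b : Γ), hrBle ⟨b, ⟨b, hb, rfl⟩, rfl⟩⟩
          ⟨(b : Γ), ⟨b, hb, rfl⟩, rfl⟩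
        rw [Subgroup.coe_mul, map_mul]
        exact this
      have h1 := Invariant.const_of_complete DC hDC hB0comp ⟨_, _, hr _ hf, rfl⟩ hinvC ⟨c, hc⟩
      show f (g : Γ') = f 1
      rw [← hcg]
      refine h1.trans ?_
      show f (r ((1 : C) : Γ)) = f 1
      rw [OneMemClass.coe_one, map_one]
  have heq : B.map r = S' := le_antisymm hrBle fun x hx =>
    (Subgroup.subgroupOf_eq_top.mp htop) hx
  refine ⟨B, ⟨hBcl, hBirr, hBsol, fun T hT hTirr hle => ?_⟩, heq⟩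
  have hTS : T.map r ≤ S' := hS'.max _ (solvable_map r hT) (sirr_map r hr hTirr) (heq ▸ Subgroup.map_mono hle)
  have hTC : T ≤ C := hCmax T hTirr (Subgroup.map_le_iff_le_comap.mp hTS)
  have h2 := hB0max.max (T.subgroupOf C)
    (haveI := hT; Group.isSolvable_of_isSolvable_injective (f := (Subgroup.subgroupOfEquivOfLe hTC).toMonoidHom) (Subgroup.subgroupOfEquivOfLe hTC).injective)
    (D.sirr_restrict.mpr (by
      have : Subtype.val '' (T.subgroupOf C : Set C) = (T : Set Γ) := by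
        ext y
        exact ⟨fun ⟨p, hp, hpy⟩ => hpy ▸ hp, fun hy => ⟨⟨y, hTC hy⟩, hy, rfl⟩⟩
      rwa [this]))
    (fun b hb => hle ⟨b, hb, rfl⟩)
  exact fun x hx => ⟨⟨x, hTC hx⟩, h2 hx, rfl⟩

include hr hsep' in
/-- The image of a Borel subgroup is a Borel subgroup. -/
theorem isMax_map {V : Type w} [AddCommGroup V] [Module k V] [FiniteDimensional k V] (ρ : Representation k Γ V)
    (hρ : EndFn D.R (fun g => ρ g)) (hfaith : Function.Injective ρ) (hmul : HasMul D) (hmul' : HasMul D')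
    (hsurj : Function.Surjective r) (hirr : D.SIrr Set.univ) (hex : ∃ S', IsMax D' S')
    {S : Subgroup Γ} (hS : IsMax D S) : IsMax D' (S.map r) := by
  obtain ⟨S', hS'⟩ := hex
  obtain ⟨S₁, hS₁, hS₁eq⟩ := exists_lift r hr hsep' ρ hρ hfaith hmul hmul' hsurj hS'
  obtain ⟨B, -, hBirr, hBsol, habs⟩ := Borel.exists_borel_of_faithful D hirr ρ hρ hfaith
  obtain ⟨a, rfl⟩ := exists_eq_conj hBirr hBsol habs hS
  obtain ⟨a₁, rfl⟩ := exists_eq_conj hBirr hBsol habs hS₁
  have hconj : ∀ (c : Γ) (T : Subgroup Γ), (T.map (MulAut.conj c).toMonoidHom).map r =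
      (T.map r).map (MulAut.conj (r c)).toMonoidHom := fun c T => by
    rw [Subgroup.map_map, Subgroup.map_map]
    congr 1
    exact MonoidHom.ext fun x => by
      show r (c * x * c⁻¹) = r c * r x * (r c)⁻¹
      rw [map_mul, map_mul, map_inv]
  have h := hS'.conj (r (a * a₁⁻¹))
  rw [← hS₁eq, ← hconj, Subgroup.map_map (g := (MulAut.conj (a * a₁⁻¹)).toMonoidHom)] at h
  rwa [show (MulAut.conj (a * a₁⁻¹)).toMonoidHom.comp (MulAut.conj a₁).toMonoidHom = (MulAut.conj a).toMonoidHom from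
    MonoidHom.ext fun x => by
      show a * a₁⁻¹ * (a₁ * x * a₁⁻¹) * (a * a₁⁻¹)⁻¹ = a * x * a⁻¹
      group] at h

end Groth.Agent.H1.Classical.Image
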