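import Groth.Agent.H1.Classical.BorelConj
import Groth.Agent.H1.Classical.Image
import Groth.Agent.Lib.GrpSch.GeomPoints
import Mathlib.AlgebraicGeometry.AlgClosed.Basic

/-!
# Borel subgroups on points versus Borel subgroup schemes
-/

universe u

open CategoryTheory MonoidalCategory CartesianMonoidalCategory MonObj GrpObj AlgebraicGeometry

namespace Groth.Agent.H1.Classical.Scheme'

set_option linter.style.haveILetI false
set_option linter.unusedSectionVars false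

open Groth.Agent.Lib.RedPts.Points WithConv TensorProduct

attribute [local instance] baseAlgebra

variable {k : Type u} [Field k] [IsAlgClosed k]

section RationalPoints

/-- The rational point at a closed point. -/
theorem exists_point {Y : Over (Spec (CommRingCat.of k))} [LocallyOfFiniteType Y.hom] {y : Y.left}
    (hy : IsClosed ({y} : Set Y.left)) :
    ∃ p : 𝟙_ (Over (Spec (CommRingCat.of k))) ⟶ Y, ∀ s, p.left s = y :=
  ⟨Over.homMk (pointOfClosedPoint Y.hom y hy) (pointOfClosedPoint_comp Y.hom y hy),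
    fun s => pointOfClosedPoint_apply Y.hom y hy s⟩

/-- A morphism hitting all rational points is surjective. -/
theorem surjective_of_points {X Y : Over (Spec (CommRingCat.of k))} (f : X ⟶ Y) [LocallyOfFiniteType X.hom]
    [QuasiCompact X.hom] [LocallyOfFiniteType Y.hom] [QuasiCompact Y.hom] [IsSeparated Y.hom]
    (h : ∀ y : 𝟙_ (Over (Spec (CommRingCat.of k))) ⟶ Y, ∃ x, x ≫ f = y) : Surjective f.left := by
  haveI : IsLocallyNoetherian Y.left := LocallyOfFiniteType.isLocallyNoetherian Y.hom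
  haveI : CompactSpace Y.left := QuasiCompact.compactSpace_of_compactSpace Y.hom
  haveI : JacobsonSpace Y.left := LocallyOfFiniteType.jacobsonSpace Y.hom
  haveI : LocallyOfFiniteType (f.left ≫ Y.hom) := by rw [Over.w]; infer_instance
  haveI : LocallyOfFiniteType f.left := locallyOfFiniteType_of_comp f.left Y.hom
  haveI : QuasiCompact (f.left ≫ Y.hom) := by rw [Over.w]; infer_instance
  haveI : QuasiCompact f.left := QuasiCompact.of_comp f.left Y.hom
  refine Groth.Agent.Lib.GrpSch.surjective_of_closedPoints f.left fun y hy => ?_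
  obtain ⟨p, hp⟩ := exists_point hy
  obtain ⟨x, hx⟩ := h p
  let s : ↥(𝟙_ (Over (Spec (CommRingCat.of k)))).left := IsLocalRing.closedPoint k
  exact ⟨x.left s, by rw [← hp s, ← hx]; rfl⟩

/-- A surjective morphism is surjective on rational points. -/
theorem exists_lift_point {X Y : Over (Spec (CommRingCat.of k))} (f : X ⟶ Y) [LocallyOfFiniteType X.hom]
    [LocallyOfFiniteType Y.hom] [Surjective f.left] (y : 𝟙_ (Over (Spec (CommRingCat.of k))) ⟶ Y) :
    ∃ x, x ≫ f = y := by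
  haveI : JacobsonSpace X.left := LocallyOfFiniteType.jacobsonSpace X.hom
  let e := pointEquivClosedPoint Y.hom
  let p : {p : Spec (CommRingCat.of k) ⟶ Y.left // p ≫ Y.hom = 𝟙 _} := ⟨y.left, Over.w y⟩
  obtain ⟨z, hz⟩ := f.left.surjective (e p).1
  have hcl : IsClosed (f.left ⁻¹' {(e p).1}) := (e p).2.preimage f.left.continuous
  obtain ⟨z', hz', hz'c⟩ := nonempty_inter_closedPoints ⟨z, hz⟩ hcl.isLocallyClosed
  obtain ⟨x, hx⟩ := exists_point (Y := X) hz'c
  refine ⟨x, Over.OverMorphism.ext ?_⟩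
  have hc : (x ≫ f).left ≫ Y.hom = 𝟙 _ := Over.w (x ≫ f)
  refine congrArg Subtype.val (e.injective (a₁ := ⟨(x ≫ f).left, hc⟩) (a₂ := p) (Subtype.ext ?_))
  show f.left (x.left (IsLocalRing.closedPoint k)) = _
  exact (congrArg f.left (hx _)).trans hz'

end RationalPoints

section Hopf

variable {A : Type u} [CommRing A] [HopfAlgebra k A] [Algebra.FiniteType k A]

theorem hasMul_pts : Complete.HasMul (HopfPts.D k A) := by
  rintro ⟨_, a, rfl⟩
  obtain ⟨n, x, y, hxy⟩ := TensorProduct.exists_sum_tmul_eq (Coalgebra.comul (R := k) a)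
  refine ⟨n, fun i => ⟨_, x i, rfl⟩, fun i => ⟨_, y i, rfl⟩, fun g h => ?_⟩
  show (g * h) a = _
  rw [AlgHom.convMul_apply, hxy, map_sum]
  exact Finset.sum_congr rfl fun i _ => by simp; rfl

theorem pts_ext (x y : HopfPts.Pt k A) (h : ∀ f ∈ (HopfPts.D k A).R, f x = f y) : x = y :=
  ofConv_injective (AlgHom.ext fun a => h _ ⟨a, rfl⟩)

theorem exists_isMax [IsDomain A] : ∃ S, Image.IsMax (HopfPts.D k A) S := by
  obtain ⟨B, h1, h2, h3, h4⟩ := HopfPts.exists_borel (k := k) (A := A)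
  exact ⟨B, Image.isMax_of_absorbing h1 h2 h3 h4⟩

/-- The points of a Borel subgroup. -/
theorem isMax_ptsOf [IsDomain A] {B : Over (Spec (CommRingCat.of k))} [GrpObj B] (iB : B ⟶ GA k A) [IsMonHom iB]
    (hB : Red.IsBorelOver k iB) :
    Image.IsMax (HopfPts.D k A) (ptsOf iB) ∧
      ∀ (W : Over (Spec (CommRingCat.of k))) (j : W ⟶ GA k A),
        (∀ b ∈ ideal (ptsOf iB : Set (HopfPts.Pt k A)), algHomOf j b = 0) → ∃ j' : W ⟶ B, j' ≫ iB = j := by
  obtain ⟨B0, hcl, hirr, hsol, habs⟩ := HopfPts.exists_borel (k := k) (A := A)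
  obtain ⟨a, C, _, c, u, hu, hci, hCs, hfac, hpt⟩ := borel_points iB hB B0 hcl hirr hsol habs
  have heq : ptsOf iB = B0.map (MulAut.conj a).toMonoidHom := by
    ext χ
    rw [Image.mem_map_conj, mem_ptsOf]
    constructor
    · rintro ⟨x, hx⟩
      obtain ⟨s, hs, hxs⟩ := hpt (x ≫ u.hom)
      rw [Category.assoc, hu, hx] at hxs
      rw [ptHom_injective hxs]
      exact hs
    · intro hχ
      obtain ⟨j, hj⟩ := hfac (𝟙_ (Over (Spec (CommRingCat.of k)))) (ptHom _ χ) fun b hb => by rw [algHomOf_ptHom, hb χ hχ, map_zero]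
      exact ⟨j ≫ u.inv, by rw [← hu, Category.assoc, Iso.inv_hom_id_assoc, hj]⟩
  refine ⟨heq ▸ (Image.isMax_of_absorbing hcl hirr hsol habs).conj a, fun W j hj => ?_⟩
  obtain ⟨j', hj'⟩ := hfac W j fun b hb => hj b fun s hs => by
    rw [heq] at hs
    exact hb s ((Image.mem_map_conj a B0 s).mp hs)
  exact ⟨j' ≫ u.inv, by rw [← hu, Category.assoc, Iso.inv_hom_id_assoc, hj']⟩

/-- The subgroup scheme of a maximal subgroup of points is a Borel subgroup. -/
theorem exists_borel_of_isMax {S : Subgroup (HopfPts.Pt k A)} (hS : Image.IsMax (HopfPts.D k A) S) :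
    ∃ (C : Over (Spec (CommRingCat.of k))) (_ : GrpObj C) (c : C ⟶ GA k A),
      Red.IsBorelOver k c ∧
      (∀ (W : Over (Spec (CommRingCat.of k))) (f : W ⟶ GA k A),
        (∀ a ∈ ideal (S : Set (HopfPts.Pt k A)), algHomOf f a = 0) → ∃ f' : W ⟶ C, f' ≫ c = f) ∧
      ∀ x : 𝟙_ (Over (Spec (CommRingCat.of k))) ⟶ C, ∃ s ∈ S, x ≫ c = ptHom _ s := by
  haveI := hS.solv
  obtain ⟨C, _, c, hc1, hc2, hc3, hc4, hc5, hfac, hpt⟩ := exists_subgroup S hS.cl hS.irr
  refine ⟨C, inferInstance, c, ⟨hc1, hc2, hc3, hc4, hc5, ?_⟩, hfac, hpt⟩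
  intro B' _ i' _ f hci hsm hconn hsolv hf
  haveI := hci
  obtain ⟨hirr', hsol', hpts'⟩ := ptsOf_props i' hsolv
  have hle : S ≤ ptsOf i' := fun s hs => by
    obtain ⟨x, hx⟩ := hfac (𝟙_ (Over (Spec (CommRingCat.of k)))) (ptHom _ s) fun b hb => by rw [algHomOf_ptHom, hb s hs, map_zero]
    exact ⟨x ≫ f, (Category.assoc x f i').trans ((congrArg (x ≫ ·) hf).trans hx)⟩
  have heq : ptsOf i' ≤ S := hS.max _ hsol' hirr' hle
  haveI : IsAffine B'.left := isAffine_of_isAffineHom i'.left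
  obtain ⟨g, hg⟩ := hfac B' i' (algHomOf_eq_zero i' fun x => by
    obtain ⟨t, ht, hxt⟩ := hpts' x
    exact ⟨t, heq ht, hxt⟩)
  haveI : Mono c := (Over.forget _).mono_of_mono_map (inferInstanceAs (Mono c.left))
  haveI : Mono i' := (Over.forget _).mono_of_mono_map (inferInstanceAs (Mono i'.left))
  exact ⟨g, by rw [← cancel_mono c, Category.assoc, hg, hf, Category.id_comp],
    by rw [← cancel_mono i', Category.assoc, hf, hg, Category.id_comp]⟩

variable {A' : Type u} [CommRing A'] [HopfAlgebra k A'] [Algebra.FiniteType k A']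

/-- The map on points of a homomorphism. -/
theorem exists_ptMap (q : GA k A ⟶ GA k A') [IsMonHom q] :
    ∃ r : HopfPts.Pt k A →* HopfPts.Pt k A',
      (∀ χ, ptHom (𝟙_ (Over (Spec (CommRingCat.of k)))) χ ≫ q = ptHom _ (r χ)) ∧
      ∀ f ∈ (HopfPts.D k A').R, (fun χ => f (r χ)) ∈ (HopfPts.D k A).R := by
  let e := MulEquiv.ofBijective (ptHom (A := A') (𝟙_ (Over (Spec (CommRingCat.of k)))))
    ⟨ptHom_injective, ptHom_surjective⟩
  let r : HopfPts.Pt k A →* HopfPts.Pt k A' := e.symm.toMonoidHom.comp ((postcomp q _).comp (ptHom _))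
  have hr : ∀ χ, ptHom (𝟙_ (Over (Spec (CommRingCat.of k)))) χ ≫ q = ptHom _ (r χ) := fun χ =>
    (e.apply_symm_apply _).symm
  obtain ⟨φ, hφ⟩ : ∃ φ : CommRingCat.of A' ⟶ CommRingCat.of A, Spec.map φ = q.left :=
    ⟨Spec.preimage q.left, Spec.map_preimage _⟩
  refine ⟨r, hr, ?_⟩
  rintro _ ⟨a, rfl⟩
  refine ⟨φ.hom a, funext fun χ => baseHom_bijective.1 ?_⟩
  have h1 : algHomOf (ptHom (𝟙_ (Over (Spec (CommRingCat.of k)))) χ ≫ q) a =
      algHomOf (ptHom (𝟙_ (Over (Spec (CommRingCat.of k)))) χ) (φ.hom a) := by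
    show ((Scheme.ΓSpecIso (CommRingCat.of A')).inv ≫ (ptHom _ χ ≫ q).left.appTop).hom a =
      ((Scheme.ΓSpecIso (CommRingCat.of A)).inv ≫ (ptHom _ χ).left.appTop).hom (φ.hom a)
    have h : (Scheme.ΓSpecIso (CommRingCat.of A')).inv ≫
        (ptHom (𝟙_ (Over (Spec (CommRingCat.of k)))) χ ≫ q).left.appTop =
        φ ≫ (Scheme.ΓSpecIso (CommRingCat.of A)).inv ≫
          (ptHom (𝟙_ (Over (Spec (CommRingCat.of k)))) χ).left.appTop := by
      rw [Over.comp_left, Scheme.Hom.comp_appTop, ← hφ]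
      exact (Scheme.ΓSpecIso_inv_naturality_assoc φ _).symm
    rw [h]
    rfl
  rw [hr, algHomOf_ptHom, algHomOf_ptHom] at h1
  exact h1.symm

theorem locallyOfFiniteType_GA : LocallyOfFiniteType (GA k A).hom :=
  (HasRingHomProperty.Spec_iff (P := @LocallyOfFiniteType)).mpr (RingHom.finiteType_algebraMap.mpr inferInstance)

/-- Lifting a Borel subgroup along a surjection. -/
theorem exists_borel_lift [IsDomain A] [IsDomain A'] (q : GA k A ⟶ GA k A') [IsMonHom q] [Surjective q.left]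
    {B' : Over (Spec (CommRingCat.of k))} [GrpObj B'] (iB' : B' ⟶ GA k A') [IsMonHom iB']
    (hB' : Red.IsBorelOver k iB') :
    ∃ (B : Over (Spec (CommRingCat.of k))) (_ : GrpObj B) (iB : B ⟶ GA k A) (p : B ⟶ B'),
      Red.IsBorelOver k iB ∧ Surjective p.left ∧ p ≫ iB' = iB ≫ q := by
  haveI := locallyOfFiniteType_GA (k := k) (A := A)
  haveI := locallyOfFiniteType_GA (k := k) (A := A')
  obtain ⟨r, hr, hrreg⟩ := exists_ptMap q
  have hsurj : Function.Surjective r := fun χ' => by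
    obtain ⟨x, hx⟩ := exists_lift_point q (ptHom _ χ')
    obtain ⟨χ, rfl⟩ := ptHom_surjective x
    exact ⟨χ, ptHom_injective ((hr χ).symm.trans hx)⟩
  obtain ⟨hmax', hfac'⟩ := isMax_ptsOf iB' hB'
  obtain ⟨V, _, ρ, hρ, hf⟩ := HopfPts.exists_faithful (k := k) (A := A)
  obtain ⟨S, hS, hSr⟩ := Image.exists_lift r hrreg pts_ext ρ hρ hf hasMul_pts hasMul_pts hsurj hmax'
  obtain ⟨C, _, c, hc, hfac, hpt⟩ := exists_borel_of_isMax hS
  obtain ⟨-, h2, h3, -, -, -⟩ := id hc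
  obtain ⟨-, h2', h3', -, -, -⟩ := id hB'
  haveI := h2
  haveI := h2'
  haveI : IsAffine C.left := isAffine_of_isAffineHom c.left
  haveI : IsAffine B'.left := isAffine_of_isAffineHom iB'.left
  obtain ⟨p, hp⟩ := hfac' C (c ≫ q) (algHomOf_eq_zero (c ≫ q) fun x => by
    obtain ⟨s, hs, hxs⟩ := hpt x
    exact ⟨r s, hSr ▸ ⟨s, hs, rfl⟩, by rw [← Category.assoc, hxs, hr]⟩)
  haveI : Mono iB' := (Over.forget _).mono_of_mono_map (inferInstanceAs (Mono iB'.left))
  refine ⟨C, inferInstance, c, p, hc, surjective_of_points p fun y => ?_, hp⟩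
  obtain ⟨t, ht⟩ := ptHom_surjective (y ≫ iB')
  obtain ⟨s, hs, hst⟩ : t ∈ S.map r := hSr ▸ (⟨y, ht.symm⟩ : t ∈ ptsOf iB')
  obtain ⟨x, hx⟩ := hfac (𝟙_ (Over (Spec (CommRingCat.of k)))) (ptHom _ s) fun b hb => by rw [algHomOf_ptHom, hb s hs, map_zero]
  refine ⟨x, ?_⟩
  rw [← cancel_mono iB', Category.assoc, hp, ← Category.assoc, hx, hr, hst, ht]

/-- Borel subgroups with images in one Borel subgroup agree when the kernel lies in one of them. -/
theorem borel_eq_of_image [IsDomain A] [IsDomain A'] (q : GA k A ⟶ GA k A') [IsMonHom q] [Surjective q.left]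
    {B₀ B₁ B₂ B' : Over (Spec (CommRingCat.of k))} [GrpObj B₀] [GrpObj B₁] [GrpObj B₂] [GrpObj B']
    (i₀ : B₀ ⟶ GA k A) (i₁ : B₁ ⟶ GA k A) (i₂ : B₂ ⟶ GA k A) (i' : B' ⟶ GA k A')
    (h₀ : Red.IsBorelOver k i₀) (h₁ : Red.IsBorelOver k i₁) (h₂ : Red.IsBorelOver k i₂) (h' : Red.IsBorelOver k i')
    (hker : ∀ g : 𝟙_ (Over (Spec (CommRingCat.of k))) ⟶ GA k A, g ≫ q = 1 → ∃ b, b ≫ i₀ = g)
    (f₁ : B₁ ⟶ B') (f₂ : B₂ ⟶ B') (hf₁ : f₁ ≫ i' = i₁ ≫ q) (hf₂ : f₂ ≫ i' = i₂ ≫ q) :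
    ∃ e : B₁ ≅ B₂, e.hom ≫ i₂ = i₁ := by
  haveI := h₀.1
  haveI := h₁.1
  haveI := h₂.1
  haveI := h'.1
  haveI := h₁.2.1
  haveI := h₂.2.1
  haveI := h₁.2.2.1
  haveI := h₂.2.2.1
  haveI := locallyOfFiniteType_GA (k := k) (A := A)
  haveI := locallyOfFiniteType_GA (k := k) (A := A')
  obtain ⟨r, hr, hrreg⟩ := exists_ptMap q
  have hsurj : Function.Surjective r := fun χ' => by
    obtain ⟨x, hx⟩ := exists_lift_point q (ptHom _ χ')
    obtain ⟨χ, rfl⟩ := ptHom_surjective x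
    exact ⟨χ, ptHom_injective ((hr χ).symm.trans hx)⟩
  obtain ⟨m0, -⟩ := isMax_ptsOf i₀ h₀
  obtain ⟨m1, hfac1⟩ := isMax_ptsOf i₁ h₁
  obtain ⟨m2, hfac2⟩ := isMax_ptsOf i₂ h₂
  obtain ⟨m', -⟩ := isMax_ptsOf i' h'
  obtain ⟨V, _, ρ, hρ, hf⟩ := HopfPts.exists_faithful (k := k) (A := A)
  have hle : ∀ {B : Over (Spec (CommRingCat.of k))} [GrpObj B] (i : B ⟶ GA k A) [IsMonHom i],
      Red.IsBorelOver k i → ∀ f : B ⟶ B', f ≫ i' = i ≫ q → (ptsOf i).map r = ptsOf i' := by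
    intro B _ i _ hB f hfi
    obtain ⟨m, -⟩ := isMax_ptsOf i hB
    have hm := Image.isMax_map r hrreg pts_ext ρ hρ hf hasMul_pts hasMul_pts hsurj HopfPts.sirr_univ exists_isMax m
    have hle' : (ptsOf i).map r ≤ ptsOf i' := by
      rintro _ ⟨s, ⟨x, hx⟩, rfl⟩
      have hx' : x ≫ i = ptHom (𝟙_ _) s := hx
      exact ⟨x ≫ f, (Category.assoc x f i').trans ((congrArg (x ≫ ·) hfi).trans
        ((Category.assoc x i q).symm.trans (by rw [hx', hr])))⟩
    exact le_antisymm hle' (hm.max _ m'.solv m'.irr hle')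
  have hkmem : ∀ χ, r χ = 1 → χ ∈ ptsOf i₀ := fun χ h => by
    obtain ⟨b, hb⟩ := hker (ptHom _ χ) (by rw [hr, h, map_one])
    exact ⟨b, hb⟩
  obtain ⟨B0, hcl, hirr, hsol, habs⟩ := HopfPts.exists_borel (k := k) (A := A)
  have hkall : ∀ {S : Subgroup (HopfPts.Pt k A)}, Image.IsMax (HopfPts.D k A) S → ∀ χ, r χ = 1 → χ ∈ S := by
    intro S hS χ h
    obtain ⟨a, ha⟩ := Image.exists_eq_conj hirr hsol habs hS
    obtain ⟨c, hc⟩ := Image.exists_eq_conj hirr hsol habs m0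
    have h1 := hkmem ((c * a⁻¹) * χ * (c * a⁻¹)⁻¹) (by simp [map_mul, h])
    rw [hc, Image.mem_map_conj] at h1
    rw [ha, Image.mem_map_conj]
    rwa [show c⁻¹ * (c * a⁻¹ * χ * (c * a⁻¹)⁻¹) * c = a⁻¹ * χ * a by group] at h1
  have hsub : ∀ {S T : Subgroup (HopfPts.Pt k A)}, Image.IsMax (HopfPts.D k A) T → S.map r = T.map r → S ≤ T := by
    intro S T hT h x hx
    obtain ⟨t, ht, htx⟩ : r x ∈ T.map r := h ▸ ⟨x, hx, rfl⟩
    have := T.mul_mem ht (hkall hT (t⁻¹ * x) (by rw [map_mul, map_inv, htx, inv_mul_cancel]))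
    rwa [mul_inv_cancel_left] at this
  have e1 := hle i₁ h₁ f₁ hf₁
  have e2 := hle i₂ h₂ f₂ hf₂
  haveI : IsAffine B₁.left := isAffine_of_isAffineHom i₁.left
  haveI : IsAffine B₂.left := isAffine_of_isAffineHom i₂.left
  obtain ⟨u, hu⟩ := hfac2 B₁ i₁ (algHomOf_eq_zero i₁ fun x => by
    obtain ⟨t, ht⟩ := ptHom_surjective (x ≫ i₁)
    exact ⟨t, hsub m2 (e1.trans e2.symm) ⟨x, ht.symm⟩, ht.symm⟩)
  obtain ⟨v, hv⟩ := hfac1 B₂ i₂ (algHomOf_eq_zero i₂ fun x => by
    obtain ⟨t, ht⟩ := ptHom_surjective (x ≫ i₂)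
    exact ⟨t, hsub m1 (e2.trans e1.symm) ⟨x, ht.symm⟩, ht.symm⟩)
  haveI : Mono i₁ := (Over.forget _).mono_of_mono_map (inferInstanceAs (Mono i₁.left))
  haveI : Mono i₂ := (Over.forget _).mono_of_mono_map (inferInstanceAs (Mono i₂.left))
  exact ⟨⟨u, v, by rw [← cancel_mono i₁, Category.assoc, hv, hu, Category.id_comp],
    by rw [← cancel_mono i₂, Category.assoc, hu, hv, Category.id_comp]⟩, hu⟩

/-- The solvability transports along a monomorphism of group schemes. -/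
theorem isSolvableGrp_of_mono {G H : Over (Spec (CommRingCat.of k))} [GrpObj G] [GrpObj H] (i : H ⟶ G) [IsMonHom i]
    [Mono i] (h : Red.IsSolvableGrp G) : Red.IsSolvableGrp H := by
  obtain ⟨n, hn⟩ := h
  refine ⟨n, fun X => (Subgroup.eq_bot_iff_forall _).mpr fun a ha => ?_⟩
  have h1 : postcomp i X a ∈ derivedSeries (X ⟶ G) n := Borel.map_mem_derivedSeries (postcomp i X) ha
  rw [hn X, Subgroup.mem_bot] at h1
  have h2 : a ≫ i = (1 : X ⟶ H) ≫ i := h1.trans (map_one (postcomp i X)).symm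
  exact (cancel_mono i).mp h2

end Hopf

end Groth.Agent.H1.Classical.Scheme'
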