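import Groth.Agent.H1.Classical.Open

/-!
# Subgroups with complete quotient
-/

universe u v w

namespace Groth.Agent.H1.Classical.Complete

set_option linter.style.haveILetI false
set_option linter.unusedSectionVars false

open MvPolynomial Module Kolchin Elim Open

variable {k : Type u} [Field k] [IsAlgClosed k] {Γ : Type v} [Group Γ] (D : Alg k Γ)

/-- The multiplication is regular. -/
def HasMul : Prop :=
  ∀ f : D.R, ∃ (n : ℕ) (a b : Fin n → D.R),
    ∀ g h, (f : Γ → k) (g * h) = ∑ i, (a i : Γ → k) g * (b i : Γ → k) h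

/-- Projections of closed right invariant sets are closed. -/
def Complete (B : Subgroup Γ) : Prop :=
  ∀ (ι : Type) [Finite ι] (C : Set (Γ × (ι → k))), PairCl D C →
    (∀ g y, (g, y) ∈ C → ∀ b ∈ B, (g * b, y) ∈ C) → PCl {y | ∃ g, (g, y) ∈ C}

theorem pev_C {ι : Type} (g : Γ) (y : ι → k) (r : D.R) : pev D g y (C r) = (r : Γ → k) g := by
  simp [pev, evalR]

theorem pev_X {ι : Type} (g : Γ) (y : ι → k) (i : ι) : pev D g y (X i) = y i := by simp [pev]

theorem hasMul_restrict (h : HasMul D) (P : Subgroup Γ) (hP : D.IsCl P) : HasMul (D.restrict P hP) := by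
  rintro ⟨_, f, hf, rfl⟩
  obtain ⟨n, a, b, hab⟩ := h ⟨f, hf⟩
  exact ⟨n, fun i => ⟨_, a i, (a i).2, rfl⟩, fun i => ⟨_, b i, (b i).2, rfl⟩, fun g g' => hab g g'⟩

/-- Finitely many translates of a subgroup absorbing irreducible sets cover the group. -/
theorem finite_cover (C : Subgroup Γ) (hC : ∀ S : Set Γ, D.SIrr S → (1 : Γ) ∈ S → S ⊆ C) :
    ∃ Q : Finset Γ, ∀ g, ∃ q ∈ Q, q⁻¹ * g ∈ C := by
  classical
  haveI := D.isNoetherianRing
  have hfin := minimalPrimes.finite_of_isNoetherianRing D.R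
  let pt : Ideal D.R → Γ := fun p => if h : (D.zero p).Nonempty then h.choose else 1
  refine ⟨hfin.toFinset.image pt, fun g => ?_⟩
  let χ : D.R →+* k := (Pi.evalRingHom (fun _ : Γ => k) g).comp D.R.val.toRingHom
  have : (RingHom.ker χ).IsPrime := RingHom.ker_isPrime χ
  obtain ⟨p, hp, hle⟩ := Ideal.exists_minimalPrimes_le (J := RingHom.ker χ) (bot_le : ⊥ ≤ _)
  have hgp : g ∈ D.zero p := fun f hf => hle hf
  have hne : (D.zero p).Nonempty := ⟨g, hgp⟩
  have hirr : D.SIrr (D.zero p) := fun f f' h => by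
    have hP : p.IsPrime := hp.1.1
    rw [D.vI_zero p] at h ⊢
    exact hP.mem_or_mem h
  have hpt : pt p ∈ D.zero p := by
    simp only [pt, dif_pos hne]
    exact hne.choose_spec
  refine ⟨pt p, Finset.mem_image_of_mem _ (hfin.mem_toFinset.mpr hp), ?_⟩
  exact hC _ (hirr.image D ((pt p)⁻¹ * ·) (D.lTrans (pt p)⁻¹) fun _ _ => rfl)
    ⟨_, hpt, inv_mul_cancel _⟩ ⟨g, hgp, rfl⟩

/-- The whole group. -/
theorem complete_top : Complete D ⊤ := by
  intro ι _ Cs hC hinv y hy
  refine ⟨1, hC (1, y) fun F hF => ?_⟩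
  show eval y (map _ F) = 0
  refine hy _ ?_
  rintro z ⟨g, hg⟩
  exact hF (1, z) (by simpa using hinv g z hg g⁻¹ (Subgroup.mem_top _))

theorem complete_mono {B B' : Subgroup Γ} (h : B ≤ B') (hB : Complete D B) : Complete D B' :=
  fun ι _ C hC hinv => hB ι C hC fun g y hg b hb => hinv g y hg b (h hb)

/-- A finite union of closed sets is closed. -/
theorem pairCl_biUnion {ι : Type} {J : Type*} (s : Finset J) (Cs : J → Set (Γ × (ι → k)))
    (h : ∀ j ∈ s, PairCl D (Cs j)) : PairCl D {q | ∃ j ∈ s, q ∈ Cs j} := by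
  classical
  intro q hq
  by_contra hcon
  have hex : ∀ j ∈ s, ∃ F : MvPolynomial ι D.R, (∀ c ∈ Cs j, pev D c.1 c.2 F = 0) ∧ pev D q.1 q.2 F ≠ 0 := by
    intro j hj
    by_contra h0
    push Not at h0
    exact hcon ⟨j, hj, h j hj q h0⟩
  choose! F hF hFq using hex
  have h1 := hq (∏ j ∈ s, F j) fun c ⟨j, hj, hc⟩ => by
    rw [map_prod]
    exact Finset.prod_eq_zero hj (hF j hj c hc)
  rw [map_prod, Finset.prod_eq_zero_iff] at h1
  obtain ⟨j, hj, hj0⟩ := h1
  exact hFq j hj hj0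

theorem pairCl_translate {ι : Type} {Cs : Set (Γ × (ι → k))} (h : PairCl D Cs) (a : Γ) :
    PairCl D {q | (q.1 * a, q.2) ∈ Cs} := by
  intro q hq
  refine h (q.1 * a, q.2) fun F hF => ?_
  have key : ∀ (g : Γ) (y : ι → k), pev D g y (map (D.rTrans a).toRingHom F) = pev D (g * a) y F :=
    fun g y => pev_map D (D.rTrans a) (fun g => g * a) (fun _ _ => rfl) g y F
  have h0 := hq (map (D.rTrans a).toRingHom F) fun c hc => (key c.1 c.2).trans (hF (c.1 * a, c.2) hc)
  exact (key q.1 q.2).symm.trans h0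

/-- Saturation by a subgroup with a complete subgroup is closed. -/
theorem pairCl_saturate (hmul : HasMul D) (P : Subgroup Γ) (hP : D.IsCl P) (B : Subgroup P)
    (hB : Complete (D.restrict P hP) B) {ι : Type} [Finite ι] {Cs : Set (Γ × (ι → k))} (hC : PairCl D Cs)
    (hinv : ∀ g y, (g, y) ∈ Cs → ∀ b ∈ B.map P.subtype, (g * b, y) ∈ Cs) :
    PairCl D {q | ∃ p ∈ P, (q.1 * p, q.2) ∈ Cs} := by
  classical
  obtain ⟨s₀, hs⟩ := D.fg
  let gen : Fin s₀.card → Γ → k := fun i => (s₀.equivFin.symm i).1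
  have hgen : Set.range gen = (s₀ : Set (Γ → k)) := by
    ext x
    constructor
    · rintro ⟨i, rfl⟩; exact (s₀.equivFin.symm i).2
    · intro hx; exact ⟨s₀.equivFin ⟨x, hx⟩, by simp [gen]⟩
  have hsR : ∀ i, gen i ∈ D.R := fun i => hs ▸ Algebra.subset_adjoin (s₀.equivFin.symm i).2
  let f : Fin s₀.card → D.R := fun i => ⟨gen i, hsR i⟩
  have hsurj : Function.Surjective (aeval f : MvPolynomial (Fin s₀.card) k →ₐ[k] D.R) := by
    rintro ⟨x, hx⟩
    have hx' : x ∈ Algebra.adjoin k (Set.range gen) := by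
      rw [hgen, hs]
      exact hx
    rw [Algebra.adjoin_range_eq_range_aeval] at hx'
    obtain ⟨p, hp⟩ := hx'
    refine ⟨p, Subtype.ext ?_⟩
    show D.R.val (aeval f p) = x
    rw [← hp, ← AlgHom.comp_apply, comp_aeval]
    rfl
  have heval : ∀ (g : Γ) (p : MvPolynomial (Fin s₀.card) k), evalR D g (aeval f p) = eval (fun i => gen i g) p := by
    intro g p
    rw [← AlgHom.comp_apply, comp_aeval]
    rfl
  -- transporting functions to the parameter space
  have hF : ∀ F : MvPolynomial ι D.R, ∃ F' : MvPolynomial (Fin s₀.card ⊕ ι) (D.restrict P hP).R,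
      ∀ (g : Γ) (p : P) (y : Fin s₀.card ⊕ ι → k), (∀ i : Fin s₀.card, gen i g = y (Sum.inl i)) →
        pev (D.restrict P hP) p y F' = pev D (g * p) (y ∘ Sum.inr) F := by
    intro F
    induction F using MvPolynomial.induction_on with
    | C r =>
      obtain ⟨n, a, b, hab⟩ := hmul r
      choose q hq using fun i => hsurj (a i)
      refine ⟨∑ i, C (⟨_, b i, (b i).2, rfl⟩ : (D.restrict P hP).R) *
        rename Sum.inl (map (algebraMap k (D.restrict P hP).R) (q i)), fun g p y hy => ?_⟩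
      rw [map_sum, pev_C, hab]
      refine Finset.sum_congr rfl fun i _ => ?_
      rw [map_mul, pev_C, mul_comm]
      refine congrArg₂ (· * ·) ?_ rfl
      rw [← hq i]
      show eval y (map _ (rename Sum.inl (map _ (q i)))) = evalR D g (aeval f (q i))
      rw [heval, map_rename, eval_rename, map_map,
        show (evalR (D.restrict P hP) p).toRingHom.comp (algebraMap k (D.restrict P hP).R) = RingHom.id k from
          RingHom.ext fun c => rfl, MvPolynomial.map_id]
      exact congrArg (fun z => eval z (q i)) (funext fun i => (hy i).symm)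
    | add F G hF hG =>
      obtain ⟨F', hF⟩ := hF
      obtain ⟨G', hG⟩ := hG
      exact ⟨F' + G', fun g p y hy => by simp only [map_add, hF g p y hy, hG g p y hy]⟩
    | mul_X F i hF =>
      obtain ⟨F', hF⟩ := hF
      exact ⟨F' * X (Sum.inr i), fun g p y hy => by simp only [map_mul, pev_X, hF g p y hy, Function.comp_apply]⟩
  choose tr htr using hF
  let E : Set (P × (Fin s₀.card ⊕ ι → k)) :=
    {q | ∃ g : Γ, (∀ i : Fin s₀.card, gen i g = q.2 (Sum.inl i)) ∧ (g * q.1, q.2 ∘ Sum.inr) ∈ Cs}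
  have hEcl : PairCl (D.restrict P hP) E := by
    rintro ⟨p, w⟩ hq
    have hker : RingHom.ker (aeval f : MvPolynomial (Fin s₀.card) k →ₐ[k] D.R).toRingHom ≤
        RingHom.ker (aeval (fun i => w (Sum.inl i)) : MvPolynomial (Fin s₀.card) k →ₐ[k] k).toRingHom := by
      intro Q hQ
      rw [RingHom.mem_ker] at hQ ⊢
      change aeval f Q = 0 at hQ
      show aeval (fun i => w (Sum.inl i)) Q = 0
      have h := hq (rename Sum.inl (map (algebraMap k (D.restrict P hP).R) Q)) ?_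
      · rw [show pev (D.restrict P hP) (p, w).1 (p, w).2 _ = eval w (map _ (rename Sum.inl (map _ Q))) from rfl,
          map_rename, eval_rename, map_map,
          show (evalR (D.restrict P hP) p).toRingHom.comp (algebraMap k (D.restrict P hP).R) = RingHom.id k from
            RingHom.ext fun c => rfl, MvPolynomial.map_id] at h
        exact h
      · rintro ⟨p', w'⟩ ⟨g, hg, -⟩
        show eval w' (map _ (rename Sum.inl (map _ Q))) = 0
        rw [map_rename, eval_rename, map_map,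
          show (evalR (D.restrict P hP) p').toRingHom.comp (algebraMap k (D.restrict P hP).R) = RingHom.id k from
            RingHom.ext fun c => rfl, MvPolynomial.map_id, ← show (fun i : Fin s₀.card => gen i g) = w' ∘ Sum.inl from
            funext hg, ← heval, hQ, map_zero]
    obtain ⟨g, hg⟩ := D.pts (AlgHom.liftOfSurjective _ hsurj _ hker)
    have hgi : ∀ i : Fin s₀.card, gen i g = w (Sum.inl i) := fun i => by
      have h1 := hg (aeval f (X i : MvPolynomial (Fin s₀.card) k))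
      rw [AlgHom.liftOfSurjective_apply] at h1
      rw [aeval_X, aeval_X] at h1
      exact h1.symm
    refine ⟨g, hgi, hC ((g * p : Γ), w ∘ Sum.inr) fun F hF => ?_⟩
    · show pev D (g * p) (w ∘ Sum.inr) F = 0
      rw [← htr F g p w hgi]
      refine hq _ fun c hc => ?_
      obtain ⟨g', hg', hg'C⟩ := hc
      rw [htr F g' c.1 c.2 hg']
      exact hF ((g' * c.1 : Γ), c.2 ∘ Sum.inr) hg'C
  have hproj := hB (Fin s₀.card ⊕ ι) E hEcl fun p w ⟨g, hg, hgC⟩ b hb =>
    ⟨g, hg, by rw [Subgroup.coe_mul, ← mul_assoc]; exact hinv _ _ hgC _ ⟨b, hb, rfl⟩⟩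
  rintro ⟨g, y⟩ hq
  obtain ⟨p, g', hg', hg'C⟩ : ∃ p, (p, Sum.elim (fun i : Fin s₀.card => gen i g) y) ∈ E := by
    refine hproj _ fun Q hQ => ?_
    have key : ∀ (Q : MvPolynomial (Fin s₀.card ⊕ ι) k) (g : Γ) (y : ι → k),
        pev D g y (aeval (Sum.elim (fun i => C (f i)) X) Q) =
        eval (Sum.elim (fun i : Fin s₀.card => gen i g) y) Q := by
      intro Q g y
      induction Q using MvPolynomial.induction_on with
      | C c => rw [aeval_C, eval_C]; simp [pev]
      | add a b ha hb => simp only [map_add, ha, hb]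
      | mul_X a i ha =>
        simp only [map_mul, aeval_X, eval_X, ha]
        rcases i with i | i
        · simp only [Sum.elim_inl, pev_C]; rfl
        · simp only [Sum.elim_inr, pev_X]
    rw [← key Q]
    refine hq _ ?_
    rintro ⟨g', y'⟩ ⟨p, hp, hpC⟩
    rw [key Q]
    exact hQ _ ⟨⟨p, hp⟩, g', fun i => rfl, hpC⟩
  refine ⟨p, p.2, hC _ fun F hF => ?_⟩
  have h1 := htr F g' p _ hg'
  have h2 := htr F g p (Sum.elim (fun i : Fin s₀.card => gen i g) y) fun i => rfl
  rw [Sum.elim_comp_inr] at h1 h2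
  show pev D (g * p) y F = 0
  rw [← h2, h1]
  exact hF ((g' * p : Γ), y) hg'C

variable {V : Type w} [AddCommGroup V] [Module k V] {n : ℕ} (b : Basis (Fin n) k V)
  (ρ : Representation k Γ V) (hρ : EndFn D.R (fun g => ρ g))

include hρ in
/-- The inductive step. -/
theorem complete_step (hmul : HasMul D) (hirr : D.SIrr Set.univ) {v : V} (hv : v ≠ 0) {Z : Set V}
    (hZ : Fixed.IsCone b ρ Z) (hvZ : v ∈ Z) (horb : ∀ z ∈ Z, z ≠ 0 → ∃ (c : k) (g : Γ), z = c • ρ g v)
    (P : Subgroup Γ) (hP : ∀ g, g ∈ P ↔ ∃ c : k, ρ g v = c • v) (C : Subgroup Γ) (hC : D.IsCl C) (hCP : C ≤ P)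
    (Q : Finset Γ) (hQP : ∀ q ∈ Q, q ∈ P) (hQ : ∀ p ∈ P, ∃ q ∈ Q, q⁻¹ * p ∈ C)
    (B : Subgroup C) (hB : Complete (D.restrict C hC) B) : Complete D (B.map C.subtype) := by
  intro ι _ Cs hCs hinv
  let C1 : Set (Γ × (ι → k)) := {q | ∃ p ∈ C, (q.1 * p, q.2) ∈ Cs}
  let C2 : Set (Γ × (ι → k)) := {q | ∃ j ∈ Q, q ∈ {q : Γ × (ι → k) | (q.1 * j, q.2) ∈ C1}}
  have h1 : PairCl D C1 := pairCl_saturate D hmul C hC B hB hCs hinv
  have h2 : PairCl D C2 := pairCl_biUnion D Q _ fun j _ => pairCl_translate D h1 j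
  have hmem : ∀ g y, (g, y) ∈ C2 ↔ ∃ p ∈ P, (g * p, y) ∈ Cs := by
    intro g y
    constructor
    · rintro ⟨j, hj, p, hp, h⟩
      exact ⟨j * p, P.mul_mem (hQP j hj) (hCP hp), by rwa [← mul_assoc]⟩
    · rintro ⟨p, hp, h⟩
      obtain ⟨j, hj, hjp⟩ := hQ p hp
      refine ⟨j, hj, _, hjp, ?_⟩
      show (g * j * (j⁻¹ * p), y) ∈ Cs
      rwa [mul_assoc, mul_inv_cancel_left]
  have hset : {y : ι → k | ∃ g, (g, y) ∈ Cs} = {y | ∃ g, (g, y) ∈ C2} := by
    ext y
    constructor
    · rintro ⟨g, hg⟩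
      exact ⟨g, (hmem g y).mpr ⟨1, P.one_mem, by rwa [mul_one]⟩⟩
    · rintro ⟨g, hg⟩
      obtain ⟨p, -, h⟩ := (hmem g y).mp hg
      exact ⟨_, h⟩
  rw [hset]
  refine pcl_of_orbit D b ρ hρ hirr hv hZ hvZ horb C2 h2 ?_
  rintro g g' y hg ⟨c, hc⟩
  obtain ⟨p, hp, h⟩ := (hmem g y).mp hg
  have hg' : g⁻¹ * g' ∈ P := (hP _).mpr ⟨c, by
    rw [map_mul, Module.End.mul_apply, hc, map_smul, ← Module.End.mul_apply, ← map_mul, inv_mul_cancel, map_one,
      Module.End.one_apply]⟩
  refine (hmem g' y).mpr ⟨(g⁻¹ * g')⁻¹ * p, P.mul_mem (P.inv_mem hg') hp, ?_⟩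
  rwa [show g' * ((g⁻¹ * g')⁻¹ * p) = g * p by group]

end Groth.Agent.H1.Classical.Complete
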