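import Groth.Agent.H1.Classical.Fixed
import Groth.Agent.H1.Classical.Complete
import Mathlib.LinearAlgebra.Dimension.RankNullity
import Mathlib.LinearAlgebra.Isomorphisms
import Mathlib.GroupTheory.Abelianization.Defs

/-!
# Existence and conjugacy of Borel subgroups, on points
-/

universe u v w

namespace Groth.Agent.H1.Classical.Borel

set_option linter.style.haveILetI false
set_option linter.unusedSectionVars false

open Module Kolchin commutatorElement

variable {k : Type u} [Field k] [IsAlgClosed k]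

/-- Commutators and derived series under a homomorphism. -/
theorem map_mem_derivedSeries {G H : Type*} [Group G] [Group H] (f : G →* H) {m : ℕ} {a : G}
    (ha : a ∈ derivedSeries G m) : f a ∈ derivedSeries H m :=
  map_derivedSeries_le_derivedSeries f m ⟨a, ha, rfl⟩

theorem derivedSeries_anti {G : Type*} [Group G] {m n : ℕ} (h : m ≤ n) :
    derivedSeries G n ≤ derivedSeries G m := derivedSeries_antitone G h

/-- Existence of an absorbing subgroup with complete quotient. -/
theorem exists_borel_complete : ∀ (d : ℕ) {Γ : Type v} [Group Γ] (D : Alg k Γ), D.SIrr Set.univ →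
    ∀ {V : Type w} [AddCommGroup V] [Module k V] [FiniteDimensional k V] (ρ : Representation k Γ V),
      EndFn D.R (fun g => ρ g) → finrank k V = d →
      ∃ B : Subgroup Γ, D.IsCl B ∧ D.SIrr B ∧ (∃ m, ∀ a ∈ derivedSeries B m, ρ (a : Γ) = 1) ∧
        (∀ S : Subgroup Γ, Group.IsSolvable S → D.SIrr S → ∃ a : Γ, ∀ s ∈ S, a⁻¹ * s * a ∈ B) ∧
        (Complete.HasMul D → Complete.Complete D B) := by
  intro d
  induction d using Nat.strong_induction_on with
  | _ d ih =>
  intro Γ _ D hirr V _ _ _ ρ hρ hd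
  rcases Nat.eq_zero_or_pos d with hd0 | hdpos
  · subst hd0
    have : Subsingleton V := finrank_zero_iff.mp hd
    refine ⟨⊤, fun g _ => Subgroup.mem_top g, by rw [Subgroup.coe_top]; exact hirr,
      ⟨0, fun a _ => Subsingleton.elim _ _⟩, fun S _ _ => ⟨1, fun s _ => Subgroup.mem_top _⟩,
      fun _ => Complete.complete_top D⟩
  have : Nontrivial V := finrank_pos_iff.mp (hd.symm ▸ hdpos)
  let b := Module.finBasis k V
  obtain ⟨Z, hZ, ⟨v, hvZ, hv⟩, horbit⟩ := Fixed.exists_closed_orbit b ρ hρ hirr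
  let L : Submodule k V := Submodule.span k {v}
  -- the stabiliser of the line
  let P : Subgroup Γ :=
    { carrier := {g | ∃ c : k, ρ g v = c • v}
      one_mem' := ⟨1, by simp⟩
      mul_mem' := fun {g g'} ⟨c, hc⟩ ⟨c', hc'⟩ => ⟨c' * c, by
        rw [map_mul, End.mul_apply, hc', map_smul, hc, smul_smul]⟩
      inv_mem' := fun {g} ⟨c, hc⟩ => by
        have h1 : v = c • ρ g⁻¹ v := by
          rw [← map_smul, ← hc, ← End.mul_apply, ← map_mul, inv_mul_cancel, map_one, End.one_apply]
        have hc0 : c ≠ 0 := fun h => hv (by rw [h1, h, zero_smul])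
        exact ⟨c⁻¹, by conv_rhs => rw [h1, smul_smul, inv_mul_cancel₀ hc0, one_smul]⟩ }
  have hP : D.IsCl P := D.isCl_of_forall {f | ∃ l : Dual k V, l v = 0 ∧ f = fun g => l (ρ g v)}
    (by rintro _ ⟨l, -, rfl⟩; exact hρ v l) fun g => by
    constructor
    · rintro ⟨c, hc⟩ _ ⟨l, hl, rfl⟩
      simp [hc, hl]
    · intro h
      by_contra hcon
      have hnot : ρ g v ∉ L := fun hm => by
        obtain ⟨c, hc⟩ := Submodule.mem_span_singleton.mp hm
        exact hcon ⟨c, hc.symm⟩
      obtain ⟨l, hl, hlt⟩ := Submodule.exists_dual_map_eq_bot_of_notMem hnot inferInstance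
      exact hl (h _ ⟨l, (Submodule.mem_bot k).mp (hlt ▸ ⟨v, Submodule.mem_span_singleton_self v, rfl⟩), rfl⟩)
  obtain ⟨C0, hC0, hC0irr, hC0max⟩ := (D.restrict P hP).exists_component
  let C : Subgroup Γ := C0.map P.subtype
  have hCset : (C : Set Γ) = Subtype.val '' (C0 : Set P) := Subgroup.coe_map _ _
  have hCcl : D.IsCl C := by rw [hCset]; exact D.isCl_image hC0
  have hCirr : D.SIrr C := by rw [hCset]; exact D.sirr_restrict.mp hC0irr
  let DC := D.restrict C hCcl
  have hDC : DC.SIrr Set.univ := D.sirr_restrict.mpr (by rw [Set.image_univ, Subtype.range_coe_subtype]; exact hCirr)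
  have hstab : ∀ g : C, L ≤ L.comap (ρ (g : Γ)) := by
    intro g
    obtain ⟨p, -, hp⟩ := g.2
    obtain ⟨c, hc⟩ := (hp ▸ p.2 : (g : Γ) ∈ P)
    rw [Submodule.span_singleton_le_iff_mem, Submodule.mem_comap, hc]
    exact Submodule.smul_mem _ c (Submodule.mem_span_singleton_self v)
  let σ : Representation k C (V ⧸ L) :=
    { toFun := fun g => L.mapQ L (ρ (g : Γ)) (hstab g)
      map_one' := Submodule.linearMap_qext _ (LinearMap.ext fun x => by simp)
      map_mul' := fun g g' => Submodule.linearMap_qext _ (LinearMap.ext fun x => by simp) }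
  have hσ : EndFn DC.R (fun g => σ g) := by
    intro w l
    obtain ⟨x, rfl⟩ := Submodule.mkQ_surjective L w
    exact ⟨_, hρ x (l.comp L.mkQ), rfl⟩
  have hd' : finrank k (V ⧸ L) < d := by
    have h := Submodule.finrank_quotient_add_finrank L
    rw [finrank_span_singleton hv] at h
    omega
  obtain ⟨B0, hB0cl, hB0irr, ⟨m, hm⟩, hB0conj, hB0comp⟩ := ih _ hd' DC hDC σ hσ rfl
  let B : Subgroup Γ := B0.map C.subtype
  have hBset : (B : Set Γ) = Subtype.val '' (B0 : Set C) := Subgroup.coe_map _ _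
  refine ⟨B, by rw [hBset]; exact D.isCl_image hB0cl, by rw [hBset]; exact D.sirr_restrict.mp hB0irr, ?_, ?_, ?_⟩
  · -- solvability
    let ι : B →* C :=
      { toFun := fun x => ⟨x, by obtain ⟨c, -, hc⟩ := x.2; exact hc ▸ c.2⟩
        map_one' := rfl
        map_mul' := fun _ _ => rfl }
    have hι : ∀ x, ι x ∈ B0 := fun x => by
      obtain ⟨c, hc, hcx⟩ := x.2
      have : ι x = c := Subtype.ext hcx.symm
      rwa [this]
    let ι' : B →* B0 := ι.codRestrict B0 hι
    have hfix : ∀ a ∈ derivedSeries B (max m 1), ρ (a : Γ) v = v ∧ ∀ x, ρ (a : Γ) x - x ∈ L := by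
      intro a ha
      constructor
      · have hcomm : ∀ x : B, ∃ c : k, ρ (x : Γ) v = c • v := fun x => by
          obtain ⟨c, hc⟩ := Submodule.mem_span_singleton.mp (hstab (ι x) (Submodule.mem_span_singleton_self v))
          exact ⟨c, hc.symm⟩
        choose χ hχ using hcomm
        have hχmul : ∀ x y, χ (x * y) = χ x * χ y := fun x y => smul_left_injective k hv (by
          show χ (x * y) • v = (χ x * χ y) • v
          rw [← hχ, Subgroup.coe_mul, map_mul, End.mul_apply, hχ, map_smul, hχ, smul_smul, mul_comm])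
        have hχ1 : χ 1 = 1 := smul_left_injective k hv (by
          show χ 1 • v = (1 : k) • v
          rw [← hχ]; simp)
        let χh : B →* k := { toFun := χ, map_one' := hχ1, map_mul' := hχmul }
        have h1 := derivedSeries_anti (le_max_right m 1) ha
        rw [derivedSeries_one] at h1
        have : χh a = 1 := by
          exact congrArg Units.val (MonoidHom.mem_ker.mp (Abelianization.commutator_subset_ker χh.toHomUnits h1))
        rw [hχ, show χ a = 1 from this, one_smul]
      · intro x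
        have h := hm (ι' a) (derivedSeries_anti (le_max_left m 1) (map_mem_derivedSeries ι' ha))
        have := LinearMap.congr_fun h (Submodule.Quotient.mk x)
        exact (Submodule.Quotient.eq L).mp this
    have hprod : ∀ a ∈ derivedSeries B (max m 1), ∀ a' ∈ derivedSeries B (max m 1),
        ρ (a : Γ) * ρ (a' : Γ) = ρ (a' : Γ) * ρ (a : Γ) := by
      intro a ha a' ha'
      refine LinearMap.ext fun x => ?_
      obtain ⟨c, hc⟩ := Submodule.mem_span_singleton.mp ((hfix a ha).2 x)
      obtain ⟨c', hc'⟩ := Submodule.mem_span_singleton.mp ((hfix a' ha').2 x)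
      rw [eq_sub_iff_add_eq] at hc hc'
      simp only [End.mul_apply, ← hc, ← hc', map_add, map_smul, (hfix a ha).1, (hfix a' ha').1]
      abel
    refine ⟨max m 1 + 1, fun a ha => ?_⟩
    let φ : B →* (End k V)ˣ := ((ρ : Γ →* End k V).comp B.subtype).toHomUnits
    have h2 : derivedSeries B (max m 1 + 1) ≤ φ.ker := by
      rw [derivedSeries_succ, Subgroup.commutator_le]
      intro x hx y hy
      rw [MonoidHom.mem_ker, map_commutatorElement, commutatorElement_eq_one_iff_mul_comm]
      exact Units.ext (hprod x hx y hy)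
    exact congrArg Units.val (h2 ha)
  · intro S hS hSirr
    obtain ⟨w, hwZ, hw, hwS⟩ := Fixed.exists_fixed b ρ hρ hZ ⟨v, hvZ, hv⟩ S hSirr
    obtain ⟨c, g, hwv⟩ := horbit v hvZ hv w hwZ hw
    have hc0 : c ≠ 0 := fun h => hw (by rw [hwv, h, zero_smul])
    have hT : ∀ s ∈ S, g⁻¹ * s * g ∈ P := by
      intro s hs
      obtain ⟨e, he⟩ := hwS s hs
      refine ⟨e, ?_⟩
      rw [hwv, map_smul, smul_comm e c] at he
      have := congrArg (fun x => c⁻¹ • ρ g⁻¹ x) he
      simp only [map_smul, smul_smul, inv_mul_cancel₀ hc0, one_smul] at this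
      rw [← End.mul_apply, ← map_mul, ← End.mul_apply, ← map_mul, ← End.mul_apply, ← map_mul,
        inv_mul_cancel, map_one, End.one_apply] at this
      convert this using 2
      field_simp
    have hTirr : D.SIrr ((fun s => g⁻¹ * s * g⁻¹⁻¹) '' (S : Set Γ)) :=
      Alg.SIrr.image D hSirr _ (D.cTrans g⁻¹) (D.cTrans_apply g⁻¹)
    have hTC : ∀ s ∈ S, g⁻¹ * s * g ∈ C := by
      intro s hs
      have hsub := hC0max {p : P | g * (p : Γ) * g⁻¹ ∈ S} (D.sirr_restrict.mpr (by
        have : Subtype.val '' {p : P | g * (p : Γ) * g⁻¹ ∈ S} = (fun s => g⁻¹ * s * g⁻¹⁻¹) '' (S : Set Γ) := by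
          ext x
          constructor
          · rintro ⟨p, hp, rfl⟩
            exact ⟨_, hp, by group⟩
          · rintro ⟨s, hs, rfl⟩
            refine ⟨⟨g⁻¹ * s * g, hT s hs⟩, ?_, by simp⟩
            show g * (g⁻¹ * s * g) * g⁻¹ ∈ S
            rw [show g * (g⁻¹ * s * g) * g⁻¹ = s by group]; exact hs
        rwa [this])) (show g * ((1 : P) : Γ) * g⁻¹ ∈ S by simp [S.one_mem])
      exact ⟨⟨_, hT s hs⟩, hsub (show g * (g⁻¹ * s * g) * g⁻¹ ∈ S by convert hs using 1; group), rfl⟩
    let f : S →* C :=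
      { toFun := fun s => ⟨g⁻¹ * s * g, hTC s s.2⟩
        map_one' := Subtype.ext (by simp)
        map_mul' := fun s t => Subtype.ext (show g⁻¹ * (↑s * ↑t) * g = (g⁻¹ * s * g) * (g⁻¹ * t * g) by group) }
    haveI := hS
    have hfsol : Group.IsSolvable f.range := Group.isSolvable_of_surjective f.rangeRestrict_surjective
    obtain ⟨a, ha⟩ := hB0conj f.range hfsol (D.sirr_restrict.mpr (by
      have : Subtype.val '' (f.range : Set C) = (fun s => g⁻¹ * s * g⁻¹⁻¹) '' (S : Set Γ) := by
        ext x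
        constructor
        · rintro ⟨_, ⟨s, rfl⟩, rfl⟩
          exact ⟨s, s.2, by simp [f]⟩
        · rintro ⟨s, hs, rfl⟩
          exact ⟨_, ⟨⟨s, hs⟩, rfl⟩, by simp [f]⟩
      rwa [this]))
    refine ⟨g * a, fun s hs => ⟨_, ha _ ⟨⟨s, hs⟩, rfl⟩, ?_⟩⟩
    show (a : Γ)⁻¹ * (g⁻¹ * s * g) * a = _
    group
  · intro hmul
    classical
    obtain ⟨Q, hQ⟩ := Complete.finite_cover (D.restrict P hP) C0 hC0max
    refine Complete.complete_step D b ρ hρ hmul hirr hv hZ hvZ (fun z hz hz0 => horbit v hvZ hv z hz hz0) P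
      (fun g => Iff.rfl) C hCcl (fun x hx => by obtain ⟨p, -, rfl⟩ := hx; exact p.2)
      (Q.image Subtype.val) (fun q hq => by
        obtain ⟨q', -, rfl⟩ := Finset.mem_image.mp hq
        exact q'.2) (fun p hp => ?_) B0 (hB0comp (Complete.hasMul_restrict D hmul C hCcl))
    obtain ⟨q, hq, hqp⟩ := hQ ⟨p, hp⟩
    exact ⟨q, Finset.mem_image_of_mem _ hq, _, hqp, rfl⟩

/-- Existence of an absorbing subgroup. -/
theorem exists_borel (d : ℕ) {Γ : Type v} [Group Γ] (D : Alg k Γ) (hirr : D.SIrr Set.univ)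
    {V : Type w} [AddCommGroup V] [Module k V] [FiniteDimensional k V] (ρ : Representation k Γ V)
    (hρ : EndFn D.R (fun g => ρ g)) (hd : finrank k V = d) :
    ∃ B : Subgroup Γ, D.IsCl B ∧ D.SIrr B ∧ (∃ m, ∀ a ∈ derivedSeries B m, ρ (a : Γ) = 1) ∧
      ∀ S : Subgroup Γ, Group.IsSolvable S → D.SIrr S → ∃ a : Γ, ∀ s ∈ S, a⁻¹ * s * a ∈ B := by
  obtain ⟨B, h1, h2, h3, h4, -⟩ := exists_borel_complete d D hirr ρ hρ hd
  exact ⟨B, h1, h2, h3, h4⟩

/-- With a faithful representation: a closed connected solvable subgroup absorbing all others up to conjugation. -/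
theorem exists_borel_of_faithful {Γ : Type v} [Group Γ] (D : Alg k Γ) (hirr : D.SIrr Set.univ)
    {V : Type w} [AddCommGroup V] [Module k V] [FiniteDimensional k V] (ρ : Representation k Γ V)
    (hρ : EndFn D.R (fun g => ρ g)) (hfaith : Function.Injective ρ) :
    ∃ B : Subgroup Γ, D.IsCl B ∧ D.SIrr B ∧ Group.IsSolvable B ∧
      ∀ S : Subgroup Γ, Group.IsSolvable S → D.SIrr S → ∃ a : Γ, ∀ s ∈ S, a⁻¹ * s * a ∈ B := by
  obtain ⟨B, h1, h2, ⟨m, hm⟩, h3⟩ := exists_borel _ D hirr ρ hρ rfl
  refine ⟨B, h1, h2, (Group.isSolvable_def _).mpr ⟨m, (Subgroup.eq_bot_iff_forall _).mpr fun a ha => ?_⟩, h3⟩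
  exact Subtype.ext (hfaith ((hm a ha).trans (map_one ρ).symm))

end Groth.Agent.H1.Classical.Borel
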