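import Groth.Agent.H1.Classical.Scheme

/-!
# Conjugacy of Borel subgroups
-/

universe u

open CategoryTheory MonoidalCategory CartesianMonoidalCategory MonObj GrpObj AlgebraicGeometry

namespace Groth.Agent.H1.Classical.Scheme'

set_option linter.style.haveILetI false
set_option linter.unusedSectionVars false

open Groth.Agent.Lib.RedPts.Points WithConv TensorProduct

attribute [local instance] baseAlgebra

variable {k : Type u} [Field k] {A : Type u} [CommRing A] [HopfAlgebra k A] [Algebra.FiniteType k A] [IsAlgClosed k]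

theorem conj_identity {Γ : Type*} [Group Γ] (a a' s : Γ) :
    a'⁻¹ * (a' * a⁻¹ * s * (a' * a⁻¹)⁻¹) * a' = a⁻¹ * s * a := by group

theorem inv_identity {Γ : Type*} [Group Γ] (a a' : Γ) : a * a'⁻¹ * (a' * a⁻¹) = 1 := by group

theorem mem_conj {Γ : Type*} [Group Γ] (B0 : Subgroup Γ) (a a' s : Γ) (hs : s ∈ {x | a⁻¹ * x * a ∈ B0}) :
    a' * a⁻¹ * s * (a' * a⁻¹)⁻¹ ∈ {x | a'⁻¹ * x * a' ∈ B0} := by
  show a'⁻¹ * (a' * a⁻¹ * s * (a' * a⁻¹)⁻¹) * a' ∈ B0
  rw [conj_identity]
  exact hs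

theorem borel_conj_GA [IsDomain A] {B B' : Over (Spec (CommRingCat.of k))} [GrpObj B] [GrpObj B']
    (iB : B ⟶ GA k A) (iB' : B' ⟶ GA k A) (hB : Red.IsBorelOver k iB) (hB' : Red.IsBorelOver k iB') :
    ∃ (γ : 𝟙_ (Over (Spec (CommRingCat.of k))) ⟶ GA k A) (f : B ≅ B'), f.hom ≫ iB' = AGF.conjBy γ iB := by
  obtain ⟨B0, hcl, hirr, hsol, habs⟩ := HopfPts.exists_borel (k := k) (A := A)
  obtain ⟨a, C, _, c, u, hu, hci, hCs, hfac, hpt⟩ := borel_points _ hB B0 hcl hirr hsol habs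
  obtain ⟨a', C', _, c', u', hu', hci', hCs', hfac', hpt'⟩ := borel_points _ hB' B0 hcl hirr hsol habs
  haveI : IsAffine C.left := isAffine_of_isAffineHom c.left
  haveI : IsAffine C'.left := isAffine_of_isAffineHom c'.left
  haveI : Mono c := (Over.forget _).mono_of_mono_map (inferInstanceAs (Mono c.left))
  haveI : Mono c' := (Over.forget _).mono_of_mono_map (inferInstanceAs (Mono c'.left))
  obtain ⟨p, hp⟩ := exists_conj_map c c' {x | a⁻¹ * x * a ∈ B0} {x | a'⁻¹ * x * a' ∈ B0} hpt hfac' (a' * a⁻¹)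
    fun s hs => mem_conj B0 a a' s hs
  obtain ⟨p', hp'⟩ := exists_conj_map c' c {x | a'⁻¹ * x * a' ∈ B0} {x | a⁻¹ * x * a ∈ B0} hpt' hfac (a * a'⁻¹)
    fun s hs => mem_conj B0 a' a s hs
  refine ⟨ptHom _ (a' * a⁻¹), u ≪≫ ⟨p, p', eq_id_of_conj c c' p p' _ _ hp hp' (inv_identity a a'),
    eq_id_of_conj c' c p' p _ _ hp' hp (inv_identity a' a)⟩ ≪≫ u'.symm, ?_⟩
  rw [← hu', ← hu]
  simp only [Iso.trans_hom, Iso.symm_hom, Category.assoc, Iso.inv_hom_id_assoc]
  rw [hp, conj_comp]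

theorem conjBy_map {G G' H : Over (Spec (CommRingCat.of k))} [GrpObj G] [GrpObj G'] (q : G ⟶ G') [IsMonHom q]
    (g : 𝟙_ (Over (Spec (CommRingCat.of k))) ⟶ G) (i : H ⟶ G) :
    AGF.conjBy g i ≫ q = AGF.conjBy (g ≫ q) (i ≫ q) := by
  show ((toUnit H ≫ g) * i * (toUnit H ≫ g)⁻¹) ≫ q = _
  rw [MonObj.mul_comp, MonObj.mul_comp, GrpObj.inv_comp, Category.assoc]

theorem isDomain_of_iso {G : Over (Spec (CommRingCat.of k))} [GrpObj G] [IsAffine G.left] [Smooth G.hom]
    [ConnectedSpace G.left] (e : G ≅ GA k A) : IsDomain A := by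
  haveI := GrpIrred.isIntegral G
  haveI : IsIso e.inv.left := ((Over.forget _).mapIso e).isIso_inv
  haveI : AlgebraicGeometry.IsIntegral (GA k A).left := by
    haveI : Nonempty (GA k A).left := ⟨e.hom.left (Classical.arbitrary G.left)⟩
    exact isIntegral_of_isOpenImmersion e.inv.left
  haveI : AlgebraicGeometry.IsIntegral (Spec (CommRingCat.of A)) := this
  exact ((affine_isIntegral_iff (CommRingCat.of A)).mp inferInstance)

theorem finiteType_of_iso {A' : Type u} [CommRing A'] [HopfAlgebra k A'] {G : Over (Spec (CommRingCat.of k))}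
    [LocallyOfFiniteType G.hom] (e : G ≅ GA k A') : Algebra.FiniteType k A' := by
  haveI : IsIso e.inv.left := ((Over.forget _).mapIso e).isIso_inv
  exact Hopf.finiteType_of_locallyOfFiniteType (by rw [← Over.w e.inv]; infer_instance)

/-- Borel subgroups of a connected smooth affine group over an algebraically closed field are conjugate. -/
theorem borel_conj {G : Over (Spec (CommRingCat.of k))} [GrpObj G] [IsAffine G.left] [Smooth G.hom]
    [ConnectedSpace G.left] {B B' : Over (Spec (CommRingCat.of k))} [GrpObj B] [GrpObj B'] (iB : B ⟶ G)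
    (iB' : B' ⟶ G) (hB : Red.IsBorelOver k iB) (hB' : Red.IsBorelOver k iB') :
    ∃ (g : 𝟙_ (Over (Spec (CommRingCat.of k))) ⟶ G) (f : B ≅ B'), f.hom ≫ iB' = AGF.conjBy g iB := by
  obtain ⟨A₁, _, _, e, he⟩ := Hopf.exists_iso G
  haveI := he
  haveI : Algebra.FiniteType k A₁ := finiteType_of_iso e
  haveI := isDomain_of_iso e
  obtain ⟨γ, f, hf⟩ := borel_conj_GA _ _ (isBorelOver_comp hB e) (isBorelOver_comp hB' e)
  refine ⟨γ ≫ e.inv, f, ?_⟩
  rw [← cancel_mono e.hom, conjBy_map, Category.assoc, hf, Category.assoc, e.inv_hom_id, Category.comp_id]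

end Groth.Agent.H1.Classical.Scheme'
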