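import Groth.Agent.H1.Classical.Apply
import Groth.Agent.H1.GrpIrred
import Groth.Agent.H52.FBase.GeomRedSch
import Groth.Agent.Lib.GrpSch.BaseChange
import Groth.Agent.Lib.GrpSch.SmoothReduced

/-!
# Images of Borel subgroups over a field
-/

universe u

open CategoryTheory MonoidalCategory CartesianMonoidalCategory MonObj GrpObj AlgebraicGeometry

namespace Groth.Agent.H1.Classical.Scheme'

set_option linter.style.haveILetI false
set_option linter.unusedSectionVars false

open Groth.Agent.Lib.RedPts.Points WithConv TensorProduct Groth.Agent.Lib.GrpSch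

attribute [local instance] baseAlgebra

section Closed

variable {K : Type u} [Field K] [IsAlgClosed K]

theorem isMonHom_of_comp_mono {G H C : Over (Spec (CommRingCat.of K))} [GrpObj G] [GrpObj H] [GrpObj C] (u : H ⟶ C)
    (c : C ⟶ G) [IsMonHom c] [Mono c] [IsMonHom (u ≫ c)] : IsMonHom u where
  one_hom := by
    rw [← cancel_mono c, Category.assoc, IsMonHom.one_hom (f := u ≫ c), IsMonHom.one_hom (f := c)]
  mul_hom := by
    rw [← cancel_mono c, Category.assoc, Category.assoc, IsMonHom.mul_hom (f := c),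
      IsMonHom.mul_hom (f := u ≫ c), MonoidalCategory.tensorHom_comp_tensorHom_assoc]

theorem isBorelOver_iso_comp {G C B' : Over (Spec (CommRingCat.of K))} [GrpObj G] [GrpObj C] [GrpObj B']
    (u : B' ≅ C) [IsMonHom u.hom] (c : C ⟶ G) (hc : Red.IsBorelOver K c) : Red.IsBorelOver K (u.hom ≫ c) := by
  obtain ⟨h1, h2, h3, h4, h5, h6⟩ := hc
  haveI : IsIso u.hom.left := ((Over.forget _).mapIso u).isIso_hom
  haveI : IsIso u.inv.left := ((Over.forget _).mapIso u).isIso_inv
  refine ⟨inferInstance, by rw [Over.comp_left]; infer_instance, by rw [← Over.w u.hom]; infer_instance,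
    u.inv.left.homeomorph.surjective.connectedSpace u.inv.left.continuous, isSolvableGrp_of_mono u.hom h5, ?_⟩
  intro B'' _ i'' _ f hci hs hconn hsol hf
  haveI := h6 B'' i'' (u.inv ≫ f) hci hs hconn hsol (by rw [Category.assoc, hf, Iso.inv_hom_id_assoc])
  rw [show f = u.hom ≫ u.inv ≫ f by rw [Iso.hom_inv_id_assoc]]
  infer_instance

variable {A : Type u} [CommRing A] [HopfAlgebra K A] [Algebra.FiniteType K A] [IsDomain A]
variable {A' : Type u} [CommRing A'] [HopfAlgebra K A'] [Algebra.FiniteType K A'] [IsDomain A']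

theorem isBorelOver_image_GA (q : GA K A ⟶ GA K A') [IsMonHom q] [Surjective q.left]
    {B B' : Over (Spec (CommRingCat.of K))} [GrpObj B] [GrpObj B'] (iB : B ⟶ GA K A) (hB : Red.IsBorelOver K iB)
    (iB' : B' ⟶ GA K A') [IsMonHom iB'] [IsClosedImmersion iB'.left] [IsReduced B'.left]
    (p : B ⟶ B') [Surjective p.left] (hp : p ≫ iB' = iB ≫ q) : Red.IsBorelOver K iB' := by
  haveI := hB.1
  haveI := hB.2.1
  haveI := hB.2.2.2.1
  haveI := locallyOfFiniteType_GA (k := K) (A := A)
  haveI := locallyOfFiniteType_GA (k := K) (A := A')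
  haveI : IsAffine B'.left := isAffine_of_isAffineHom iB'.left
  haveI : LocallyOfFiniteType B'.hom := by rw [← Over.w iB']; infer_instance
  haveI : LocallyOfFiniteType B.hom := by rw [← Over.w iB]; infer_instance
  haveI : GrpObj (Over.mk B'.hom) := inferInstanceAs (GrpObj B')
  haveI : Smooth B'.hom := Smooth.smooth_of_isReduced B'.hom
  haveI : ConnectedSpace B'.left := p.left.surjective.connectedSpace p.left.continuous
  obtain ⟨r, hr, hrreg⟩ := exists_ptMap q
  have hsurj : Function.Surjective r := fun χ' => by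
    obtain ⟨x, hx⟩ := exists_lift_point q (ptHom _ χ')
    obtain ⟨χ, rfl⟩ := ptHom_surjective x
    exact ⟨χ, ptHom_injective ((hr χ).symm.trans hx)⟩
  obtain ⟨m, -⟩ := isMax_ptsOf iB hB
  obtain ⟨V, _, ρ, hρ, hf⟩ := HopfPts.exists_faithful (k := K) (A := A)
  have hm := Image.isMax_map r hrreg pts_ext ρ hρ hf hasMul_pts hasMul_pts hsurj HopfPts.sirr_univ exists_isMax m
  obtain ⟨C, _, c, hc, hfac, hpt⟩ := exists_borel_of_isMax hm
  obtain ⟨hc1, hc2, hc3, hc4, -, -⟩ := id hc
  haveI := hc1
  haveI := hc2
  haveI := hc3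
  haveI : IsAffine C.left := isAffine_of_isAffineHom c.left
  haveI : IsReduced C.left := isReduced_of_smooth_field C.hom
  haveI : Mono c := (Over.forget _).mono_of_mono_map (inferInstanceAs (Mono c.left))
  obtain ⟨v, hv⟩ := hfac B' iB' (algHomOf_eq_zero iB' fun x => by
    obtain ⟨z, rfl⟩ := exists_lift_point p x
    obtain ⟨s, hs⟩ := ptHom_surjective (z ≫ iB)
    exact ⟨r s, ⟨s, ⟨z, hs.symm⟩, rfl⟩, by rw [Category.assoc, hp, ← Category.assoc, ← hs, hr]⟩)
  haveI : IsClosedImmersion (v.left ≫ c.left) := by rw [← Over.comp_left, hv]; infer_instance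
  haveI : IsClosedImmersion v.left := IsClosedImmersion.of_comp v.left c.left
  haveI : Surjective v.left := surjective_of_points v fun y => by
    obtain ⟨_, ⟨s, ⟨x, hx⟩, rfl⟩, hy⟩ := hpt y
    have hx' : x ≫ iB = ptHom (𝟙_ _) s := hx
    refine ⟨x ≫ p, ?_⟩
    rw [← cancel_mono c, hy, Category.assoc, hv, Category.assoc, hp, ← Category.assoc, hx', hr]
  haveI : IsIso v.left := isIso_of_isClosedImmersion_of_surjective v.left
  haveI : IsIso ((Over.forget (Spec (CommRingCat.of K))).map v) := ‹IsIso v.left›
  haveI : IsIso v := isIso_of_reflects_iso v (Over.forget _)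
  haveI : IsMonHom (v ≫ c) := hv.symm ▸ (inferInstance : IsMonHom iB')
  haveI : IsMonHom (asIso v).hom := isMonHom_of_comp_mono v c
  have h := isBorelOver_iso_comp (asIso v) c hc
  rwa [asIso_hom, hv] at h

omit [CommRing A] in
/-- The image of a Borel subgroup is a Borel subgroup. -/
theorem isBorelOver_image {G Q : Over (Spec (CommRingCat.of K))} [GrpObj G] [GrpObj Q] [IsAffine G.left]
    [IsAffine Q.left] [Smooth G.hom] [Smooth Q.hom] [ConnectedSpace G.left] [ConnectedSpace Q.left] (q : G ⟶ Q)
    [IsMonHom q] [Surjective q.left] {B B' : Over (Spec (CommRingCat.of K))} [GrpObj B] [GrpObj B'] (iB : B ⟶ G)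
    (hB : Red.IsBorelOver K iB) (iB' : B' ⟶ Q) [IsMonHom iB'] [IsClosedImmersion iB'.left] [IsReduced B'.left]
    (p : B ⟶ B') [Surjective p.left] (hp : p ≫ iB' = iB ≫ q) : Red.IsBorelOver K iB' := by
  obtain ⟨A₁, _, _, e, he⟩ := Hopf.exists_iso G
  obtain ⟨A₂, _, _, e', he'⟩ := Hopf.exists_iso Q
  haveI := he
  haveI := he'
  haveI : Algebra.FiniteType K A₁ := finiteType_of_iso e
  haveI : Algebra.FiniteType K A₂ := finiteType_of_iso e'
  haveI := isDomain_of_iso e
  haveI := isDomain_of_iso e'
  haveI : IsIso e.inv.left := ((Over.forget _).mapIso e).isIso_inv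
  haveI : IsIso e'.hom.left := ((Over.forget _).mapIso e').isIso_hom
  haveI : Surjective (e.inv ≫ q ≫ e'.hom).left := by
    rw [Over.comp_left, Over.comp_left]; infer_instance
  haveI : IsClosedImmersion (iB' ≫ e'.hom).left := by rw [Over.comp_left]; infer_instance
  have h := isBorelOver_image_GA (e.inv ≫ q ≫ e'.hom) (iB ≫ e.hom) (isBorelOver_comp hB e) (iB' ≫ e'.hom) p
    (by rw [reassoc_of% hp]; simp)
  haveI : IsMonHom e'.symm.hom := inferInstanceAs (IsMonHom e'.inv)
  have h2 := isBorelOver_comp h e'.symm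
  rwa [Category.assoc, show e'.hom ≫ e'.symm.hom = 𝟙 Q from e'.hom_inv_id, Category.comp_id] at h2

end Closed

section Field

variable {k : Type u} [Field k]

theorem geometricallyReduced_of_surjective {B B' : Over (Spec (CommRingCat.of k))} [GrpObj B] [GrpObj B']
    [IsAffine B.left] [IsAffine B'.left] [Smooth B.hom] [IsReduced B'.left] (p : B ⟶ B') [Surjective p.left] :
    GeometricallyReduced B'.hom := by
  obtain ⟨A, _, _, e, -⟩ := Hopf.exists_iso B
  obtain ⟨A', _, _, e', -⟩ := Hopf.exists_iso B'
  haveI : IsIso e.inv.left := ((Over.forget _).mapIso e).isIso_inv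
  haveI : IsIso e'.hom.left := ((Over.forget _).mapIso e').isIso_hom
  haveI : IsIso e'.inv.left := ((Over.forget _).mapIso e').isIso_inv
  haveI hp' : Surjective (e.inv ≫ p ≫ e'.hom).left := by
    rw [Over.comp_left, Over.comp_left]; infer_instance
  haveI : Smooth (GA k A).hom := by rw [← Over.w e.inv]; infer_instance
  have hAred : IsReduced (Spec (CommRingCat.of A')) := by
    haveI : IsReduced (GA k A').left := isReduced_of_isOpenImmersion e'.inv.left
    exact this
  haveI : _root_.IsReduced A' := (affine_isReduced_iff (CommRingCat.of A')).mp hAred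
  obtain ⟨φ, hφ⟩ : ∃ φ : CommRingCat.of A' ⟶ CommRingCat.of A, Spec.map φ = (e.inv ≫ p ≫ e'.hom).left :=
    ⟨Spec.preimage _, Spec.map_preimage _⟩
  have hw : Spec.map φ ≫ Spec.map (CommRingCat.ofHom (algebraMap k A')) =
      Spec.map (CommRingCat.ofHom (algebraMap k A)) := by
    rw [hφ]
    exact Over.w (e.inv ≫ p ≫ e'.hom)
  rw [← Spec.map_comp] at hw
  let f : A' →ₐ[k] A :=
    { φ.hom with commutes' := fun c => RingHom.congr_fun (congrArg CommRingCat.Hom.hom (Spec.map_injective hw)) c }
  have hf : Function.Injective f := by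
    rw [injective_iff_map_eq_zero]
    intro a ha
    refine IsReduced.eq_zero a (nilpotent_iff_mem_prime.mpr fun P hP => ?_)
    haveI : Surjective (Spec.map φ) := by rw [hφ]; exact hp'
    obtain ⟨x, hx⟩ := (Spec.map φ).surjective ⟨P, hP⟩
    have : a ∈ Ideal.comap φ.hom x.asIdeal := by
      rw [Ideal.mem_comap, show φ.hom a = 0 from ha]
      exact zero_mem _
    exact (congrArg PrimeSpectrum.asIdeal hx).le this
  haveI : Algebra.IsGeometricallyReduced k A := by
    rw [Algebra.isGeometricallyReduced_field_iff]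
    haveI := geometricallyReduced_of_smooth_field (GA k A).hom
    have h1 : IsReduced (Limits.pullback (GA k A).hom
        (Spec.map (CommRingCat.ofHom (algebraMap k (AlgebraicClosure k))))) :=
      GeometricallyReduced.geometrically_isReduced _ _ _ (.of_hasPullback _ _)
    have h2 : IsReduced (Spec (CommRingCat.of (A ⊗[k] AlgebraicClosure k))) :=
      @isReduced_of_isOpenImmersion _ _ (pullbackSpecIso k A (AlgebraicClosure k)).inv _ h1
    have : _root_.IsReduced (A ⊗[k] AlgebraicClosure k) := (affine_isReduced_iff _).mp h2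
    exact isReduced_of_injective (Algebra.TensorProduct.comm k _ _) (AlgEquiv.injective _)
  haveI := Algebra.IsGeometricallyReduced.of_injective f hf
  haveI : GeometricallyReduced (GA k A').hom := Groth.Agent.H52.FBase.GeomRedSch.geometricallyReduced_specMap k A'
  rw [← Over.w e'.hom]
  refine ⟨fun L _ y P fst snd h => ?_⟩
  exact GeometricallyReduced.geometrically_isReduced (f := (GA k A').hom) y (fst ≫ e'.hom.left) snd
    (by
      have hsq : IsPullback e'.hom.left (e'.hom.left ≫ (GA k A').hom) (GA k A').hom (𝟙 _) :=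
        IsPullback.of_horiz_isIso ⟨by rw [Category.comp_id]⟩
      have := h.paste_horiz hsq
      rwa [Category.comp_id] at this)

variable (K : Type u) [Field K] [IsAlgClosed K] [Algebra k K]

theorem smooth_bc {B' : Over (Spec (CommRingCat.of k))} [GrpObj B'] [LocallyOfFiniteType B'.hom]
    [GeometricallyReduced B'.hom] : Smooth (Red.bc (extBase k K) B').hom := by
  haveI : IsReduced (Red.bc (extBase k K) B').left :=
    GeometricallyReduced.geometrically_isReduced _ _ _ (.of_hasPullback B'.hom (extBase k K))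
  haveI : LocallyOfFiniteType (Red.bc (extBase k K) B').hom := bc_hom_of (P := @LocallyOfFiniteType) _ _ ‹_›
  letI : GrpObj (Over.mk (Red.bc (extBase k K) B').hom) := (inferInstance : GrpObj (Red.bc (extBase k K) B'))
  exact Smooth.smooth_of_isReduced _

variable [Algebra.IsAlgebraic k K]

theorem isBorelOver_image_bc {G Q : Over (Spec (CommRingCat.of k))} [GrpObj G] [GrpObj Q] [IsAffine G.left]
    [IsAffine Q.left] [Smooth G.hom] [Smooth Q.hom] [ConnectedSpace G.left] [ConnectedSpace Q.left] (q : G ⟶ Q)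
    [IsMonHom q] [Surjective q.left] {B B' : Over (Spec (CommRingCat.of k))} [GrpObj B] [GrpObj B'] (iB : B ⟶ G)
    (hB : Red.IsBorelOver K ((Over.pullback (extBase k K)).map iB)) (iB' : B' ⟶ Q) [IsMonHom iB']
    [IsClosedImmersion iB'.left] [GeometricallyReduced B'.hom] (p : B ⟶ B') [Surjective p.left]
    (hp : p ≫ iB' = iB ≫ q) : Red.IsBorelOver K ((Over.pullback (extBase k K)).map iB') := by
  let σ := extBase k K
  haveI : IsReduced (Red.bc σ B').left :=
    GeometricallyReduced.geometrically_isReduced _ _ _ (.of_hasPullback B'.hom (extBase k K))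
  haveI : IsAffineHom (Red.bc σ G).hom := bc_hom_of (P := @IsAffineHom) σ G inferInstance
  haveI : IsAffineHom (Red.bc σ Q).hom := bc_hom_of (P := @IsAffineHom) σ Q inferInstance
  haveI : IsAffine (Red.bc σ G).left := isAffine_of_isAffineHom (Red.bc σ G).hom
  haveI : IsAffine (Red.bc σ Q).left := isAffine_of_isAffineHom (Red.bc σ Q).hom
  haveI : Smooth (Red.bc σ G).hom := bc_hom_of (P := @Smooth) σ G inferInstance
  haveI : Smooth (Red.bc σ Q).hom := bc_hom_of (P := @Smooth) σ Q inferInstance
  haveI := GrpIrred.connectedSpace_bc G K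
  haveI := GrpIrred.connectedSpace_bc Q K
  haveI : Surjective ((Over.pullback σ).map q).left := bc_map_left_of (P := @Surjective) σ q inferInstance
  haveI : Surjective ((Over.pullback σ).map p).left := bc_map_left_of (P := @Surjective) σ p inferInstance
  haveI : IsClosedImmersion ((Over.pullback σ).map iB').left :=
    bc_map_left_of (P := @IsClosedImmersion) σ iB' inferInstance
  exact isBorelOver_image ((Over.pullback σ).map q) _ hB _ ((Over.pullback σ).map p)
    (by rw [← Functor.map_comp, ← Functor.map_comp, hp])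

end Field

theorem isBorelOver_image_bc' {k K : Type u} [Field k] [Field K] [IsAlgClosed K] [Algebra k K] [Algebra.IsAlgebraic k K]
    {G Q : Over (Spec (CommRingCat.of k))} [GrpObj G] [GrpObj Q] [IsAffine G.left]
    [IsAffine Q.left] [Smooth G.hom] [Smooth Q.hom] [ConnectedSpace G.left] [ConnectedSpace Q.left] (q : G ⟶ Q)
    [IsMonHom q] [Surjective q.left] {B B' : Over (Spec (CommRingCat.of k))} [GrpObj B] [GrpObj B'] (iB : B ⟶ G)
    (iB' : B' ⟶ Q) [IsMonHom iB'] [IsClosedImmersion iB'.left] [GeometricallyReduced B'.hom] (p : B ⟶ B')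
    [Surjective p.left] (hp : p ≫ iB' = iB ≫ q) (σ : Spec (CommRingCat.of K) ⟶ Spec (CommRingCat.of k))
    (hσ : σ = extBase k K) (hB : Red.IsBorelOver K ((Over.pullback σ).map iB)) :
    Red.IsBorelOver K ((Over.pullback σ).map iB') := by
  subst hσ
  exact isBorelOver_image_bc K q iB hB iB' p hp

/-- Borel subgroups map onto Borel subgroups. -/
theorem isBorel_image {k : Type u} [Field k] {G Q : Over (Spec (CommRingCat.of k))} [GrpObj G] [GrpObj Q]
    [IsAffine G.left] [IsAffine Q.left] [Smooth G.hom] [Smooth Q.hom] [ConnectedSpace G.left] [ConnectedSpace Q.left]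
    (q : G ⟶ Q) [IsMonHom q] [Surjective q.left] {B B' : Over (Spec (CommRingCat.of k))} [GrpObj B] [GrpObj B']
    (iB : B ⟶ G) (hB : Red.IsBorel iB) (iB' : B' ⟶ Q) [IsMonHom iB'] [IsClosedImmersion iB'.left]
    [IsReduced B'.left] (p : B ⟶ B') [Surjective p.left] (hp : p ≫ iB' = iB ≫ q) : Red.IsBorel iB' := by
  obtain ⟨h1, h2, h3, h4⟩ := hB
  haveI := h2
  haveI := h3
  haveI : IsAffine B.left := isAffine_of_isAffineHom iB.left
  haveI : IsAffine B'.left := isAffine_of_isAffineHom iB'.left
  haveI := geometricallyReduced_of_surjective p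
  haveI : LocallyOfFiniteType B'.hom := by rw [← Over.w iB']; infer_instance
  refine ⟨inferInstance, inferInstance, ?_, fun s => ?_⟩
  · haveI : MorphismProperty.RespectsIso @Smooth := MorphismProperty.IsStableUnderBaseChange.respectsIso
    exact of_bc_hom k (AlgebraicClosure k) (P := @Smooth) B' (smooth_bc (AlgebraicClosure k))
  · obtain ⟨ψ, hψ⟩ : ∃ ψ : CommRingCat.of k ⟶ (Spec (CommRingCat.of k)).residueField s,
        Spec.map ψ = (Spec (CommRingCat.of k)).fromSpecResidueField s :=
      ⟨Spec.preimage _, Spec.map_preimage _⟩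
    haveI : Unique ↥(Spec (CommRingCat.of k)) := inferInstanceAs (Unique (PrimeSpectrum k))
    haveI : IsClosedImmersion ((Spec (CommRingCat.of k)).fromSpecResidueField s) :=
      isClosed_singleton_iff_isClosedImmersion.mp (Set.Subsingleton.isClosed (Set.subsingleton_singleton))
    haveI : IsClosedImmersion (Spec.map ψ) := hψ ▸ inferInstance
    have hsurj : Function.Surjective ψ.hom := fun x => by
      obtain ⟨-, h⟩ := IsClosedImmersion.isAffine_surjective_of_isAffine (Spec.map ψ)
      obtain ⟨y, hy⟩ := h ((Scheme.ΓSpecIso _).inv x)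
      refine ⟨(Scheme.ΓSpecIso _).hom y, ?_⟩
      have := congrArg (fun φ => φ.hom y) (Scheme.ΓSpecIso_naturality ψ)
      simp only [CommRingCat.hom_comp, RingHom.comp_apply] at this
      rw [hy] at this
      rw [← this]
      exact RingHom.congr_fun (congrArg CommRingCat.Hom.hom (Scheme.ΓSpecIso _).inv_hom_id) x
    let L := (Spec (CommRingCat.of k)).residueField s
    letI : Algebra k (AlgebraicClosure L) := ((algebraMap L (AlgebraicClosure L)).comp ψ.hom).toAlgebra
    haveI : Algebra.IsAlgebraic k (AlgebraicClosure L) := by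
      refine ⟨fun x => ?_⟩
      obtain ⟨P, hP0, hP⟩ := Algebra.IsAlgebraic.isAlgebraic (R := L) x
      obtain ⟨P', rfl⟩ := Polynomial.map_surjective ψ.hom hsurj P
      refine ⟨P', fun h => hP0 (by rw [h, Polynomial.map_zero]), ?_⟩
      rw [Polynomial.aeval_def, Polynomial.eval₂_map] at hP
      exact hP
    have hσ : Red.geomPt s = extBase k (AlgebraicClosure L) := by
      show Spec.map (CommRingCat.ofHom (algebraMap L (AlgebraicClosure L))) ≫ _ = _
      rw [← hψ, ← Spec.map_comp]
      rfl
    exact isBorelOver_image_bc' q iB iB' p hp (Red.geomPt s) hσ (h4 s)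

end Groth.Agent.H1.Classical.Scheme'
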