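import Groth.Agent.H1.Classical.NilpotentScheme
import Groth.Agent.H1.Classical.ImageField

/-!
# Borel subgroups of centralisers of tori
-/

universe u

open CategoryTheory MonoidalCategory CartesianMonoidalCategory MonObj GrpObj AlgebraicGeometry Limits

namespace Groth.Agent.H1.Classical.CentralizerBorel

set_option linter.style.haveILetI false
set_option linter.unusedSectionVars false

open Groth.Agent.Lib.RedPts Groth.Agent.Lib.RedPts.Points Scheme' WithConv Torus Torus.Centraliser Complete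
  MaxTorusScheme MaxTorusApply CentralizerScheme Groth.Agent.Lib.GrpSch FieldDescent ConjIso

attribute [local instance] baseAlgebra

section General

variable {S : Scheme.{u}} {G B C D T : Over S} [GrpObj G] [GrpObj B] [GrpObj C] [GrpObj D] [GrpObj T]
  {iT : T ⟶ G} {iB : B ⟶ G} {c : C ⟶ G}

theorem isMonHom_of_mono_comp {X Y Z : Over S} [GrpObj X] [GrpObj Y] [GrpObj Z] (u : X ⟶ Y) (v : Y ⟶ Z) [IsMonHom v]
    [Mono v] [IsMonHom (u ≫ v)] : IsMonHom u :=
  ConjIso.isMonHom_of_mul u fun p q => by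
    rw [← cancel_mono v, Category.assoc, MonObj.mul_comp (p ≫ u), Category.assoc, Category.assoc]
    exact MonObj.mul_comp p q (u ≫ v)

theorem isMonHom_snd_of_isPullback {dC : D ⟶ C} [IsMonHom dC] {dB : D ⟶ B} [IsMonHom iB] [Mono iB] [IsMonHom c]
    (hD : IsPullback dC dB c iB) : IsMonHom dB := by
  haveI : IsMonHom (dB ≫ iB) := hD.w ▸ inferInstance
  exact isMonHom_of_mono_comp dB iB

/-- The pullback of the centraliser is the centraliser in the subgroup. -/
theorem isCentralizerOf_of_isPullback (hc : Red.IsCentralizerOf iT c) [IsMonHom iB] [Mono iB] {t : T ⟶ B}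
    (ht : t ≫ iB = iT) {dC : D ⟶ C} [IsMonHom dC] {dB : D ⟶ B} (hD : IsPullback dC dB c iB) :
    Red.IsCentralizerOf t dB := by
  haveI := hc.1
  haveI := hc.2.1
  refine ⟨isMonHom_snd_of_isPullback hD, ⟨fun a b hab => hD.hom_ext ?_ hab⟩, fun X g => ⟨?_, fun H => ?_⟩⟩
  · rw [← cancel_mono c, Category.assoc, Category.assoc, hD.w, ← Category.assoc, hab, Category.assoc]
  · rintro ⟨z, rfl⟩ X' x h
    rw [← cancel_mono iB]
    simp only [MonObj.mul_comp, Category.assoc, ht, ← hD.w]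
    exact (hc.2.2 X (z ≫ dC ≫ c)).mp ⟨z ≫ dC, Category.assoc _ _ _⟩ X' x h
  · obtain ⟨z, hz⟩ := (hc.2.2 X (g ≫ iB)).mpr fun X' x h => by
      have := congrArg (· ≫ iB) (H X' x h)
      simpa only [MonObj.mul_comp, Category.assoc, ht] using this
    exact ⟨hD.lift z g hz, hD.lift_snd _ _ _⟩

/-- The centraliser in a subgroup is the intersection with the centraliser. -/
theorem exists_isPullback (hc : Red.IsCentralizerOf iT c) [IsMonHom iB] [Mono iB] {t : T ⟶ B}
    (ht : t ≫ iB = iT) {dB : D ⟶ B} (hdB : Red.IsCentralizerOf t dB) :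
    ∃ (dC : D ⟶ C) (_ : IsMonHom dC), IsPullback dC dB c iB := by
  haveI := hc.1
  haveI := hc.2.1
  haveI := hdB.1
  haveI := hdB.2.1
  obtain ⟨dC, hdC⟩ := (hc.2.2 D (dB ≫ iB)).mpr fun X' x h => by
    have := congrArg (· ≫ iB) ((hdB.2.2 D dB).mp ⟨𝟙 D, Category.id_comp _⟩ X' x h)
    simpa only [MonObj.mul_comp, Category.assoc, ht] using this
  haveI : IsMonHom (dC ≫ c) := hdC.symm ▸ inferInstance
  have hl : ∀ s : PullbackCone c iB, ∃ l : s.pt ⟶ D, l ≫ dC = s.fst ∧ l ≫ dB = s.snd := fun s => by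
    obtain ⟨l, hl⟩ := (hdB.2.2 s.pt s.snd).mpr fun X' x h => by
      have := (hc.2.2 s.pt (s.fst ≫ c)).mp ⟨s.fst, rfl⟩ X' x h
      rw [s.condition] at this
      rw [← cancel_mono iB]
      simpa only [MonObj.mul_comp, Category.assoc, ht] using this
    exact ⟨l, by rw [← cancel_mono c, Category.assoc, hdC, ← Category.assoc, hl, s.condition], hl⟩
  choose l hl1 hl2 using hl
  exact ⟨dC, isMonHom_of_mono_comp dC c, ⟨⟨hdC⟩, ⟨PullbackCone.IsLimit.mk hdC l hl1 hl2
    fun s m _ h2 => by rw [← cancel_mono dB, h2, hl2]⟩⟩⟩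

end General

variable {k : Type u} [Field k] [IsAlgClosed k]

/-- The intersection of a Borel subgroup with the centraliser of a torus in it is a Borel subgroup of the centraliser. -/
theorem isBorelOver_inter {G T B C D : Over (Spec (CommRingCat.of k))} [GrpObj G] [IsAffine G.left] [Smooth G.hom]
    [ConnectedSpace G.left] [GrpObj T] [GrpObj B] [GrpObj C] [GrpObj D] (iT : T ⟶ G) [IsMonHom iT] [Mono iT]
    (hT : Red.IsTorus T) {iB : B ⟶ G} (hB : Red.IsBorelOver k iB) (t : T ⟶ B) (ht : t ≫ iB = iT) {c : C ⟶ G}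
    (hc : Red.IsCentralizerOf iT c) (dC : D ⟶ C) [IsMonHom dC] (dB : D ⟶ B) (hD : IsPullback dC dB c iB) :
    Red.IsBorelOver k dC := by
  obtain ⟨hBm, hBc, hBs, hBconn, hBsolv, -⟩ := id hB
  haveI := hBm
  haveI := hBc
  haveI := hBs
  haveI := hBconn
  haveI : Mono iB := Over.mono_of_mono_left iB
  haveI : IsAffine B.left := isAffine_of_isAffineHom iB.left
  haveI : IsMonHom (t ≫ iB) := ht.symm ▸ inferInstance
  haveI : IsMonHom t := isMonHom_of_mono_comp t iB
  haveI : Mono t := mono_of_mono_fac ht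
  have hdB := isCentralizerOf_of_isPullback hc ht hD
  haveI := hdB.1
  haveI := hdB.2.1
  obtain ⟨-, haD, hsD, hcD⟩ := CentralizerScheme.props' t hT dB hdB
  obtain ⟨hcc, -, -, -⟩ := CentralizerScheme.props' iT hT c hc
  haveI := hcc
  haveI : IsClosedImmersion dC.left :=
    MorphismProperty.of_isPullback (P := @IsClosedImmersion) (hD.map (Over.forget _)).flip hBc
  refine ⟨inferInstance, inferInstance, hsD, hcD, isSolvableGrp_of_mono dB hBsolv,
    fun B' _ i' _ f hci hsm hconn hsolv hf => ?_⟩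
  haveI := hc.1
  haveI := hc.2.1
  obtain ⟨A, _, _, _, _, e, he⟩ := exists_GA G
  haveI := he
  haveI := locallyOfFiniteType (k := k) (A := A)
  haveI := hci
  haveI := hsm
  haveI := hconn
  haveI : IsAffine C.left := isAffine_of_isAffineHom c.left
  haveI : IsAffine B'.left := isAffine_of_isAffineHom i'.left
  haveI : IsIso e.hom.left := ((Over.forget _).mapIso e).isIso_hom
  haveI : IsClosedImmersion (i' ≫ c ≫ e.hom).left := by
    rw [Over.comp_left, Over.comp_left]; infer_instance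
  have hB' := isBorelOver_comp hB e
  haveI := hB'.2.1
  obtain ⟨hirr', hsol', -⟩ := ptsOf_props (i' ≫ c ≫ e.hom) hsolv
  obtain ⟨W, _, σ, hσ⟩ := Torus.GenRep.exists_gen (HopfPts.D k A) hasMul_pts pts_ext
  obtain ⟨-, -, -, -, hpts⟩ := props (iT ≫ e.hom) hT _ (CartanBorel.isCentralizerOf_comp hc e)
  obtain ⟨-, habs⟩ := centralizer_abs hasMul_pts hσ (isBor_ptsOf _ hB') (TorusPts.isTor_ptsOf (iT ≫ e.hom) hT)
    (MaxTorusBorel.ptsOf_le _ _ (f := t) (by rw [← Category.assoc, ht]))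
  have hle : ptsOf (i' ≫ c ≫ e.hom) ≤ ptsOf (c ≫ e.hom) := MaxTorusBorel.ptsOf_le _ _ (f := i') rfl
  obtain ⟨a, ha, hab⟩ := habs _ hsol' (isCl_ptsOf _) hirr' (hpts ▸ hle)
  rw [← hpts] at ha
  have hinter : ∀ χ ∈ ptsOf (iB ≫ e.hom), χ ∈ ptsOf (c ≫ e.hom) → χ ∈ ptsOf (i' ≫ c ≫ e.hom) := by
    rintro χ ⟨x, hx⟩ ⟨y, hy⟩
    change x ≫ iB ≫ e.hom = _ at hx
    change y ≫ c ≫ e.hom = _ at hy
    have hxy : y ≫ c = x ≫ iB := by rw [← cancel_mono e.hom, Category.assoc, Category.assoc, hx, hy]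
    refine ⟨hD.lift y x hxy ≫ f, ?_⟩
    show (hD.lift y x hxy ≫ f) ≫ i' ≫ c ≫ e.hom = _
    rw [Category.assoc, ← Category.assoc f, hf, hD.lift_fst_assoc, hy]
  have heq := (HopfPts.D k A).conj_image_eq (isCl_ptsOf (i' ≫ c ≫ e.hom)) a⁻¹ (by
    rintro _ ⟨s, hs, rfl⟩
    show a⁻¹ * s * a⁻¹⁻¹ ∈ ptsOf (i' ≫ c ≫ e.hom)
    rw [_root_.inv_inv]
    exact hinter _ (hab s hs) (Subgroup.mul_mem _ (Subgroup.mul_mem _ (Subgroup.inv_mem _ ha) (hle hs)) ha))
  have hsub : ptsOf (i' ≫ c ≫ e.hom) ≤ ptsOf (iB ≫ e.hom) := fun s hs => by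
    obtain ⟨s', hs', h⟩ := heq.symm.subset hs
    rw [← h]
    show a⁻¹ * s' * a⁻¹⁻¹ ∈ ptsOf (iB ≫ e.hom)
    rw [_root_.inv_inv]
    exact hab s' hs'
  obtain ⟨g, hg⟩ := exists_factor (iB ≫ e.hom) (i' ≫ c ≫ e.hom) fun x => by
    obtain ⟨s, hs⟩ := ptHom_surjective (x ≫ i' ≫ c ≫ e.hom)
    exact ⟨s, hsub ⟨x, hs.symm⟩, hs.symm⟩
  have hg' : i' ≫ c = g ≫ iB := by rw [← cancel_mono e.hom, Category.assoc, Category.assoc, hg]
  haveI : Mono dC := Over.mono_of_mono_left dC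
  haveI : Mono i' := Over.mono_of_mono_left i'
  refine ⟨hD.lift i' g hg', ?_, ?_⟩
  · rw [← cancel_mono dC, Category.assoc, hD.lift_fst, hf, Category.id_comp]
  · rw [← cancel_mono i', Category.assoc, hf, hD.lift_fst, Category.id_comp]

/-- Every Borel subgroup of the centraliser comes from one of the group. -/
theorem exists_borel_inter {G T C D : Over (Spec (CommRingCat.of k))} [GrpObj G] [IsAffine G.left] [Smooth G.hom]
    [ConnectedSpace G.left] [GrpObj T] [GrpObj C] [GrpObj D] (iT : T ⟶ G) [IsMonHom iT] [Mono iT]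
    (hT : Red.IsTorus T) {c : C ⟶ G} (hc : Red.IsCentralizerOf iT c) (dC : D ⟶ C) (hD : Red.IsBorelOver k dC) :
    ∃ (B : Over (Spec (CommRingCat.of k))) (_ : GrpObj B) (iB : B ⟶ G) (t : T ⟶ B) (dB : D ⟶ B),
      Red.IsBorelOver k iB ∧ t ≫ iB = iT ∧ IsPullback dC dB c iB := by
  obtain ⟨A, _, _, _, _, e, he⟩ := exists_GA G
  haveI := he
  haveI := locallyOfFiniteType (k := k) (A := A)
  haveI := hc.1
  haveI := hc.2.1
  obtain ⟨-, hsT, -, haT⟩ := TorusPts.torus_props (iT ≫ e.hom) hT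
  haveI := hsT
  haveI := haT
  obtain ⟨Q, hQ, hTQ⟩ := CartanOpen.exists_bor_containing (TorusPts.isTor_ptsOf (iT ≫ e.hom) hT)
  obtain ⟨B₀, _, b₀, hb₀, hfac, hpt⟩ := exists_borel_of_isMax
    (Image.isMax_of_absorbing hQ.cl hQ.irr hQ.solv hQ.abs)
  haveI : IsMonHom e.symm.hom := inferInstanceAs (IsMonHom e.inv)
  have hB₀ : Red.IsBorelOver k (b₀ ≫ e.inv) := isBorelOver_comp hb₀ e.symm
  haveI := hB₀.1
  haveI := hB₀.2.1
  haveI : Mono (b₀ ≫ e.inv) := Over.mono_of_mono_left _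
  obtain ⟨t₀, ht₀⟩ := hfac T (iT ≫ e.hom) (algHomOf_eq_zero (iT ≫ e.hom) fun x => by
    obtain ⟨s, hs⟩ := ptHom_surjective (x ≫ iT ≫ e.hom)
    exact ⟨s, hTQ ⟨x, hs.symm⟩, hs.symm⟩)
  have ht : t₀ ≫ b₀ ≫ e.inv = iT := by
    rw [← Category.assoc, ht₀, Category.assoc, Iso.hom_inv_id, Category.comp_id]
  haveI : IsMonHom (t₀ ≫ b₀ ≫ e.inv) := ht.symm ▸ inferInstance
  haveI : IsMonHom t₀ := isMonHom_of_mono_comp t₀ (b₀ ≫ e.inv)
  haveI := hB₀.2.2.1
  haveI : IsAffine B₀.left := isAffine_of_isAffineHom (b₀ ≫ e.inv).left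
  obtain ⟨D', _, dB', hdB', -, -⟩ :=
    Groth.Agent.Lib.MultSmooth.exists_centralizer_smooth (isMultTypeFT_of_isTorus hT) t₀
  obtain ⟨dC', _, hsq⟩ := exists_isPullback hc ht hdB'
  obtain ⟨-, hCa, hCs, hCc⟩ := CentralizerScheme.props' iT hT c hc
  haveI := hCa
  haveI := hCs
  haveI := hCc
  obtain ⟨g, f, hf⟩ := borel_conj dC' dC (isBorelOver_inter iT hT hB₀ t₀ ht hc dC' dB' hsq) hD
  let eG := conjIso (g ≫ c)
  have hconj : ∀ {H : Over (Spec (CommRingCat.of k))} (h : H ⟶ C), AGF.conjBy g h ≫ c = AGF.conjBy (g ≫ c) (h ≫ c) :=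
    fun h => conjBy_map c g h
  have hcent : iT ≫ eG.hom = iT := by
    rw [comp_conjIso, AGF.conjBy, mul_inv_eq_iff_eq_mul]
    have := (hc.2.2 _ (g ≫ c)).mp ⟨g, rfl⟩ T (toUnit T) (𝟙 T)
    rwa [Category.id_comp] at this
  refine ⟨B₀, inferInstance, (b₀ ≫ e.inv) ≫ eG.hom, t₀, f.inv ≫ dB', isBorelOver_comp hB₀ eG, ?_, ?_⟩
  · rw [← Category.assoc, ht, hcent]
  · refine IsPullback.of_iso hsq f (conjIso g) (Iso.refl _) eG ?_ ?_ ?_ ?_
    · rw [comp_conjIso, hf]
    · rw [Iso.refl_hom, Category.comp_id, Iso.hom_inv_id_assoc]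
    · rw [comp_conjIso]
      show AGF.conjBy (g ≫ c) c = (conjIso g).hom ≫ c
      rw [← Category.id_comp (conjIso g).hom, comp_conjIso, hconj, Category.id_comp]
    · rw [Iso.refl_hom, Category.id_comp]

/-- The field version. -/
theorem isBorel_inter {k : Type u} [Field k] {G T B C D : Over (Spec (CommRingCat.of k))} [GrpObj G] [IsAffine G.left]
    [Smooth G.hom] [ConnectedSpace G.left] [GrpObj T] [GrpObj B] [GrpObj C] [GrpObj D] (iT : T ⟶ G) [IsMonHom iT]
    [Mono iT] (hT : Red.IsTorus T) {iB : B ⟶ G} (hB : Red.IsBorel iB) (t : T ⟶ B) (ht : t ≫ iB = iT) {c : C ⟶ G}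
    (hc : Red.IsCentralizerOf iT c) (dC : D ⟶ C) [IsMonHom dC] (dB : D ⟶ B) (hD : IsPullback dC dB c iB) :
    Red.IsBorel dC := by
  obtain ⟨hBm, hBc, hBs, hBgeom⟩ := id hB
  haveI := hBc
  haveI : IsClosedImmersion dC.left :=
    MorphismProperty.of_isPullback (P := @IsClosedImmersion) (hD.map (Over.forget _)).flip hBc
  have key : ∀ (K : Type u) [Field K] [IsAlgClosed K] [Algebra k K] [Algebra.IsAlgebraic k K],
      Red.IsBorelOver K ((Over.pullback (extBase k K)).map iB) →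
        Red.IsBorelOver K ((Over.pullback (extBase k K)).map dC) := by
    intro K _ _ _ _ hK
    obtain ⟨h1, h2, h3⟩ := bc_props (K := K) G
    haveI := h1
    haveI := h2
    haveI := h3
    exact isBorelOver_inter ((Over.pullback (extBase k K)).map iT) (Groth.Agent.Lib.Tori.Basic.isTorus_bc hT _) hK
      ((Over.pullback (extBase k K)).map t) (by rw [← Functor.map_comp, ht]) (isCentralizerOf_bc (extBase k K) hc) _
      ((Over.pullback (extBase k K)).map dB) (hD.map (Over.pullback (extBase k K)))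
  refine ⟨inferInstance, inferInstance, ?_, fun s => ?_⟩
  · obtain ⟨K, _, _, _, _, -, hBK⟩ := exists_closure k
    haveI := (key K (hBK hB)).2.2.1
    exact smooth_of_bc (K := K) D
  · obtain ⟨alg, halg, hσ⟩ := exists_geomPt_eq s
    have h := hBgeom s
    have gen : ∀ σ : Spec (CommRingCat.of (AlgebraicClosure ((Spec (CommRingCat.of k)).residueField s))) ⟶
        Spec (CommRingCat.of k), σ = extBase k _ →
        Red.IsBorelOver _ ((Over.pullback σ).map iB) → Red.IsBorelOver _ ((Over.pullback σ).map dC) := by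
      rintro σ rfl h
      exact key _ h
    exact gen _ hσ h

end Groth.Agent.H1.Classical.CentralizerBorel
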