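import Groth.Agent.H1.Classical.ParabolicField
import Mathlib.RingTheory.Flat.Basic

/-!
# The centralizer of a Borel subgroup is the centre
-/

universe u

open CategoryTheory MonoidalCategory CartesianMonoidalCategory AlgebraicGeometry

namespace Groth.Agent.H1.Classical.Scheme'

set_option linter.style.haveILetI false
set_option linter.unusedSectionVars false

open Groth.Agent.Lib.RedPts.Points WithConv TensorProduct Groth.Agent.Lib.GrpSch MonObj

attribute [local instance] baseAlgebra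

section Closed

variable {k : Type u} [Field k] [IsAlgClosed k] {A : Type u} [CommRing A] [HopfAlgebra k A] [Algebra.FiniteType k A]
  [IsDomain A]

theorem appTop_eq_algHomOf {W : Over (Spec (CommRingCat.of k))} (x : W ⟶ GA k A) (c : Γ((GA k A).left, ⊤)) :
    x.left.appTop c = algHomOf x ((Scheme.ΓSpecIso (CommRingCat.of A)).commRingCatIsoToRingEquiv c) := by
  refine Eq.trans ?_ (ringHomOf_apply (A := A) x.left _).symm
  refine congrArg (fun z => (Scheme.Hom.appTop x.left) z) ?_
  exact (RingEquiv.symm_apply_apply (Scheme.ΓSpecIso (CommRingCat.of A)).commRingCatIsoToRingEquiv c).symm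

theorem comp_appTop_apply {X' Y' Z' : Scheme.{u}} (f : X' ⟶ Y') (g : Y' ⟶ Z') (b : Γ(Z', ⊤)) :
    (f ≫ g).appTop b = f.appTop (g.appTop b) := by rw [Scheme.Hom.comp_appTop]; rfl

theorem eq_const_GA {Y : Over (Spec (CommRingCat.of k))} [IsAffine Y.left] {B : Over (Spec (CommRingCat.of k))}
    [GrpObj B] (iB : B ⟶ GA k A) (hB : Red.IsBorelOver k iB) (f : GA k A ⟶ Y)
    (hf : ((GA k A ◁ iB) ≫ μ[GA k A]) ≫ f = fst _ _ ≫ f) : f = (1 : GA k A ⟶ GA k A) ≫ f := by
  haveI := hB.1
  haveI : Smooth (GA k A).hom := smooth_GA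
  refine Over.OverMorphism.ext (ext_of_isAffine (CommRingCat.hom_ext (RingHom.ext fun b => sub_eq_zero.mp
    (eq_zero_of_points (H := GA k A) _ fun x => ?_))))
  obtain ⟨χ, rfl⟩ := ptHom_surjective x
  obtain ⟨hS, -⟩ := isMax_ptsOf iB hB
  let a : A := (Scheme.ΓSpecIso (CommRingCat.of A)).commRingCatIsoToRingEquiv (f.left.appTop b)
  let F : (HopfPts.D k A).R := ⟨_, a, rfl⟩
  have hval : ∀ ξ : HopfPts.Pt k A, (ptHom (𝟙_ (Over (Spec (CommRingCat.of k)))) ξ ≫ f).left.appTop b =
      algebraMap k _ ((F : HopfPts.Pt k A → k) ξ) := by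
    intro ξ
    rw [Over.comp_left, comp_appTop_apply, appTop_eq_algHomOf]
    exact algHomOf_ptHom ξ a
  have hinv : ∀ g, ∀ s ∈ ptsOf iB, (F : HopfPts.Pt k A → k) (g * s) = (F : HopfPts.Pt k A → k) g := by
    rintro g s ⟨x, hx⟩
    refine baseHom_bijective.1 (((hval (g * s)).symm.trans ?_).trans (hval g))
    have h1 := congrArg (fun z => lift (ptHom (𝟙_ _) g) x ≫ z) hf
    simp only [lift_fst_assoc, Category.assoc, lift_whiskerLeft_assoc] at h1
    rw [map_mul, ← show x ≫ iB = ptHom (𝟙_ _) s from hx, Hom.mul_def, Category.assoc, h1]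
  have h2 := Invariant.const_of_complete (HopfPts.D k A) HopfPts.sirr_univ (complete_of_isMax hS) F hinv χ
  rw [map_sub, sub_eq_zero]
  rw [← comp_appTop_apply, ← comp_appTop_apply, ← Over.comp_left, ← Over.comp_left]
  rw [← Category.assoc, MonObj.comp_one, ← map_one (ptHom (A := A) (𝟙_ (Over (Spec (CommRingCat.of k))))),
    hval, hval, h2]

/-- An invariant function for a Borel subgroup is constant. -/
theorem eq_const {G Y B : Over (Spec (CommRingCat.of k))} [GrpObj G] [GrpObj B] [IsAffine G.left] [Smooth G.hom]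
    [ConnectedSpace G.left] [IsAffine Y.left] (iB : B ⟶ G) (hB : Red.IsBorelOver k iB) (f : G ⟶ Y)
    (hf : ((G ◁ iB) ≫ μ[G]) ≫ f = fst _ _ ≫ f) : f = (1 : G ⟶ G) ≫ f := by
  obtain ⟨A₁, _, _, e, he⟩ := Hopf.exists_iso G
  haveI := he
  haveI : Algebra.FiniteType k A₁ := finiteType_of_iso e
  haveI := isDomain_of_iso e
  have h := eq_const_GA (iB ≫ e.hom) (isBorelOver_comp hB e) (e.inv ≫ f) (by
    have hfst : (e.inv ▷ B) ≫ fst G B ≫ f = fst (GA k A₁) B ≫ e.inv ≫ f := whiskerRight_fst_assoc _ _ _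
    rw [← hfst, ← hf, ← cancel_epi (e.hom ▷ B)]
    simp only [← comp_whiskerRight_assoc, Iso.hom_inv_id, id_whiskerRight, Category.id_comp, Category.assoc,
      MonoidalCategory.whiskerLeft_comp]
    rw [← whisker_exchange_assoc e.hom iB, ← whisker_exchange_assoc e.hom e.hom, ← tensorHom_def'_assoc,
      ← IsMonHom.mul_hom_assoc e.hom, Iso.hom_inv_id_assoc])
  have h2 := congrArg (e.hom ≫ ·) h
  simpa [← Category.assoc, MonObj.one_comp] using h2

end Closed

section Field

variable {k : Type u} [Field k]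

theorem eq_const_of_isBorel {G Y B : Over (Spec (CommRingCat.of k))} [GrpObj G] [GrpObj B] [IsAffine G.left]
    [Smooth G.hom] [ConnectedSpace G.left] [IsAffine Y.left] (iB : B ⟶ G) (hB : Red.IsBorel iB) (f : G ⟶ Y)
    (hf : ((G ◁ iB) ≫ μ[G]) ≫ f = fst _ _ ≫ f) : f = (1 : G ⟶ G) ≫ f := by
  let s : Spec (CommRingCat.of k) := IsLocalRing.closedPoint k
  obtain ⟨alg, halg, hσ⟩ := exists_geomPt_eq s
  let K := AlgebraicClosure ((Spec (CommRingCat.of k)).residueField s)
  let σ := extBase k K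
  haveI : IsAffineHom (Red.bc σ G).hom := bc_hom_of (P := @IsAffineHom) σ G inferInstance
  haveI : IsAffine (Red.bc σ G).left := isAffine_of_isAffineHom (Red.bc σ G).hom
  haveI : IsAffineHom (Red.bc σ Y).hom := bc_hom_of (P := @IsAffineHom) σ Y inferInstance
  haveI : IsAffine (Red.bc σ Y).left := isAffine_of_isAffineHom (Red.bc σ Y).hom
  haveI : Smooth (Red.bc σ G).hom := bc_hom_of (P := @Smooth) σ G inferInstance
  haveI := GrpIrred.connectedSpace_bc G K
  have hBK : Red.IsBorelOver K ((Over.pullback σ).map iB) := by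
    have h4 := hB.2.2.2 s
    have : ∀ σ' : Spec (CommRingCat.of K) ⟶ Spec (CommRingCat.of k), σ' = σ →
        Red.IsBorelOver K ((Over.pullback σ').map iB) → Red.IsBorelOver K ((Over.pullback σ).map iB) := by
      rintro σ' rfl h; exact h
    exact this _ hσ h4
  have hK := eq_const _ hBK ((Over.pullback σ).map f) (by
    have h := congrArg (Over.pullback σ).map hf
    rw [← cancel_epi (Functor.Monoidal.μIso (Over.pullback σ) G B).inv]
    simp only [Functor.map_comp, Functor.Monoidal.μIso_inv, Category.assoc, Functor.obj.μ_def] at h ⊢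
    rw [Functor.OplaxMonoidal.δ_natural_right_assoc, Functor.Monoidal.δ_μ_assoc, h]
    rw [← Functor.Monoidal.μ_fst_assoc, Functor.Monoidal.δ_μ_assoc])
  rw [show (1 : Red.bc σ G ⟶ Red.bc σ G) = (Over.pullback σ).map (1 : G ⟶ G) from
    (Functor.map_one (F := Over.pullback σ)).symm, ← Functor.map_comp] at hK
  have h1 := congrArg (fun φ => φ ≫ bcProj σ Y) (congrArg CommaMorphism.left hK)
  have h2 : bcProj σ G ≫ f.left = bcProj σ G ≫ ((1 : G ⟶ G) ≫ f).left := by
    rw [← (isPullback_bc_map σ f).w, ← (isPullback_bc_map σ ((1 : G ⟶ G) ≫ f)).w]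
    exact h1
  obtain ⟨⟨hs, hfl⟩, -⟩ := bcProj_surjective_flat_qc k K G
  haveI := hs
  haveI := hfl
  haveI := Flat.epi_of_flat_of_surjective (bcProj σ G)
  exact Over.OverMorphism.ext ((cancel_epi (bcProj σ G)).mp h2)

variable {A AB : Type u} [CommRing A] [HopfAlgebra k A] [CommRing AB] [HopfAlgebra k AB]

/-- `Spec.map` over the base. -/
noncomputable def sp {S T : Type u} [CommRing S] [CommRing T] [Algebra k S] [Algebra k T] (φ : S →ₐ[k] T) :
    (Spec (CommRingCat.of T)).asOver (Spec (CommRingCat.of k)) ⟶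
      (Spec (CommRingCat.of S)).asOver (Spec (CommRingCat.of k)) :=
  (Spec.map (CommRingCat.ofHom φ.toRingHom)).asOver _

theorem sp_comp {S T U : Type u} [CommRing S] [CommRing T] [CommRing U] [Algebra k S] [Algebra k T] [Algebra k U]
    (φ : S →ₐ[k] T) (ψ : T →ₐ[k] U) : sp ψ ≫ sp φ = sp (ψ.comp φ) :=
  Over.OverMorphism.ext (Spec.map_comp (CommRingCat.ofHom φ.toRingHom) (CommRingCat.ofHom ψ.toRingHom)).symm

theorem sp_eq {S T : Type u} [CommRing S] [CommRing T] [Bialgebra k S] [Algebra k T] (φ : S →ₐ[k] T) :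
    sp φ = Spec.mapMulEquiv (toConv φ) := rfl

theorem pointOf_comp_sp {C : Type u} [CommRing C] [Algebra k C] {W : Over (Spec (CommRingCat.of k))}
    (X : A →ₐ[k] Γ(W.left, ⊤)) (φ : C →ₐ[k] A) : pointOf X ≫ sp φ = toSpec W ≫ sp (X.comp φ) := by
  show (toSpec W ≫ sp X) ≫ sp φ = _
  rw [Category.assoc, sp_comp]

theorem mul_sp (r : A →ₐ[k] AB) {W : Over (Spec (CommRingCat.of k))} (x : W ⟶ GA k A) (y : W ⟶ GA k AB) :
    x * (y ≫ sp r) = pointOf ((Algebra.TensorProduct.lift (algHomOf x) (algHomOf y) (fun _ _ => .all ..)).comp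
      (toConv (Algebra.TensorProduct.includeLeft : A →ₐ[k] A ⊗[k] AB) *
        toConv ((Algebra.TensorProduct.includeRight : AB →ₐ[k] A ⊗[k] AB).comp r)).ofConv) := by
  conv_lhs => rw [← pointOf_algHomOf x, ← pointOf_algHomOf y, pointOf_comp_sp]
  show pointOf (algHomOf x) * pointOf ((algHomOf y).comp r) = _
  rw [pointOf_mul]
  refine congrArg pointOf ?_
  rw [AlgHom.comp_convMul_distrib]
  simp [← AlgHom.comp_assoc]

theorem sp_injective {S T : Type u} [CommRing S] [CommRing T] [Algebra k S] [Algebra k T] {φ ψ : S →ₐ[k] T}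
    (h : sp φ = sp ψ) : φ = ψ :=
  AlgHom.coe_ringHom_injective (congrArg CommRingCat.Hom.hom (Spec.map_injective (congrArg CommaMorphism.left h)))

instance isAffine_asOver {C : Type u} [CommRing C] [Algebra k C] :
    IsAffine ((Spec (CommRingCat.of C)).asOver (Spec (CommRingCat.of k))).left :=
  inferInstanceAs (IsAffine (Spec (CommRingCat.of C)))

/-- The kernel of the coaction of a Borel subgroup consists of constants. -/
theorem eq_algebraMap_of_invariant (r : A →ₐ[k] AB)
    (hconst : ∀ f : GA k A ⟶ (Spec (CommRingCat.of (Polynomial k))).asOver (Spec (CommRingCat.of k)),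
      ((GA k A ◁ (sp r : GA k AB ⟶ GA k A)) ≫ μ[GA k A]) ≫ f = fst _ _ ≫ f → f = (1 : GA k A ⟶ GA k A) ≫ f)
    (a : A)
    (ha : (toConv (Algebra.TensorProduct.includeLeft : A →ₐ[k] A ⊗[k] AB) *
        toConv ((Algebra.TensorProduct.includeRight : AB →ₐ[k] A ⊗[k] AB).comp r)) a = a ⊗ₜ 1) :
    a = algebraMap k A (Coalgebra.counit a) := by
  let α : Polynomial k →ₐ[k] A := Polynomial.aeval a
  have hμ : (GA k A ◁ (sp r : GA k AB ⟶ GA k A)) ≫ μ[GA k A] = fst _ _ * (snd _ _ ≫ sp r) := by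
    rw [Hom.mul_def]
    refine congrArg (· ≫ μ[GA k A]) ?_
    apply CartesianMonoidalCategory.hom_ext <;> simp
  have h := hconst (sp α) (by
    rw [hμ, mul_sp]
    conv_rhs => rw [← pointOf_algHomOf (fst (GA k A) (GA k AB))]
    rw [pointOf_comp_sp, pointOf_comp_sp]
    refine congrArg (fun φ : Polynomial k →ₐ[k] _ => toSpec _ ≫ sp φ) (Polynomial.algHom_ext ?_)
    simp only [AlgHom.comp_apply, α, Polynomial.aeval_X, ha, Algebra.TensorProduct.lift_tmul, map_one,
      _root_.mul_one])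
  rw [show (1 : GA k A ⟶ GA k A) = sp (1 : WithConv (A →ₐ[k] A)).ofConv from (map_one Spec.mapMulEquiv).symm,
    sp_comp] at h
  have h2 := AlgHom.congr_fun (sp_injective h) Polynomial.X
  simp only [AlgHom.comp_apply, α, Polynomial.aeval_X] at h2
  exact h2

end Field

section Algebra

variable {k A AB R : Type u} [Field k] [CommRing A] [HopfAlgebra k A] [CommRing AB] [Algebra k AB] [CommRing R]
  [Algebra k R]

theorem conj_mul_eq {Γ : Type*} [Group Γ] (u b x : Γ) (h : b * x = x * b) : u * b * x * (u * b)⁻¹ = u * x * u⁻¹ := by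
  rw [_root_.mul_assoc u b x, h]; group

open Algebra.TensorProduct in
/-- A point commuting with a subgroup whose coaction has only constant invariants is central. -/
theorem alg_central (r : A →ₐ[k] AB)
    (hker : ∀ a : A, (toConv (includeLeft : A →ₐ[k] A ⊗[k] AB) *
        toConv ((includeRight : AB →ₐ[k] A ⊗[k] AB).comp r)) a = a ⊗ₜ 1 → a = algebraMap k A (Coalgebra.counit a))
    (g : WithConv (A →ₐ[k] R))
    (hg : ∀ (T : Type u) [CommRing T] [Algebra k T] (φ : R →ₐ[k] T) (β : AB →ₐ[k] T),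
      toConv (φ.comp g.ofConv) * toConv (β.comp r) = toConv (β.comp r) * toConv (φ.comp g.ofConv))
    (h : WithConv (A →ₐ[k] R)) : g * h = h * g := by
  let pc : ∀ {S T : Type u} [CommRing S] [CommRing T] [Algebra k S] [Algebra k T] (_ : S →ₐ[k] T),
      WithConv (A →ₐ[k] S) →* WithConv (A →ₐ[k] T) := fun φ =>
    MonoidHom.mk' (fun x => toConv (φ.comp x.ofConv))
      fun x y => ofConv_injective (AlgHom.comp_convMul_distrib φ x y)
  let i1 : R →ₐ[k] R ⊗[k] A := includeLeft
  let i2 : WithConv (A →ₐ[k] R ⊗[k] A) := toConv includeRight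
  let F : WithConv (A →ₐ[k] R ⊗[k] A) := i2 * pc i1 g * i2⁻¹
  let lam := toConv (includeLeft : A →ₐ[k] A ⊗[k] AB) * toConv ((includeRight : AB →ₐ[k] A ⊗[k] AB).comp r)
  let φ0 : R ⊗[k] A →ₐ[k] R ⊗[k] (A ⊗[k] AB) := Algebra.TensorProduct.map (AlgHom.id k R) includeLeft
  let φl : R ⊗[k] A →ₐ[k] R ⊗[k] (A ⊗[k] AB) := Algebra.TensorProduct.map (AlgHom.id k R) lam.ofConv
  let u := pc φ0 i2
  let β : AB →ₐ[k] R ⊗[k] (A ⊗[k] AB) := includeRight.comp includeRight
  have h1 : pc φ0 (pc i1 g) = pc φl (pc i1 g) :=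
    ofConv_injective (AlgHom.ext fun a => by simp [pc, φ0, φl, i1, lam]; rfl)
  have h2 : pc φl i2 = u * toConv (β.comp r) := by
    have hb : toConv (β.comp r) = pc includeRight (toConv ((includeRight : AB →ₐ[k] A ⊗[k] AB).comp r)) := rfl
    have hu : u = pc includeRight (toConv (includeLeft : A →ₐ[k] A ⊗[k] AB)) :=
      ofConv_injective (AlgHom.ext fun a => by simp [u, pc, φ0, i2])
    rw [hb, hu, ← map_mul]
    exact ofConv_injective (AlgHom.ext fun a => by simp [pc, φl, i2, lam])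
  have hF : pc φl F = pc φ0 F := by
    simp only [F, map_mul, map_inv, h2, ← h1]
    exact conj_mul_eq u (toConv (β.comp r)) (pc φ0 (pc i1 g)) (hg _ (φ0.comp i1) β).symm
  let L : A →ₗ[k] A ⊗[k] AB := lam.ofConv.toLinearMap - (includeLeft : A →ₐ[k] A ⊗[k] AB).toLinearMap
  have hL : Function.Exact (Algebra.linearMap k A) L := by
    intro a
    constructor
    · intro ha
      exact ⟨Coalgebra.counit a, (hker a (sub_eq_zero.mp ha)).symm⟩
    · rintro ⟨c, rfl⟩
      exact sub_eq_zero.mpr ((lam.ofConv.commutes c).trans ((includeLeft : A →ₐ[k] A ⊗[k] AB).commutes c).symm)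
  have hFg : F = pc i1 g := by
    refine ofConv_injective (AlgHom.ext fun a => ?_)
    have hsub : ∀ x : R ⊗[k] A, L.lTensor R x = φl x - φ0 x := fun x => by
      induction x using TensorProduct.induction_on with
      | zero => simp
      | tmul c a => simp [L, φl, φ0, TensorProduct.tmul_sub]
      | add x y hx hy => rw [map_add, map_add, map_add, hx, hy]; abel
    obtain ⟨x, hx⟩ := (Module.Flat.lTensor_exact R hL (F.ofConv a)).mp (by
      rw [hsub, sub_eq_zero]
      exact AlgHom.congr_fun (congrArg ofConv hF) a)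
    obtain ⟨c, rfl⟩ : ∃ c, x = c ⊗ₜ (1 : k) := ⟨TensorProduct.rid k R x, ((TensorProduct.rid k R).symm_apply_apply x).symm⟩
    have hc : F.ofConv a = c ⊗ₜ[k] (1 : A) := hx.symm.trans (by simp)
    let ψ : R ⊗[k] A →ₐ[k] R :=
      Algebra.TensorProduct.lift (AlgHom.id k R) (1 : WithConv (A →ₐ[k] R)).ofConv (fun _ _ => .all ..)
    have hψ1 : pc ψ (pc i1 g) = g := ofConv_injective (AlgHom.ext fun a => by simp [pc, ψ, i1])
    have hψ2 : pc ψ i2 = 1 := ofConv_injective (AlgHom.ext fun a => by simp [pc, ψ, i2])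
    have hψF : pc ψ F = g := by simp only [F, map_mul, map_inv, hψ1, hψ2, inv_one, _root_.mul_one, _root_.one_mul]
    have h3 : c = g.ofConv a := by
      rw [← hψF]
      show c = ψ (F.ofConv a)
      rw [hc]
      simp [ψ]
    rw [hc, h3]
    rfl
  let θ : R ⊗[k] A →ₐ[k] R := Algebra.TensorProduct.lift (AlgHom.id k R) h.ofConv (fun _ _ => .all ..)
  have hθ1 : pc θ (pc i1 g) = g := ofConv_injective (AlgHom.ext fun a => by simp [pc, θ, i1])
  have hθ2 : pc θ i2 = h := ofConv_injective (AlgHom.ext fun a => by simp [pc, θ, i2])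
  have h4 := congrArg (pc θ) hFg
  simp only [F, map_mul, map_inv, hθ1, hθ2] at h4
  exact (mul_inv_eq_iff_eq_mul.mp h4).symm

end Algebra

section Main

variable {k : Type u} [Field k] {G B : Over (Spec (CommRingCat.of k))} [GrpObj G] [GrpObj B] [IsAffine G.left]
  [Smooth G.hom] [ConnectedSpace G.left] {iB : B ⟶ G}

theorem commute_affine (hB : Red.IsBorel iB) {W : Over (Spec (CommRingCat.of k))} [IsAffine W.left] (g : W ⟶ G)
    (hg : ∀ (W' : Over (Spec (CommRingCat.of k))) (x : W' ⟶ W) (h : W' ⟶ B),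
      (x ≫ g) * (h ≫ iB) = (h ≫ iB) * (x ≫ g)) (h : W ⟶ G) : g * h = h * g := by
  haveI := hB.2.1
  haveI := hB.1
  haveI : IsAffine B.left := isAffine_of_isAffineHom iB.left
  obtain ⟨A, _, _, e, he⟩ := Hopf.exists_iso G
  obtain ⟨AB, _, _, eB, heB⟩ := Hopf.exists_iso B
  haveI := he
  haveI := heB
  let r : A →ₐ[k] AB := (Spec.mapMulEquiv.symm (eB.inv ≫ iB ≫ e.hom)).ofConv
  have hr : eB.inv ≫ iB ≫ e.hom = sp r := (Spec.mapMulEquiv.apply_symm_apply _).symm
  have hcomm : eB.hom ≫ sp r = iB ≫ e.hom := by rw [← hr, Iso.hom_inv_id_assoc]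
  have hker := eq_algebraMap_of_invariant r fun f hf => by
    haveI : IsAffine ((Spec (CommRingCat.of (Polynomial k))).asOver (Spec (CommRingCat.of k))).left := inferInstance
    have h1 := eq_const_of_isBorel iB hB (e.hom ≫ f) (by
      have h2 := congrArg ((e.hom ▷ B) ≫ (GA k A ◁ eB.hom) ≫ ·) hf
      simp only [Category.assoc, whiskerLeft_fst_assoc, whiskerRight_fst_assoc] at h2 ⊢
      rw [← h2, IsMonHom.mul_hom_assoc e.hom, tensorHom_def'_assoc, ← MonoidalCategory.whiskerLeft_comp_assoc (GA k A) eB.hom, hcomm]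
      simp only [MonoidalCategory.whiskerLeft_comp, Category.assoc]
      rw [← whisker_exchange_assoc e.hom iB, ← whisker_exchange_assoc e.hom e.hom])
    have h3 := congrArg (e.inv ≫ ·) h1
    simpa [← Category.assoc, MonObj.one_comp] using h3
  haveI : IsIso (toSpec W) := by
    haveI : IsIso ((Over.forget (Spec (CommRingCat.of k))).map (toSpec W)) :=
      inferInstanceAs (IsIso W.left.toSpecΓ)
    exact isIso_of_reflects_iso (toSpec W) (Over.forget _)
  let g' : WithConv (A →ₐ[k] Γ(W.left, ⊤)) := toConv (algHomOf (g ≫ e.hom))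
  have hgs : g ≫ e.hom = toSpec W ≫ sp g'.ofConv := (pointOf_algHomOf _).symm
  have key := alg_central r hker g' (fun T _ _ φ β => by
    apply (Spec.mapMulEquiv (R := k) (S := A) (T := T)).injective
    rw [map_mul, map_mul, ← sp_eq, ← sp_eq]
    have h1 := congrArg (· ≫ e.hom) (hg _ (sp φ ≫ inv (toSpec W)) (sp β ≫ eB.inv))
    simp only [MonObj.mul_comp, Category.assoc, hgs, IsIso.inv_hom_id_assoc] at h1
    rw [← sp_comp r β, ← sp_comp g'.ofConv φ, ← hr]
    exact h1) (toConv (algHomOf (h ≫ e.hom)))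
  rw [← cancel_mono e.hom, MonObj.mul_comp, MonObj.mul_comp, ← pointOf_algHomOf (g ≫ e.hom),
    ← pointOf_algHomOf (h ≫ e.hom), pointOf_mul, pointOf_mul]
  exact congrArg (fun z : WithConv (A →ₐ[k] Γ(W.left, ⊤)) => pointOf z.ofConv) key

/-- A point centralizing a Borel subgroup is central. -/
theorem commute_of_isBorel (hB : Red.IsBorel iB) {W : Over (Spec (CommRingCat.of k))} (g : W ⟶ G)
    (hg : ∀ (W' : Over (Spec (CommRingCat.of k))) (x : W' ⟶ W) (h : W' ⟶ B),
      (x ≫ g) * (h ≫ iB) = (h ≫ iB) * (x ≫ g)) (h : W ⟶ G) : g * h = h * g := by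
  refine Over.OverMorphism.ext (W.left.affineCover.hom_ext _ _ fun i => ?_)
  let c : Over.mk (W.left.affineCover.f i ≫ W.hom) ⟶ W := Over.homMk (W.left.affineCover.f i) rfl
  haveI : IsAffine (Over.mk (W.left.affineCover.f i ≫ W.hom)).left :=
    inferInstanceAs (IsAffine (W.left.affineCover.X i))
  have h1 := commute_affine hB (c ≫ g) (fun W' x h' => by
    rw [← Category.assoc]
    exact hg W' (x ≫ c) h') (c ≫ h)
  rw [← MonObj.comp_mul, ← MonObj.comp_mul] at h1
  exact congrArg CommaMorphism.left h1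

/-- The centralizer of a Borel subgroup is the centre. -/
theorem isCentralizerOf_iff_isCentre (hB : Red.IsBorel iB) {C : Over (Spec (CommRingCat.of k))} [GrpObj C]
    (c : C ⟶ G) : Red.IsCentralizerOf iB c ↔ Red.IsCentre c := by
  have hiff : ∀ (X : Over (Spec (CommRingCat.of k))) (g : X ⟶ G),
      (∀ (X' : Over (Spec (CommRingCat.of k))) (x : X' ⟶ X) (h : X' ⟶ B),
        (x ≫ g) * (h ≫ iB) = (h ≫ iB) * (x ≫ g)) ↔
      ∀ (X' : Over (Spec (CommRingCat.of k))) (x : X' ⟶ X) (h : X' ⟶ G),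
        (x ≫ g) * (h ≫ 𝟙 G) = (h ≫ 𝟙 G) * (x ≫ g) := by
    refine fun X g => ⟨fun hg X' x h => ?_, fun hg X' x h => ?_⟩
    · rw [Category.comp_id]
      exact commute_of_isBorel hB (x ≫ g) (fun W' y h' => by rw [← Category.assoc]; exact hg W' (y ≫ x) h') h
    · simpa using hg X' x (h ≫ iB)
  exact and_congr_right fun _ => and_congr_right fun _ => forall_congr' fun X => forall_congr' fun g => by
    rw [hiff X g]

end Main

end Groth.Agent.H1.Classical.Scheme'
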