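import Groth.Agent.H1.Classical.MaxTorusApply
import Groth.Agent.H1.Classical.CentralizerBorel
import Groth.Agent.H1.Classical.Torus.UnionScheme

/-!
# Borel subgroups through given points
-/

universe u

open CategoryTheory MonoidalCategory CartesianMonoidalCategory MonObj GrpObj AlgebraicGeometry

namespace Groth.Agent.H1.Classical.BorelExists

set_option linter.style.haveILetI false
set_option linter.unusedSectionVars false

open Groth.Agent.Lib.RedPts Groth.Agent.Lib.RedPts.Points Scheme'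

attribute [local instance] baseAlgebra

variable {k : Type u} [Field k] [IsAlgClosed k]

/-- Borel subgroups exist. -/
theorem exists_borel (G : Over (Spec (CommRingCat.of k))) [GrpObj G] [IsAffine G.left] [Smooth G.hom]
    [ConnectedSpace G.left] :
    ∃ (B : Over (Spec (CommRingCat.of k))) (_ : GrpObj B) (iB : B ⟶ G), Red.IsBorelOver k iB := by
  obtain ⟨A, _, _, _, _, e, he⟩ := MaxTorusApply.exists_GA G
  haveI := he
  obtain ⟨S, hS⟩ := exists_isMax (k := k) (A := A)
  obtain ⟨C, _, c, hC, -, -⟩ := exists_borel_of_isMax hS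
  haveI : IsMonHom e.symm.hom := inferInstanceAs (IsMonHom e.inv)
  exact ⟨C, inferInstance, c ≫ e.inv, isBorelOver_comp hC e.symm⟩

/-- Every point lies in a Borel subgroup. -/
theorem exists_borel_point (G : Over (Spec (CommRingCat.of k))) [GrpObj G] [IsAffine G.left] [Smooth G.hom]
    [ConnectedSpace G.left] (z : 𝟙_ (Over (Spec (CommRingCat.of k))) ⟶ G) :
    ∃ (B : Over (Spec (CommRingCat.of k))) (_ : GrpObj B) (iB : B ⟶ G), Red.IsBorelOver k iB ∧ ∃ b, b ≫ iB = z := by
  obtain ⟨B, _, iB, hB⟩ := exists_borel G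
  obtain ⟨x, b, hb⟩ := exists_conj_mem_borel hB z
  refine ⟨B, inferInstance, iB ≫ (ConjIso.conjIso x).hom, isBorelOver_comp hB _, b, ?_⟩
  rw [ConjIso.comp_conjIso, MaxTorusApply.conj_point, hb]

/-- A point centralising a subtorus lies in a Borel subgroup containing it. -/
theorem exists_borel_torus_point {G : Over (Spec (CommRingCat.of k))} [GrpObj G] [IsAffine G.left] [Smooth G.hom]
    [ConnectedSpace G.left] {S : Over (Spec (CommRingCat.of k))} [GrpObj S] (iS : S ⟶ G) [IsMonHom iS] [Mono iS]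
    (hS : Red.IsTorus S) (c : 𝟙_ (Over (Spec (CommRingCat.of k))) ⟶ G)
    (hc : ∀ (X : Over (Spec (CommRingCat.of k))) (s : X ⟶ S), (toUnit X ≫ c) * (s ≫ iS) = (s ≫ iS) * (toUnit X ≫ c)) :
    ∃ (B : Over (Spec (CommRingCat.of k))) (_ : GrpObj B) (iB : B ⟶ G) (_ : Red.IsBorelOver k iB) (t : S ⟶ B)
      (b : 𝟙_ (Over (Spec (CommRingCat.of k))) ⟶ B), t ≫ iB = iS ∧ b ≫ iB = c := by
  obtain ⟨C, _, cC, hC, -, -⟩ :=
    Groth.Agent.Lib.MultSmooth.exists_centralizer_smooth (CentralizerScheme.isMultTypeFT_of_isTorus hS) iS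
  obtain ⟨z, hz⟩ := (hC.2.2 _ c).mpr fun X' x h => by
    rw [toUnit_unique x (toUnit X')]
    exact hc X' h
  obtain ⟨-, hCa, hCs, hCc⟩ := CentralizerScheme.props' iS hS cC hC
  haveI := hCa
  haveI := hCs
  haveI := hCc
  obtain ⟨D, _, iD, hD, b, hb⟩ := exists_borel_point C z
  obtain ⟨B, _, iB, t, dB, hB, ht, hsq⟩ := CentralizerBorel.exists_borel_inter iS hS hC iD hD
  exact ⟨B, inferInstance, iB, hB, t, b ≫ dB, ht, by rw [Category.assoc, ← hsq.w, ← Category.assoc, hb, hz]⟩

end Groth.Agent.H1.Classical.BorelExists
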