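import Groth.Agent.H1.Classical.Parabolic
import Groth.Agent.H1.Classical.ImageField

/-!
# Parabolic subgroups over any field: proper quotient
-/

universe u

open CategoryTheory MonoidalCategory CartesianMonoidalCategory MonObj AlgebraicGeometry

namespace Groth.Agent.H1.Classical.Scheme'

set_option linter.style.haveILetI false
set_option linter.unusedSectionVars false

open Groth.Agent.Lib.GrpSch

section Square

variable {S S' : Scheme.{u}} (σ : S' ⟶ S) {G P X : Over S} [GrpObj G]

/-- The quotient square is stable under base change. -/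
theorem isPullback_quotient_bc (i : P ⟶ G) (π : G ⟶ X) (h : IsPullback (fst G P) ((G ◁ i) ≫ μ[G]) π π) :
    IsPullback (fst (Red.bc σ G) (Red.bc σ P)) ((Red.bc σ G ◁ (Over.pullback σ).map i) ≫ μ[Red.bc σ G])
      ((Over.pullback σ).map π) ((Over.pullback σ).map π) := by
  refine (h.map (Over.pullback σ)).of_iso (Functor.Monoidal.μIso (Over.pullback σ) G P).symm (Iso.refl _)
    (Iso.refl _) (Iso.refl _) ?_ ?_ (by simp) (by simp)
  · simp
  · rw [← cancel_epi (Functor.Monoidal.μIso (Over.pullback σ) G P).hom]
    simp only [Iso.symm_hom, Iso.hom_inv_id_assoc, Iso.refl_hom, Category.comp_id, Functor.Monoidal.μIso_hom,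
      Functor.map_comp, Functor.obj.μ_def]
    rw [← Functor.LaxMonoidal.μ_natural_right_assoc, Functor.Monoidal.μIso_inv, Functor.Monoidal.μ_δ_assoc]

end Square

/-- The geometric point over the point of a field. -/
theorem exists_geomPt_eq {k : Type u} [Field k] (s : Spec (CommRingCat.of k)) :
    ∃ (_ : Algebra k (AlgebraicClosure ((Spec (CommRingCat.of k)).residueField s)))
      (_ : Algebra.IsAlgebraic k (AlgebraicClosure ((Spec (CommRingCat.of k)).residueField s))),
      Red.geomPt s = extBase k (AlgebraicClosure ((Spec (CommRingCat.of k)).residueField s)) := by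
  obtain ⟨ψ, hψ⟩ : ∃ ψ : CommRingCat.of k ⟶ (Spec (CommRingCat.of k)).residueField s,
      Spec.map ψ = (Spec (CommRingCat.of k)).fromSpecResidueField s :=
    ⟨Spec.preimage _, Spec.map_preimage _⟩
  haveI : Unique ↥(Spec (CommRingCat.of k)) := inferInstanceAs (Unique (PrimeSpectrum k))
  haveI : IsClosedImmersion ((Spec (CommRingCat.of k)).fromSpecResidueField s) :=
    isClosed_singleton_iff_isClosedImmersion.mp (Set.Subsingleton.isClosed (Set.subsingleton_singleton))
  haveI : IsClosedImmersion (Spec.map ψ) := hψ ▸ inferInstance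
  have hsurj : Function.Surjective ψ.hom := fun x => by
    obtain ⟨-, h⟩ := IsClosedImmersion.isAffine_surjective_of_isAffine (Spec.map ψ)
    obtain ⟨y, hy⟩ := h ((Scheme.ΓSpecIso _).inv x)
    refine ⟨(Scheme.ΓSpecIso _).hom y, ?_⟩
    have := congrArg (fun φ => φ.hom y) (Scheme.ΓSpecIso_naturality ψ)
    simp only [CommRingCat.hom_comp, RingHom.comp_apply] at this
    rw [hy] at this
    rw [← this]
    exact RingHom.congr_fun (congrArg CommRingCat.Hom.hom (Scheme.ΓSpecIso _).inv_hom_id) x
  let L := (Spec (CommRingCat.of k)).residueField s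
  letI : Algebra k (AlgebraicClosure L) := ((algebraMap L (AlgebraicClosure L)).comp ψ.hom).toAlgebra
  refine ⟨inferInstance, ⟨fun x => ?_⟩, ?_⟩
  · obtain ⟨P, hP0, hP⟩ := Algebra.IsAlgebraic.isAlgebraic (R := L) x
    obtain ⟨P', rfl⟩ := Polynomial.map_surjective ψ.hom hsurj P
    refine ⟨P', fun h => hP0 (by rw [h, Polynomial.map_zero]), ?_⟩
    rw [Polynomial.aeval_def, Polynomial.eval₂_map] at hP
    exact hP
  · show Spec.map (CommRingCat.ofHom (algebraMap L (AlgebraicClosure L))) ≫ _ = _
    rw [← hψ, ← Spec.map_comp]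
    rfl

theorem isProper_quotient_iff_bc {k K : Type u} [Field k] [Field K] [IsAlgClosed K] [Algebra k K]
    [Algebra.IsAlgebraic k K] {G P X : Over (Spec (CommRingCat.of k))} [GrpObj G] [GrpObj P] [IsAffine G.left]
    [Smooth G.hom] [ConnectedSpace G.left] (iP : P ⟶ G) [IsMonHom iP] [IsClosedImmersion iP.left]
    [Smooth P.hom] [LocallyOfFiniteType X.hom] (π : G ⟶ X) [Flat π.left] [Surjective π.left]
    (hsq : IsPullback (fst G P) ((G ◁ iP) ≫ μ[G]) π π) (σ : Spec (CommRingCat.of K) ⟶ Spec (CommRingCat.of k))
    (hσ : σ = extBase k K) :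
    IsProper X.hom ↔ Red.IsParabolicOver K ((Over.pullback σ).map iP) := by
  subst hσ
  let σ := extBase k K
  haveI : IsAffineHom (Red.bc σ G).hom := bc_hom_of (P := @IsAffineHom) σ G inferInstance
  haveI : IsAffine (Red.bc σ G).left := isAffine_of_isAffineHom (Red.bc σ G).hom
  haveI : Smooth (Red.bc σ G).hom := bc_hom_of (P := @Smooth) σ G inferInstance
  haveI := GrpIrred.connectedSpace_bc G K
  haveI : Smooth (Red.bc σ P).hom := bc_hom_of (P := @Smooth) σ P inferInstance
  haveI : LocallyOfFiniteType (Red.bc σ X).hom := bc_hom_of (P := @LocallyOfFiniteType) σ X inferInstance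
  haveI : IsClosedImmersion ((Over.pullback σ).map iP).left :=
    bc_map_left_of (P := @IsClosedImmersion) σ iP inferInstance
  haveI : Surjective ((Over.pullback σ).map π).left := bc_map_left_of (P := @Surjective) σ π inferInstance
  haveI : Flat ((Over.pullback σ).map π).left := bc_map_left_of (P := @Flat) σ π inferInstance
  have hsq' := isPullback_quotient_bc σ iP π hsq
  constructor
  · intro hp
    haveI : IsProper (Red.bc σ X).hom := bc_hom_of (P := @IsProper) σ X hp
    exact ⟨inferInstance, inferInstance, inferInstance, exists_borel_le' _ _ hsq'⟩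
  · rintro ⟨-, -, -, B, _, b, hB⟩
    haveI : IsProper (Red.bc σ X).hom := isProper_of_borel_le' _ _ hsq' b hB
    haveI : CompactSpace X.left :=
      ⟨by rw [← π.left.surjective.range_eq]; exact isCompact_range π.left.continuous⟩
    haveI : QuasiCompact X.hom := (quasiCompact_iff_compactSpace X.hom).mpr inferInstance
    haveI := isSeparated_quotient iP π hsq
    haveI : MorphismProperty.RespectsIso @UniversallyClosed := MorphismProperty.IsStableUnderBaseChange.respectsIso
    haveI : UniversallyClosed X.hom := of_bc_hom k K (P := @UniversallyClosed) X inferInstance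
    exact { }

/-- The quotient is proper exactly for parabolic subgroups. -/
theorem isProper_quotient_iff_isParabolic {k : Type u} [Field k] {G P X : Over (Spec (CommRingCat.of k))} [GrpObj G]
    [GrpObj P] [IsAffine G.left] [Smooth G.hom] [ConnectedSpace G.left] (iP : P ⟶ G) [IsMonHom iP]
    [IsClosedImmersion iP.left] [Smooth P.hom] [LocallyOfFiniteType X.hom] (π : G ⟶ X) [Flat π.left] [Surjective π.left]
    (hsq : IsPullback (fst G P) ((G ◁ iP) ≫ μ[G]) π π) : IsProper X.hom ↔ Red.IsParabolic iP := by
  constructor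
  · intro hp
    refine ⟨inferInstance, inferInstance, inferInstance, fun s => ?_⟩
    obtain ⟨alg, halg, hσ⟩ := exists_geomPt_eq s
    exact (isProper_quotient_iff_bc iP π hsq _ hσ).mp hp
  · rintro ⟨-, -, -, h⟩
    let s : Spec (CommRingCat.of k) := IsLocalRing.closedPoint k
    obtain ⟨alg, halg, hσ⟩ := exists_geomPt_eq s
    exact (isProper_quotient_iff_bc iP π hsq _ hσ).mpr (h s)

end Groth.Agent.H1.Classical.Scheme'
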