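import Groth.Agent.H1.Classical.CentralizerScheme
import Groth.Agent.H1.Classical.ParabolicField
import Groth.Agent.Lib.RedPts.BC
import Groth.Agent.Lib.Tori.Basic

/-!
# Centralisers, tori and Borel subgroups over a field via the algebraic closure
-/

universe u

open CategoryTheory MonoidalCategory CartesianMonoidalCategory MonObj GrpObj AlgebraicGeometry Limits

namespace Groth.Agent.H1.Classical.FieldDescent

set_option linter.style.haveILetI false
set_option linter.unusedSectionVars false

open Groth.Agent.Lib.GrpSch Groth.Agent.Lib.RedPts.BC Scheme'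

section Gen

variable {S S' : Scheme.{u}} (f : S' ⟶ S)

/-- Base change of a centralizer. -/
theorem isCentralizerOf_bc {G H C : Over S} [GrpObj G] [GrpObj H] [GrpObj C] {i : H ⟶ G} {c : C ⟶ G}
    (hc : Red.IsCentralizerOf i c) :
    Red.IsCentralizerOf ((Over.pullback f).map i) ((Over.pullback f).map c) := by
  haveI := hc.1
  haveI := hc.2.1
  refine ⟨inferInstance, inferInstance, fun X g => ⟨?_, fun hg => ?_⟩⟩
  · rintro ⟨z, rfl⟩ X' x h
    apply down_injective
    simp only [down_mul]
    rw [down_comp x (z ≫ _), down_map z, down_map h]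
    exact (hc.2.2 _ (down f z ≫ c)).mp ⟨_, rfl⟩ _ ((Over.map f).map x) (down f h)
  · obtain ⟨z, hz⟩ := (hc.2.2 _ (down f g)).mpr fun X'' x h => by
      let X' : Over S' := Over.mk (x.left ≫ X.hom)
      let κ : (Over.map f).obj X' ≅ X'' := Over.isoMk (Iso.refl _) (by
        show 𝟙 _ ≫ X''.hom = (x.left ≫ X.hom) ≫ f
        rw [Category.id_comp, Category.assoc, ← Over.w x]
        rfl)
      let x' : X' ⟶ X := Over.homMk x.left rfl
      have hx : (Over.map f).map x' = κ.hom ≫ x := Over.OverMorphism.ext (Category.id_comp _).symm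
      have := congrArg (down f) (hg X' x' (up f (κ.hom ≫ h)))
      simp only [down_mul] at this
      rw [down_map (up f (κ.hom ≫ h)), down_up, down_comp x' g, hx] at this
      simp only [Category.assoc] at this
      rw [← cancel_epi κ.hom, MonObj.comp_mul, MonObj.comp_mul]
      exact this
    exact ⟨up f z, down_injective (by rw [down_map, down_up, hz])⟩

end Gen

section Field

variable {k : Type u} [Field k] {K : Type u} [Field K] [Algebra k K]

/-- A factorisation through a monomorphism descends. -/
theorem exists_factor_of_bc {G B C : Over (Spec (CommRingCat.of k))} (i : B ⟶ G) [Mono i] (c : C ⟶ G)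
    (f' : Red.bc (extBase k K) C ⟶ Red.bc (extBase k K) B)
    (hf : f' ≫ (Over.pullback (extBase k K)).map i = (Over.pullback (extBase k K)).map c) :
    ∃ f : C ⟶ B, f ≫ i = c := by
  let P := pullback c i
  have hsq : IsPullback (pullback.fst c i) (pullback.snd c i) c i := .of_hasPullback c i
  have hsq' := hsq.map (Over.pullback (extBase k K))
  haveI : IsIso ((Over.pullback (extBase k K)).map (pullback.fst c i)) := by
    refine ⟨hsq'.lift (𝟙 _) f' (by rw [hf, Category.id_comp]), ?_, hsq'.lift_fst _ _ _⟩
    rw [← cancel_mono ((Over.pullback (extBase k K)).map (pullback.fst c i)), Category.assoc, hsq'.lift_fst,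
      Category.id_comp, Category.comp_id]
  haveI := isIso_of_isIso_bc_map k K (pullback.fst c i)
  exact ⟨CategoryTheory.inv (pullback.fst c i) ≫ pullback.snd c i, by
    rw [Category.assoc, ← hsq.w, IsIso.inv_hom_id_assoc]⟩

/-- Connectedness descends. -/
theorem connectedSpace_of_bc (X : Over (Spec (CommRingCat.of k))) [ConnectedSpace (Red.bc (extBase k K) X).left] :
    ConnectedSpace X.left := by
  obtain ⟨⟨hs, -⟩, -⟩ := bcProj_surjective_flat_qc k K X
  haveI := hs
  exact Function.Surjective.connectedSpace (bcProj (extBase k K) X).surjective (bcProj (extBase k K) X).continuous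

theorem smooth_of_bc (X : Over (Spec (CommRingCat.of k))) [Smooth (Red.bc (extBase k K) X).hom] : Smooth X.hom := by
  haveI : MorphismProperty.RespectsIso @Smooth := MorphismProperty.IsStableUnderBaseChange.respectsIso
  exact of_bc_hom k K (P := @Smooth) X inferInstance

theorem bc_props [Algebra.IsAlgebraic k K] (G : Over (Spec (CommRingCat.of k))) [GrpObj G] [IsAffine G.left] [Smooth G.hom]
    [ConnectedSpace G.left] :
    IsAffine (Red.bc (extBase k K) G).left ∧ Smooth (Red.bc (extBase k K) G).hom ∧
      ConnectedSpace (Red.bc (extBase k K) G).left := by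
  haveI : IsAffineHom (Red.bc (extBase k K) G).hom := bc_hom_of (P := @IsAffineHom) _ G inferInstance
  exact ⟨isAffine_of_isAffineHom (Red.bc (extBase k K) G).hom, bc_hom_of (P := @Smooth) _ G inferInstance,
    GrpIrred.connectedSpace_bc G K⟩

/-- Properties over an algebraic closure: a maximal torus and a Borel subgroup stay so. -/
theorem exists_closure (k : Type u) [Field k] :
    ∃ (K : Type u) (_ : Field K) (_ : IsAlgClosed K) (_ : Algebra k K) (_ : Algebra.IsAlgebraic k K),
      (∀ {T G : Over (Spec (CommRingCat.of k))} [GrpObj T] [GrpObj G] {iT : T ⟶ G}, Red.IsMaximalTorus iT →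
        AGF.IsMaxTorus ((Over.pullback (extBase k K)).map iT)) ∧
      ∀ {B G : Over (Spec (CommRingCat.of k))} [GrpObj B] [GrpObj G] {iB : B ⟶ G}, Red.IsBorel iB →
        Red.IsBorelOver K ((Over.pullback (extBase k K)).map iB) := by
  let s : Spec (CommRingCat.of k) := IsLocalRing.closedPoint k
  obtain ⟨alg, halg, hσ⟩ := exists_geomPt_eq s
  refine ⟨AlgebraicClosure ((Spec (CommRingCat.of k)).residueField s), inferInstance, inferInstance, alg, halg, ?_, ?_⟩
  · intro T G _ _ iT hT
    haveI := hT.1
    haveI := hT.2.1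
    rw [← hσ]
    exact ⟨inferInstance, inferInstance, Groth.Agent.Lib.Tori.Basic.isTorus_bc hT.2.2.1 _,
      fun T' _ j _ _ f hT' hf => hT.2.2.2 s T' j f hT' hf⟩
  · intro B G _ _ iB hB
    rw [← hσ]
    exact hB.2.2.2 s

/-- The centraliser of a torus is connected. -/
theorem connectedSpace_centralizer {G : Over (Spec (CommRingCat.of k))} [GrpObj G] [IsAffine G.left] [Smooth G.hom]
    [ConnectedSpace G.left] {T : Over (Spec (CommRingCat.of k))} [GrpObj T] (iT : T ⟶ G) [IsMonHom iT] [Mono iT]
    (hT : Red.IsTorus T) {C : Over (Spec (CommRingCat.of k))} [GrpObj C] (c : C ⟶ G) (hc : Red.IsCentralizerOf iT c) :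
    ConnectedSpace C.left ∧ Smooth C.hom := by
  let K := AlgebraicClosure k
  obtain ⟨h1, h2, h3⟩ := bc_props (K := K) G
  haveI := h1
  haveI := h2
  haveI := h3
  obtain ⟨-, -, hs, hconn⟩ := CentralizerScheme.props' ((Over.pullback (extBase k K)).map iT)
    (Groth.Agent.Lib.Tori.Basic.isTorus_bc hT _) _ (isCentralizerOf_bc (extBase k K) hc)
  haveI := hs
  haveI := hconn
  exact ⟨connectedSpace_of_bc (K := K) C, smooth_of_bc (K := K) C⟩

end Field

end Groth.Agent.H1.Classical.FieldDescent
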