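import Groth.Agent.H1.Classical.MaxTorusApply
import Groth.Agent.H1.Classical.Torus.WeylFinite

/-!
# Borel subgroups containing a maximal torus, as schemes
-/

universe u

open CategoryTheory MonoidalCategory CartesianMonoidalCategory MonObj GrpObj AlgebraicGeometry

namespace Groth.Agent.H1.Classical.MaxTorusBorel

set_option linter.style.haveILetI false
set_option linter.unusedSectionVars false

open Groth.Agent.Lib.RedPts Groth.Agent.Lib.RedPts.Points Scheme' WithConv Torus Torus.Centraliser Complete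
  MaxTorusScheme MaxTorusApply

attribute [local instance] baseAlgebra

variable {k : Type u} [Field k] [IsAlgClosed k] {A : Type u} [CommRing A] [HopfAlgebra k A] [Algebra.FiniteType k A]
  [IsDomain A]

theorem ptsOf_le {H P : Over (Spec (CommRingCat.of k))} [GrpObj H] [GrpObj P] (i : H ⟶ GA k A) [IsMonHom i]
    (j : P ⟶ GA k A) [IsMonHom j] {f : H ⟶ P} (h : f ≫ j = i) : ptsOf i ≤ ptsOf j := fun χ ⟨x, hx⟩ => ⟨x ≫ f, by
  have hx' : x ≫ i = ptHom (𝟙_ _) χ := hx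
  show (x ≫ f) ≫ j = _
  rw [Category.assoc, h]
  exact hx'⟩

/-- The points of two Borel subgroups are conjugate. -/
theorem exists_conj_ptsOf {B B' : Over (Spec (CommRingCat.of k))} [GrpObj B] [GrpObj B'] (iB : B ⟶ GA k A) [IsMonHom iB]
    (iB' : B' ⟶ GA k A) [IsMonHom iB'] (hB : Red.IsBorelOver k iB) (hB' : Red.IsBorelOver k iB') :
    ∃ g, (ptsOf iB).map (MulAut.conj g).toMonoidHom = ptsOf iB' := by
  have hS := (isMax_ptsOf iB hB).1
  have hS' := isBor_ptsOf iB' hB'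
  obtain ⟨a, ha⟩ := Image.exists_eq_conj hS'.irr hS'.solv hS'.abs hS
  refine ⟨a⁻¹, SetLike.ext fun x => ?_⟩
  rw [ha, Image.mem_map_conj, Image.mem_map_conj, _root_.inv_inv, show a⁻¹ * (a * x * a⁻¹) * a = x by group]

/-- Borel pairs with the same torus are conjugate under the normaliser. -/
theorem exists_pair {G : Over (Spec (CommRingCat.of k))} [GrpObj G] [IsAffine G.left] [Smooth G.hom]
    [ConnectedSpace G.left] {T B B' : Over (Spec (CommRingCat.of k))} [GrpObj T] [GrpObj B] [GrpObj B'] {iT : T ⟶ G}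
    {iB : B ⟶ G} {iB' : B' ⟶ G} (hT : AGF.IsMaxTorus iT) (hB : Red.IsBorelOver k iB) (hB' : Red.IsBorelOver k iB')
    (t : T ⟶ B) (ht : t ≫ iB = iT) (t' : T ⟶ B') (ht' : t' ≫ iB' = iT) :
    ∃ (n : 𝟙_ (Over (Spec (CommRingCat.of k))) ⟶ G) (τ : T ≅ T) (σ : B ≅ B'),
      τ.hom ≫ iT = AGF.conjBy n iT ∧ σ.hom ≫ iB' = AGF.conjBy n iB := by
  obtain ⟨A, _, _, _, _, e, he⟩ := exists_GA G
  haveI := he
  haveI := locallyOfFiniteType (k := k) (A := A)
  haveI := hT.1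
  haveI := hT.2.1
  haveI := hB.1
  haveI := hB'.1
  obtain ⟨W, _, ρ, hρ⟩ := Torus.GenRep.exists_gen (HopfPts.D k A) hasMul_pts pts_ext
  have hT₁ := isMaxTorus_comp e hT
  have hB₁ := isBorelOver_comp hB e
  have hB₁' := isBorelOver_comp hB' e
  obtain ⟨g, hg⟩ := exists_conj_ptsOf _ _ hB₁ hB₁'
  obtain ⟨n, hnT, hnB⟩ := Torus.WeylFinite.exists_normalizer hasMul_pts hρ (isBor_ptsOf _ hB₁')
    (isMax_ptsOf_torus _ hT₁) (ptsOf_le _ _ (f := t) (by rw [← Category.assoc, ht]))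
    (ptsOf_le _ _ (f := t') (by rw [← Category.assoc, ht'])) hg
  obtain ⟨hc, hs, -, ha⟩ := TorusPts.torus_props (iT ≫ e.hom) hT₁.2.2.1
  haveI := hc
  haveI := hs
  haveI := ha
  haveI := hB₁.2.1
  haveI := hB₁'.2.1
  haveI := hB.2.2.1
  haveI := hB'.2.2.1
  haveI : IsAffine B.left := isAffine_of_isAffineHom (iB ≫ e.hom).left
  haveI : IsAffine B'.left := isAffine_of_isAffineHom (iB' ≫ e.hom).left
  obtain ⟨τ, hτ⟩ := exists_iso_conj (iT ≫ e.hom) (iT ≫ e.hom) n hnT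
  obtain ⟨σ, hσ⟩ := exists_iso_conj (iB ≫ e.hom) (iB' ≫ e.hom) n hnB
  exact ⟨_, τ, σ, conjBy_comp_eq e _ hτ, conjBy_comp_eq e _ hσ⟩

/-- Finitely many Borel subgroups contain a maximal torus. -/
theorem finite_borels {G : Over (Spec (CommRingCat.of k))} [GrpObj G] [IsAffine G.left] [Smooth G.hom]
    [ConnectedSpace G.left] {T : Over (Spec (CommRingCat.of k))} [GrpObj T] {iT : T ⟶ G} (hT : AGF.IsMaxTorus iT) :
    Set.Finite {P : Subobject G | ∃ (B : Over (Spec (CommRingCat.of k))) (_ : GrpObj B) (iB : B ⟶ G) (_ : Mono iB),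
      Red.IsBorelOver k iB ∧ (∃ t : T ⟶ B, t ≫ iB = iT) ∧ P = Subobject.mk iB} := by
  classical
  set S := {P : Subobject G | ∃ (B : Over (Spec (CommRingCat.of k))) (_ : GrpObj B) (iB : B ⟶ G) (_ : Mono iB),
      Red.IsBorelOver k iB ∧ (∃ t : T ⟶ B, t ≫ iB = iT) ∧ P = Subobject.mk iB}
  rcases S.eq_empty_or_nonempty with h | ⟨_, B₀, _, iB₀, _, hB₀, ⟨t₀, ht₀⟩, -⟩
  · rw [h]
    exact Set.finite_empty
  obtain ⟨A, _, _, _, _, e, he⟩ := exists_GA G
  haveI := he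
  haveI := locallyOfFiniteType (k := k) (A := A)
  haveI := hT.1
  haveI := hB₀.1
  obtain ⟨W, _, ρ, hρ⟩ := Torus.GenRep.exists_gen (HopfPts.D k A) hasMul_pts pts_ext
  have hfin := Torus.WeylFinite.finite_borels HopfPts.sirr_univ hasMul_pts hρ (isBor_ptsOf _ (isBorelOver_comp hB₀ e))
    (isMax_ptsOf_torus _ (isMaxTorus_comp e hT)) (ptsOf_le _ _ (f := t₀) (by rw [← Category.assoc, ht₀]))
  refine (hfin.biUnion fun Q _ => (show Set.Subsingleton {P : Subobject G | ∃ (B : Over (Spec (CommRingCat.of k)))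
    (_ : GrpObj B) (iB : B ⟶ G) (_ : Mono iB) (h : Red.IsBorelOver k iB),
      P = Subobject.mk iB ∧ (haveI := h.1; ptsOf (iB ≫ e.hom)) = Q} from ?_).finite).subset ?_
  · rintro _ ⟨B, _, iB, _, hB, rfl, hQ⟩ _ ⟨B', _, iB', _, hB', rfl, hQ'⟩
    haveI := hB.1
    haveI := hB'.1
    haveI := (isBorelOver_comp hB e).2.1
    haveI := (isBorelOver_comp hB' e).2.1
    haveI := hB.2.2.1
    haveI := hB'.2.2.1
    haveI : IsAffine B.left := isAffine_of_isAffineHom (iB ≫ e.hom).left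
    haveI : IsAffine B'.left := isAffine_of_isAffineHom (iB' ≫ e.hom).left
    obtain ⟨f, hf⟩ := exists_factor (iB' ≫ e.hom) (iB ≫ e.hom) fun x => by
      obtain ⟨s, hs⟩ := ptHom_surjective (x ≫ iB ≫ e.hom)
      exact ⟨s, (hQ.trans hQ'.symm).le ⟨x, hs.symm⟩, hs.symm⟩
    obtain ⟨f', hf'⟩ := exists_factor (iB ≫ e.hom) (iB' ≫ e.hom) fun x => by
      obtain ⟨s, hs⟩ := ptHom_surjective (x ≫ iB' ≫ e.hom)
      exact ⟨s, (hQ'.trans hQ.symm).le ⟨x, hs.symm⟩, hs.symm⟩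
    rw [← Category.assoc, cancel_mono] at hf hf'
    exact Subobject.mk_eq_mk_of_comm iB iB'
      ⟨f, f', by rw [← cancel_mono iB, Category.assoc, hf', hf, Category.id_comp],
        by rw [← cancel_mono iB', Category.assoc, hf, hf', Category.id_comp]⟩ hf
  · rintro P ⟨B, _, iB, _, hB, ⟨t, ht⟩, rfl⟩
    haveI := hB.1
    simp only [Set.mem_iUnion, Set.mem_ofPred_eq]
    exact ⟨_, ⟨isBor_ptsOf _ (isBorelOver_comp hB e), ptsOf_le _ _ (f := t) (by rw [← Category.assoc, ht]),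
      exists_conj_ptsOf _ _ (isBorelOver_comp hB₀ e) (isBorelOver_comp hB e)⟩, B, inferInstance, iB, inferInstance, hB, rfl, rfl⟩

end Groth.Agent.H1.Classical.MaxTorusBorel
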