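import Groth.Agent.H1.Classical.CartanOpen
import Groth.Agent.H1.Classical.FieldDescent
import Groth.Agent.H1.Classical.MaxTorusBorel

/-!
# Cartan subgroups lie in the Borel subgroups containing the torus
-/

universe u

open CategoryTheory MonoidalCategory CartesianMonoidalCategory MonObj GrpObj AlgebraicGeometry

namespace Groth.Agent.H1.Classical.CartanBorel

set_option linter.style.haveILetI false
set_option linter.unusedSectionVars false

open Groth.Agent.Lib.RedPts Groth.Agent.Lib.RedPts.Points Scheme' WithConv Torus Torus.Centraliser Complete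
  MaxTorusScheme MaxTorusApply CentralizerScheme Groth.Agent.Lib.GrpSch FieldDescent

attribute [local instance] baseAlgebra

/-- A centralizer transports along an isomorphism. -/
theorem isCentralizerOf_comp {S₀ : Scheme.{u}} {G G' H C : Over S₀} [GrpObj G] [GrpObj G'] [GrpObj H] [GrpObj C]
    {i : H ⟶ G} {c : C ⟶ G} (hc : Red.IsCentralizerOf i c) (e : G ≅ G') [IsMonHom e.hom] :
    Red.IsCentralizerOf (i ≫ e.hom) (c ≫ e.hom) := by
  haveI := hc.1
  haveI := hc.2.1
  refine ⟨inferInstance, inferInstance, fun X g => ⟨?_, fun H' => ?_⟩⟩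
  · rintro ⟨z, rfl⟩ X' x h
    have := congrArg (· ≫ e.hom) ((hc.2.2 X _).mp ⟨z, rfl⟩ X' x h)
    simpa only [MonObj.mul_comp, Category.assoc] using this
  · obtain ⟨z, hz⟩ := (hc.2.2 X (g ≫ e.inv)).mpr fun X' x h => by
      rw [← cancel_mono e.hom]
      simpa only [MonObj.mul_comp, Category.assoc, Iso.inv_hom_id, Category.comp_id] using H' X' x h
    exact ⟨z, by rw [← Category.assoc, hz, Category.assoc, Iso.inv_hom_id, Category.comp_id]⟩

/-- Over an algebraically closed field the centraliser of a maximal torus lies in every Borel subgroup containing it. -/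
theorem exists_factor_closed {k : Type u} [Field k] [IsAlgClosed k] {G : Over (Spec (CommRingCat.of k))} [GrpObj G]
    [IsAffine G.left] [Smooth G.hom] [ConnectedSpace G.left] {T C B : Over (Spec (CommRingCat.of k))} [GrpObj T]
    [GrpObj C] [GrpObj B] {iT : T ⟶ G} {c : C ⟶ G} {iB : B ⟶ G} (hT : AGF.IsMaxTorus iT)
    (hc : Red.IsCentralizerOf iT c) (hB : Red.IsBorelOver k iB) (t : T ⟶ B) (ht : t ≫ iB = iT) :
    ∃ f : C ⟶ B, f ≫ iB = c := by
  obtain ⟨A, _, _, _, _, e, he⟩ := exists_GA G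
  haveI := he
  haveI := locallyOfFiniteType (k := k) (A := A)
  haveI := hT.1
  haveI := hT.2.1
  haveI := hB.1
  haveI := hc.1
  have hT' := isMaxTorus_comp e hT
  have hc' := isCentralizerOf_comp hc e
  obtain ⟨-, haff, hsm, -, hpts⟩ := props _ hT'.2.2.1 _ hc'
  haveI := haff
  haveI := hsm
  haveI := (isBorelOver_comp hB e).2.1
  obtain ⟨W, _, σ, hσ⟩ := Torus.GenRep.exists_gen (HopfPts.D k A) hasMul_pts pts_ext
  have hle : ptsOf (c ≫ e.hom) ≤ ptsOf (iB ≫ e.hom) := hpts.trans_le
    (Torus.MaxTorus.centralizer_le HopfPts.sirr_univ hasMul_pts hσ (isBor_ptsOf _ (isBorelOver_comp hB e))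
      (isMax_ptsOf_torus _ hT') (MaxTorusBorel.ptsOf_le _ _ (f := t) (by rw [← Category.assoc, ht])))
  obtain ⟨f, hf⟩ := exists_factor (iB ≫ e.hom) (c ≫ e.hom) fun x => by
    obtain ⟨s, hs⟩ := ptHom_surjective (x ≫ c ≫ e.hom)
    exact ⟨s, hle ⟨x, hs.symm⟩, hs.symm⟩
  rw [← Category.assoc, cancel_mono] at hf
  exact ⟨f, hf⟩

/-- The centraliser of a maximal torus lies in every Borel subgroup containing it. -/
theorem exists_factor_field {k : Type u} [Field k] {G : Over (Spec (CommRingCat.of k))} [GrpObj G]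
    [IsAffine G.left] [Smooth G.hom] [ConnectedSpace G.left] {T C B : Over (Spec (CommRingCat.of k))} [GrpObj T]
    [GrpObj C] [GrpObj B] {iT : T ⟶ G} {c : C ⟶ G} {iB : B ⟶ G} (hT : Red.IsMaximalTorus iT)
    (hc : Red.IsCentralizerOf iT c) (hB : Red.IsBorel iB) (t : T ⟶ B) (ht : t ≫ iB = iT) :
    ∃ f : C ⟶ B, f ≫ iB = c := by
  obtain ⟨K, _, _, _, _, hTK, hBK⟩ := exists_closure k
  obtain ⟨h1, h2, h3⟩ := bc_props (K := K) G
  haveI := h1
  haveI := h2
  haveI := h3
  haveI := hB.2.1
  haveI : Mono iB := Over.mono_of_mono_left iB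
  obtain ⟨f', hf'⟩ := exists_factor_closed (hTK hT) (isCentralizerOf_bc (extBase k K) hc) (hBK hB)
    ((Over.pullback (extBase k K)).map t) (by rw [← Functor.map_comp, ht])
  exact exists_factor_of_bc iB c f' hf'

end Groth.Agent.H1.Classical.CartanBorel
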