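import Groth.Agent.H1.Classical.Proper
import Groth.Agent.H1.Classical.Absorb

/-!
# Proper quotients and parabolic subgroups
-/

universe u

open CategoryTheory MonoidalCategory CartesianMonoidalCategory MonObj AlgebraicGeometry

namespace Groth.Agent.H1.Classical.Scheme'

set_option linter.style.haveILetI false
set_option linter.unusedSectionVars false

open Groth.Agent.Lib.RedPts.Points WithConv TensorProduct Groth.Agent.Lib.GrpSch

attribute [local instance] baseAlgebra

variable {k : Type u} [Field k] [IsAlgClosed k]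

/-- Rational points are determined by their image. -/
theorem point_ext {X : Over (Spec (CommRingCat.of k))} [LocallyOfFiniteType X.hom]
    {x y : 𝟙_ (Over (Spec (CommRingCat.of k))) ⟶ X}
    (h : x.left (IsLocalRing.closedPoint k) = y.left (IsLocalRing.closedPoint k)) : x = y :=
  Over.OverMorphism.ext (congrArg Subtype.val ((pointEquivClosedPoint X.hom).injective
    (a₁ := ⟨x.left, Over.w x⟩) (a₂ := ⟨y.left, Over.w y⟩) (Subtype.ext h)))

theorem isClosed_point {X : Over (Spec (CommRingCat.of k))} [LocallyOfFiniteType X.hom]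
    (x : 𝟙_ (Over (Spec (CommRingCat.of k))) ⟶ X) :
    IsClosed ({x.left (IsLocalRing.closedPoint k)} : Set X.left) :=
  (pointEquivClosedPoint X.hom ⟨x.left, Over.w x⟩).2

variable {A : Type u} [CommRing A] [HopfAlgebra k A] [Algebra.FiniteType k A] [IsDomain A]

theorem isCl_ptsOf {P : Over (Spec (CommRingCat.of k))} [GrpObj P] (i : P ⟶ GA k A) [IsMonHom i]
    [IsClosedImmersion i.left] : (HopfPts.D k A).IsCl (ptsOf i) := by
  haveI := locallyOfFiniteType_GA (k := k) (A := A)
  haveI : LocallyOfFiniteType P.hom := by rw [← Over.w i]; infer_instance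
  intro g hg
  let i' : P.left ⟶ Spec (CommRingCat.of A) := i.left
  haveI : IsClosedImmersion i' := ‹IsClosedImmersion i.left›
  obtain ⟨J, hJ⟩ := (PrimeSpectrum.isClosed_iff_zeroLocus_ideal _).mp i'.isClosedEmbedding.isClosed_range
  have hmem : ∀ χ : HopfPts.Pt k A, Spec.map (CommRingCat.ofHom χ.ofConv.toRingHom) (IsLocalRing.closedPoint k) ∈
      PrimeSpectrum.zeroLocus (J : Set A) ↔ ∀ a ∈ J, χ.ofConv a = 0 := by
    intro χ
    show (J : Set A) ⊆ Ideal.comap χ.ofConv.toRingHom (IsLocalRing.maximalIdeal k) ↔ _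
    rw [IsLocalRing.maximalIdeal_eq_bot, Set.subset_def]
    simp only [SetLike.mem_coe, Ideal.mem_comap, Ideal.mem_bot]
    rfl
  have hJ0 : ∀ a ∈ J, ∀ s ∈ ptsOf i, s.ofConv a = 0 := by
    rintro a ha s ⟨x, hx⟩
    refine (hmem s).mp ?_ a ha
    rw [← hJ, ← ptHom_left, ← show x ≫ i = ptHom (𝟙_ _) s from hx]
    exact ⟨x.left (IsLocalRing.closedPoint k), rfl⟩
  have hgJ : (ptHom (A := A) (𝟙_ (Over (Spec (CommRingCat.of k)))) g).left (IsLocalRing.closedPoint k) ∈
      Set.range i' := by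
    rw [hJ, ptHom_left]
    exact (hmem g).mpr fun a ha => hg ⟨_, a, rfl⟩ (hJ0 a ha)
  obtain ⟨y, hy⟩ := hgJ
  have hyc : IsClosed ({y} : Set P.left) := by
    have : ({y} : Set P.left) = i' ⁻¹' {i' y} := by
      ext z; exact ⟨fun h => congrArg i' h, fun h => i'.isClosedEmbedding.injective h⟩
    rw [this, hy]
    exact (isClosed_point _).preimage i'.continuous
  obtain ⟨x, hx⟩ := exists_point hyc
  exact ⟨x, point_ext ((congrArg i' (hx _)).trans hy)⟩

theorem ringHomOf_SpecMap {B : Type u} [CommRing B] (θ : B →+* k) (b : B) :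
    ringHomOf (Spec.map (CommRingCat.ofHom θ)) b = (Scheme.ΓSpecIso (CommRingCat.of k)).inv (θ b) :=
  (DFunLike.congr_fun (congrArg CommRingCat.Hom.hom
    (Scheme.ΓSpecIso_inv_naturality (CommRingCat.ofHom θ))) b).symm

theorem ringHom_ext' {B : Type u} [CommRing B] {W : Scheme.{u}} {f g : W ⟶ Spec (CommRingCat.of B)}
    (h : ringHomOf f = ringHomOf g) : f = g := by rw [eq_toSpecΓ f, h, ← eq_toSpecΓ g]

variable {X : Over (Spec (CommRingCat.of k))}

open MvPolynomial in
/-- A proper quotient is complete on points. -/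
theorem complete_of_isProper [IsProper X.hom] {P : Over (Spec (CommRingCat.of k))} [GrpObj P] (i : P ⟶ GA k A)
    [IsMonHom i] (π : GA k A ⟶ X) [Surjective π.left] [Flat π.left]
    (hsq : IsPullback (fst (GA k A) P) ((GA k A ◁ i) ≫ μ[GA k A]) π π) :
    Complete.Complete (HopfPts.D k A) (ptsOf i) := by
  intro κ _ Cs hCs hinv
  haveI := locallyOfFiniteType_GA (k := k) (A := A)
  let R0 := MvPolynomial κ k
  let R1 := MvPolynomial κ A
  let T : Over (Spec (CommRingCat.of k)) := Over.mk (Spec.map (CommRingCat.ofHom (algebraMap k R0)))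
  haveI : LocallyOfFiniteType T.hom :=
    (HasRingHomProperty.Spec_iff (P := @LocallyOfFiniteType)).mpr (RingHom.finiteType_algebraMap.mpr inferInstance)
  haveI : CompactSpace T.left := inferInstanceAs (CompactSpace (Spec (CommRingCat.of R0)))
  let yp : (κ → k) → (𝟙_ (Over (Spec (CommRingCat.of k))) ⟶ T) := fun y =>
    Over.homMk (Spec.map (CommRingCat.ofHom (eval y : R0 →+* k))) (by
      show Spec.map _ ≫ Spec.map _ = 𝟙 _
      rw [← Spec.map_comp, ← Spec.map_id]
      exact congrArg Spec.map (CommRingCat.hom_ext (RingHom.ext fun c => eval_C c)))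
  let φ : R1 →+* Γ((GA k A ⊗ T).left, ⊤) := eval₂Hom (ringHomOf (A := A) (fst (GA k A) T).left)
    (fun i => ringHomOf (A := R0) (snd (GA k A) T).left (MvPolynomial.X i))
  let ψ : (GA k A ⊗ T).left ⟶ Spec (CommRingCat.of R1) :=
    (GA k A ⊗ T).left.toSpecΓ ≫ Spec.map (CommRingCat.ofHom φ)
  let θ : HopfPts.Pt k A → (κ → k) → (R1 →+* k) := fun χ y => eval₂Hom χ.ofConv.toRingHom y
  let pt : HopfPts.Pt k A → (κ → k) → (𝟙_ (Over (Spec (CommRingCat.of k))) ⟶ GA k A ⊗ T) := fun χ y =>
    lift (ptHom _ χ) (yp y)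
  have hψ : ∀ χ y, (pt χ y).left ≫ ψ = Spec.map (CommRingCat.ofHom (θ χ y)) := by
    intro χ y
    refine ringHom_ext' (MvPolynomial.ringHom_ext (fun a => ?_) fun j => ?_)
    · show ringHomOf ((pt χ y).left ≫ ψ) (C a) = _
      rw [ringHomOf_comp, ringHomOf_toSpecΓ, ringHomOf_SpecMap, show φ (C a) = _ from eval₂Hom_C _ _ _,
        show θ χ y (C a) = _ from eval₂Hom_C _ _ _]
      refine (ringHomOf_comp (A := A) (pt χ y).left (fst (GA k A) T).left a).symm.trans ?_
      refine Eq.trans ?_ (ringHomOf_SpecMap χ.ofConv.toRingHom a)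
      refine congrArg (fun f : (𝟙_ (Over (Spec (CommRingCat.of k)))).left ⟶ Spec (CommRingCat.of A) => ringHomOf f a) ?_
      exact (congrArg CommaMorphism.left (lift_fst (ptHom _ χ) (yp y))).trans (ptHom_left χ)
    · show ringHomOf ((pt χ y).left ≫ ψ) (MvPolynomial.X j) = _
      rw [ringHomOf_comp, ringHomOf_toSpecΓ, ringHomOf_SpecMap, show φ (MvPolynomial.X j) = _ from eval₂Hom_X' _ _ _,
        show θ χ y (MvPolynomial.X j) = _ from eval₂Hom_X' _ _ _]
      refine (ringHomOf_comp (A := R0) (pt χ y).left (snd (GA k A) T).left (MvPolynomial.X j)).symm.trans ?_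
      refine Eq.trans ?_ ((ringHomOf_SpecMap (eval y : R0 →+* k) (MvPolynomial.X j)).trans (congrArg _ (eval_X _)))
      refine congrArg (fun f : (𝟙_ (Over (Spec (CommRingCat.of k)))).left ⟶ Spec (CommRingCat.of R0) =>
        ringHomOf f (MvPolynomial.X j)) ?_
      exact congrArg CommaMorphism.left (lift_snd (ptHom _ χ) (yp y))
  let I : Set R1 := {F | ∀ c ∈ Cs, θ c.1 c.2 F = 0}
  let Z : Set (GA k A ⊗ T).left := ψ ⁻¹' PrimeSpectrum.zeroLocus I
  have hZ : IsClosed Z := (PrimeSpectrum.isClosed_zeroLocus I).preimage ψ.continuous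
  let rr : A →+* (HopfPts.D k A).R := (HopfPts.ev k A).rangeRestrict.toRingHom
  have key : ∀ (c : HopfPts.Pt k A × (κ → k)) (F : R1),
      Open.pev (HopfPts.D k A) c.1 c.2 (map rr F) = θ c.1 c.2 F := by
    intro c F
    show eval c.2 (map _ (map _ F)) = _
    rw [MvPolynomial.map_map, eval_map]
    rfl
  have hmem : ∀ χ y, (pt χ y).left (IsLocalRing.closedPoint k) ∈ Z ↔ (χ, y) ∈ Cs := by
    intro χ y
    show ((pt χ y).left ≫ ψ) (IsLocalRing.closedPoint k) ∈ PrimeSpectrum.zeroLocus I ↔ _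
    rw [hψ]
    show I ⊆ (Ideal.comap (θ χ y) (IsLocalRing.maximalIdeal k) : Set R1) ↔ _
    rw [IsLocalRing.maximalIdeal_eq_bot, Set.subset_def]
    simp only [SetLike.mem_coe, Ideal.mem_comap, Ideal.mem_bot]
    refine ⟨fun h => hCs _ fun F' hF' => ?_, fun h F hF => hF _ h⟩
    obtain ⟨F, rfl⟩ := MvPolynomial.map_surjective rr (HopfPts.ev k A).rangeRestrict_surjective F'
    rw [key]
    exact h F fun c hc => (key c F).symm.trans (hF' c hc)
  have hpt : ∀ z : (GA k A ⊗ T).left, IsClosed ({z} : Set (GA k A ⊗ T).left) →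
      ∀ [LocallyOfFiniteType (GA k A ⊗ T).hom], ∃ χ y, (pt χ y).left (IsLocalRing.closedPoint k) = z := by
    intro z hz _
    obtain ⟨p, hp⟩ := exists_point hz
    obtain ⟨χ, hχ⟩ := ptHom_surjective (p ≫ fst (GA k A) T)
    obtain ⟨f, hf⟩ : ∃ f : CommRingCat.of R0 ⟶ CommRingCat.of k, Spec.map f = (p ≫ snd (GA k A) T).left :=
      ⟨Spec.preimage _, Spec.map_preimage _⟩
    refine ⟨χ, fun i => f.hom (MvPolynomial.X i), ?_⟩
    rw [← hp (IsLocalRing.closedPoint k)]
    refine congrArg (fun q : 𝟙_ _ ⟶ GA k A ⊗ T => q.left (IsLocalRing.closedPoint k)) ?_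
    apply CartesianMonoidalCategory.hom_ext
    · rw [lift_fst, hχ]
    · rw [lift_snd]
      refine Over.OverMorphism.ext (Eq.trans ?_ hf)
      refine congrArg Spec.map (CommRingCat.hom_ext (MvPolynomial.ringHom_ext (fun c => ?_) fun i => ?_))
      · show eval (fun i => f.hom (MvPolynomial.X i)) (C c) = f.hom (C c)
        rw [eval_C]
        have h1 : Spec.map (CommRingCat.ofHom (algebraMap k R0) ≫ f) = Spec.map (𝟙 _) := by
          rw [Spec.map_comp, hf, Spec.map_id]
          exact Over.w (p ≫ snd (GA k A) T)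
        exact (RingHom.congr_fun (congrArg CommRingCat.Hom.hom (Spec.map_injective h1)) c).symm
      · exact eval_X (f := fun i => f.hom (MvPolynomial.X i)) i
  haveI : LocallyOfFiniteType (GA k A ⊗ T).hom := by
    rw [← Over.w (fst (GA k A) T)]
    haveI : LocallyOfFiniteType (fst (GA k A) T).left := fst_left_of (P := @LocallyOfFiniteType) _ ‹_›
    infer_instance
  haveI : LocallyOfFiniteType (X ⊗ T).hom := by
    rw [← Over.w (fst X T)]
    haveI : LocallyOfFiniteType (fst X T).left := fst_left_of (P := @LocallyOfFiniteType) _ ‹_›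
    infer_instance
  haveI : QuasiCompact T.hom := (quasiCompact_iff_compactSpace T.hom).mpr inferInstance
  haveI : QuasiCompact (GA k A ⊗ T).hom := by
    rw [← Over.w (fst (GA k A) T)]
    haveI : QuasiCompact (fst (GA k A) T).left := fst_left_of (P := @QuasiCompact) _ ‹_›
    infer_instance
  haveI : CompactSpace (GA k A ⊗ T).left := (quasiCompact_iff_compactSpace (GA k A ⊗ T).hom).mp inferInstance
  haveI : QuasiCompact (X ⊗ T).hom := by
    rw [← Over.w (fst X T)]
    haveI : QuasiCompact (fst X T).left := fst_left_of (P := @QuasiCompact) _ ‹_›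
    infer_instance
  haveI : CompactSpace (X ⊗ T).left := (quasiCompact_iff_compactSpace (X ⊗ T).hom).mp inferInstance
  haveI : IsLocallyNoetherian (GA k A ⊗ T).left := LocallyOfFiniteType.isLocallyNoetherian (GA k A ⊗ T).hom
  haveI : IsLocallyNoetherian (X ⊗ T).left := LocallyOfFiniteType.isLocallyNoetherian (X ⊗ T).hom
  haveI : AlgebraicGeometry.IsNoetherian (GA k A ⊗ T).left := { }
  haveI : AlgebraicGeometry.IsNoetherian (X ⊗ T).left := { }
  haveI : JacobsonSpace (GA k A ⊗ T).left := LocallyOfFiniteType.jacobsonSpace (GA k A ⊗ T).hom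
  haveI : JacobsonSpace (X ⊗ T).left := LocallyOfFiniteType.jacobsonSpace (X ⊗ T).hom
  haveI : IsLocallyNoetherian X.left := LocallyOfFiniteType.isLocallyNoetherian X.hom
  haveI : LocallyOfFiniteType π.left := by
    haveI : LocallyOfFiniteType (π.left ≫ X.hom) := by rw [Over.w]; infer_instance
    exact locallyOfFiniteType_of_comp _ X.hom
  haveI : LocallyOfFinitePresentation π.left := inferInstance
  haveI : UniversallyOpen π.left := inferInstance
  let q : GA k A ⊗ T ⟶ X ⊗ T := π ▷ T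
  haveI : UniversallyOpen q.left := whiskerRight_left_of (P := @UniversallyOpen) π T inferInstance
  haveI : Surjective q.left := whiskerRight_left_of (P := @Surjective) π T inferInstance
  haveI : LocallyOfFiniteType (q.left ≫ (X ⊗ T).hom) := by rw [Over.w]; infer_instance
  haveI : LocallyOfFiniteType q.left := locallyOfFiniteType_of_comp _ (X ⊗ T).hom
  haveI : QuasiCompact (q.left ≫ (X ⊗ T).hom) := by rw [Over.w]; infer_instance
  haveI : IsSeparated T.hom := inferInstanceAs (IsSeparated (Spec.map (CommRingCat.ofHom (algebraMap k R0))))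
  haveI : IsSeparated (X ⊗ T).hom := by
    rw [← Over.w (fst X T)]
    haveI : IsSeparated (fst X T).left := fst_left_of (P := @IsSeparated) _ inferInstance
    infer_instance
  haveI : QuasiCompact q.left := QuasiCompact.of_comp q.left (X ⊗ T).hom
  haveI : LocallyOfFinitePresentation q.left := inferInstance
  have hZc : Topology.IsConstructible Z :=
    ((TopologicalSpace.NoetherianSpace.isCompact Zᶜ).isConstructible hZ.isOpen_compl).of_compl
  have hqZ : IsClosed (q.left '' Z) := by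
    rw [← isOpen_compl_iff]
    have : (q.left '' Z)ᶜ = q.left '' Zᶜ := by
      refine Set.Subset.antisymm (fun w hw => ?_) fun w hw hw' => ?_
      · obtain ⟨z, rfl⟩ := q.left.surjective w
        exact ⟨z, fun h => hw ⟨z, h, rfl⟩, rfl⟩
      have hc1 : Topology.IsConstructible (q.left '' Z) := q.left.isConstructible_image hZc
      have hc2 : Topology.IsConstructible (q.left '' Zᶜ) := q.left.isConstructible_image hZc.compl
      obtain ⟨W, hW, hwW, hWsub⟩ := exists_isLocallyClosed_subset (hc1.inter hc2) w ⟨hw', hw⟩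
      obtain ⟨v, hvW, hv⟩ := nonempty_inter_closedPoints ⟨w, hwW⟩ hW
      obtain ⟨⟨z₁, hz₁, hz₁v⟩, z₂, hz₂, hz₂v⟩ := hWsub hvW
      have hF : IsClosed (q.left ⁻¹' {v}) := hv.preimage q.left.continuous
      obtain ⟨p₁, hp₁, hp₁c⟩ := nonempty_inter_closedPoints (Z := Z ∩ q.left ⁻¹' {v}) ⟨z₁, hz₁, hz₁v⟩
        (hZ.inter hF).isLocallyClosed
      obtain ⟨p₂, hp₂, hp₂c⟩ := nonempty_inter_closedPoints (Z := Zᶜ ∩ q.left ⁻¹' {v}) ⟨z₂, hz₂, hz₂v⟩
        (hZ.isOpen_compl.isLocallyClosed.inter hF.isLocallyClosed)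
      obtain ⟨g₁, y₁, rfl⟩ := hpt p₁ hp₁c
      obtain ⟨g₂, y₂, rfl⟩ := hpt p₂ hp₂c
      have heq : pt g₁ y₁ ≫ q = pt g₂ y₂ ≫ q := point_ext (hp₁.2.trans hp₂.2.symm)
      simp only [pt, q, lift_whiskerRight] at heq
      have h1 := congrArg (· ≫ fst X T) heq
      have h2 := congrArg (· ≫ snd X T) heq
      simp only [lift_fst, lift_snd] at h1 h2
      obtain ⟨x, hx⟩ : ∃ x, ptHom _ g₁ * (x ≫ i) = ptHom (𝟙_ _) g₂ := by
        obtain ⟨l, hl1, hl2⟩ : ∃ l, l ≫ fst (GA k A) P = ptHom _ g₁ ∧ l ≫ (GA k A ◁ i) ≫ μ[GA k A] = ptHom _ g₂ :=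
          ⟨hsq.lift _ _ h1, hsq.lift_fst _ _ h1, hsq.lift_snd _ _ h1⟩
        refine ⟨l ≫ snd _ P, ?_⟩
        rw [← hl2, ← hl1, Hom.mul_def, ← Category.assoc l]
        refine congrArg (· ≫ μ[GA k A]) ?_
        apply CartesianMonoidalCategory.hom_ext <;> simp
      obtain ⟨s, hs⟩ := ptHom_surjective (x ≫ i)
      rw [← hs, ← map_mul] at hx
      have h3 := hinv g₁ y₁ ((hmem _ _).mp hp₁.1) s ⟨x, hs.symm⟩
      rw [ptHom_injective hx] at h3
      refine hp₂.1 ?_
      rw [show pt g₂ y₂ = pt g₂ y₁ from congrArg (CartesianMonoidalCategory.lift _) h2.symm]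
      exact (hmem _ _).mpr h3
    rw [this]
    exact q.left.isOpenMap _ hZ.isOpen_compl
  haveI : UniversallyClosed (snd X T).left := snd_left_of (P := @UniversallyClosed) T inferInstance
  have hW : IsClosed ((snd X T).left '' (q.left '' Z)) := (snd X T).left.isClosedMap _ hqZ
  have hsnd : ∀ z, (snd X T).left (q.left z) = (snd (GA k A) T).left z := fun z =>
    congrArg (fun f : GA k A ⊗ T ⟶ T => f.left z) (whiskerRight_snd π T)
  have hsndpt : ∀ χ y, (snd (GA k A) T).left ((pt χ y).left (IsLocalRing.closedPoint k)) =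
      (yp y).left (IsLocalRing.closedPoint k) := fun χ y =>
    congrArg (fun f : 𝟙_ _ ⟶ T => f.left (IsLocalRing.closedPoint k)) (lift_snd _ _)
  obtain ⟨J, hJ⟩ := (PrimeSpectrum.isClosed_iff_zeroLocus_ideal
    (Z := ((snd X T).left '' (q.left '' Z) : Set (Spec (CommRingCat.of R0))))).mp hW
  have hypJ : ∀ y, (yp y).left (IsLocalRing.closedPoint k) ∈ (snd X T).left '' (q.left '' Z) ↔
      ∀ p ∈ J, eval y p = 0 := by
    intro y
    rw [hJ]
    show (J : Set R0) ⊆ (Ideal.comap (eval y : R0 →+* k) (IsLocalRing.maximalIdeal k) : Set R0) ↔ _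
    rw [IsLocalRing.maximalIdeal_eq_bot, Set.subset_def]
    simp only [SetLike.mem_coe, Ideal.mem_comap, Ideal.mem_bot]
  intro y hy
  have hyW : (yp y).left (IsLocalRing.closedPoint k) ∈ (snd X T).left '' (q.left '' Z) := by
    refine (hypJ y).mpr fun p hp => hy p ?_
    rintro y' ⟨g, hg⟩
    exact (hypJ y').mp ⟨_, ⟨_, (hmem g y').mpr hg, rfl⟩, (hsnd _).trans (hsndpt g y')⟩ p hp
  obtain ⟨_, ⟨z, hz, rfl⟩, hzy⟩ := hyW
  rw [hsnd] at hzy
  obtain ⟨p₁, hp₁, hp₁c⟩ := nonempty_inter_closedPoints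
    (Z := Z ∩ (snd (GA k A) T).left ⁻¹' {(yp y).left (IsLocalRing.closedPoint k)}) ⟨z, hz, hzy⟩
    (hZ.inter ((isClosed_point (yp y)).preimage (snd (GA k A) T).left.continuous)).isLocallyClosed
  obtain ⟨g, y', rfl⟩ := hpt p₁ hp₁c
  have h1 : yp y' = yp y := point_ext ((hsndpt g y').symm.trans hp₁.2)
  have h2 : y' = y := funext fun j => by
    have h3 := congrArg CommRingCat.Hom.hom (Spec.map_injective (congrArg CommaMorphism.left h1))
    exact (eval_X j).symm.trans ((RingHom.congr_fun h3 (MvPolynomial.X j)).trans (eval_X j))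
  exact ⟨g, h2 ▸ (hmem g y').mp hp₁.1⟩

/-- A morphism killing the vanishing ideal of the points of a closed subgroup scheme factors through it. -/
theorem exists_factor_of_ideal {P : Over (Spec (CommRingCat.of k))} [GrpObj P] (i : P ⟶ GA k A) [IsMonHom i]
    [IsClosedImmersion i.left] {W : Over (Spec (CommRingCat.of k))} [IsAffine W.left] (c : W ⟶ GA k A)
    (hc : ∀ a ∈ ideal (ptsOf i : Set (HopfPts.Pt k A)), algHomOf c a = 0) : ∃ f : W ⟶ P, f ≫ i = c := by
  let i' : P.left ⟶ Spec (CommRingCat.of A) := i.left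
  let c' : W.left ⟶ Spec (CommRingCat.of A) := c.left
  haveI : IsClosedImmersion i' := ‹IsClosedImmersion i.left›
  have H : i'.ker ≤ c'.ker := by
    refine Scheme.IdealSheafData.le_of_isAffine fun b hb => ?_
    simp only [Scheme.Hom.ker_apply, RingHom.mem_ker] at hb ⊢
    obtain ⟨a, rfl⟩ := ((Scheme.ΓSpecIso (CommRingCat.of A)).commRingCatIsoToRingEquiv.symm).surjective b
    refine hc a fun s hs => ?_
    obtain ⟨x, hx⟩ := hs
    apply baseHom_bijective.1
    rw [map_zero]
    have h := algHomOf_comp x i a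
    rw [show x ≫ i = ptHom (𝟙_ _) s from hx, algHomOf_ptHom, show algHomOf i a = 0 from hb, map_zero] at h
    exact h
  refine ⟨Over.homMk (IsClosedImmersion.lift i' c' H) ?_, Over.OverMorphism.ext (IsClosedImmersion.lift_fac i' c' H)⟩
  have h1 : (IsClosedImmersion.lift i' c' H ≫ i') ≫ (GA k A).hom = c' ≫ (GA k A).hom :=
    congrArg (· ≫ (GA k A).hom) (IsClosedImmersion.lift_fac i' c' H)
  exact (congrArg (IsClosedImmersion.lift i' c' H ≫ ·) (Over.w i).symm).trans
    ((Category.assoc _ _ _).symm.trans (h1.trans (Over.w c)))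

variable {G P : Over (Spec (CommRingCat.of k))} [GrpObj G] [GrpObj P] [IsAffine G.left] [Smooth G.hom]
  [ConnectedSpace G.left] (iP : P ⟶ G) [IsMonHom iP] [IsClosedImmersion iP.left]
  (a : AlgGrp.Action G X) (o : 𝟙_ (Over (Spec (CommRingCat.of k))) ⟶ X)

/-- The quotient by a subgroup containing a Borel subgroup is proper. -/
theorem isProper_of_borel_le' [LocallyOfFiniteType X.hom] (π : G ⟶ X) [Flat π.left] [Surjective π.left]
    (hsq : IsPullback (fst G P) ((G ◁ iP) ≫ μ[G]) π π) {B : Over (Spec (CommRingCat.of k))} [GrpObj B]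
    (b : B ⟶ P) (hB : Red.IsBorelOver k (b ≫ iP)) : IsProper X.hom := by
  haveI : CompactSpace X.left :=
    ⟨by rw [← π.left.surjective.range_eq]; exact isCompact_range π.left.continuous⟩
  haveI : QuasiCompact X.hom := (quasiCompact_iff_compactSpace X.hom).mpr inferInstance
  haveI := isSeparated_quotient iP (π) hsq
  obtain ⟨A₁, _, _, e, he⟩ := Hopf.exists_iso G
  haveI := he
  haveI : Algebra.FiniteType k A₁ := finiteType_of_iso e
  haveI := isDomain_of_iso e
  haveI : IsIso e.inv.left := ((Over.forget _).mapIso e).isIso_inv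
  haveI : Surjective (e.inv ≫ π).left := by rw [Over.comp_left]; infer_instance
  haveI := hB.1
  obtain ⟨hS, -⟩ := isMax_ptsOf ((b ≫ iP) ≫ e.hom) (isBorelOver_comp hB e)
  have hπ : ∀ g, ∀ s ∈ ptsOf ((b ≫ iP) ≫ e.hom),
      ptHom (𝟙_ (Over (Spec (CommRingCat.of k)))) (g * s) ≫ e.inv ≫ π = ptHom _ g ≫ e.inv ≫ π := by
    rintro g s ⟨x, hx⟩
    have hx' : (x ≫ b) ≫ iP ≫ e.hom = ptHom (𝟙_ _) s := by
      refine Eq.trans ?_ hx
      show _ = x ≫ _
      simp only [Category.assoc]
    have h1 := congrArg (fun z => lift (ptHom (𝟙_ _) g ≫ e.inv) (x ≫ b) ≫ z) hsq.w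
    simp only [lift_fst_assoc, Category.assoc, lift_whiskerLeft_assoc] at h1
    rw [h1, map_mul, ← Category.assoc (ptHom _ g * ptHom _ s), MonObj.mul_comp, ← hx']
    simp only [Category.assoc, Iso.hom_inv_id, Category.comp_id]
    rw [Hom.mul_def, Category.assoc]
  haveI : UniversallyClosed X.hom :=
    Groth.Agent.Lib.Lim.AffineSpaceClosed.universallyClosed_of_affineSpace X.hom fun n =>
      Groth.Agent.Lib.Lim.AffineSpaceClosed.isClosedMap_of_isOpenImmersion X.hom _ _
        (AffineSpace.SpecIso (ULift.{u} (Fin n)) (CommRingCat.of k)).hom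
        (by rw [← Iso.eq_inv_comp]; exact (AffineSpace.SpecIso_inv_over (CommRingCat.of k)).symm)
        (isClosedMap_quotient (e.inv ≫ π) _ hS hπ n)
  exact { }

/-- A subgroup with proper quotient contains a Borel subgroup. -/
theorem exists_borel_le' [IsProper X.hom] (π : G ⟶ X) [Flat π.left] [Surjective π.left]
    (hsq : IsPullback (fst G P) ((G ◁ iP) ≫ μ[G]) π π) :
    ∃ (B : Over (Spec (CommRingCat.of k))) (_ : GrpObj B) (b : B ⟶ P), Red.IsBorelOver k (b ≫ iP) := by
  obtain ⟨A₁, _, _, e, he⟩ := Hopf.exists_iso G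
  haveI := he
  haveI : Algebra.FiniteType k A₁ := finiteType_of_iso e
  haveI := isDomain_of_iso e
  haveI : IsIso e.inv.left := ((Over.forget _).mapIso e).isIso_inv
  haveI : IsIso e.hom.left := ((Over.forget _).mapIso e).isIso_hom
  haveI : Surjective (e.inv ≫ π).left := by rw [Over.comp_left]; infer_instance
  haveI : Flat (e.inv ≫ π).left := by rw [Over.comp_left]; infer_instance
  haveI : IsClosedImmersion (iP ≫ e.hom).left := by rw [Over.comp_left]; infer_instance
  have hsq' : IsPullback (fst (GA k A₁) P) ((GA k A₁ ◁ (iP ≫ e.hom)) ≫ μ[GA k A₁]) (e.inv ≫ π)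
      (e.inv ≫ π) := by
    refine hsq.of_iso (whiskerRightIso e P) e e (Iso.refl X) ?_ ?_ ?_ ?_
    · simp
    · rw [Category.assoc, IsMonHom.mul_hom e.hom]
      simp only [tensorHom_def', Category.assoc, whiskerRightIso_hom, MonoidalCategory.whiskerLeft_comp]
      rw [← whisker_exchange_assoc e.hom iP, ← whisker_exchange_assoc e.hom e.hom]
    · simp
    · simp
  have hcl := isCl_ptsOf (iP ≫ e.hom)
  have hcomp := complete_of_isProper (iP ≫ e.hom) (e.inv ≫ π) hsq'
  obtain ⟨S, hS⟩ := exists_isMax (k := k) (A := A₁)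
  haveI := hS.solv
  obtain ⟨g, hg⟩ := Absorb.exists_conj_le (HopfPts.D k A₁) hasMul_pts _ hcl hcomp S hS.cl hS.irr
  obtain ⟨C, _, c, hC, -, hpt⟩ := exists_borel_of_isMax (hS.conj g⁻¹)
  haveI := hC.2.1
  haveI := hC.2.2.1
  haveI : IsAffine C.left := isAffine_of_isAffineHom c.left
  obtain ⟨f, hf⟩ := exists_factor_of_ideal (iP ≫ e.hom) c (algHomOf_eq_zero c fun x => by
    obtain ⟨s, hs, hx⟩ := hpt x
    refine ⟨s, ?_, hx⟩
    have h := hg _ ((Image.mem_map_conj g⁻¹ S s).mp hs)
    rwa [show g⁻¹ * (g⁻¹⁻¹ * s * g⁻¹) * g = s by group] at h)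
  refine ⟨C, inferInstance, f, ?_⟩
  haveI : IsMonHom e.symm.hom := inferInstanceAs (IsMonHom e.inv)
  have h := isBorelOver_comp hC e.symm
  rwa [← hf, Iso.symm_hom, Category.assoc, Category.assoc, Iso.hom_inv_id, Category.comp_id] at h

include a o in
/-- The quotient by a subgroup containing a Borel subgroup is proper. -/
theorem isProper_of_borel_le (hX : AGF.IsQuotient iP X a o) {B : Over (Spec (CommRingCat.of k))} [GrpObj B]
    (b : B ⟶ P) (hB : Red.IsBorelOver k (b ≫ iP)) : IsProper X.hom := by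
  obtain ⟨hlft, hflat, hsurj, hsq⟩ := hX
  haveI := hlft
  haveI := hflat
  haveI := hsurj
  exact isProper_of_borel_le' iP (a.orbitMap o) hsq b hB

include a o in
/-- A subgroup with proper quotient contains a Borel subgroup. -/
theorem exists_borel_le (hX : AGF.IsQuotient iP X a o) [IsProper X.hom] :
    ∃ (B : Over (Spec (CommRingCat.of k))) (_ : GrpObj B) (b : B ⟶ P), Red.IsBorelOver k (b ≫ iP) := by
  obtain ⟨hlft, hflat, hsurj, hsq⟩ := hX
  haveI := hflat
  haveI := hsurj
  exact exists_borel_le' iP (a.orbitMap o) hsq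

end Groth.Agent.H1.Classical.Scheme'
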