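import Groth.Agent.H1.Classical.CentralizerScheme
import Groth.Agent.H1.Classical.Torus.CartanDense
import Groth.Agent.H1.Classical.Torus.OpenScheme

/-!
# Conjugates of a Cartan subgroup contain a nonempty open
-/

universe u

open CategoryTheory MonoidalCategory CartesianMonoidalCategory MonObj GrpObj AlgebraicGeometry

namespace Groth.Agent.H1.Classical.CartanOpen

set_option linter.style.haveILetI false
set_option linter.unusedSectionVars false

open Groth.Agent.Lib.GrpSch Groth.Agent.Lib.RedPts Groth.Agent.Lib.RedPts.Points Scheme' WithConv Torus Torus.Centraliser Complete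
  MaxTorusScheme MaxTorusApply CentralizerScheme

attribute [local instance] baseAlgebra

variable {k : Type u} [Field k] [IsAlgClosed k] {A : Type u} [CommRing A] [HopfAlgebra k A] [Algebra.FiniteType k A]
  [IsDomain A]

/-- A subgroup with an element fixing finitely many cosets has conjugates containing an open set. -/
theorem exists_open_GA {H : Over (Spec (CommRingCat.of k))} [GrpObj H] (iH : H ⟶ GA k A) [IsMonHom iH]
    [IsClosedImmersion iH.left] [Smooth H.hom] [ConnectedSpace H.left] {t : HopfPts.Pt k A} (ht : t ∈ ptsOf iH)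
    (Q : Finset (HopfPts.Pt k A)) (hQ : ∀ x, x⁻¹ * t * x ∈ ptsOf iH → ∃ q ∈ Q, q⁻¹ * x ∈ ptsOf iH) :
    ∃ U : (GA k A).left.Opens, (U : Set ↥(GA k A).left).Nonempty ∧
      (U : Set ↥(GA k A).left) ⊆ Set.range (fst (GA k A) H * (snd (GA k A) H ≫ iH) * (fst (GA k A) H)⁻¹).left.base := by
  classical
  let φ := fst (GA k A) H * (snd (GA k A) H ≫ iH) * (fst (GA k A) H)⁻¹
  have hdense : ∀ f : A, f ≠ 0 → ∃ (x : HopfPts.Pt k A) (b : 𝟙_ (Over (Spec (CommRingCat.of k))) ⟶ H)
      (χ : HopfPts.Pt k A), lift (ptHom _ x) b ≫ φ = ptHom _ χ ∧ χ.ofConv f ≠ 0 := by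
    intro f hf
    by_contra hcon
    push Not at hcon
    refine hf (HopfPts.ev_injective (k := k) (A := A) ?_)
    rw [map_zero]
    refine Torus.Dominant.dense_conj (HopfPts.D k A) HopfPts.sirr_univ hasMul_pts pts_ext (isCl_ptsOf iH)
      (sirr_ptsOf iH) ht Q hQ ⟨f, rfl⟩ fun g b hb => ?_
    obtain ⟨y, hy⟩ := hb
    change y ≫ iH = _ at hy
    exact hcon g y (g * b * g⁻¹) (by
      simp only [φ, MonObj.comp_mul, GrpObj.comp_inv, lift_fst, lift_snd_assoc, hy, map_mul, map_inv])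
  haveI := locallyOfFiniteType (k := k) (A := A)
  haveI : IsAffine H.left := isAffine_of_isAffineHom iH.left
  haveI : QuasiCompact H.hom := inferInstance
  haveI : LocallyOfFiniteType (GA k A ⊗ H).hom := by rw [Over.tensorObj_hom]; infer_instance
  haveI : QuasiCompact (GA k A ⊗ H).hom := by rw [Over.tensorObj_hom]; infer_instance
  haveI : LocallyOfFiniteType (φ.left ≫ (GA k A).hom) := by rw [Over.w]; infer_instance
  haveI : LocallyOfFiniteType φ.left := locallyOfFiniteType_of_comp φ.left (GA k A).hom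
  haveI : QuasiCompact (φ.left ≫ (GA k A).hom) := by rw [Over.w]; infer_instance
  haveI : QuasiCompact φ.left := QuasiCompact.of_comp φ.left (GA k A).hom
  haveI : IsLocallyNoetherian (GA k A).left := LocallyOfFiniteType.isLocallyNoetherian (GA k A).hom
  haveI : AlgebraicGeometry.IsIntegral (GA k A).left :=
    inferInstanceAs (AlgebraicGeometry.IsIntegral (Spec (CommRingCat.of A)))
  have hd : Dense (Set.range φ.left.base) := by
    rw [dense_iff_inter_open]
    intro U hU hne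
    obtain ⟨_, ⟨f, rfl⟩, hzD, hD⟩ :=
      PrimeSpectrum.isTopologicalBasis_basic_opens.exists_subset_of_mem_open
        hne.choose_spec hU
    have hf0 : f ≠ 0 := fun h => by
      exact ((PrimeSpectrum.mem_basicOpen _ _).mp hzD) (h ▸ zero_mem _)
    obtain ⟨x, b, χ, hχ, hχf⟩ := hdense f hf0
    let s : ↥(𝟙_ (Over (Spec (CommRingCat.of k)))).left := IsLocalRing.closedPoint k
    refine ⟨_, hD ?_, (lift (ptHom _ x) b).left s, (Scheme.Hom.comp_apply _ _ s).symm⟩
    rw [← Over.comp_left, hχ, ptHom_left]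
    show f ∉ Ideal.comap χ.ofConv.toRingHom (IsLocalRing.maximalIdeal k)
    intro hm
    rw [Ideal.mem_comap, IsLocalRing.maximalIdeal_eq_bot] at hm
    exact hχf ((Submodule.mem_bot k).mp hm)
  have hc : Topology.IsConstructible (Set.range φ.left.base) := by
    rw [← Set.image_univ]
    exact φ.left.isConstructible_image .univ
  have hη : genericPoint (GA k A).left ∈ Set.range φ.left.base := by
    by_contra h
    obtain ⟨Z, hZ, hηZ, hZsub⟩ := exists_isLocallyClosed_subset hc.compl _ h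
    obtain ⟨U, F, hU, hF, rfl⟩ := hZ
    obtain ⟨y, hyU, hyr⟩ := hd.inter_open_nonempty U hU ⟨_, hηZ.1⟩
    exact hZsub ⟨hyU, ((genericPoint_spec (GA k A).left).mem_closed_set_iff hF).mp hηZ.2 (Set.mem_univ y)⟩ hyr
  obtain ⟨Z, hZ, hηZ, hZsub⟩ := exists_isLocallyClosed_subset hc _ hη
  obtain ⟨U, F, hU, hF, rfl⟩ := hZ
  exact ⟨⟨U, hU⟩, ⟨_, hηZ.1⟩, fun y hy => hZsub ⟨hy, ((genericPoint_spec (GA k A).left).mem_closed_set_iff hF).mp hηZ.2
    (Set.mem_univ y)⟩⟩

/-- A point in the image of a morphism of varieties comes from a point. -/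
theorem exists_point_of_mem_range {X Y : Over (Spec (CommRingCat.of k))} (f : X ⟶ Y) [LocallyOfFiniteType X.hom]
    [LocallyOfFiniteType Y.hom] (y : 𝟙_ (Over (Spec (CommRingCat.of k))) ⟶ Y)
    (hy : y.left.base (IsLocalRing.closedPoint k) ∈ Set.range f.left.base) : ∃ x, x ≫ f = y := by
  haveI : JacobsonSpace X.left := LocallyOfFiniteType.jacobsonSpace X.hom
  let e := pointEquivClosedPoint Y.hom
  let p : {p : Spec (CommRingCat.of k) ⟶ Y.left // p ≫ Y.hom = 𝟙 _} := ⟨y.left, Over.w y⟩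
  obtain ⟨z, hz⟩ := hy
  have hcl : IsClosed (f.left ⁻¹' {(e p).1}) := (e p).2.preimage f.left.continuous
  obtain ⟨z', hz', hz'c⟩ := nonempty_inter_closedPoints (X := X.left) ⟨z, hz⟩ hcl.isLocallyClosed
  obtain ⟨x, hx⟩ := exists_point (Y := X) hz'c
  refine ⟨x, Over.OverMorphism.ext ?_⟩
  have hc : (x ≫ f).left ≫ Y.hom = 𝟙 _ := Over.w (x ≫ f)
  refine congrArg Subtype.val (e.injective (a₁ := ⟨(x ≫ f).left, hc⟩) (a₂ := p) (Subtype.ext ?_))
  show f.left (x.left (IsLocalRing.closedPoint k)) = _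
  exact (congrArg f.left (hx _)).trans hz'

/-- A Borel subgroup containing a torus. -/
theorem exists_bor_containing {S : Subgroup (HopfPts.Pt k A)} (hS : IsTor (HopfPts.D k A) S) :
    ∃ B, IsBor (HopfPts.D k A) B ∧ S ≤ B := by
  obtain ⟨B0, hcl, hirr, hsol, habs⟩ := HopfPts.exists_borel (k := k) (A := A)
  obtain ⟨a, ha⟩ := habs S (Torus.MaxTorus.solvable_tor hS) hS.irr
  have hM := (Image.isMax_of_absorbing hcl hirr hsol habs).conj a
  refine ⟨B0.map (MulAut.conj a).toMonoidHom, ⟨hM.cl, hM.irr, hM.solv, fun S' hS' hS'i => ?_, complete_of_isMax hM⟩,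
    fun s hs => (Image.mem_map_conj a B0 s).mpr (ha s hs)⟩
  obtain ⟨b, hb⟩ := habs S' hS' hS'i
  refine ⟨b * a⁻¹, fun s hs => ?_⟩
  rw [Image.mem_map_conj, show a⁻¹ * ((b * a⁻¹)⁻¹ * s * (b * a⁻¹)) * a = b⁻¹ * s * b by group]
  exact hb s hs

/-- The conjugates of a Cartan subgroup contain an open set. -/
theorem exists_open {G : Over (Spec (CommRingCat.of k))} [GrpObj G] [IsAffine G.left] [Smooth G.hom]
    [ConnectedSpace G.left] {T : Over (Spec (CommRingCat.of k))} [GrpObj T] {iT : T ⟶ G} (hT : AGF.IsMaxTorus iT)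
    {C : Over (Spec (CommRingCat.of k))} [GrpObj C] {c : C ⟶ G} (hc : Red.IsCentralizerOf iT c) :
    ∃ U : G.left.Opens, (U : Set ↥G.left).Nonempty ∧
      ∀ x : 𝟙_ (Over (Spec (CommRingCat.of k))) ⟶ G, x.left.base (IsLocalRing.closedPoint k) ∈ U →
        ∃ (g : 𝟙_ (Over (Spec (CommRingCat.of k))) ⟶ G) (y : 𝟙_ (Over (Spec (CommRingCat.of k))) ⟶ C),
          g * (y ≫ c) * g⁻¹ = x := by
  obtain ⟨A, _, _, _, _, e, he⟩ := exists_GA G
  haveI := he
  haveI := locallyOfFiniteType (k := k) (A := A)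
  haveI := hT.1
  haveI := hT.2.1
  haveI := hc.1
  haveI := hc.2.1
  have hc' : Red.IsCentralizerOf (iT ≫ e.hom) (c ≫ e.hom) := by
    refine ⟨inferInstance, inferInstance, fun X g => ?_⟩
    constructor
    · rintro ⟨z, rfl⟩ X' x h
      have := congrArg (· ≫ e.hom) ((hc.2.2 X _).mp ⟨z, rfl⟩ X' x h)
      simpa only [MonObj.mul_comp, Category.assoc] using this
    · intro H
      obtain ⟨z, hz⟩ := (hc.2.2 X (g ≫ e.inv)).mpr fun X' x h => by
        rw [← cancel_mono e.hom]
        simpa only [MonObj.mul_comp, Category.assoc, Iso.inv_hom_id, Category.comp_id] using H X' x h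
      exact ⟨z, by rw [← Category.assoc, hz, Category.assoc, Iso.inv_hom_id, Category.comp_id]⟩
  have hT' := isMaxTorus_comp e hT
  obtain ⟨hci, haff, hsm, hconn, hpts⟩ := props _ hT'.2.2.1 _ hc'
  haveI := hci
  haveI := haff
  haveI := hsm
  haveI := hconn
  obtain ⟨W, _, σ, hσ⟩ := Torus.GenRep.exists_gen (HopfPts.D k A) hasMul_pts pts_ext
  have hMax := isMax_ptsOf_torus _ hT'
  obtain ⟨B₁, hB₁, hTB⟩ := exists_bor_containing hMax.tor
  obtain ⟨t, ht, Q, hQ⟩ := Torus.CartanDense.finite_fix HopfPts.sirr_univ hasMul_pts hσ hB₁ hMax hTB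
  rw [← hpts] at ht hQ
  obtain ⟨U, ⟨u, hu⟩, hU⟩ := exists_open_GA (c ≫ e.hom) ht Q hQ
  haveI : IsIso e.hom.left := ((Over.forget _).mapIso e).isIso_hom
  refine ⟨e.hom.left ⁻¹ᵁ U, ⟨(CategoryTheory.inv e.hom.left) u, ?_⟩, fun x hx => ?_⟩
  · show e.hom.left ((CategoryTheory.inv e.hom.left) u) ∈ U
    rw [← Scheme.Hom.comp_apply, IsIso.inv_hom_id]
    exact hu
  haveI : LocallyOfFiniteType (GA k A ⊗ C).hom := by rw [Over.tensorObj_hom]; infer_instance
  obtain ⟨p, hp⟩ := exists_point_of_mem_range _ (x ≫ e.hom) (hU (show e.hom.left (x.left _) ∈ U from hx))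
  refine ⟨(p ≫ fst _ _) ≫ e.inv, p ≫ snd _ _, ?_⟩
  rw [← cancel_mono e.hom, ← hp]
  simp only [MonObj.mul_comp, MonObj.comp_mul, GrpObj.inv_comp, GrpObj.comp_inv, Category.assoc, Iso.inv_hom_id,
    Category.comp_id]

end Groth.Agent.H1.Classical.CartanOpen
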