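import Groth.Agent.H1.Classical.Borel
import Mathlib.LinearAlgebra.Matrix.NonsingularInverse
import Mathlib.LinearAlgebra.Matrix.ToLin
import Mathlib.LinearAlgebra.Dimension.RankNullity
import Mathlib.Algebra.Polynomial.Roots

/-!
# Invariant functions: constant for complete quotients, nonconstant for proper subgroups of solvable groups
-/

universe u v w

namespace Groth.Agent.H1.Classical.Invariant

set_option linter.style.haveILetI false
set_option linter.unusedSectionVars false

open Module Kolchin Open Complete Matrix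

variable {k : Type u} [Field k] [IsAlgClosed k] {Γ : Type v} [Group Γ] (D : Alg k Γ)

/-- Invariant functions for a complete quotient are constant. -/
theorem const_of_complete (hirr : D.SIrr Set.univ) {B : Subgroup Γ} (hB : Complete D B) (f : D.R)
    (hf : ∀ g, ∀ b ∈ B, (f : Γ → k) (g * b) = (f : Γ → k) g) (g : Γ) :
    (f : Γ → k) g = (f : Γ → k) 1 := by
  classical
  by_contra hne
  haveI := isDomain hirr
  have hinf : (Set.range (f : Γ → k)).Infinite := by
    intro hfin
    have hprod : ∏ c ∈ hfin.toFinset, (f - algebraMap k D.R c) = 0 := Subtype.ext (funext fun x => by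
      rw [SubmonoidClass.coe_finsetProd, Finset.prod_apply]
      exact Finset.prod_eq_zero (hfin.mem_toFinset.mpr ⟨x, rfl⟩) (sub_self _))
    obtain ⟨c, -, hc⟩ := Finset.prod_eq_zero_iff.mp hprod
    rw [sub_eq_zero] at hc
    exact hne (by rw [hc]; rfl)
  let Cs : Set (Γ × (Fin 1 → k)) := {q | q.2 0 * (f : Γ → k) q.1 = 1}
  have hCs : PairCl D Cs := by
    intro q hq
    have h := hq (MvPolynomial.X 0 * MvPolynomial.C f - 1) fun c hc => by
      simp only [map_sub, map_mul, pev_X, pev_C, map_one]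
      rw [show c.2 0 * (f : Γ → k) c.1 = 1 from hc, sub_self]
    simp only [map_sub, map_mul, pev_X, pev_C, map_one, sub_eq_zero] at h
    exact h
  have hY := hB (Fin 1) Cs hCs fun x y hxy b hb => by
    show y 0 * (f : Γ → k) (x * b) = 1
    rw [hf x b hb]
    exact hxy
  have h0 : (fun _ => (0 : k)) ∉ {y : Fin 1 → k | ∃ x, (x, y) ∈ Cs} := by
    rintro ⟨x, hx⟩
    exact zero_ne_one ((zero_mul _).symm.trans hx)
  refine h0 (hY _ fun p hp => ?_)
  let p' : Polynomial k := MvPolynomial.aeval (fun _ => Polynomial.X) p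
  have heval : ∀ c : k, Polynomial.eval c p' = MvPolynomial.eval (fun _ => c) p := by
    intro c
    show Polynomial.aeval c (MvPolynomial.aeval (fun _ => Polynomial.X) p) = _
    rw [← AlgHom.comp_apply, MvPolynomial.comp_aeval]
    simp only [Polynomial.aeval_X]
    rfl
  have hp0 : p' = 0 := by
    refine Polynomial.eq_zero_of_infinite_isRoot p' (((hinf.diff (Set.finite_singleton 0)).image
      inv_injective.injOn).mono ?_)
    rintro _ ⟨c, ⟨⟨x, rfl⟩, hc⟩, rfl⟩
    show Polynomial.eval _ p' = 0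
    rw [heval]
    exact hp _ ⟨x, inv_mul_cancel₀ hc⟩
  rw [← heval, hp0, Polynomial.eval_zero]

/-- A complement lifts along a map whose kernel is contained. -/
theorem isCompl_map {W W' : Type*} [AddCommGroup W] [Module k W] [AddCommGroup W'] [Module k W'] (π : W →ₗ[k] W')
    (sec : W' →ₗ[k] W) (hsec : ∀ x, π (sec x) = x) (C' : Submodule k W') (X : Submodule k W)
    (hX : LinearMap.ker π ≤ X) (h : IsCompl C' (X.map π)) : IsCompl (C'.map sec) X := by
  constructor
  · rw [Submodule.disjoint_def]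
    rintro _ ⟨c, hc, rfl⟩ hcX
    have : c = 0 := Submodule.disjoint_def.mp h.disjoint c hc ⟨_, hcX, hsec c⟩
    rw [this, map_zero]
  · rw [codisjoint_iff, eq_top_iff]
    intro w _
    obtain ⟨c, hc, y, ⟨x, hx, rfl⟩, hw⟩ := Submodule.mem_sup.mp
      (h.sup_eq_top.symm ▸ Submodule.mem_top : π w ∈ C' ⊔ X.map π)
    refine Submodule.mem_sup.mpr ⟨sec c, ⟨c, hc, rfl⟩, w - sec c, ?_, add_sub_cancel _ _⟩
    have h1 : w - sec c - x ∈ X := hX (by simp [LinearMap.mem_ker, hsec, ← hw])
    simpa using X.add_mem h1 hx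

/-- A complement lifts along a map whose kernel meets trivially. -/
theorem isCompl_comap {W W' : Type*} [AddCommGroup W] [Module k W] [AddCommGroup W'] [Module k W'] (π : W →ₗ[k] W')
    (C' : Submodule k W') (X : Submodule k W) (hX : Disjoint (LinearMap.ker π) X) (h : IsCompl C' (X.map π)) :
    IsCompl (C'.comap π) X := by
  constructor
  · rw [Submodule.disjoint_def]
    intro x hx hxX
    have hπ : π x = 0 := Submodule.disjoint_def.mp h.disjoint _ hx ⟨x, hxX, rfl⟩
    exact Submodule.disjoint_def.mp hX x hπ hxX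
  · rw [codisjoint_iff, eq_top_iff]
    intro w _
    obtain ⟨c, hc, y, ⟨x, hx, rfl⟩, hw⟩ := Submodule.mem_sup.mp
      (h.sup_eq_top.symm ▸ Submodule.mem_top : π w ∈ C' ⊔ X.map π)
    refine Submodule.mem_sup.mpr ⟨w - x, ?_, x, hx, sub_add_cancel _ _⟩
    show π (w - x) ∈ C'
    rw [map_sub, ← hw, add_sub_cancel_right]
    exact hc

theorem rho_inv_apply {W : Type w} [AddCommGroup W] [Module k W] (σ : Representation k Γ W) (g : Γ) (x : W) :
    σ g⁻¹ (σ g x) = x := by
  rw [← Module.End.mul_apply, ← map_mul, inv_mul_cancel, map_one, Module.End.one_apply]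

/-- A common complement of all translates of a subspace. -/
theorem exists_compl [Group.IsSolvable Γ] (hirr : D.SIrr Set.univ) : ∀ (d : ℕ) {W : Type w} [AddCommGroup W]
    [Module k W] [FiniteDimensional k W] (σ : Representation k Γ W), EndFn D.R (fun g => σ g) →
    finrank k W = d → ∀ U : Submodule k W, ∃ C : Submodule k W, ∀ g, IsCompl C (U.map (σ g)) := by
  intro d
  induction d using Nat.strong_induction_on with
  | _ d ih =>
  intro W _ _ _ σ hσ hd U
  rcases subsingleton_or_nontrivial W with hW | hW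
  · exact ⟨⊥, fun g => by
      rw [show U.map (σ g) = ⊤ from Subsingleton.elim _ _]
      exact isCompl_bot_top⟩
  haveI := isDomain hirr
  obtain ⟨e, he, hχ⟩ := Fixed.exists_eigvec D.R σ hσ (fun v l => D.inv _ (hσ v l))
  choose χ hχ using hχ
  have hχ0 : ∀ g, χ g ≠ 0 := fun g h => he (by
    have := rho_inv_apply σ g e
    rw [hχ g, h, zero_smul, map_zero] at this
    exact this.symm)
  let L : Submodule k W := Submodule.span k {e}
  have hstab : ∀ g, L ≤ L.comap (σ g) := fun g => by
    rw [Submodule.span_singleton_le_iff_mem, Submodule.mem_comap, hχ g]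
    exact Submodule.smul_mem _ _ (Submodule.mem_span_singleton_self e)
  let σ' : Representation k Γ (W ⧸ L) :=
    { toFun := fun g => L.mapQ L (σ g) (hstab g)
      map_one' := Submodule.linearMap_qext _ (LinearMap.ext fun x => by simp)
      map_mul' := fun g g' => Submodule.linearMap_qext _ (LinearMap.ext fun x => by simp) }
  have hσ' : EndFn D.R (fun g => σ' g) := by
    intro w l
    obtain ⟨x, rfl⟩ := Submodule.mkQ_surjective L w
    exact hσ x (l.comp L.mkQ)
  have hd' : finrank k (W ⧸ L) < d := by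
    have h := Submodule.finrank_quotient_add_finrank L
    rw [finrank_span_singleton he] at h
    omega
  obtain ⟨C', hC'⟩ := ih _ hd' σ' hσ' rfl (U.map L.mkQ)
  have hmap : ∀ g, (U.map L.mkQ).map (σ' g) = (U.map (σ g)).map L.mkQ := fun g => by
    rw [← Submodule.map_comp, ← Submodule.map_comp]
    rfl
  have heU : ∀ g, e ∈ U.map (σ g) ↔ e ∈ U := by
    intro g
    constructor
    · rintro ⟨u, hu, hue⟩
      have : u = χ g⁻¹ • e := by rw [← hχ g⁻¹, ← hue, rho_inv_apply]
      rw [this] at hu
      exact (Submodule.smul_mem_iff _ (hχ0 g⁻¹)).mp hu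
    · intro h
      exact ⟨(χ g)⁻¹ • e, U.smul_mem _ h, by rw [map_smul, hχ g, smul_smul, inv_mul_cancel₀ (hχ0 g), one_smul]⟩
  by_cases h : e ∈ U
  · obtain ⟨sec, hsec⟩ := L.mkQ.exists_rightInverse_of_surjective L.range_mkQ
    refine ⟨C'.map sec, fun g => isCompl_map L.mkQ sec (fun x => LinearMap.congr_fun hsec x) C' _ ?_ (hmap g ▸ hC' g)⟩
    rw [Submodule.ker_mkQ, Submodule.span_singleton_le_iff_mem]
    exact (heU g).mpr h
  · refine ⟨C'.comap L.mkQ, fun g => isCompl_comap L.mkQ C' _ ?_ (hmap g ▸ hC' g)⟩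
    rw [Submodule.ker_mkQ, Submodule.disjoint_def]
    intro x hx hxU
    obtain ⟨c, rfl⟩ := Submodule.mem_span_singleton.mp hx
    by_contra hc
    exact h ((heU g).mp ((Submodule.smul_mem_iff _ (fun h0 => hc (by rw [h0, zero_smul]))).mp hxU))

theorem isUnit_of_forall_ne_zero (f : D.R) (hf : ∀ g, (f : Γ → k) g ≠ 0) : IsUnit f := by
  by_contra h
  obtain ⟨m, hm, hfm⟩ := exists_max_ideal_of_mem_nonunits h
  obtain ⟨g, hg⟩ : (D.zero m).Nonempty := by
    by_contra hne
    rw [Set.not_nonempty_iff_eq_empty] at hne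
    refine hm.ne_top ((Ideal.eq_top_iff_one _).mpr ?_)
    haveI := hm.isPrime
    rw [← D.vI_zero m, hne]
    exact fun _ h => h.elim
  exact hf g (hg f hfm)

/-- The projection to the translates of a subspace along a common complement is regular. -/
theorem proj_regular {W : Type w} [AddCommGroup W] [Module k W] [FiniteDimensional k W] (σ : Representation k Γ W)
    (hσ : EndFn D.R (fun g => σ g)) (U C : Submodule k W) (hC : ∀ g, IsCompl C (U.map (σ g)))
    (x : W) (l : Dual k W) :
    ∃ f : D.R, ∀ g, ∀ p ∈ U.map (σ g), x - p ∈ C → (f : Γ → k) g = l p := by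
  classical
  let q := C.mkQ
  let b := Module.finBasis k (W ⧸ C)
  have hsur : ∀ (g : Γ) (y : W ⧸ C), ∃ u ∈ U, q (σ g u) = y := by
    intro g y
    obtain ⟨w, rfl⟩ := Submodule.mkQ_surjective C y
    obtain ⟨c, hc, _, ⟨u, hu, rfl⟩, hw⟩ := Submodule.mem_sup.mp
      ((hC g).sup_eq_top.symm ▸ Submodule.mem_top : w ∈ C ⊔ U.map (σ g))
    refine ⟨u, hu, (Submodule.Quotient.eq C).mpr ?_⟩
    rw [← hw, sub_add_eq_sub_sub, sub_sub_cancel_left]
    simpa using C.neg_mem hc
  choose u₀ hu₀ hu₀' using fun j => hsur 1 (b j)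
  have hinj : ∀ (g : Γ) (u : W), u ∈ U → q (σ g u) = 0 → u = 0 := by
    intro g u hu h
    have h1 : σ g u = 0 := Submodule.disjoint_def.mp (hC g).disjoint _ ((Submodule.Quotient.mk_eq_zero C).mp h)
      ⟨u, hu, rfl⟩
    rw [← rho_inv_apply σ g u, h1, map_zero]
  let M : Matrix (Fin (finrank k (W ⧸ C))) (Fin (finrank k (W ⧸ C))) D.R :=
    fun i j => ⟨fun g => b.coord i (q (σ g (u₀ j))), hσ (u₀ j) ((b.coord i).comp q)⟩
  have hsmul : ∀ (g : Γ) (c : Fin (finrank k (W ⧸ C)) → k),
      (M.map fun r => (r : Γ → k) g) *ᵥ c = b.equivFun (q (σ g (∑ j, c j • u₀ j))) := by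
    intro g c
    funext i
    show (∑ j, (M i j : Γ → k) g * c j) = _
    simp only [map_sum, Finset.sum_apply]
    refine Finset.sum_congr rfl fun j _ => ?_
    rw [map_smul, map_smul, map_smul, Pi.smul_apply, smul_eq_mul, mul_comm]
    rfl
  have hdet : ∀ g, (M.det : Γ → k) g ≠ 0 := by
    intro g h0
    obtain ⟨c, hc, hMc⟩ := Matrix.exists_mulVec_eq_zero_iff.mpr
      (show (M.map fun r => (r : Γ → k) g).det = 0 by
        rw [← h0]; exact ((evalR D g).toRingHom.map_det M).symm)
    rw [hsmul, LinearEquiv.map_eq_zero_iff] at hMc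
    have h1 := hinj g _ (U.sum_mem fun j _ => U.smul_mem _ (hu₀ j)) hMc
    have h2 := congrArg (fun w => b.equivFun (q (σ 1 w))) h1
    simp only [map_sum, map_smul, hu₀', map_zero] at h2
    refine hc (funext fun i => ?_)
    have h3 := congrFun h2 i
    simp only [Finset.sum_apply, Pi.smul_apply, Basis.equivFun_self, smul_eq_mul, mul_ite, mul_one, mul_zero,
      Finset.sum_ite_eq, Finset.mem_univ, if_true, Pi.zero_apply] at h3
    simpa using h3
  have hunit : IsUnit M.det := isUnit_of_forall_ne_zero D _ hdet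
  let cx : Fin (finrank k (W ⧸ C)) → D.R := M⁻¹ *ᵥ fun i => algebraMap k D.R (b.equivFun (q x) i)
  refine ⟨∑ j, cx j * ⟨fun g => l (σ g (u₀ j)), hσ (u₀ j) l⟩, fun g p hp hxp => ?_⟩
  obtain ⟨u, hu, rfl⟩ := hp
  let c : Fin (finrank k (W ⧸ C)) → k := fun j => (cx j : Γ → k) g
  have hMc : (M.map fun r => (r : Γ → k) g) *ᵥ c = b.equivFun (q x) := by
    funext i
    have h := RingHom.map_mulVec (evalR D g).toRingHom M cx i
    have h2 : M *ᵥ cx = fun i => algebraMap k D.R (b.equivFun (q x) i) := by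
      rw [Matrix.mulVec_mulVec, Matrix.mul_nonsing_inv M hunit, Matrix.one_mulVec]
    rw [h2] at h
    exact h.symm.trans rfl
  have hu' : u = ∑ j, c j • u₀ j := by
    refine sub_eq_zero.mp (hinj g _ (U.sub_mem hu (U.sum_mem fun j _ => U.smul_mem _ (hu₀ j))) ?_)
    have h1 : q x = q (σ g u) := (Submodule.Quotient.eq C).mpr hxp
    rw [map_sub, map_sub, ← h1, sub_eq_zero]
    refine b.equivFun.injective ?_
    rw [← hsmul, hMc]
  rw [hu', map_sum, map_sum]
  show evalR D g (∑ j, cx j * ⟨fun g => l (σ g (u₀ j)), hσ (u₀ j) l⟩) = _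
  rw [map_sum]
  refine Finset.sum_congr rfl fun j _ => ?_
  rw [map_mul, map_smul, map_smul, smul_eq_mul]
  rfl

/-- A closed subgroup of a connected solvable group without nonconstant invariant functions is everything. -/
theorem eq_top_of_const [Group.IsSolvable Γ] (hirr : D.SIrr Set.univ) (hmul : HasMul D) (T : Subgroup Γ)
    (hT : D.IsCl T)
    (hconst : ∀ f : D.R, (∀ g, ∀ t ∈ T, (f : Γ → k) (g * t) = (f : Γ → k) g) →
      ∀ g, (f : Γ → k) g = (f : Γ → k) 1) : T = ⊤ := by
  classical
  haveI := D.isNoetherianRing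
  obtain ⟨F, hF⟩ := (IsNoetherian.noetherian (D.vI (T : Set Γ)) : (D.vI (T : Set Γ)).FG)
  choose n a b hab using fun f : D.R => hmul f
  let W : Submodule k D.R := Submodule.span k (⋃ f ∈ F, Set.range fun h : Γ => D.rTrans h f)
  have hfd : FiniteDimensional k W := by
    haveI : FiniteDimensional k (Submodule.span k (⋃ f ∈ F, Set.range (a f))) :=
      FiniteDimensional.span_of_finite k (F.finite_toSet.biUnion fun f _ => Set.finite_range _)
    refine Submodule.finiteDimensional_of_le (S₂ := Submodule.span k (⋃ f ∈ F, Set.range (a f))) ?_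
    · refine Submodule.span_le.mpr ?_
      rintro _ hx
      simp only [Set.mem_iUnion, Set.mem_range] at hx
      obtain ⟨f, hf, h, rfl⟩ := hx
      rw [show D.rTrans h f = ∑ i, (b f i : Γ → k) h • a f i from Subtype.ext (funext fun g => by
        show (f : Γ → k) (g * h) = evalR D g (∑ i, (b f i : Γ → k) h • a f i)
        rw [hab f g h, map_sum]
        refine Finset.sum_congr rfl fun i _ => ?_
        rw [map_smul, smul_eq_mul, mul_comm]
        rfl)]
      exact Submodule.sum_mem _ fun i _ => Submodule.smul_mem _ _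
        (Submodule.subset_span (Set.mem_biUnion hf ⟨i, rfl⟩))
  have hstab : ∀ g, ∀ f ∈ W, (D.rTrans g).toLinearMap f ∈ W := by
    intro g
    suffices W ≤ W.comap (D.rTrans g).toLinearMap from fun f hf => this hf
    refine Submodule.span_le.mpr ?_
    rintro _ hx
    simp only [Set.mem_iUnion, Set.mem_range] at hx
    obtain ⟨f, hf, h, rfl⟩ := hx
    refine Submodule.subset_span (Set.mem_biUnion hf ⟨g * h, Subtype.ext (funext fun x => ?_)⟩)
    show (f : Γ → k) (x * (g * h)) = (f : Γ → k) (x * g * h)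
    rw [mul_assoc]
  let σ : Representation k Γ W :=
    { toFun := fun g => (D.rTrans g).toLinearMap.restrict (hstab g)
      map_one' := LinearMap.ext fun w => Subtype.ext (Subtype.ext (funext fun x => by
        show ((w : D.R) : Γ → k) (x * 1) = _
        rw [mul_one]; rfl))
      map_mul' := fun g h => LinearMap.ext fun w => Subtype.ext (Subtype.ext (funext fun x => by
        show ((w : D.R) : Γ → k) (x * (g * h)) = ((w : D.R) : Γ → k) (x * g * h)
        rw [mul_assoc])) }
  have hσ : EndFn D.R (fun g => σ g) := by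
    intro w l
    obtain ⟨l', hl'⟩ := LinearMap.exists_extend l
    have : (fun g => l (σ g w)) = ((∑ i, l' (a w i) • b w i : D.R) : Γ → k) := by
      funext g
      rw [← hl']
      show l' (D.rTrans g w) = evalR D g (∑ i, l' (a w i) • b w i)
      rw [show D.rTrans g w = ∑ i, (b w i : Γ → k) g • a w i from Subtype.ext (funext fun x => by
        show ((w : D.R) : Γ → k) (x * g) = evalR D x (∑ i, (b w i : Γ → k) g • a w i)
        rw [hab w x g, map_sum]
        refine Finset.sum_congr rfl fun i _ => ?_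
        rw [map_smul, smul_eq_mul, mul_comm]
        rfl), map_sum, map_sum]
      refine Finset.sum_congr rfl fun i _ => ?_
      rw [map_smul, map_smul, smul_eq_mul, smul_eq_mul, mul_comm]
      rfl
    rw [this]
    exact Subtype.coe_prop _
  let U : Submodule k W := ((D.vI (T : Set Γ)).restrictScalars k).comap W.subtype
  have hUT : ∀ g, (∀ u ∈ U, σ g u ∈ U) → g ∈ T := by
    intro g hg
    refine hT fun f hf => ?_
    have hle : D.vI (T : Set Γ) ≤ RingHom.ker (evalR D g) := by
      rw [← hF, Ideal.span_le]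
      intro f hf
      have hfW : f ∈ W := Submodule.subset_span (Set.mem_biUnion hf ⟨1, Subtype.ext (funext fun x => by
        show (f : Γ → k) (x * 1) = _
        rw [mul_one])⟩)
      have hfU : (⟨f, hfW⟩ : W) ∈ U := by
        show f ∈ D.vI (T : Set Γ)
        rw [← hF]; exact Ideal.subset_span hf
      have h1 := hg _ hfU
      have h2 : (f : Γ → k) (1 * g) = 0 := h1 1 T.one_mem
      rwa [one_mul] at h2
    exact hle hf
  have hUt : ∀ t ∈ T, ∀ u ∈ U, σ t u ∈ U := fun t ht u hu x hx => hu (x * t) (T.mul_mem hx ht)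
  obtain ⟨C, hC⟩ := exists_compl D hirr _ σ hσ rfl U
  have hinv : ∀ g, ∀ t ∈ T, U.map (σ (g * t)) = U.map (σ g) := by
    intro g t ht
    rw [map_mul]
    ext x
    constructor
    · rintro ⟨u, hu, rfl⟩
      exact ⟨σ t u, hUt t ht u hu, rfl⟩
    · rintro ⟨u, hu, rfl⟩
      exact ⟨σ t⁻¹ u, hUt _ (T.inv_mem ht) u hu, by
        rw [Module.End.mul_apply, ← Module.End.mul_apply (σ t), ← map_mul σ t, mul_inv_cancel, map_one,
          Module.End.one_apply]⟩
  refine (Subgroup.eq_top_iff' T).mpr fun g => hUT g fun u hu => ?_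
  have hex : ∀ g', ∃ p ∈ U.map (σ g'), σ g u - p ∈ C := by
    intro g'
    obtain ⟨c, hc, p, hp, h⟩ := Submodule.mem_sup.mp
      ((hC g').sup_eq_top.symm ▸ Submodule.mem_top : σ g u ∈ C ⊔ U.map (σ g'))
    exact ⟨p, hp, by rw [← h, add_sub_cancel_right]; exact hc⟩
  obtain ⟨p, hp, hpC⟩ := hex 1
  have hkey : σ g u = p := by
    by_contra hne
    obtain ⟨l, hl⟩ : ∃ l : Dual k W, l (σ g u) ≠ l p := by
      by_contra hcon
      push Not at hcon
      exact hne (sub_eq_zero.mp ((Module.forall_dual_apply_eq_zero_iff k _).mp fun l => by rw [map_sub, hcon l, sub_self]))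
    obtain ⟨f, hf⟩ := proj_regular D σ hσ U C hC (σ g u) l
    have h1 := hconst f (fun g' t ht => by
      obtain ⟨p', hp', hp'C⟩ := hex g'
      rw [hf g' p' hp' hp'C, hf (g' * t) p' (by rw [hinv g' t ht]; exact hp') hp'C]) g
    rw [hf g (σ g u) ⟨u, hu, rfl⟩ (by rw [sub_self]; exact C.zero_mem), hf 1 p hp hpC] at h1
    exact hl h1
  obtain ⟨u', hu', rfl⟩ := hp
  rw [hkey, map_one, Module.End.one_apply]
  exact hu'

end Groth.Agent.H1.Classical.Invariant
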