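import Groth.Agent.H1.Classical.Torus.Centraliser
import Groth.Agent.H1.Classical.Torus.Central
import Groth.Agent.H1.Classical.Torus.GenRep

/-!
# Characters detecting a central torus up to a finite group
-/

universe u v w

namespace Groth.Agent.H1.Classical.CentralChars

set_option linter.style.haveILetI false
set_option linter.unusedSectionVars false

open Module Kolchin Torus Torus.Centraliser

variable {k : Type u} [Field k] [IsAlgClosed k] {Γ : Type v} [Group Γ] {D : Alg k Γ} {W : Type w} [AddCommGroup W]
  [Module k W] [FiniteDimensional k W] {σ : Representation k Γ W}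

/-- A central torus is detected, up to a finite set, by characters of the group. -/
theorem exists_chars (hσ : GenRep.Gen D σ) {S : Subgroup Γ} (hS : IsTor D S)
    (hc : ∀ s ∈ S, ∀ g, g * s = s * g) :
    ∃ (n : ℕ) (ψ : Fin n → Γ →* kˣ), (∀ i, Diag.RegChar D (ψ i)) ∧ {s | s ∈ S ∧ ∀ i, ψ i s = 1}.Finite := by
  classical
  obtain ⟨e, he⟩ := exists_diag hS hσ.reg
  let c : Fin (finrank k W) → Γ → k := fun i g => e.coord i (σ g (e i))
  have hact : ∀ t ∈ S, ∀ i, σ t (e i) = c i t • e i := fun t ht i => by
    obtain ⟨a, ha⟩ := he t ht i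
    show σ t (e i) = e.coord i (σ t (e i)) • e i
    rw [ha, map_smul, Basis.coord_apply, Basis.repr_self, Finsupp.single_eq_same, smul_eq_mul, mul_one]
  let V : Fin (finrank k W) → Submodule k W := fun i =>
    { carrier := {v | ∀ s ∈ S, σ s v = c i s • v}
      add_mem' := fun ha hb s hs => by rw [map_add, ha s hs, hb s hs, smul_add]
      zero_mem' := fun s hs => by rw [map_zero, smul_zero]
      smul_mem' := fun a v hv s hs => by rw [map_smul, hv s hs, smul_comm] }
  have hVs : ∀ i g, ∀ v ∈ V i, σ g v ∈ V i := fun i g v hv s hs => by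
    rw [← Module.End.mul_apply, ← map_mul, ← hc s hs g, map_mul, Module.End.mul_apply, hv s hs, map_smul]
  have hne : ∀ i, Module.finrank k (V i) ≠ 0 := fun i => by
    haveI : Nontrivial (V i) := ⟨⟨⟨e i, fun s hs => hact s hs i⟩, 0, fun h => e.ne_zero i (congrArg Subtype.val h)⟩⟩
    exact Module.finrank_pos.ne'
  let r : ∀ i, Representation k Γ (V i) := fun i =>
    { toFun := fun g => (σ g).restrict (hVs i g)
      map_one' := LinearMap.ext fun v => Subtype.ext (by simp [LinearMap.restrict_apply])
      map_mul' := fun a b => LinearMap.ext fun v => Subtype.ext (by simp [LinearMap.restrict_apply]) }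
  have hreg : ∀ i, EndFn D.R (fun g => r i g) := fun i v l => by
    obtain ⟨l', hl'⟩ := l.exists_extend
    have h := hσ.reg (v : W) l'
    convert h using 1
    funext g
    exact (LinearMap.congr_fun hl' (r i g v)).symm
  refine ⟨finrank k W, fun i => (LinearMap.det.comp (r i)).toHomUnits, fun i => Central.det_regular (hreg i), ?_⟩
  have hroots : (Set.pi Set.univ fun i : Fin (finrank k W) =>
      ((Polynomial.nthRootsFinset (Module.finrank k (V i)) (1 : k) : Finset k) : Set k)).Finite :=
    Set.Finite.pi fun i => Finset.finite_toSet _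
  refine Set.Finite.of_finite_image (f := fun s i => c i s) (hroots.subset ?_) ?_
  · rintro _ ⟨s, ⟨hs, h1⟩, rfl⟩ i -
    refine Finset.mem_coe.mpr ((Polynomial.mem_nthRootsFinset (Nat.pos_of_ne_zero (hne i)) 1).mpr ?_)
    have h := congrArg Units.val (h1 i)
    have hr : r i s = c i s • LinearMap.id := LinearMap.ext fun v => Subtype.ext (v.2 s hs)
    rw [Units.val_one] at h
    rw [← h]
    show _ = LinearMap.det (r i s)
    rw [hr, LinearMap.det_smul, LinearMap.det_id, mul_one]
  · rintro s ⟨hs, -⟩ t ⟨ht, -⟩ hst
    refine hσ.faith (e.ext fun i => ?_)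
    rw [hact s hs i, hact t ht i]
    exact congrArg (· • e i) (congrFun hst i)

end Groth.Agent.H1.Classical.CentralChars
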