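import Groth.Agent.H1.Classical.CentralizerScheme

/-!
# Conjugation by a rational point is an automorphism
-/

universe u

open CategoryTheory MonoidalCategory CartesianMonoidalCategory MonObj GrpObj AlgebraicGeometry

namespace Groth.Agent.H1.Classical.ConjIso

set_option linter.style.haveILetI false
set_option linter.unusedSectionVars false

open CentralizerScheme Scheme'

theorem isMonHom_of_mul {S : Scheme.{u}} {G H : Over S} [GrpObj G] [GrpObj H] (f : G ⟶ H)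
    (hmul : ∀ {X : Over S} (p q : X ⟶ G), (p * q) ≫ f = (p ≫ f) * (q ≫ f)) : IsMonHom f := by
  refine ⟨?_, ?_⟩
  · have h1 : ((1 : 𝟙_ (Over S) ⟶ G) ≫ f) * ((1 : 𝟙_ (Over S) ⟶ G) ≫ f) =
        (1 : 𝟙_ (Over S) ⟶ G) ≫ f := by rw [← hmul, _root_.one_mul]
    have h2 : (1 : 𝟙_ (Over S) ⟶ G) ≫ f = 1 := mul_left_cancel (h1.trans (_root_.mul_one _).symm)
    simpa [Hom.one_def] using h2
  · have := hmul (fst G G) (snd G G)
    rw [Hom.mul_def, Hom.mul_def, lift_fst_snd, Category.id_comp] at this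
    rw [this, ← lift_map, lift_fst_snd, Category.id_comp]

variable {k : Type u} [Field k] {G : Over (Spec (CommRingCat.of k))} [GrpObj G]

theorem conjBy_comp_self (γ δ : 𝟙_ (Over (Spec (CommRingCat.of k))) ⟶ G) (h : δ * γ = 1) :
    AGF.conjBy γ (𝟙 G) ≫ AGF.conjBy δ (𝟙 G) = 𝟙 G := by
  rw [comp_conjBy, Category.comp_id, AGF.conjBy]
  rw [show (toUnit G ≫ δ) * ((toUnit G ≫ γ) * 𝟙 G * (toUnit G ≫ γ)⁻¹) * (toUnit G ≫ δ)⁻¹ =
      ((toUnit G ≫ δ) * (toUnit G ≫ γ)) * 𝟙 G * ((toUnit G ≫ δ) * (toUnit G ≫ γ))⁻¹ from by group,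
    ← MonObj.comp_mul, h, MonObj.comp_one, _root_.one_mul, inv_one, _root_.mul_one]

/-- Conjugation by a point. -/
noncomputable def conjIso (γ : 𝟙_ (Over (Spec (CommRingCat.of k))) ⟶ G) : G ≅ G where
  hom := AGF.conjBy γ (𝟙 G)
  inv := AGF.conjBy γ⁻¹ (𝟙 G)
  hom_inv_id := conjBy_comp_self γ γ⁻¹ (inv_mul_cancel γ)
  inv_hom_id := conjBy_comp_self γ⁻¹ γ (mul_inv_cancel γ)

instance isMonHom_conjIso (γ : 𝟙_ (Over (Spec (CommRingCat.of k))) ⟶ G) : IsMonHom (conjIso γ).hom :=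
  isMonHom_of_mul _ fun p q => by
    show (p * q) ≫ AGF.conjBy γ (𝟙 G) = (p ≫ AGF.conjBy γ (𝟙 G)) * (q ≫ AGF.conjBy γ (𝟙 G))
    rw [comp_conjBy, comp_conjBy, comp_conjBy, Category.comp_id, Category.comp_id, Category.comp_id]
    group

theorem comp_conjIso {H : Over (Spec (CommRingCat.of k))} (γ : 𝟙_ (Over (Spec (CommRingCat.of k))) ⟶ G) (i : H ⟶ G) :
    i ≫ (conjIso γ).hom = AGF.conjBy γ i := by
  show i ≫ AGF.conjBy γ (𝟙 G) = _
  rw [comp_conjBy, Category.comp_id]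

end Groth.Agent.H1.Classical.ConjIso
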