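import Groth.Agent.H1.Classical.MaxTorusBorel
import Groth.Agent.H1.Classical.ConjIso
import Groth.Agent.H1.Classical.ParabolicNormalizer
import Groth.Agent.H1.Classical.CentralizerBorel
import Groth.Agent.H1.LangTorsor
import Groth.Agent.Lib.FreeRes.GrpTransp
import Groth.Agent.Lib.FreeRes.EssFree
import Groth.Agent.Lib.MultSmooth.Gen
import Groth.Agent.Lib.GrpQ.MonoClosed
import Groth.Agent.H4.HomImage

/-!
# The transporter between two Borel pairs
-/

universe u

open CategoryTheory MonoidalCategory CartesianMonoidalCategory MonObj GrpObj AlgebraicGeometry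

namespace Groth.Agent.H1.Classical.PairTransporter

set_option linter.style.haveILetI false
set_option linter.unusedSectionVars false

open Groth.Agent.Lib.RedPts Groth.Agent.Lib.RedPts.Points Scheme' Groth.Agent.Lib.GrpSch FieldDescent
  Groth.Agent.Lib.RedPts.BC
open Groth.Agent.Lib.FreeRes (exists_transporter exists_transporterBack exists_inter Transports TransportsBack
  isEssentiallyFree_field)

attribute [local instance] baseAlgebra

/-- Borel pairs are conjugate. -/
theorem pair_conj {k : Type u} [Field k] [IsAlgClosed k] {G : Over (Spec (CommRingCat.of k))} [GrpObj G]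
    [IsAffine G.left] [Smooth G.hom] [ConnectedSpace G.left]
    {B B' T T' : Over (Spec (CommRingCat.of k))} [GrpObj B] [GrpObj B'] [GrpObj T] [GrpObj T']
    {iB : B ⟶ G} {iB' : B' ⟶ G} (hB : Red.IsBorelOver k iB) (hB' : Red.IsBorelOver k iB')
    {iT : T ⟶ G} {iT' : T' ⟶ G} (hT : AGF.IsMaxTorus iT) (hT' : AGF.IsMaxTorus iT')
    (t : T ⟶ B) (ht : t ≫ iB = iT) (t' : T' ⟶ B') (ht' : t' ≫ iB' = iT') :
    ∃ (g : 𝟙_ (Over (Spec (CommRingCat.of k))) ⟶ G) (f : B ≅ B') (f' : T ≅ T'),
      f.hom ≫ iB' = AGF.conjBy g iB ∧ f'.hom ≫ iT' = AGF.conjBy g iT := by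
  obtain ⟨g, f', hf'⟩ := MaxTorusApply.maxTorus_conj hT hT'
  have hB₂ : Red.IsBorelOver k (AGF.conjBy g iB) := by
    rw [← ConjIso.comp_conjIso]
    exact isBorelOver_comp hB (ConjIso.conjIso g)
  obtain ⟨n, τ, σ, hτ, hσ⟩ := MaxTorusBorel.exists_pair hT' hB₂ hB' (f'.inv ≫ t)
    (by rw [Category.assoc, conj_comp, ht, ← hf', Iso.inv_hom_id_assoc]) t' ht'
  refine ⟨n * g, σ, f' ≪≫ τ, ?_, ?_⟩
  · rw [hσ, conj_conj]
  · rw [Iso.trans_hom, Category.assoc, hτ, conj_comp, hf', conj_conj]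

section Gen

variable {S : Scheme.{u}} {G Y Y' : Over S} [GrpObj G] {y : Y ⟶ G} {y' : Y' ⟶ G}

theorem transports_mul {Z : Over S} {z : Z ⟶ G} {T : Over S} {g h : T ⟶ G} (hg : Transports z y g)
    (hh : Transports y y' h) : Transports z y' (g * h) := fun S'' s x => by
  obtain ⟨a, ha⟩ := hh S'' s x
  obtain ⟨b, hb⟩ := hg S'' s a
  exact ⟨b, by rw [← hb, ← ha, MonObj.comp_mul]; group⟩

theorem transportsBack_mul {Z : Over S} {z : Z ⟶ G} {T : Over S} {g h : T ⟶ G} (hg : TransportsBack z y g)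
    (hh : TransportsBack y y' h) : TransportsBack z y' (g * h) := fun S'' s x => by
  obtain ⟨a, ha⟩ := hg S'' s x
  obtain ⟨b, hb⟩ := hh S'' s a
  exact ⟨b, by rw [← hb, ← ha, MonObj.comp_mul]; group⟩

theorem transports_inv {T : Over S} {g : T ⟶ G} (hg : TransportsBack y y' g) : Transports y' y g⁻¹ :=
  fun S'' s x => by
    obtain ⟨a, ha⟩ := hg S'' s x
    exact ⟨a, by rw [← ha, GrpObj.comp_inv, _root_.inv_inv]⟩

theorem transportsBack_inv {T : Over S} {g : T ⟶ G} (hg : Transports y y' g) : TransportsBack y' y g⁻¹ :=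
  fun S'' s x => by
    obtain ⟨a, ha⟩ := hg S'' s x
    exact ⟨a, by rw [← ha, GrpObj.comp_inv, _root_.inv_inv]⟩

theorem transports_comp {T T₁ : Over S} {g : T ⟶ G} (hg : Transports y y' g) (a : T₁ ⟶ T) :
    Transports y y' (a ≫ g) := fun S'' s x => by rw [← Category.assoc]; exact hg S'' (s ≫ a) x

theorem transportsBack_comp {T T₁ : Over S} {g : T ⟶ G} (hg : TransportsBack y y' g) (a : T₁ ⟶ T) :
    TransportsBack y y' (a ≫ g) := fun S'' s x => by rw [← Category.assoc]; exact hg S'' (s ≫ a) x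

variable {S' : Scheme.{u}} (f : S' ⟶ S) {T : Over S'} (g : T ⟶ Red.bc f G)

theorem transports_down (h : Transports ((Over.pullback f).map y) ((Over.pullback f).map y') g) :
    Transports y y' (down f g) := fun S'' s x => by
  let X' : Over S' := Over.mk (s.left ≫ T.hom)
  let κ : (Over.map f).obj X' ≅ S'' := Over.isoMk (Iso.refl _) (by
    show 𝟙 _ ≫ S''.hom = (s.left ≫ T.hom) ≫ f
    rw [Category.id_comp, Category.assoc, ← Over.w s]
    rfl)
  let s' : X' ⟶ T := Over.homMk s.left rfl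
  have hs : (Over.map f).map s' = κ.hom ≫ s := Over.OverMorphism.ext (Category.id_comp _).symm
  obtain ⟨a, ha⟩ := h X' s' (up f (κ.hom ≫ x))
  have := congrArg (down f) ha
  simp only [down_mul, down_inv] at this
  rw [down_map (up f (κ.hom ≫ x)), down_up, down_comp s' g, hs, down_map a] at this
  simp only [Category.assoc] at this
  exact ⟨κ.inv ≫ down f a, by
    rw [← cancel_epi κ.hom, MonObj.comp_mul, MonObj.comp_mul, GrpObj.comp_inv, Category.assoc,
      Iso.hom_inv_id_assoc]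
    exact this⟩

theorem transportsBack_down (h : TransportsBack ((Over.pullback f).map y) ((Over.pullback f).map y') g) :
    TransportsBack y y' (down f g) := fun S'' s x => by
  let X' : Over S' := Over.mk (s.left ≫ T.hom)
  let κ : (Over.map f).obj X' ≅ S'' := Over.isoMk (Iso.refl _) (by
    show 𝟙 _ ≫ S''.hom = (s.left ≫ T.hom) ≫ f
    rw [Category.id_comp, Category.assoc, ← Over.w s]
    rfl)
  let s' : X' ⟶ T := Over.homMk s.left rfl
  have hs : (Over.map f).map s' = κ.hom ≫ s := Over.OverMorphism.ext (Category.id_comp _).symm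
  obtain ⟨a, ha⟩ := h X' s' (up f (κ.hom ≫ x))
  have := congrArg (down f) ha
  simp only [down_mul, down_inv] at this
  rw [down_map (up f (κ.hom ≫ x)), down_up, down_comp s' g, hs, down_map a] at this
  simp only [Category.assoc] at this
  exact ⟨κ.inv ≫ down f a, by
    rw [← cancel_epi κ.hom, MonObj.comp_mul, MonObj.comp_mul, GrpObj.comp_inv, Category.assoc,
      Iso.hom_inv_id_assoc]
    exact this⟩

end Gen

section Conj

variable {k : Type u} [Field k] {G H H' : Over (Spec (CommRingCat.of k))} [GrpObj G]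

theorem transports_conj {i : H ⟶ G} {i' : H' ⟶ G} (g : 𝟙_ (Over (Spec (CommRingCat.of k))) ⟶ G) (f : H ≅ H')
    (hf : f.hom ≫ i' = AGF.conjBy g i) : Transports i' i g ∧ TransportsBack i' i g := by
  refine ⟨fun S'' s x => ⟨x ≫ f.hom, ?_⟩, fun S'' s x => ⟨x ≫ f.inv, ?_⟩⟩
  · rw [Category.assoc, hf, CentralizerScheme.comp_conjBy, toUnit_unique s (toUnit S'')]
  · have h := congrArg ((x ≫ f.inv) ≫ ·) hf
    simp only [Category.assoc, Iso.inv_hom_id_assoc, CentralizerScheme.comp_conjBy] at h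
    rw [toUnit_unique s (toUnit S''), h, Category.assoc]
    group

theorem exists_iso_of_transports {i : H ⟶ G} [Mono i] {i' : H' ⟶ G} [Mono i']
    (g : 𝟙_ (Over (Spec (CommRingCat.of k))) ⟶ G) (h₁ : Transports i' i g) (h₂ : TransportsBack i' i g) :
    ∃ f : H ≅ H', f.hom ≫ i' = AGF.conjBy g i := by
  obtain ⟨a, ha⟩ := h₁ H (toUnit H) (𝟙 H)
  obtain ⟨b, hb⟩ := h₂ H' (toUnit H') (𝟙 H')
  rw [Category.id_comp] at ha hb
  refine ⟨⟨a, b, ?_, ?_⟩, ha.symm⟩
  · rw [← cancel_mono i, Category.assoc, ← hb, MonObj.comp_mul, MonObj.comp_mul, GrpObj.comp_inv, ← ha,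
      Category.id_comp, ← Category.assoc, toUnit_unique (a ≫ toUnit H') (toUnit H)]
    group
  · rw [← cancel_mono i', Category.assoc, ← ha, MonObj.comp_mul, MonObj.comp_mul, GrpObj.comp_inv, ← hb,
      Category.id_comp, ← Category.assoc, toUnit_unique (b ≫ toUnit H) (toUnit H')]
    group

end Conj

/-- The normaliser of the maximal torus in a Borel subgroup is connected. -/
theorem connectedSpace_normalizer {k : Type u} [Field k] {G B T N : Over (Spec (CommRingCat.of k))} [GrpObj G]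
    [IsAffine G.left] [Smooth G.hom] [ConnectedSpace G.left] [GrpObj B] [GrpObj T] [GrpObj N] {iB : B ⟶ G}
    (hB : Red.IsBorel iB) (t : T ⟶ B) [IsMonHom t] [Mono t] (hT : Red.IsMaximalTorus (t ≫ iB)) {n : N ⟶ B}
    (hn : Red.IsNormalizerOf t n) : ConnectedSpace N.left := by
  obtain ⟨hB1, hB2, hB3, -⟩ := id hB
  haveI := hB1
  haveI := hB2
  haveI := hB3
  haveI : IsAffine B.left := isAffine_of_isAffineHom iB.left
  obtain ⟨hBconn, -⟩ := ParabolicNormalizer.props_field (ParabolicNormalizer.isParabolic_of_isBorel hB)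
  haveI := hBconn
  have hT0 : Red.IsTorus T := hT.2.2.1
  haveI := hn.1
  haveI := hn.2.1
  obtain ⟨C, _, c, hc, hcc, hCs⟩ :=
    Groth.Agent.Lib.MultSmooth.exists_centralizer_smooth (CentralizerScheme.isMultTypeFT_of_isTorus hT0) t
  obtain ⟨hCconn, -⟩ := connectedSpace_centralizer t hT0 c hc
  haveI := hCconn
  haveI := hc.1
  haveI := hc.2.1
  obtain ⟨p, hp⟩ := (hn.2.2 C c).mpr fun X' x h => by
    have hcomm := (hc.2.2 C c).mp ⟨𝟙 C, Category.id_comp c⟩ X' x h
    exact ⟨⟨h, by rw [hcomm, mul_inv_cancel_right]⟩,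
      ⟨h, by rw [_root_.mul_assoc, ← hcomm, inv_mul_cancel_left]⟩⟩
  obtain ⟨K, _, _, _, _, hmax, hbor⟩ := exists_closure k
  obtain ⟨g1, g2, g3⟩ := bc_props (K := K) G
  haveI := g1
  haveI := g2
  haveI := g3
  let σ := extBase k K
  have hBK := hbor hB
  have hTK := hmax hT
  haveI := hBK.1
  haveI := hBK.2.2.1
  haveI := hBK.2.2.2.1
  haveI : IsClosedImmersion ((Over.pullback σ).map iB).left := hBK.2.1
  haveI : IsAffine (Red.bc σ B).left := isAffine_of_isAffineHom ((Over.pullback σ).map iB).left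
  haveI : Mono ((Over.pullback σ).map iB) := Over.mono_of_mono_left _
  obtain ⟨A, _, _, _, _, e, he⟩ := MaxTorusApply.exists_GA (Red.bc σ B)
  haveI := he
  haveI := locallyOfFiniteType_GA (k := K) (A := A)
  obtain ⟨-, hts, -, hta⟩ := TorusPts.torus_props ((Over.pullback σ).map t ≫ e.hom)
    (Groth.Agent.Lib.Tori.Basic.isTorus_bc hT0 σ)
  haveI := hts
  haveI := hta
  have hcK := isCentralizerOf_bc σ hc
  -- rational points of the normaliser centralise the torus
  have hpt : ∀ x : 𝟙_ (Over (Spec (CommRingCat.of K))) ⟶ Red.bc σ N,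
      ∃ z : 𝟙_ (Over (Spec (CommRingCat.of K))) ⟶ Red.bc σ C,
        z ≫ (Over.pullback σ).map c = x ≫ (Over.pullback σ).map n := by
    intro x
    refine (hcK.2.2 _ _).mpr ?_
    set m := x ≫ (Over.pullback σ).map n with hm
    obtain ⟨τ, hτ⟩ : ∃ τ : Red.bc σ T ⟶ Red.bc σ T,
        τ ≫ (Over.pullback σ).map t = AGF.conjBy m ((Over.pullback σ).map t) := by
      obtain ⟨⟨h', hh'⟩, -⟩ := (hn.2.2 _ (down σ x ≫ n)).mp ⟨_, rfl⟩ _
        ((Over.map σ).map (toUnit (Red.bc σ T))) (down σ (𝟙 _))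
      refine ⟨up σ h', down_injective ?_⟩
      simp only [AGF.conjBy, down_mul, down_inv]
      rw [down_map (up σ h'), down_up, down_comp (toUnit (Red.bc σ T)) m, hm, down_map x,
        show down σ ((Over.pullback σ).map t) = down σ (𝟙 _) ≫ t by rw [← down_map, Category.id_comp]]
      exact hh'.symm
    have hσ : (AGF.conjBy m (𝟙 (Red.bc σ B))) ≫ (Over.pullback σ).map iB =
        AGF.conjBy (m ≫ (Over.pullback σ).map iB) ((Over.pullback σ).map iB) := by
      rw [conjBy_map, Category.id_comp]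
    have h := MaxTorusApply.normalizer_pair (iT := (Over.pullback σ).map (t ≫ iB)) hTK hBK
      ((Over.pullback σ).map t) (Functor.map_comp _ _ _).symm (m ≫ (Over.pullback σ).map iB) τ
      (by rw [Functor.map_comp, ← Category.assoc, hτ, conjBy_map]) (AGF.conjBy m (𝟙 _)) hσ
    rw [Functor.map_comp, ← conjBy_map, cancel_mono] at h
    intro X' y h'
    have h2 := congrArg (h' ≫ ·) h
    simp only [CentralizerScheme.comp_conjBy] at h2
    rw [toUnit_unique y (toUnit X')]
    exact mul_inv_eq_iff_eq_mul.mp h2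
  haveI : IsAffineHom B.hom := inferInstance
  haveI : IsClosedImmersion ((Over.pullback σ).map c).left := bc_map_left_of (P := @IsClosedImmersion) σ c hcc
  haveI := Groth.Agent.Lib.Tori.Basic.smooth_of_isTorus hT0
  haveI := Groth.Agent.Lib.Tori.Basic.isAffineHom_of_isTorus hT0
  haveI : IsAffine T.left := isAffine_of_isAffineHom T.hom
  haveI : IsClosedImmersion t.left := Groth.Agent.Lib.GrpQ.MonoClosed.isClosedImmersion_of_mono t
  obtain ⟨Nn, _, n₀, hn₀, hn₀c, hn₀s⟩ := Groth.Agent.Lib.MultSmooth.exists_normalizer_smooth'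
    (CentralizerScheme.isMultTypeFT_of_isTorus hT0) t
  haveI := hn₀.1
  haveI := hn₀.2.1
  obtain ⟨i₁, hi₁⟩ := (hn₀.2.2 N n).mpr ((hn.2.2 N n).mp ⟨𝟙 N, Category.id_comp n⟩)
  obtain ⟨i₂, hi₂⟩ := (hn.2.2 Nn n₀).mpr ((hn₀.2.2 Nn n₀).mp ⟨𝟙 Nn, Category.id_comp n₀⟩)
  haveI : IsIso i₁ := ⟨i₂, by rw [← cancel_mono n, Category.assoc, hi₂, hi₁, Category.id_comp],
    by rw [← cancel_mono n₀, Category.assoc, hi₁, hi₂, Category.id_comp]⟩
  haveI : IsIso i₁.left := ((Over.forget _).mapIso (asIso i₁)).isIso_hom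
  haveI : Smooth N.hom := by rw [← Over.w i₁]; infer_instance
  haveI : IsClosedImmersion n.left := by rw [← hi₁, Over.comp_left]; infer_instance
  haveI : IsClosedImmersion ((Over.pullback σ).map n).left := bc_map_left_of (P := @IsClosedImmersion) σ n inferInstance
  haveI : Smooth (Red.bc σ N).hom := bc_hom_of (P := @Smooth) σ N inferInstance
  haveI : IsAffine (Red.bc σ N).left := isAffine_of_isAffineHom ((Over.pullback σ).map n).left
  haveI : IsReduced (Red.bc σ N).left := isReduced_of_smooth_field (Red.bc σ N).hom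
  obtain ⟨f, hf⟩ := Groth.Agent.H4.HomImage.exists_factor ((Over.pullback σ).map c) ((Over.pullback σ).map n) (by
    haveI : IsClosedImmersion ((Over.pullback σ).map c).left := inferInstance
    haveI : JacobsonSpace (Red.bc σ N).left := LocallyOfFiniteType.jacobsonSpace (Red.bc σ N).hom
    have hsub : closedPoints (Red.bc σ N).left ⊆
        ((Over.pullback σ).map n).left ⁻¹' Set.range ((Over.pullback σ).map c).left := by
      intro w hw
      obtain ⟨x, hx⟩ := exists_point (Y := Red.bc σ N) hw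
      obtain ⟨z, hz⟩ := hpt x
      refine ⟨z.left (IsLocalRing.closedPoint K), ?_⟩
      rw [← hx (IsLocalRing.closedPoint K), ← Scheme.Hom.comp_apply, ← Scheme.Hom.comp_apply, ← Over.comp_left,
        ← Over.comp_left, hz]
    rintro _ ⟨w, rfl⟩
    have hcl := closure_minimal hsub (((Over.pullback σ).map c).left.isClosedEmbedding.isClosed_range.preimage
      ((Over.pullback σ).map n).left.continuous)
    rw [closure_closedPoints] at hcl
    exact hcl trivial)
  obtain ⟨q, hq⟩ := exists_factor_of_bc c n f hf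
  have hiso : p ≫ q = 𝟙 C ∧ q ≫ p = 𝟙 N :=
    ⟨by rw [← cancel_mono c, Category.assoc, hq, hp, Category.id_comp],
      by rw [← cancel_mono n, Category.assoc, hp, hq, Category.id_comp]⟩
  haveI : IsIso p := ⟨q, hiso⟩
  haveI : IsIso p.left := ((Over.forget _).mapIso (asIso p)).isIso_hom
  exact p.left.surjective.connectedSpace p.left.continuous

/-- Borel pairs over a finite field are conjugate by a rational point. -/
theorem pair_conj_finite {k : Type u} [Field k] [Finite k] {G : Over (Spec (CommRingCat.of k))} [GrpObj G]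
    [IsAffine G.left] [Smooth G.hom] [ConnectedSpace G.left] {B B' T T' : Over (Spec (CommRingCat.of k))}
    [GrpObj B] [GrpObj B'] [GrpObj T] [GrpObj T'] {iB : B ⟶ G} {iB' : B' ⟶ G} (hB : Red.IsBorel iB)
    (hB' : Red.IsBorel iB') (t : T ⟶ B) (t' : T' ⟶ B') (hT : Red.IsMaximalTorus (t ≫ iB))
    (hT' : Red.IsMaximalTorus (t' ≫ iB')) :
    ∃ (g : 𝟙_ (Over (Spec (CommRingCat.of k))) ⟶ G) (f : B ≅ B') (e : T ≅ T'),
      f.hom ≫ iB' = AGF.conjBy g iB ∧ e.hom ≫ t' ≫ iB' = AGF.conjBy g (t ≫ iB) := by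
  haveI := hB.1
  haveI := hB.2.1
  haveI := hB'.1
  haveI := hB'.2.1
  haveI := hB'.2.2.1
  haveI : Mono iB := Over.mono_of_mono_left iB
  haveI : Mono iB' := Over.mono_of_mono_left iB'
  haveI : IsAffine B.left := isAffine_of_isAffineHom iB.left
  haveI : IsAffine B'.left := isAffine_of_isAffineHom iB'.left
  haveI := hT.1
  haveI := hT.2.1
  haveI := hT'.1
  haveI := hT'.2.1
  haveI : IsMonHom t' := CentralizerBorel.isMonHom_of_mono_comp t' iB'
  haveI : Mono t' := mono_of_mono t' iB'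
  haveI := Groth.Agent.Lib.Tori.Basic.smooth_of_isTorus hT.2.2.1
  haveI := Groth.Agent.Lib.Tori.Basic.isAffineHom_of_isTorus hT.2.2.1
  haveI := Groth.Agent.Lib.Tori.Basic.smooth_of_isTorus hT'.2.2.1
  haveI := Groth.Agent.Lib.Tori.Basic.isAffineHom_of_isTorus hT'.2.2.1
  haveI : IsAffine T.left := isAffine_of_isAffineHom T.hom
  haveI : IsAffine T'.left := isAffine_of_isAffineHom T'.hom
  haveI : IsClosedImmersion t'.left := Groth.Agent.Lib.GrpQ.MonoClosed.isClosedImmersion_of_mono t'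
  haveI : IsClosedImmersion (t' ≫ iB').left := by rw [Over.comp_left]; infer_instance
  haveI : IsClosedImmersion (t ≫ iB).left := Groth.Agent.Lib.GrpQ.MonoClosed.isClosedImmersion_of_mono (t ≫ iB)
  -- the four conditions
  obtain ⟨C₁, c₁, hc₁, h₁, -⟩ := exists_transporter iB' iB (isEssentiallyFree_field _)
  obtain ⟨C₂, c₂, hc₂, h₂⟩ := exists_transporterBack iB' iB (isEssentiallyFree_field _)
  obtain ⟨C₃, c₃, hc₃, h₃, -⟩ := exists_transporter (t' ≫ iB') (t ≫ iB) (isEssentiallyFree_field _)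
  obtain ⟨C₄, c₄, hc₄, h₄⟩ := exists_transporterBack (t' ≫ iB') (t ≫ iB) (isEssentiallyFree_field _)
  haveI := hc₁
  haveI := hc₂
  haveI := hc₃
  haveI := hc₄
  obtain ⟨C₁₂, c₁₂, hc₁₂, h₁₂⟩ := exists_inter c₁ c₂
  obtain ⟨C₃₄, c₃₄, hc₃₄, h₃₄⟩ := exists_inter c₃ c₄
  haveI := hc₁₂
  haveI := hc₃₄
  obtain ⟨X, cX, hcX, hX'⟩ := exists_inter c₁₂ c₃₄
  haveI := hcX
  haveI : Mono cX := Over.mono_of_mono_left cX
  have hX : ∀ {S'' : Over (Spec (CommRingCat.of k))} (g : S'' ⟶ G), (∃ z, z ≫ cX = g) ↔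
      (Transports iB' iB g ∧ TransportsBack iB' iB g) ∧
        Transports (t' ≫ iB') (t ≫ iB) g ∧ TransportsBack (t' ≫ iB') (t ≫ iB) g :=
    fun g => by rw [hX' g, h₁₂ g, h₃₄ g, h₁ g, h₂ g, h₃ g, h₄ g]
  haveI : LocallyOfFiniteType X.hom := by rw [← Over.w cX]; infer_instance
  -- a point over the algebraic closure
  haveI : Nonempty X.left := by
    obtain ⟨K, _, _, _, _, hmax, hbor⟩ := exists_closure k
    obtain ⟨g1, g2, g3⟩ := bc_props (K := K) G
    haveI := g1
    haveI := g2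
    haveI := g3
    obtain ⟨g, f, f', hf, hf'⟩ := pair_conj (hbor hB) (hbor hB') (hmax hT) (hmax hT') _
      (Functor.map_comp _ t iB).symm _ (Functor.map_comp _ t' iB').symm
    obtain ⟨a1, a2⟩ := transports_conj g f hf
    obtain ⟨a3, a4⟩ := transports_conj g f' hf'
    obtain ⟨z, -⟩ := (hX (down (extBase k K) g)).mpr ⟨⟨transports_down _ g a1, transportsBack_down _ g a2⟩,
      transports_down _ g a3, transportsBack_down _ g a4⟩
    exact ⟨z.left (IsLocalRing.closedPoint K)⟩
  -- the acting group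
  obtain ⟨N, _, n, hn, hnc, hns⟩ := Groth.Agent.Lib.MultSmooth.exists_normalizer_smooth'
    (CentralizerScheme.isMultTypeFT_of_isTorus hT'.2.2.1) t'
  haveI := connectedSpace_normalizer hB' t' hT' hn
  haveI := hns
  haveI := hnc
  haveI := hn.1
  haveI := hn.2.1
  haveI : IsAffine N.left := isAffine_of_isAffineHom n.left
  obtain ⟨-, -, -, hself⟩ := ParabolicNormalizer.props_field (ParabolicNormalizer.isParabolic_of_isBorel hB')
  have hmem : ∀ {S'' : Over (Spec (CommRingCat.of k))} (ν : S'' ⟶ N),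
      (Transports iB' iB' (ν ≫ n ≫ iB') ∧ TransportsBack iB' iB' (ν ≫ n ≫ iB')) ∧
        Transports (t' ≫ iB') (t' ≫ iB') (ν ≫ n ≫ iB') ∧
          TransportsBack (t' ≫ iB') (t' ≫ iB') (ν ≫ n ≫ iB') := by
    intro S'' ν
    refine ⟨⟨fun U s x => ⟨(s ≫ ν ≫ n) * x * (s ≫ ν ≫ n)⁻¹, ?_⟩, fun U s x => ⟨(s ≫ ν ≫ n)⁻¹ * x * (s ≫ ν ≫ n), ?_⟩⟩,
      fun U s x => ?_, fun U s x => ?_⟩
    · simp only [MonObj.mul_comp, GrpObj.inv_comp, Category.assoc]
    · simp only [MonObj.mul_comp, GrpObj.inv_comp, Category.assoc]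
    · obtain ⟨⟨a, ha⟩, -⟩ := (hn.2.2 S'' (ν ≫ n)).mp ⟨ν, rfl⟩ U s x
      refine ⟨a, ?_⟩
      have := congrArg (· ≫ iB') ha
      simpa only [MonObj.mul_comp, GrpObj.inv_comp, Category.assoc] using this
    · obtain ⟨-, ⟨a, ha⟩⟩ := (hn.2.2 S'' (ν ≫ n)).mp ⟨ν, rfl⟩ U s x
      refine ⟨a, ?_⟩
      have := congrArg (· ≫ iB') ha
      simpa only [MonObj.mul_comp, GrpObj.inv_comp, Category.assoc] using this
  obtain ⟨⟨u1, u2⟩, u3, u4⟩ := (hX cX).mp ⟨𝟙 X, Category.id_comp cX⟩
  obtain ⟨act, hact⟩ := (hX ((fst N X ≫ n ≫ iB') * (snd N X ≫ cX))).mpr ⟨⟨transports_mul (hmem (fst N X)).1.1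
      (transports_comp u1 _), transportsBack_mul (hmem (fst N X)).1.2 (transportsBack_comp u2 _)⟩,
    transports_mul (hmem (fst N X)).2.1 (transports_comp u3 _),
      transportsBack_mul (hmem (fst N X)).2.2 (transportsBack_comp u4 _)⟩
  have hact' : ∀ {S'' : Over (Spec (CommRingCat.of k))} (ν : S'' ⟶ N) (z : S'' ⟶ X),
      lift ν z ≫ act ≫ cX = (ν ≫ n ≫ iB') * (z ≫ cX) := fun ν z => by
    rw [hact, MonObj.comp_mul, lift_fst_assoc, lift_snd_assoc]
  let a : AlgGrp.Action N X :=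
    { act := act
      one_act := by
        rw [← cancel_mono cX, Category.assoc, hact, MonObj.comp_mul]
        simp only [whiskerRight_fst_assoc, whiskerRight_snd_assoc, leftUnitor_hom]
        rw [← Category.assoc η[N], IsMonHom.one_hom (f := n), IsMonHom.one_hom (f := iB'),
          toUnit_unique (fst (𝟙_ _) X) (toUnit _), ← Hom.one_def, _root_.one_mul]
      mul_act := by
        rw [← cancel_mono cX]
        simp only [Category.assoc, hact, MonObj.comp_mul, whiskerRight_fst_assoc, whiskerRight_snd_assoc,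
          whiskerLeft_fst_assoc, whiskerLeft_snd_assoc, associator_hom_fst_assoc, associator_hom_snd_fst_assoc,
          associator_hom_snd_snd_assoc]
        rw [show μ[N] = fst N N * snd N N by rw [Hom.mul_def, lift_fst_snd, Category.id_comp], MonObj.mul_comp,
          MonObj.comp_mul]
        simp only [_root_.mul_assoc, Category.assoc] }
  obtain ⟨δ₀, hδ₀⟩ := (hself (X ⊗ X) ((fst X X ≫ cX) * (snd X X ≫ cX)⁻¹)).mpr fun U s x => by
      obtain ⟨v, hv⟩ := transports_mul (transports_comp u1 (fst X X))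
        (transports_inv (transportsBack_comp u2 (snd X X))) U s x
      obtain ⟨w, hw⟩ := transportsBack_mul (transportsBack_comp u2 (fst X X))
        (transportsBack_inv (transports_comp u1 (snd X X))) U s x
      exact ⟨⟨v, hv⟩, ⟨w, hw⟩⟩
  obtain ⟨δ, hδ⟩ := (hn.2.2 (X ⊗ X) δ₀).mpr fun U s x => by
    obtain ⟨v, hv⟩ := transports_mul (transports_comp u3 (fst X X))
      (transports_inv (transportsBack_comp u4 (snd X X))) U s x
    obtain ⟨w, hw⟩ := transportsBack_mul (transportsBack_comp u4 (fst X X))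
      (transportsBack_inv (transports_comp u3 (snd X X))) U s x
    refine ⟨⟨v, ?_⟩, ⟨w, ?_⟩⟩
    · rw [← cancel_mono iB']
      simp only [MonObj.mul_comp, GrpObj.inv_comp, Category.assoc, hδ₀]
      exact hv
    · rw [← cancel_mono iB']
      simp only [MonObj.mul_comp, GrpObj.inv_comp, Category.assoc, hδ₀]
      exact hw
  have hδ' : δ ≫ n ≫ iB' = (fst X X ≫ cX) * (snd X X ≫ cX)⁻¹ := by
    rw [← Category.assoc, hδ, hδ₀]
  have hiso : IsIso (lift a.act (snd N X)) := by
    refine ⟨lift δ (snd X X), ?_, ?_⟩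
    · refine CartesianMonoidalCategory.hom_ext _ _ ?_ ?_
      · rw [Category.assoc, lift_fst, Category.id_comp, ← cancel_mono (n ≫ iB'), Category.assoc, hδ',
          MonObj.comp_mul, GrpObj.comp_inv, lift_fst_assoc, lift_snd_assoc]
        show (act ≫ cX) * _ = _
        rw [hact, mul_inv_cancel_right]
      · simp
    · refine CartesianMonoidalCategory.hom_ext _ _ ?_ ?_
      · rw [Category.assoc, lift_fst, Category.id_comp, ← cancel_mono cX, Category.assoc]
        show lift δ (snd X X) ≫ act ≫ cX = _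
        rw [hact', hδ', inv_mul_cancel_right]
      · simp
  obtain ⟨x⟩ := LangTorsor.torsor_trivial N X a hiso
  obtain ⟨⟨b1, b2⟩, b3, b4⟩ := (hX (x ≫ cX)).mp ⟨x, rfl⟩
  obtain ⟨f, hf⟩ := exists_iso_of_transports (x ≫ cX) b1 b2
  obtain ⟨f', hf'⟩ := exists_iso_of_transports (x ≫ cX) b3 b4
  exact ⟨_, f, f', hf, hf'⟩

end Groth.Agent.H1.Classical.PairTransporter
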