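import Groth.Agent.H1.Classical.CartanOpen
import Groth.Agent.H1.Classical.MaxTorusBorel
import Groth.Agent.H1.Classical.Centre

/-!
# Existence of maximal tori, and morphisms determined on points
-/

universe u

open CategoryTheory MonoidalCategory CartesianMonoidalCategory MonObj GrpObj AlgebraicGeometry

namespace Groth.Agent.H1.Classical.MaxTorusExists

set_option linter.style.haveILetI false
set_option linter.unusedSectionVars false

open Groth.Agent.Lib.RedPts Groth.Agent.Lib.RedPts.Points Scheme' WithConv Torus Torus.Centraliser Complete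
  MaxTorusScheme MaxTorusApply

attribute [local instance] baseAlgebra

variable {k : Type u} [Field k] [IsAlgClosed k]

/-- Morphisms from a smooth affine group to an affine scheme are determined on rational points. -/
theorem hom_ext_of_points {P Y : Over (Spec (CommRingCat.of k))} [GrpObj P] [IsAffine P.left] [Smooth P.hom]
    [IsAffine Y.left] (f g : P ⟶ Y) (h : ∀ x : 𝟙_ (Over (Spec (CommRingCat.of k))) ⟶ P, x ≫ f = x ≫ g) : f = g := by
  refine Over.OverMorphism.ext (ext_of_isAffine (CommRingCat.hom_ext (RingHom.ext fun b => sub_eq_zero.mp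
    (eq_zero_of_points _ fun x => ?_))))
  rw [map_sub, sub_eq_zero]
  have := congrArg (fun z : 𝟙_ (Over (Spec (CommRingCat.of k))) ⟶ Y => z.left.appTop b) (h x)
  simp only [Over.comp_left] at this
  rwa [comp_appTop_apply, comp_appTop_apply] at this

variable {A : Type u} [CommRing A] [HopfAlgebra k A] [Algebra.FiniteType k A] [IsDomain A]

/-- A maximal torus of points is a maximal torus. -/
theorem isMaxTorus_of_isMax {T : Over (Spec (CommRingCat.of k))} [GrpObj T] (c : T ⟶ GA k A) [IsMonHom c]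
    [IsClosedImmersion c.left] (hT : Red.IsTorus T) (hmax : MaxTorus.IsMax (HopfPts.D k A) (ptsOf c)) :
    AGF.IsMaxTorus c := by
  haveI := locallyOfFiniteType (k := k) (A := A)
  haveI : Mono c := Over.mono_of_mono_left c
  refine ⟨inferInstance, inferInstance, hT, fun T' _ j _ _ f hT' hf => ?_⟩
  obtain ⟨-, hs, -, ha⟩ := TorusPts.torus_props j hT'
  haveI := hs
  haveI := ha
  have hle := hmax.max _ (TorusPts.isTor_ptsOf j hT') (MaxTorusBorel.ptsOf_le c j hf)
  obtain ⟨g, hg⟩ := exists_factor c j fun x => by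
    obtain ⟨s, hs⟩ := ptHom_surjective (x ≫ j)
    exact ⟨s, hle ⟨x, hs.symm⟩, hs.symm⟩
  exact ⟨g, by rw [← cancel_mono c, Category.assoc, hg, hf, Category.id_comp],
    by rw [← cancel_mono j, Category.assoc, hf, hg, Category.id_comp]⟩

/-- A Borel subgroup contains a maximal torus of the group. -/
theorem exists_maxTorus_borel {G : Over (Spec (CommRingCat.of k))} [GrpObj G] [IsAffine G.left] [Smooth G.hom]
    [ConnectedSpace G.left] {B : Over (Spec (CommRingCat.of k))} [GrpObj B] {iB : B ⟶ G} (hB : Red.IsBorelOver k iB) :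
    ∃ (T : Over (Spec (CommRingCat.of k))) (_ : GrpObj T) (iT : T ⟶ G) (t : T ⟶ B),
      AGF.IsMaxTorus iT ∧ t ≫ iB = iT := by
  obtain ⟨A, _, _, _, _, e, he⟩ := exists_GA G
  haveI := he
  haveI := locallyOfFiniteType (k := k) (A := A)
  haveI := hB.1
  obtain ⟨W, _, σ, hσ⟩ := Torus.GenRep.exists_gen (HopfPts.D k A) hasMul_pts pts_ext
  obtain ⟨S, hSB, hS, -⟩ := Torus.MaxTorus.exists_max hasMul_pts hσ (isBor_ptsOf _ (isBorelOver_comp hB e))
  obtain ⟨C, _, c, hc, hci, hCt, hp⟩ := exists_torus hS.tor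
  haveI := hci
  haveI := hc
  have hmax := isMaxTorus_of_isMax c hCt (hp.symm ▸ hS)
  haveI : Mono c := Over.mono_of_mono_left c
  obtain ⟨-, hs, -, ha⟩ := TorusPts.torus_props c hCt
  haveI := hs
  haveI := ha
  haveI := (isBorelOver_comp hB e).2.1
  obtain ⟨t, ht⟩ := exists_factor (iB ≫ e.hom) c fun x => by
    obtain ⟨s, hs⟩ := ptHom_surjective (x ≫ c)
    exact ⟨s, hSB (hp.le ⟨x, hs.symm⟩), hs.symm⟩
  refine ⟨C, inferInstance, c ≫ e.inv, t, ?_, ?_⟩
  · haveI : IsMonHom e.symm.hom := inferInstanceAs (IsMonHom e.inv)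
    exact isMaxTorus_comp e.symm hmax
  · rw [← cancel_mono e.hom, Category.assoc, ht, Category.assoc, Iso.inv_hom_id, Category.comp_id]

/-- Maximal tori exist. -/
theorem exists_maxTorus (G : Over (Spec (CommRingCat.of k))) [GrpObj G] [IsAffine G.left] [Smooth G.hom]
    [ConnectedSpace G.left] :
    ∃ (T : Over (Spec (CommRingCat.of k))) (_ : GrpObj T) (iT : T ⟶ G), AGF.IsMaxTorus iT := by
  obtain ⟨A, _, _, _, _, e, he⟩ := exists_GA G
  haveI := he
  obtain ⟨S, hS⟩ := exists_isMax (k := k) (A := A)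
  obtain ⟨B, _, c, hB, -, -⟩ := exists_borel_of_isMax hS
  haveI : IsMonHom e.symm.hom := inferInstanceAs (IsMonHom e.inv)
  haveI := hB.1
  obtain ⟨T, _, iT, -, hT, -⟩ := exists_maxTorus_borel (isBorelOver_comp hB e.symm)
  exact ⟨T, inferInstance, iT, hT⟩

end Groth.Agent.H1.Classical.MaxTorusExists
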