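import Groth.Agent.H1.Classical.Torus.ImageTorus
import Groth.Agent.H1.Classical.ImageField
import Groth.Agent.H1.Classical.MaxTorusExists

/-!
# The image of a maximal torus
-/

universe u

open CategoryTheory MonoidalCategory CartesianMonoidalCategory MonObj GrpObj AlgebraicGeometry

namespace Groth.Agent.H1.Classical.TorusImage

set_option linter.style.haveILetI false
set_option linter.unusedSectionVars false

open Groth.Agent.Lib.RedPts Groth.Agent.Lib.RedPts.Points Scheme' WithConv Torus Torus.Centraliser Complete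
  MaxTorusScheme MaxTorusApply

attribute [local instance] baseAlgebra

variable {k : Type u} [Field k] [IsAlgClosed k]

theorem isMaxTorus_image_GA {A A' : Type u} [CommRing A] [HopfAlgebra k A] [Algebra.FiniteType k A] [IsDomain A]
    [CommRing A'] [HopfAlgebra k A'] [Algebra.FiniteType k A'] [IsDomain A'] (q : GA k A ⟶ GA k A') [IsMonHom q]
    [Surjective q.left] {T T' : Over (Spec (CommRingCat.of k))} [GrpObj T] [GrpObj T'] (iT : T ⟶ GA k A)
    (hT : AGF.IsMaxTorus iT) (iT' : T' ⟶ GA k A') [IsMonHom iT'] [IsClosedImmersion iT'.left] [IsReduced T'.left]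
    (p : T ⟶ T') [Surjective p.left] (hp : p ≫ iT' = iT ≫ q) : AGF.IsMaxTorus iT' := by
  haveI := hT.1
  haveI := hT.2.1
  haveI := locallyOfFiniteType (k := k) (A := A)
  haveI := locallyOfFiniteType (k := k) (A := A')
  obtain ⟨hc, hs, hconn, ha⟩ := TorusPts.torus_props iT hT.2.2.1
  haveI := hs
  haveI := hconn
  haveI : LocallyOfFiniteType T'.hom := by rw [← Over.w iT']; infer_instance
  haveI : LocallyOfFiniteType T.hom := inferInstance
  haveI : GrpObj (Over.mk T'.hom) := inferInstanceAs (GrpObj T')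
  haveI : Smooth T'.hom := Smooth.smooth_of_isReduced T'.hom
  haveI : ConnectedSpace T'.left := p.left.surjective.connectedSpace p.left.continuous
  obtain ⟨r, hr, hrreg⟩ := exists_ptMap q
  have hsurj : Function.Surjective r := fun χ' => by
    obtain ⟨x, hx⟩ := exists_lift_point q (ptHom _ χ')
    obtain ⟨χ, rfl⟩ := ptHom_surjective x
    exact ⟨χ, ptHom_injective ((hr χ).symm.trans hx)⟩
  have heq : ptsOf iT' = (ptsOf iT).map r := by
    refine le_antisymm ?_ ?_
    · rintro χ ⟨x, hx⟩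
      obtain ⟨z, rfl⟩ := exists_lift_point p x
      obtain ⟨s, hs'⟩ := ptHom_surjective (z ≫ iT)
      refine ⟨s, ⟨z, hs'.symm⟩, ptHom_injective ?_⟩
      rw [← hr, hs', Category.assoc, ← hp, ← Category.assoc]
      exact hx
    · rintro _ ⟨s, ⟨z, hz⟩, rfl⟩
      refine ⟨z ≫ p, ?_⟩
      show (z ≫ p) ≫ iT' = ptHom (𝟙_ _) (r s)
      rw [Category.assoc, hp, ← Category.assoc, show z ≫ iT = ptHom (𝟙_ _) s from hz, hr]
  obtain ⟨B₀, hB₀⟩ := exists_bor (k := k) (A := A)
  obtain ⟨B₁, hB₁⟩ := exists_bor (k := k) (A := A')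
  obtain ⟨V, _, ρ, hρ, hf⟩ := HopfPts.exists_faithful (k := k) (A := A)
  obtain ⟨W, _, σ, hσ⟩ := Torus.GenRep.exists_gen (HopfPts.D k A) hasMul_pts pts_ext
  obtain ⟨W', _, σ', hσ'⟩ := Torus.GenRep.exists_gen (HopfPts.D k A') hasMul_pts pts_ext
  have hmax := Image.isMax_map r hrreg pts_ext ρ hρ hf hasMul_pts hasMul_pts hsurj HopfPts.sirr_univ exists_isMax
    (Image.isMax_of_absorbing hB₀.cl hB₀.irr hB₀.solv hB₀.abs)
  have hM := Torus.ImageTorus.isMax_map r hrreg pts_ext hasMul_pts hasMul_pts hσ hσ' hB₀ hB₁ hmax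
    (isMax_ptsOf_torus iT hT)
  rw [← heq] at hM
  exact MaxTorusExists.isMaxTorus_of_isMax iT' (TorusPts.isTorus_of_isTor iT' hM.tor) hM

/-- The image of a maximal torus is a maximal torus. -/
theorem isMaxTorus_image {G Q : Over (Spec (CommRingCat.of k))} [GrpObj G] [GrpObj Q] [IsAffine G.left]
    [IsAffine Q.left] [Smooth G.hom] [Smooth Q.hom] [ConnectedSpace G.left] [ConnectedSpace Q.left] (q : G ⟶ Q)
    [IsMonHom q] [Surjective q.left] {T T' : Over (Spec (CommRingCat.of k))} [GrpObj T] [GrpObj T'] (iT : T ⟶ G)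
    (hT : AGF.IsMaxTorus iT) (iT' : T' ⟶ Q) [IsMonHom iT'] [IsClosedImmersion iT'.left] [IsReduced T'.left]
    (p : T ⟶ T') [Surjective p.left] (hp : p ≫ iT' = iT ≫ q) : AGF.IsMaxTorus iT' := by
  obtain ⟨A, _, _, _, _, e, he⟩ := exists_GA G
  obtain ⟨A', _, _, _, _, e', he'⟩ := exists_GA Q
  haveI := he
  haveI := he'
  haveI : IsIso e.inv.left := ((Over.forget _).mapIso e).isIso_inv
  haveI : IsIso e'.hom.left := ((Over.forget _).mapIso e').isIso_hom
  haveI : Surjective (e.inv ≫ q ≫ e'.hom).left := by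
    rw [Over.comp_left, Over.comp_left]; infer_instance
  haveI : IsClosedImmersion (iT' ≫ e'.hom).left := by rw [Over.comp_left]; infer_instance
  have h := isMaxTorus_image_GA (e.inv ≫ q ≫ e'.hom) (iT ≫ e.hom) (isMaxTorus_comp e hT) (iT' ≫ e'.hom) p
    (by rw [reassoc_of% hp]; simp)
  haveI : IsMonHom e'.symm.hom := inferInstanceAs (IsMonHom e'.inv)
  have h2 := isMaxTorus_comp e'.symm h
  rwa [Category.assoc, show e'.hom ≫ e'.symm.hom = 𝟙 Q from e'.hom_inv_id, Category.comp_id] at h2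

end Groth.Agent.H1.Classical.TorusImage
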