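import Groth.Agent.H1.Classical.Scheme
import Groth.Agent.H87.HomDS
import Groth.Agent.Lib.Tori.Comm
import Groth.Agent.H2.TorusHom.GaTorus
import Groth.Agent.S3273
import Mathlib.RingTheory.HopfAlgebra.GroupLike
import Mathlib.AlgebraicGeometry.PullbackCarrier

/-!
# Tori over an algebraically closed field are split
-/

universe u

open CategoryTheory MonoidalCategory CartesianMonoidalCategory MonObj GrpObj AlgebraicGeometry

namespace Groth.Agent.H1.Classical.TorusSplit

set_option linter.style.haveILetI false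
set_option linter.unusedSectionVars false

open Groth.Agent.Lib.RedPts Groth.Agent.Lib.RedPts.Points Scheme' TensorProduct WithConv

attribute [local instance] baseAlgebra

variable {k : Type u} [Field k] [IsAlgClosed k] {A : Type u} [CommRing A] [HopfAlgebra k A] [Algebra.FiniteType k A]

/-- An algebra spanned by group-likes is a Laurent polynomial algebra. -/
theorem isSplit_of_span [IsDomain A] (hspan : HopfRep.IsDiagonalizable k A) :
    ∃ r : ℕ, Red.IsSplitTorusWith (Fin r → ℤ) (GA k A) := by
  classical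
  let M := GroupLike k A
  obtain ⟨s, hs⟩ := ‹Algebra.FiniteType k A›.out
  -- finite generation
  have hfin : ∀ a : A, ∃ F : Finset M, a ∈ Submodule.span k ((fun g : M => (g : A)) '' F) := by
    intro a
    have ha : a ∈ Submodule.span k (Set.range fun g : M => (g : A)) := by
      have : Submodule.span k {a : A | IsGroupLikeElem k a} ≤ Submodule.span k (Set.range fun g : M => (g : A)) :=
        Submodule.span_mono fun x hx => ⟨⟨x, hx⟩, rfl⟩
      exact this (hspan ▸ Submodule.mem_top)
    obtain ⟨c, hc⟩ := (Finsupp.mem_span_range_iff_exists_finsupp).mp ha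
    exact ⟨c.support, hc ▸ Submodule.sum_mem _ fun g hg =>
      Submodule.smul_mem _ _ (Submodule.subset_span ⟨g, hg, rfl⟩)⟩
  choose F hF using hfin
  let G : Finset M := s.biUnion F
  let N : Submonoid M := Submonoid.closure (G : Set M)
  have hN : Submodule.span k ((fun g : M => (g : A)) '' N) = ⊤ := by
    let Sa : Subalgebra k A := (Submodule.span k ((fun g : M => (g : A)) '' N)).toSubalgebra
      (Submodule.subset_span ⟨1, N.one_mem, rfl⟩) (fun x y hx hy => by
        have h := Submodule.mul_mem_mul hx hy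
        rw [Submodule.span_mul_span] at h
        refine Submodule.span_mono ?_ h
        rintro _ ⟨_, ⟨g, hg, rfl⟩, _, ⟨g', hg', rfl⟩, rfl⟩
        exact ⟨g * g', N.mul_mem hg hg', rfl⟩)
    have hle : Algebra.adjoin k (s : Set A) ≤ Sa := Algebra.adjoin_le fun a ha =>
      Submodule.span_mono (Set.image_mono (t := (N : Set M)) fun g hg =>
        Submonoid.subset_closure (Finset.mem_biUnion.mpr ⟨a, ha, hg⟩)) (hF a)
    rw [hs] at hle
    exact eq_top_iff.mpr fun a _ => hle Algebra.mem_top
  have hli := linearIndep_groupLikeVal (R := k) (A := A)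
  have hMfg : ∀ g : M, g ∈ N := fun g => by
    by_contra hg
    refine hli.notMem_span_image (s := (N : Set M)) hg ?_
    rw [hN]
    trivial
  haveI : Monoid.FG M := ⟨⟨G, eq_top_iff.mpr fun g _ => hMfg g⟩⟩
  have htf : ∀ (g : M) (n : ℕ), n ≠ 0 → g ^ n = 1 → g = 1 := by
    intro g n hn hgn
    have hpow : (g : A) ^ n = 1 := by rw [← GroupLike.val_pow, hgn, GroupLike.val_one]
    have hint : IsIntegral k (g : A) :=
      ⟨Polynomial.X ^ n - Polynomial.C 1, Polynomial.monic_X_pow_sub_C 1 hn, by simp [hpow]⟩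
    obtain ⟨ζ, hζ⟩ := minpoly.mem_range_of_degree_eq_one k (g : A)
      (IsAlgClosed.degree_eq_one_of_irreducible k (minpoly.irreducible hint))
    have h1 : Coalgebra.counit (R := k) (g : A) = ζ := by
      rw [← hζ]
      simp
    rw [g.isGroupLikeElem_val.counit_eq_one] at h1
    ext
    rw [← hζ, ← h1, map_one, GroupLike.val_one]
  haveI : AddGroup.FG (Additive M) := GroupFG.iff_add_fg.mp (Group.fg_iff_monoid_fg.mpr (inferInstance : Monoid.FG M))
  haveI : Module.Finite ℤ (Additive M) := Module.Finite.iff_addGroup_fg.mpr inferInstance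
  haveI : IsAddTorsionFree (Additive M) := ⟨fun n hn a b hab => by
    have : (Additive.toMul (a - b)) ^ n = 1 := by
      rw [← toMul_nsmul, nsmul_sub]
      simp only at hab
      rw [hab, sub_self]
      rfl
    have h := htf _ n hn this
    exact sub_eq_zero.mp (Additive.toMul.injective h)⟩
  let B := Module.finBasis ℤ (Additive M)
  let r := Module.finrank ℤ (Additive M)
  let ψ : (Fin r → ℤ) ≃+ Additive M := B.equivFun.symm.toAddEquiv
  refine ⟨r, ⟨?_⟩⟩
  -- the coordinate ring
  let Φ : MonoidAlgebra k M →ₐ[k] A :=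
    MonoidAlgebra.lift k A M { toFun := fun g => (g : A), map_one' := rfl, map_mul' := fun _ _ => rfl }
  have hΦs : ∀ g : M, Φ (MonoidAlgebra.single g 1) = (g : A) := fun g => by simp [Φ]
  have hΦ : Function.Bijective Φ := by
    refine ⟨?_, fun a => ?_⟩
    · rw [injective_iff_map_eq_zero]
      intro x hx
      have hz : Finsupp.linearCombination k (fun g : M => (g : A)) x.coeff = 0 := by
        rw [← hx, Finsupp.linearCombination_apply]
        simp [Φ, MonoidAlgebra.lift_apply]
      exact MonoidAlgebra.coeff_injective (linearIndependent_iff.mp hli _ hz)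
    · have : (⊤ : Submodule k A) ≤ LinearMap.range Φ.toLinearMap := by
        rw [← hN, Submodule.span_le]
        rintro _ ⟨g, -, rfl⟩
        exact ⟨_, hΦs g⟩
      exact this trivial
  let eA := AlgEquiv.ofBijective Φ hΦ
  let S := Spec (CommRingCat.of k)
  let χ : Multiplicative (Fin r → ℤ) →* Γ((GA k A).left, ⊤) :=
    { toFun := fun m => algHomOf (𝟙 (GA k A)) ((Additive.toMul (ψ m.toAdd) : M) : A)
      map_one' := by simp
      map_mul' := fun m n => by
        simp only [toAdd_mul, map_add, toMul_add]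
        exact map_mul (algHomOf (𝟙 (GA k A))) _ _ }
  let toD : GA k A ⟶ Red.DS S (Fin r → ℤ) := Gm.dsPt χ
  let χ' : M →* Γ((Red.DS S (Fin r → ℤ)).left, ⊤) :=
    { toFun := fun g => Gm.dsFn (𝟙 (Red.DS S (Fin r → ℤ))) (ψ.symm (Additive.ofMul g))
      map_one' := by simp [Gm.dsFn_zero]
      map_mul' := fun g g' => by simp [Gm.dsFn_add] }
  let inv : Red.DS S (Fin r → ℤ) ⟶ GA k A :=
    pointOf ((MonoidAlgebra.lift k _ M χ').comp eA.symm.toAlgHom)
  have hinv : ∀ g : M, algHomOf inv (g : A) = χ' g := fun g => by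
    show algHomOf (pointOf _) (g : A) = _
    rw [algHomOf_pointOf]
    show MonoidAlgebra.lift k _ M χ' (eA.symm (g : A)) = _
    rw [show eA.symm (g : A) = MonoidAlgebra.single g 1 from (AlgEquiv.symm_apply_eq _).mpr (hΦs g).symm]
    exact (MonoidAlgebra.lift_single _ _ _).trans (one_smul k _)
  let E : GA k A ≅ Red.DS S (Fin r → ℤ) :=
    { hom := toD
      inv := inv
      hom_inv_id := by
        refine algHomOf_injective (AlgHom.ext fun a => ?_)
        obtain ⟨x, rfl⟩ := hΦ.2 a
        induction x using MonoidAlgebra.induction_linear with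
        | zero => simp
        | add x y hx hy => rw [map_add, map_add, map_add, hx, hy]
        | single g c =>
          rw [show MonoidAlgebra.single g c = c • MonoidAlgebra.single g (1 : k) by simp, map_smul, map_smul, map_smul,
            hΦs, algHomOf_comp toD inv, hinv]
          show c • toD.left.appTop (Gm.dsFn (𝟙 _) _) = _
          rw [← Gm.dsFn_comp, Category.comp_id]
          simp [toD, χ]
      inv_hom_id := Gm.dsFn_ext fun m => by
        rw [Gm.dsFn_comp, Gm.dsFn_dsPt]
        show inv.left.appTop (algHomOf (𝟙 (GA k A)) ((Additive.toMul (ψ m) : M) : A)) = _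
        rw [← algHomOf_comp, Category.comp_id, hinv]
        simp [χ'] }
  haveI : IsMonHom E.hom := H87.HomDS.isMonHom_of_points _ fun X a b => Gm.dsFn_ext fun m => by
    show Gm.dsFn ((a * b) ≫ toD) m = _
    rw [Gm.dsFn_mul, Gm.dsFn_comp, Gm.dsFn_comp, Gm.dsFn_comp, Gm.dsFn_dsPt]
    show (a * b).left.appTop (algHomOf (𝟙 (GA k A)) ((Additive.toMul (ψ m) : M) : A)) =
      a.left.appTop (algHomOf (𝟙 (GA k A)) ((Additive.toMul (ψ m) : M) : A)) *
        b.left.appTop (algHomOf (𝟙 (GA k A)) ((Additive.toMul (ψ m) : M) : A))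
    rw [← algHomOf_comp, ← algHomOf_comp, ← algHomOf_comp, Category.comp_id, Category.comp_id, Category.comp_id,
      algHomOf_apply, algHomOf_apply, algHomOf_apply]
    exact ringHomOf_mul_of_isGroupLike a b (Additive.toMul (ψ m) : M).isGroupLikeElem_val.comul_eq_tmul_self
  exact Groth.Agent.Lib.Tori.BaseChange.grpIso E

/-- Commutative points force cocommutativity. -/
theorem isCocomm [IsReduced A] (h : ∀ x y : HopfPts.Pt k A, x * y = y * x) : Coalgebra.IsCocomm k A where
  comm_comp_comul := by
    refine LinearMap.ext fun a => sub_eq_zero.mp ?_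
    refine Words.tensor_eq_zero (fun x : HopfPts.Pt k A => x.ofConv.toLinearMap)
      (fun x : HopfPts.Pt k A => x.ofConv.toLinearMap)
      (fun m hm => HopfPts.ev_injective (k := k) (A := A) (by rw [map_zero]; exact funext hm))
      (fun m hm => HopfPts.ev_injective (k := k) (A := A) (by rw [map_zero]; exact funext hm)) _ fun x y => ?_
    have h1 : (x * y) a = (y * x) a := by rw [h]
    rw [AlgHom.convMul_apply, AlgHom.convMul_apply] at h1
    have key : ∀ t : A ⊗[k] A, TensorProduct.lid k k (TensorProduct.map x.ofConv.toLinearMap y.ofConv.toLinearMap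
        (TensorProduct.comm k A A t - t)) =
        Algebra.TensorProduct.lift y.ofConv x.ofConv (fun _ _ => .all ..) t -
          Algebra.TensorProduct.lift x.ofConv y.ofConv (fun _ _ => .all ..) t := by
      intro t
      induction t using TensorProduct.induction_on with
      | zero => simp
      | tmul p q => simp [mul_comm]
      | add p q hp hq =>
        simp only [map_add, map_sub] at hp hq ⊢
        linear_combination hp + hq
    show TensorProduct.lid k k (TensorProduct.map _ _ (TensorProduct.comm k A A (Coalgebra.comul a) - Coalgebra.comul a)) = 0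
    rw [key, sub_eq_zero]
    exact h1.symm

/-- A torus splits over some extension field. -/
theorem exists_field_split (hT : Red.IsTorus (GA k A)) :
    ∃ (K : Type u) (_ : Field K) (h : Spec (CommRingCat.of K) ⟶ Spec (CommRingCat.of k)) (r : ℕ),
      Red.IsSplitTorusWith (Fin r → ℤ) (Red.bc h (GA k A)) := by
  obtain ⟨S', f, -, hsurj, -, hloc⟩ := id hT
  obtain ⟨s', -⟩ := f.surjective (IsLocalRing.closedPoint k)
  obtain ⟨U, hU, r, hr⟩ := hloc s'
  obtain ⟨u₀⟩ : Nonempty (U : Scheme.{u}) := ⟨⟨s', hU⟩⟩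
  obtain ⟨K, hK, ⟨i⟩⟩ : ∃ (K : Type u) (_ : Field K), Nonempty (Spec (CommRingCat.of K) ⟶ (U : Scheme.{u})) :=
    ⟨(U : Scheme.{u}).residueField u₀, inferInstance, ⟨(U : Scheme.{u}).fromSpecResidueField u₀⟩⟩
  obtain ⟨ε⟩ := Groth.Agent.Lib.Tori.Basic.isSplit_bc hr i
  exact ⟨K, hK, i ≫ U.ι ≫ f, r, ⟨(Groth.Agent.Lib.Tori.BaseChange.bcComp i (U.ι ≫ f) (GA k A)) ≪≫ ε⟩⟩

/-- A split torus is connected. -/
theorem connectedSpace_DS (K : Type u) [Field K] (r : ℕ) :
    ConnectedSpace (Red.DS (Spec (CommRingCat.of K)) (Fin r → ℤ)).left := by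
  let D := Red.DS (Spec (CommRingCat.of K)) (Fin r → ℤ)
  obtain ⟨q, hq⟩ := H87.HomDS.exists_fac (S := Spec (CommRingCat.of K)) (𝟙 _) (Fin r → ℤ) (X := D) D.hom
    (Category.comp_id _) (𝟙 D)
  let w := H87.HomDS.univPt (S := Spec (CommRingCat.of K)) (A := CommRingCat.of K) (𝟙 _) (Fin r → ℤ)
  haveI : IsDomain (MonoidAlgebra K (Multiplicative (Fin r → ℤ))) := inferInstance
  haveI h1 : ConnectedSpace (Spec (CommRingCat.of (MonoidAlgebra K (Multiplicative (Fin r → ℤ))))) := inferInstance
  haveI : ConnectedSpace (H87.HomDS.test (S := Spec (CommRingCat.of K)) (A := CommRingCat.of K) (𝟙 _)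
      (CommRingCat.ofHom MonoidAlgebra.singleOneRingHom :
        CommRingCat.of K ⟶ H87.HomDS.ring (A := CommRingCat.of K) (Fin r → ℤ))).left := h1
  refine Function.Surjective.connectedSpace (f := w.left.base) (fun x => ⟨q.left.base x, ?_⟩) w.left.continuous
  exact congr($(congrArg CommaMorphism.left hq).base x)

/-- A torus over an algebraically closed field is irreducible. -/
theorem isDomain_of_isTorus (hT : Red.IsTorus (GA k A)) : IsDomain A := by
  haveI := Groth.Agent.Lib.Tori.Basic.smooth_of_isTorus hT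
  obtain ⟨K, hK, h, r, ⟨ε⟩⟩ := exists_field_split hT
  haveI := connectedSpace_DS K r
  let E := Groth.Agent.Lib.Tori.BaseChange.overIso ε
  let D := Red.DS (Spec (CommRingCat.of K)) (Fin r → ℤ)
  haveI : ConnectedSpace (Red.bc h (GA k A)).left := by
    let E' : D.left ⟶ (Red.bc h (GA k A)).left := E.inv.left
    haveI : IsIso E' := ((Over.forget _).mapIso E).isIso_inv
    exact E'.homeomorph.surjective.connectedSpace E'.homeomorph.continuous
  haveI : Surjective h := ⟨fun x => ⟨IsLocalRing.closedPoint K, Subsingleton.elim (α := PrimeSpectrum k) _ _⟩⟩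
  haveI : ConnectedSpace ↥(Limits.pullback (GA k A).hom h) := ‹ConnectedSpace (Red.bc h (GA k A)).left›
  haveI : ConnectedSpace (GA k A).left :=
    (Limits.pullback.fst (GA k A).hom h).surjective.connectedSpace (Limits.pullback.fst (GA k A).hom h).continuous
  haveI := GrpIrred.isIntegral (GA k A)
  haveI : IsDomain Γ(Spec (CommRingCat.of A), ⊤) := inferInstanceAs (IsDomain Γ((GA k A).left, ⊤))
  exact (Scheme.ΓSpecIso (CommRingCat.of A)).symm.commRingCatIsoToRingEquiv.toMulEquiv.isDomain

/-- A homomorphism from a split torus to the additive group is trivial. -/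
theorem ga_DS_eq_one {K : Type u} [Field K] {r : ℕ}
    (v : Red.DS (Spec (CommRingCat.of K)) (Fin r → ℤ) ⟶ Red.Ga (Spec (CommRingCat.of K))) [IsMonHom v] : v = 1 :=
  (Category.id_comp v).symm.trans
    (H87.HomDS.kills_of_univ (A := CommRingCat.of K) (𝟙 _) (Fin r → ℤ) v (H87.HomDS.ga_eq_one (𝟙 _) v) _
      (Over.homMk (Red.DS (Spec (CommRingCat.of K)) (Fin r → ℤ)).hom (Category.comp_id _)) (𝟙 _))

/-- The additive group commutes with base change. -/
theorem exists_bc_Ga {K : Type u} [Field K] (h : Spec (CommRingCat.of K) ⟶ Spec (CommRingCat.of k)) :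
    ∃ G' : Red.bc h (Red.Ga (Spec (CommRingCat.of k))) ≅ Red.Ga (Spec (CommRingCat.of K)), IsMonHom G'.hom := by
  exact ⟨Groth.Agent.Lib.Tori.BaseChange.overIso ((Groth.Agent.Lib.Tori.BaseChange.bcComp h
    (Limits.IsTerminal.from specULiftZIsTerminal (Spec (CommRingCat.of k))) Red.GaZ).symm ≪≫
    Groth.Agent.Lib.Tori.BaseChange.bcCongr (Limits.IsTerminal.hom_ext specULiftZIsTerminal _ _) Red.GaZ),
    inferInstance⟩

set_option synthInstance.maxHeartbeats 100000 in
/-- A homomorphism to the additive group from a group which becomes a split torus. -/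
theorem ga_eq_one_of_split {K : Type u} [Field K] (h : Spec (CommRingCat.of K) ⟶ Spec (CommRingCat.of k))
    {T : Over (Spec (CommRingCat.of k))} [GrpObj T] {r : ℕ}
    (E : Red.bc h T ≅ Red.DS (Spec (CommRingCat.of K)) (Fin r → ℤ)) [IsMonHom E.hom]
    (φ : T ⟶ Red.Ga (Spec (CommRingCat.of k))) [IsMonHom φ] {X : Over (Spec (CommRingCat.of K))}
    (y : (Over.map h).obj X ⟶ T) : y ≫ φ = 1 := by
  obtain ⟨G', hG'⟩ := exists_bc_Ga (k := k) h
  haveI := hG'
  haveI : IsMonHom E.inv := inferInstance
  haveI : IsMonHom (E.inv ≫ (Over.pullback h).map φ ≫ G'.hom) := inferInstance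
  have hv := ga_DS_eq_one (E.inv ≫ (Over.pullback h).map φ ≫ G'.hom)
  have h0 : (Over.pullback h).map φ = 1 := by
    rw [← cancel_mono G'.hom, ← cancel_epi E.inv]
    exact hv.trans ((MonObj.comp_one E.inv).symm.trans (congrArg (E.inv ≫ ·) (MonObj.one_comp G'.hom).symm))
  have h2 : BC.down h (BC.up h y ≫ (Over.pullback h).map φ) = y ≫ φ := by rw [BC.down_map, BC.down_up]
  rw [← h2, h0, MonObj.comp_one]
  exact BC.down_one

/-- The coordinate ring of a torus over an algebraically closed field is spanned by group-likes. -/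
theorem isDiag_of_isTorus (hT : Red.IsTorus (GA k A)) : HopfRep.IsDiagonalizable k A := by
  haveI := isDomain_of_isTorus hT
  haveI : Coalgebra.IsCocomm k A := isCocomm fun x y => ptHom_injective (by
    rw [map_mul, map_mul]
    exact Groth.Agent.Lib.Tori.Comm.mul_comm_of_isTorus hT _ _)
  obtain ⟨K, hK, h, r, ⟨ε⟩⟩ := exists_field_split hT
  refine (S3273.result k A).mpr fun a ha => HopfPts.ev_injective (k := k) (A := A) (funext fun x => ?_)
  let φ : GA k A ⟶ Red.Ga (Spec (CommRingCat.of k)) := Ga.gaPt (algHomOf (𝟙 (GA k A)) a)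
  have hφ : ∀ {X : Over (Spec (CommRingCat.of k))} (g : X ⟶ GA k A), Red.gaFn (g ≫ φ) = algHomOf g a := fun g => by
    rw [Ga.gaFn_comp, Ga.gaFn_gaPt, ← algHomOf_comp, Category.comp_id]
  haveI : IsMonHom φ := H87.HomDS.isMonHom_of_points _ fun X g g' => Ga.gaFn_injective (by
    rw [Ga.gaFn_mul, hφ, hφ, hφ, algHomOf_apply, algHomOf_apply, algHomOf_apply]
    exact ringHomOf_mul_of_primitive g g' ha)
  let Z : Over (Spec (CommRingCat.of k)) := (Over.map h).obj (𝟙_ (Over (Spec (CommRingCat.of K))))
  have h1 := ga_eq_one_of_split h (Groth.Agent.Lib.Tori.BaseChange.overIso ε) φ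
    (X := 𝟙_ (Over (Spec (CommRingCat.of K)))) (toUnit _ ≫ ptHom _ x)
  have h3 := congrArg Red.gaFn h1
  rw [hφ, Ga.gaFn_one, algHomOf_comp, algHomOf_ptHom] at h3
  haveI : Nontrivial Γ(Z.left, ⊤) :=
    (Scheme.ΓSpecIso (CommRingCat.of K)).commRingCatIsoToRingEquiv.toEquiv.nontrivial
  have h4 := (injective_iff_map_eq_zero
    ((toUnit Z).left.appTop.hom.comp (baseHom (𝟙_ (Over (Spec (CommRingCat.of k))))))).mp
    (RingHom.injective _) _ h3
  show x.ofConv a = HopfPts.ev k A 0 x
  rw [h4, map_zero]
  rfl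

/-- A torus over an algebraically closed field is split. -/
theorem isSplit_of_isTorus (hT : Red.IsTorus (GA k A)) : ∃ r : ℕ, Red.IsSplitTorusWith (Fin r → ℤ) (GA k A) := by
  haveI := isDomain_of_isTorus hT
  exact isSplit_of_span (isDiag_of_isTorus hT)

end Groth.Agent.H1.Classical.TorusSplit
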