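import Groth.Agent.H1.Classical.FrobDescent
import Groth.Agent.H1.Classical.PairTransporter
import Groth.Agent.H1.Classical.TorusImage
import Groth.Agent.H1.Classical.TorusSplit
import Groth.Agent.H1.Lang
import Groth.Agent.Lib.GrpQ.Image

/-!
# Borel pairs over finite fields
-/

universe u

open CategoryTheory MonoidalCategory CartesianMonoidalCategory MonObj GrpObj AlgebraicGeometry Limits

namespace Groth.Agent.H1.Classical.FiniteBorel

set_option linter.style.haveILetI false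
set_option linter.unusedSectionVars false

open Groth.Agent.Lib.RedPts Groth.Agent.Lib.RedPts.Points Scheme' Groth.Agent.Lib.GrpSch FieldDescent
  Groth.Agent.Lib.RedPts.BC MaxTorusApply FrobDescent

attribute [local instance] baseAlgebra

/-- The Frobenius endomorphism is surjective. -/
theorem surjective_frob {k : Type u} [Field k] [Finite k] {G : Over (Spec (CommRingCat.of k))} [IsAffine G.left]
    (F : G ⟶ G) (hF : ∀ s : Γ(G.left, ⊤), F.left.appTop s = s ^ Nat.card k) : Surjective F.left := by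
  refine ⟨fun x => ⟨x, G.left.isoSpec.hom.homeomorph.injective ?_⟩⟩
  show G.left.toSpecΓ (F.left x) = G.left.toSpecΓ x
  show (F.left ≫ G.left.toSpecΓ) x = _
  rw [Scheme.toSpecΓ_naturality]
  refine PrimeSpectrum.ext (Ideal.ext fun s => ?_)
  show F.left.appTop s ∈ (G.left.toSpecΓ x).asIdeal ↔ s ∈ (G.left.toSpecΓ x).asIdeal
  rw [hF]
  exact (G.left.toSpecΓ x).isPrime.pow_mem_iff_mem _ Nat.card_pos

variable {k : Type u} [Field k] [IsAlgClosed k]

/-- A torus over an algebraically closed field is split. -/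
theorem exists_split {T G : Over (Spec (CommRingCat.of k))} [GrpObj T] [GrpObj G] [IsAffine G.left]
    [LocallyOfFiniteType G.hom] (i : T ⟶ G) [IsMonHom i] [Mono i] (hT : Red.IsTorus T) :
    ∃ r : ℕ, Red.IsSplitTorusWith (Fin r → ℤ) T := by
  obtain ⟨-, hs, hc, ha⟩ := TorusPts.torus_props i hT
  haveI := hs
  haveI := hc
  haveI := ha
  obtain ⟨A, _, _, _, _, e, he⟩ := exists_GA T
  haveI := he
  obtain ⟨r, hr⟩ := TorusSplit.isSplit_of_isTorus
    (Groth.Agent.Lib.Tori.Basic.isTorus_congr (Grp.mkIso' e).symm hT)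
  exact ⟨r, Groth.Agent.Lib.Tori.Basic.isSplit_congr (Grp.mkIso' e) hr⟩

variable {G : Over (Spec (CommRingCat.of k))} [GrpObj G] [IsAffine G.left] [Smooth G.hom] [ConnectedSpace G.left]

/-- An image pair. -/
theorem exists_image_pair (q : G ⟶ G) [IsMonHom q] [Surjective q.left] {B T : Over (Spec (CommRingCat.of k))}
    [GrpObj B] [GrpObj T] {iB : B ⟶ G} (hB : Red.IsBorelOver k iB) {iT : T ⟶ G} (hT : AGF.IsMaxTorus iT)
    (t : T ⟶ B) (ht : t ≫ iB = iT) :
    ∃ (B' T' : Over (Spec (CommRingCat.of k))) (_ : GrpObj B') (_ : GrpObj T') (iB' : B' ⟶ G) (iT' : T' ⟶ G)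
      (p : B ⟶ B') (r : T ⟶ T') (t' : T' ⟶ B'), Red.IsBorelOver k iB' ∧ AGF.IsMaxTorus iT' ∧ t' ≫ iB' = iT' ∧
        p ≫ iB' = iB ≫ q ∧ r ≫ iT' = iT ≫ q := by
  obtain ⟨B', _, iB', p, hB', -, hpB⟩ := ParabolicImage.exists_image q iB hB
  haveI := hT.1
  haveI := hT.2.1
  obtain ⟨-, hs, hc, ha⟩ := TorusPts.torus_props iT hT.2.2.1
  haveI := hs
  haveI := hc
  haveI := ha
  haveI := hB'.2.1
  obtain ⟨T', _, r, iT', hr, hiT', hcomp, hdom, hcl⟩ := Groth.Agent.Lib.GrpQ.Image.exists_image (iT ≫ q)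
  haveI := hr
  haveI := hiT'
  haveI := hdom
  haveI := hcl
  haveI : IsAffine T'.left := isAffine_of_isAffineHom iT'.left
  haveI : Surjective r.left := (Groth.Agent.Lib.GrpQ.Image.flat_surjective r).2
  haveI : IsReduced T.left := isReduced_of_smooth_field T.hom
  haveI : QuasiCompact r.left := Groth.Agent.Lib.GrpQ.quasiCompact_left r
  haveI : _root_.IsReduced Γ(T'.left, ⊤) :=
    isReduced_of_injective r.left.appTop.hom (Groth.Agent.Lib.GrpQ.Image.appTop_injective r.left)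
  haveI : IsReduced T'.left := isReduced_of_isOpenImmersion T'.left.isoSpec.hom
  obtain ⟨t', ht'⟩ := Groth.Agent.H4.HomImage.exists_factor iB' iT' (by
    rintro _ ⟨w, rfl⟩
    obtain ⟨v, rfl⟩ := r.left.surjective w
    refine ⟨(t ≫ p).left v, ?_⟩
    show ((t ≫ p) ≫ iB').left v = (r ≫ iT').left v
    rw [Category.assoc, hpB, reassoc_of% ht, hcomp])
  exact ⟨B', T', inferInstance, inferInstance, iB', iT', p, r, t', hB',
    TorusImage.isMaxTorus_image q iT hT iT' r hcomp, ht', hpB, hcomp⟩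

section Descend

variable {k : Type u} [Field k] [Finite k] {K : Type u} [Field K] [Algebra k K] [Algebra.IsAlgebraic k K] [IsAlgClosed K]

/-- A Frobenius stable Borel pair over the algebraic closure. -/
theorem exists_stable_pair (G : Over (Spec (CommRingCat.of k))) [GrpObj G] [IsAffine G.left] [Smooth G.hom]
    [ConnectedSpace G.left] (F : G ⟶ G) (hF : ∀ s : Γ(G.left, ⊤), F.left.appTop s = s ^ Nat.card k) :
    ∃ (B T : Over (Spec (CommRingCat.of K))) (_ : GrpObj B) (_ : GrpObj T) (iB : B ⟶ Red.bc (extBase k K) G)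
      (iT : T ⟶ Red.bc (extBase k K) G) (t : T ⟶ B), Red.IsBorelOver K iB ∧ AGF.IsMaxTorus iT ∧ t ≫ iB = iT ∧
        (∀ y : 𝟙_ (Over (Spec (CommRingCat.of K))) ⟶ B,
          ∃ y', y' ≫ iB = (y ≫ iB) ≫ (Over.pullback (extBase k K)).map F) ∧
        ∀ y : 𝟙_ (Over (Spec (CommRingCat.of K))) ⟶ T,
          ∃ y', y' ≫ iT = (y ≫ iT) ≫ (Over.pullback (extBase k K)).map F := by
  obtain ⟨g1, g2, g3⟩ := bc_props (K := K) G
  haveI := g1
  haveI := g2
  haveI := g3
  haveI := isMonHom_frob F hF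
  haveI := surjective_frob F hF
  let FK := (Over.pullback (extBase k K)).map F
  haveI : Surjective FK.left := bc_map_left_of (P := @Surjective) _ F inferInstance
  haveI : IsMonHom FK := inferInstance
  obtain ⟨B₁, _, i₁, hB₁⟩ := BorelExists.exists_borel (Red.bc (extBase k K) G)
  obtain ⟨T₁, _, j₁, t₁, hT₁, ht₁⟩ := MaxTorusExists.exists_maxTorus_borel hB₁
  obtain ⟨B₂, T₂, _, _, i₂, j₂, p, r, t₂, hB₂, hT₂, ht₂, hp, hr⟩ := exists_image_pair FK hB₁ hT₁ t₁ ht₁
  obtain ⟨a, f, f', hf, hf'⟩ := PairTransporter.pair_conj hB₁ hB₂ hT₁ hT₂ t₁ ht₁ t₂ ht₂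
  haveI := Lang.lang_map_surjective G F hF
  let L : G ⟶ G := 𝟙 G * F⁻¹
  haveI : Surjective ((Over.pullback (extBase k K)).map L).left := bc_map_left_of (P := @Surjective) _ L inferInstance
  obtain ⟨g, hg⟩ := Scheme'.exists_lift_point ((Over.pullback (extBase k K)).map L) a⁻¹
  have hg' : g * (g ≫ FK)⁻¹ = a⁻¹ := by
    refine (flat_bijective (K := K) G).1 ?_
    rw [← hg, flat_mul, flat_inv, flat_map, flat_map, MonObj.comp_mul, GrpObj.comp_inv, Category.comp_id]
  have ha : a = (g ≫ FK) * g⁻¹ := by rw [← _root_.inv_inv a, ← hg', _root_.mul_inv_rev, _root_.inv_inv]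
  have key : ∀ {H H' : Over (Spec (CommRingCat.of K))} (iH : H ⟶ Red.bc (extBase k K) G)
      (iH' : H' ⟶ Red.bc (extBase k K) G) (q : H ⟶ H') (e : H ≅ H'), q ≫ iH' = iH ≫ FK →
      e.hom ≫ iH' = AGF.conjBy a iH → ∀ y : 𝟙_ _ ⟶ H, ∃ y', y' ≫ iH ≫ (ConjIso.conjIso g⁻¹).hom =
        (y ≫ iH ≫ (ConjIso.conjIso g⁻¹).hom) ≫ FK := by
    intro H H' iH iH' q e hq he y
    refine ⟨y ≫ q ≫ e.inv, ?_⟩
    have h2 : (y ≫ iH) ≫ FK = a * ((y ≫ q ≫ e.inv) ≫ iH) * a⁻¹ := by
      rw [Category.assoc, ← hq, ← MaxTorusApply.conj_point]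
      have := congrArg ((y ≫ q ≫ e.inv) ≫ ·) he
      simpa only [Category.assoc, Iso.inv_hom_id_assoc] using this
    rw [ConjIso.comp_conjIso, MaxTorusApply.conj_point, MaxTorusApply.conj_point, MonObj.mul_comp, MonObj.mul_comp,
      h2]
    simp only [GrpObj.inv_comp]
    rw [ha]
    group
  exact ⟨B₁, T₁, inferInstance, inferInstance, i₁ ≫ (ConjIso.conjIso g⁻¹).hom, j₁ ≫ (ConjIso.conjIso g⁻¹).hom, t₁,
    isBorelOver_comp hB₁ _, isMaxTorus_comp _ hT₁, by rw [← Category.assoc, ht₁],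
    key i₁ i₂ p f hp hf, key j₁ j₂ r f' hr hf'⟩

/-- A torus after extension to the algebraic closure is a torus. -/
theorem isTorus_of_bc {T₀ : Over (Spec (CommRingCat.of k))} [GrpObj T₀] {G : Over (Spec (CommRingCat.of K))} [GrpObj G]
    [IsAffine G.left] [LocallyOfFiniteType G.hom] {T : Over (Spec (CommRingCat.of K))} [GrpObj T] (e : Red.bc (extBase k K) T₀ ≅ T)
    [IsMonHom e.hom] (i : T ⟶ G) [IsMonHom i] [Mono i] (hT : Red.IsTorus T) : Red.IsTorus T₀ := by
  obtain ⟨r, hr⟩ := exists_split i hT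
  haveI : Flat (extBase k K) := Groth.Agent.Lib.GrpSch.flat_of_isField (Field.toIsField k) _
  haveI : Surjective (extBase k K) := ⟨fun x => ⟨IsLocalRing.closedPoint K, Subsingleton.elim (α := PrimeSpectrum k) _ _⟩⟩
  refine ⟨Spec (CommRingCat.of K), extBase k K, inferInstance, inferInstance,
    Groth.Agent.Lib.Tori.Basic.isQCCover_of_qc _, fun _ => ⟨⊤, trivial, r, ?_⟩⟩
  exact Groth.Agent.Lib.Tori.Basic.isSplit_congr (Groth.Agent.Lib.Tori.BaseChange.bcComp _ _ _)
    (Groth.Agent.Lib.Tori.Basic.isSplit_bc (Groth.Agent.Lib.Tori.Basic.isSplit_congr (Grp.mkIso' e) hr) _)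

end Descend

/-- A Borel pair over a finite field. -/
theorem exists_borel_pair (k : Type u) [Field k] [Finite k]
    (G : Over (Spec (CommRingCat.of k))) [GrpObj G] [IsAffine G.left] [Smooth G.hom] [ConnectedSpace G.left] :
    ∃ (B : Over (Spec (CommRingCat.of k))) (_ : GrpObj B) (iB : B ⟶ G) (T : Over (Spec (CommRingCat.of k)))
      (_ : GrpObj T) (t : T ⟶ B), Red.IsBorel iB ∧ Red.IsMaximalTorus (t ≫ iB) := by
  let s : Spec (CommRingCat.of k) := IsLocalRing.closedPoint k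
  obtain ⟨alg, halg, hσ⟩ := exists_geomPt_eq s
  let K := AlgebraicClosure ((Spec (CommRingCat.of k)).residueField s)
  obtain ⟨F, hF⟩ := LangTorsor.exists_frobenius G
  obtain ⟨g1, g2, g3⟩ := bc_props (K := K) G
  haveI := g1
  haveI := g2
  haveI := g3
  obtain ⟨B, T, _, _, iB, iT, t, hB, hT, ht, hstB, hstT⟩ := exists_stable_pair (K := K) G F hF
  haveI := hB.1
  haveI := hB.2.1
  haveI := hB.2.2.1
  haveI := hT.1
  haveI := hT.2.1
  obtain ⟨hcl, hTs, -, -⟩ := TorusPts.torus_props iT hT.2.2.1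
  haveI := hcl
  haveI := hTs
  obtain ⟨B₀, _, i₀, eB, hmB, hcB, hmeB, heB, hsB⟩ := exists_descent F hF iB hstB
  obtain ⟨T₀, _, j₀, eT, hmT, hcT, hmeT, heT, -⟩ := exists_descent F hF iT hstT
  haveI := hmB
  haveI := hcB
  haveI := hmT
  haveI := hcT
  haveI := hmeB
  haveI := hmeT
  haveI : Mono i₀ := Over.mono_of_mono_left i₀
  haveI : Mono j₀ := Over.mono_of_mono_left j₀
  haveI : IsIso eT.hom := inferInstance
  obtain ⟨t₀, ht₀⟩ := exists_factor_of_bc i₀ j₀ (eT.hom ≫ t ≫ eB.inv) (by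
    rw [Category.assoc, Category.assoc, ← heB, Iso.inv_hom_id_assoc, ht, heT])
  have hu : ∀ s' : Spec (CommRingCat.of k), s' = s := fun s' => Subsingleton.elim (α := PrimeSpectrum k) _ _
  have hbor : ∀ σ : Spec (CommRingCat.of K) ⟶ Spec (CommRingCat.of k), σ = extBase k K →
      Red.IsBorelOver K ((Over.pullback σ).map i₀) := by
    rintro _ rfl
    rw [← heB]
    exact isBorelOver_iso_comp eB iB hB
  have htor : ∀ σ : Spec (CommRingCat.of K) ⟶ Spec (CommRingCat.of k), σ = extBase k K →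
      ∀ (T' : Over (Spec (CommRingCat.of K))) [GrpObj T'] (j : T' ⟶ Red.bc σ G) [IsMonHom j] [Mono j]
        (f : Red.bc σ T₀ ⟶ T'), Red.IsTorus T' → f ≫ j = (Over.pullback σ).map j₀ → IsIso f := by
    rintro _ rfl T' _ j _ _ f hT' hf
    haveI := hT.2.2.2 T' j (eT.inv ≫ f) hT' (by rw [Category.assoc, hf, ← heT, Iso.inv_hom_id_assoc])
    rw [show f = eT.hom ≫ eT.inv ≫ f by rw [Iso.hom_inv_id_assoc]]
    infer_instance
  refine ⟨B₀, inferInstance, i₀, T₀, inferInstance, t₀, ⟨inferInstance, inferInstance, hsB, fun s' => ?_⟩, ?_⟩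
  · obtain rfl := hu s'
    exact hbor _ hσ
  · rw [ht₀]
    refine ⟨inferInstance, inferInstance, isTorus_of_bc eT iT hT.2.2.1, fun s' T' _ j _ _ f hT' hf => ?_⟩
    obtain rfl := hu s'
    exact htor _ hσ T' j f hT' hf

end Groth.Agent.H1.Classical.FiniteBorel
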