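import Groth.Agent.H1.Classical.RadUNormal
import Groth.Agent.H1.Classical.FiniteBorel
import Groth.Agent.Lib.Tori.Comm

/-!
# Normal subgroups of reductive and semisimple groups
-/

universe u

open CategoryTheory MonoidalCategory CartesianMonoidalCategory MonObj GrpObj AlgebraicGeometry Limits

namespace Groth.Agent.H1.Classical.RadU

set_option linter.style.haveILetI false
set_option linter.unusedSectionVars false

open Groth.Agent.Lib.RedPts Groth.Agent.Lib.RedPts.Points Scheme' Unipotent MaxTorusApply Groth.Agent.Lib.GrpSch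
  ConjIso FieldDescent Groth.Agent.Lib.RedPts.BC

attribute [local instance] baseAlgebra

variable {k : Type u} [Field k]

theorem isTrivial_of_mono {U R : Over (Spec (CommRingCat.of k))} [GrpObj U] (f : U ⟶ R) [Mono f] [IsIso R.hom] :
    Red.IsTrivialGrp U := by
  have hid : (toUnit U ≫ η[U]) = 𝟙 U := by
    rw [← cancel_mono f]
    exact Over.OverMorphism.ext (by rw [← cancel_mono R.hom, Over.w, Over.w])
  haveI : IsIso (toUnit U) := ⟨η[U], hid, toUnit_unique _ _⟩
  haveI : IsIso (toUnit U).left := inferInstanceAs (IsIso ((Over.forget _).map (toUnit U)))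
  show IsIso U.hom
  rw [← Over.w (toUnit U)]
  haveI : IsIso (𝟙_ (Over (Spec (CommRingCat.of k)))).hom := inferInstanceAs (IsIso (𝟙 _))
  infer_instance

section AlgClosed

variable [IsAlgClosed k]

theorem isNormalPts_of_mono {G N U : Over (Spec (CommRingCat.of k))} [GrpObj G] [GrpObj N] {i : U ⟶ N}
    (j : N ⟶ G) [IsMonHom j] [Mono j] (h : IsNormalPts (i ≫ j)) : IsNormalPts i := fun g w => by
  obtain ⟨w', hw'⟩ := h (g ≫ j) w
  refine ⟨w', ?_⟩
  rw [← cancel_mono j, MonObj.mul_comp, MonObj.mul_comp, GrpObj.inv_comp, Category.assoc, hw', Category.assoc]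

theorem isNormalPts_of_isNormalHom {G U : Over (Spec (CommRingCat.of k))} [GrpObj G] [GrpObj U] {i : U ⟶ G}
    (h : AlgGrp.IsNormalHom i) : IsNormalPts i := fun g w => h _ g w

variable {G : Over (Spec (CommRingCat.of k))} [GrpObj G]

open Groth.Agent.H63.GrpIdentity in
/-- A normal subgroup of a group with trivial unipotent radical has trivial unipotent radical. -/
theorem trivial_of_normal [IsAffine G.left] [Smooth G.hom] {N : Over (Spec (CommRingCat.of k))} [GrpObj N]
    (j : N ⟶ G) [IsMonHom j] [IsClosedImmersion j.left] [Smooth N.hom] (hN : AlgGrp.IsNormalHom j)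
    (hG : ∀ (U : Over (Spec (CommRingCat.of k))) [GrpObj U] (i : U ⟶ G) [IsMonHom i], IsClosedImmersion i.left → Smooth U.hom →
        ConnectedSpace ↥U.left → AlgGrp.IsNormalHom i → Red.HasNoSubtorus k U → Red.IsTrivialGrp U)
    {U : Over (Spec (CommRingCat.of k))} [GrpObj U] (i : U ⟶ N) [IsMonHom i] [IsClosedImmersion i.left] [Smooth U.hom]
    [ConnectedSpace U.left] (hi : AlgGrp.IsNormalHom i) (hU : Red.HasNoSubtorus k U) : Red.IsTrivialGrp U := by
  obtain ⟨hεo, hεc, hεs, hεconn⟩ := Obs.identity_props N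
  letI := idGrp N
  haveI := isMonHom_idHom N
  haveI : IsAffine N.left := isAffine_of_isAffineHom j.left
  haveI : IsAffine (idObj N).left := isAffine_of_isAffineHom (idHom N).left
  haveI : IsAffine U.left := isAffine_of_isAffineHom i.left
  obtain ⟨R, _, r, hr1, hr2, hr3, hr4, hr5, hr6, hmax⟩ := exists_radU (idObj N)
  haveI := hr1
  haveI := hr2
  haveI := hr3
  haveI := hr4
  haveI : IsAffine R.left := isAffine_of_isAffineHom r.left
  have hRno := noTorsion_of_hasNoSubtorus hr5
  obtain ⟨i₀, hi₀⟩ := exists_lift_open (idHom N) i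
  haveI : Mono (idHom N) := Over.mono_of_mono_left _
  haveI : IsMonHom (i₀ ≫ idHom N) := hi₀.symm ▸ inferInstance
  haveI : IsMonHom i₀ := CentralizerBorel.isMonHom_of_mono_comp i₀ (idHom N)
  haveI : IsClosedImmersion (i₀.left ≫ (idHom N).left) := by rw [← Over.comp_left, hi₀]; infer_instance
  haveI : IsClosedImmersion i₀.left := IsClosedImmersion.of_comp i₀.left (idHom N).left
  obtain ⟨f, hf⟩ := hmax U i₀ (isNormalPts_of_mono (idHom N) (hi₀.symm ▸ isNormalPts_of_isNormalHom hi))
    (noTorsion_of_hasNoSubtorus hU)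
  have hn := normalPts_char j hN (idHom N) r (isNormalPts_of_isNormalHom hr6) fun f _ _ hf => hmax R f hf hRno
  haveI : IsClosedImmersion (r ≫ idHom N ≫ j).left := by
    rw [Over.comp_left, Over.comp_left]; infer_instance
  haveI : IsIso R.hom := hG R (r ≫ idHom N ≫ j) inferInstance hr3 hr4 (isNormalHom_of_pts _ hn) hr5
  haveI : Mono i₀ := Over.mono_of_mono_left _
  haveI : Mono (f ≫ r) := hf.symm ▸ inferInstance
  haveI : Mono f := mono_of_mono f r
  exact isTrivial_of_mono f

/-- A normal subgroup of a reductive group is reductive. -/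
theorem isReductiveOver_normal (hG : Red.IsReductiveOver k G) {N : Over (Spec (CommRingCat.of k))} [GrpObj N]
    (j : N ⟶ G) [IsMonHom j] [IsClosedImmersion j.left] [Smooth N.hom] [ConnectedSpace N.left]
    (hN : AlgGrp.IsNormalHom j) : Red.IsReductiveOver k N := by
  haveI := hG.1
  haveI := hG.2.1
  refine ⟨isAffine_of_isAffineHom j.left, inferInstance, inferInstance, ?_⟩
  intro U _ i _ hc hs hconn hi hU
  haveI := hc
  haveI := hs
  haveI := hconn
  exact trivial_of_normal j hN hG.2.2.2 i hi hU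

/-- A normal connected solvable subgroup of a reductive group is a torus. -/
theorem isTorus_of_normal_solvable (hG : Red.IsReductiveOver k G) {H : Over (Spec (CommRingCat.of k))} [GrpObj H]
    (j : H ⟶ G) [IsMonHom j] [IsClosedImmersion j.left] [Smooth H.hom] [ConnectedSpace H.left]
    (hH : AlgGrp.IsNormalHom j) (hsol : Red.IsSolvableGrp H) : Red.IsTorus H := by
  haveI := hG.1
  haveI : IsAffine H.left := isAffine_of_isAffineHom j.left
  obtain ⟨V, _, v, hv1, hv2, hv3, hv4, hv5, hv6, -, hT⟩ := exists_unipPart H hsol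
  haveI := hv1
  exact hT ((isReductiveOver_normal hG j hH).2.2.2 V v hv2 hv3 hv4 hv6 hv5)

/-- A normal connected solvable subgroup of a semisimple group is trivial. -/
theorem trivial_of_normal_solvable (hG : Red.IsSemisimpleOver k G) {H : Over (Spec (CommRingCat.of k))} [GrpObj H]
    (j : H ⟶ G) [IsMonHom j] [IsClosedImmersion j.left] [Smooth H.hom] [ConnectedSpace H.left]
    (hH : AlgGrp.IsNormalHom j) (hsol : Red.IsSolvableGrp H) : Red.IsTrivialGrp H :=
  hG.2 H j inferInstance hH (isTorus_of_normal_solvable hG.1 j hH hsol)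

theorem isSolvableGrp_of_mul_comm {H : Over (Spec (CommRingCat.of k))} [GrpObj H]
    (h : ∀ (X : Over (Spec (CommRingCat.of k))) (a b : X ⟶ H), a * b = b * a) : Red.IsSolvableGrp H := by
  refine ⟨1, fun X => ?_⟩
  rw [derivedSeries_one, commutator_def, Subgroup.commutator_eq_bot_iff_le_centralizer]
  exact fun a _ => Subgroup.mem_centralizer_iff.mpr fun b _ => h X b a

/-- A normal subgroup of a semisimple group is semisimple. -/
theorem isSemisimpleOver_normal (hG : Red.IsSemisimpleOver k G) {N : Over (Spec (CommRingCat.of k))} [GrpObj N]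
    (j : N ⟶ G) [IsMonHom j] [IsClosedImmersion j.left] [Smooth N.hom] [ConnectedSpace N.left]
    (hN : AlgGrp.IsNormalHom j) : Red.IsSemisimpleOver k N := by
  haveI := hG.1.1
  haveI := hG.1.2.1
  refine ⟨isReductiveOver_normal hG.1 j hN, ?_⟩
  intro T _ i _ hi hTn hT
  haveI := hi
  haveI : IsAffine N.left := isAffine_of_isAffineHom j.left
  haveI : Mono i := Over.mono_of_mono_left _
  obtain ⟨-, hs, hc, ha⟩ := TorusPts.torus_props i hT
  haveI := hs
  haveI := hc
  haveI := ha
  obtain ⟨R, _, r, hr1, hr2, hr3, hr4, hr5, hr6, hmax⟩ := exists_radical N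
  haveI := hr1
  haveI := hr2
  haveI := hr3
  haveI := hr4
  haveI : IsAffine R.left := isAffine_of_isAffineHom r.left
  haveI : IsClosedImmersion (r ≫ j).left := by rw [Over.comp_left]; infer_instance
  haveI : IsOpenImmersion (𝟙 N : N ⟶ N).left := by rw [Over.id_left]; infer_instance
  haveI : IsClosedImmersion (𝟙 N : N ⟶ N).left := by rw [Over.id_left]; infer_instance
  have hn := normalPts_char j hN (𝟙 N) r (isNormalPts_of_isNormalHom hr6) fun f _ _ hf => hmax R f hf hr5
  rw [Category.id_comp] at hn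
  haveI : IsIso R.hom := trivial_of_normal_solvable hG (r ≫ j) (isNormalHom_of_pts _ hn) hr5
  obtain ⟨f, hf⟩ := hmax T i (isNormalPts_of_isNormalHom hTn)
    (isSolvableGrp_of_mul_comm fun X a b => Groth.Agent.Lib.Tori.Comm.mul_comm_of_isTorus hT a b)
  haveI : Mono (f ≫ r) := hf.symm ▸ inferInstance
  haveI : Mono f := mono_of_mono f r
  exact isTrivial_of_mono f

end AlgClosed

/-- Base change of a connected normal subgroup to the algebraic closure. -/
theorem fibre_props {G N : Over (Spec (CommRingCat.of k))} [GrpObj G] [GrpObj N] [IsAffineHom G.hom] (i : N ⟶ G)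
    [IsMonHom i] [IsClosedImmersion i.left] [Smooth N.hom] [ConnectedSpace N.left] (hN : AlgGrp.IsNormalHom i)
    (s : Spec (CommRingCat.of k)) :
    IsClosedImmersion ((Over.pullback (Red.geomPt s)).map i).left ∧ Smooth (Red.bc (Red.geomPt s) N).hom ∧
      ConnectedSpace (Red.bc (Red.geomPt s) N).left ∧
      AlgGrp.IsNormalHom ((Over.pullback (Red.geomPt s)).map i) := by
  haveI : IsAffine G.left := isAffine_of_isAffineHom G.hom
  haveI : IsAffine N.left := isAffine_of_isAffineHom i.left
  refine ⟨bc_map_left_of (P := @IsClosedImmersion) _ i inferInstance, ?_, ?_,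
    (Groth.Agent.H69.NormalDescend.isNormalHom_iff _ i).mpr fun X _ g n => hN X g n⟩
  all_goals
    obtain ⟨alg, halg, hσ⟩ := exists_geomPt_eq s
    obtain ⟨h1, h2, h3⟩ := bc_props (K := AlgebraicClosure ((Spec (CommRingCat.of k)).residueField s)) N
    rw [hσ]
  · exact h2
  · exact h3

theorem isSolvableGrp_bc_comm (H : Over (Spec (CommRingCat.of k))) [GrpObj H] [IsCommMonObj H] {K : Type u} [Field K]
    [IsAlgClosed K] (a : Spec (CommRingCat.of K) ⟶ Spec (CommRingCat.of k)) : Red.IsSolvableGrp (Red.bc a H) :=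
  isSolvableGrp_of_mul_comm fun X x y => (downMulEquiv a X H).injective (by rw [map_mul, map_mul, mul_comm])

section Descent

variable {K : Type u} [Field K] [Algebra k K] [Algebra.IsAlgebraic k K] [IsAlgClosed K]

theorem isTrivial_of_bc {H : Over (Spec (CommRingCat.of k))} [GrpObj H]
    (h : Red.IsTrivialGrp (Red.bc (extBase k K) H)) : Red.IsTrivialGrp H :=
  of_bc_hom k K (P := MorphismProperty.isomorphisms Scheme.{u}) H h

theorem isTorus_of_bc' {G : Over (Spec (CommRingCat.of K))} [GrpObj G] [IsAffine G.left] [LocallyOfFiniteType G.hom]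
    {H : Over (Spec (CommRingCat.of k))} [GrpObj H] (i : Red.bc (extBase k K) H ⟶ G) [IsMonHom i] [Mono i]
    (hT : Red.IsTorus (Red.bc (extBase k K) H)) : Red.IsTorus H := by
  obtain ⟨r, hr⟩ := FiniteBorel.exists_split i hT
  haveI : Flat (extBase k K) := Groth.Agent.Lib.GrpSch.flat_of_isField (Field.toIsField k) _
  haveI : Surjective (extBase k K) := ⟨fun x => ⟨IsLocalRing.closedPoint K, Subsingleton.elim (α := PrimeSpectrum k) _ _⟩⟩
  refine ⟨Spec (CommRingCat.of K), extBase k K, inferInstance, inferInstance,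
    Groth.Agent.Lib.Tori.Basic.isQCCover_of_qc _, fun _ => ⟨⊤, trivial, r, ?_⟩⟩
  exact Groth.Agent.Lib.Tori.Basic.isSplit_congr (Groth.Agent.Lib.Tori.BaseChange.bcComp _ _ _)
    (Groth.Agent.Lib.Tori.Basic.isSplit_bc hr _)

end Descent

/-- The fibre conditions of a unipotent radical over an algebraically closed field. -/
theorem props_of_fibre [IsAlgClosed k] {U : Over (Spec (CommRingCat.of k))} [GrpObj U] [IsAffine U.left] [Smooth U.hom]
    (hfib : ∀ s : Spec (CommRingCat.of k), ConnectedSpace (Red.geomFibre s U).left ∧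
      Red.HasNoSubtorus (AlgebraicClosure ((Spec (CommRingCat.of k)).residueField s)) (Red.geomFibre s U)) :
    ConnectedSpace U.left ∧ NoTorsion U := by
  let s : Spec (CommRingCat.of k) := IsLocalRing.closedPoint k
  obtain ⟨alg, halg, hσ⟩ := exists_geomPt_eq s
  have h := hfib s
  revert h
  show ConnectedSpace (Red.bc (Red.geomPt s) U).left ∧ Red.HasNoSubtorus _ (Red.bc (Red.geomPt s) U) → _
  rw [hσ]
  rintro ⟨hconn, hno⟩
  haveI := hconn
  haveI := connectedSpace_of_bc (K := AlgebraicClosure ((Spec (CommRingCat.of k)).residueField s)) U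
  obtain ⟨h1, h2, -⟩ := bc_props (K := AlgebraicClosure ((Spec (CommRingCat.of k)).residueField s)) U
  haveI := h1
  haveI := h2
  exact ⟨inferInstance, (UnipotentRadical.noTorsion_bc_iff U).mp (noTorsion_of_hasNoSubtorus hno)⟩

/-- The unipotent radical lies in the unipotent radical of a Borel subgroup. -/
theorem exists_factor_unipPart [IsAlgClosed k] {G : Over (Spec (CommRingCat.of k))} [GrpObj G] [IsAffine G.left]
    [Smooth G.hom] [ConnectedSpace G.left] {U : Over (Spec (CommRingCat.of k))} [GrpObj U] {u : U ⟶ G}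
    (hU : Par.IsUnipotentRadical u) {B : Over (Spec (CommRingCat.of k))} [GrpObj B] {iB : B ⟶ G}
    (hB : Red.IsBorelOver k iB) {V : Over (Spec (CommRingCat.of k))} [GrpObj V] {v : V ⟶ B}
    (hV : Par.IsUnipotentRadical v) : ∃ f : U ⟶ V, f ≫ v ≫ iB = u := by
  obtain ⟨hm, hc, hn, hs, hqc, hfib, -⟩ := hU
  haveI := hm
  haveI := hc
  haveI := hs
  haveI : IsAffine U.left := isAffine_of_isAffineHom u.left
  obtain ⟨hconn, hno⟩ := props_of_fibre hfib
  haveI := hconn
  haveI := hB.1
  haveI := hB.2.1
  obtain ⟨φ, hφ⟩ := exists_factor_borel hB u (isNormalPts_of_isNormalHom hn) (isSolvableGrp_of_noTorsion hno)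
  haveI : Mono iB := Over.mono_of_mono_left iB
  haveI : IsMonHom (φ ≫ iB) := hφ.symm ▸ inferInstance
  haveI : IsMonHom φ := CentralizerBorel.isMonHom_of_mono_comp φ iB
  haveI : IsClosedImmersion (φ.left ≫ iB.left) := by rw [← Over.comp_left, hφ]; infer_instance
  obtain ⟨f, hf⟩ := hV.2.2.2.2.2.2 U φ (IsClosedImmersion.of_comp φ.left iB.left) (fun T g n => by
    obtain ⟨n', hn'⟩ := hn T (g ≫ iB) n
    exact ⟨n', by
      rw [← cancel_mono iB, MonObj.mul_comp, MonObj.mul_comp, GrpObj.inv_comp, Category.assoc, Category.assoc, hφ,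
        hn']⟩) hs hqc hfib
  exact ⟨f, by rw [← Category.assoc, hf, hφ]⟩

end Groth.Agent.H1.Classical.RadU
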