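import Groth.Agent.H1.Classical.TorusSplit
import Groth.Agent.H1.Classical.Parabolic
import Groth.Agent.H1.Classical.Torus.SubTorus
import Groth.Agent.H1.Classical.Torus.OpenScheme
import Groth.Agent.Lib.GrpQ.MonoClosed

/-!
# Tori and their points
-/

universe u

open CategoryTheory MonoidalCategory CartesianMonoidalCategory MonObj GrpObj AlgebraicGeometry

namespace Groth.Agent.H1.Classical.TorusPts

set_option linter.style.haveILetI false
set_option linter.unusedSectionVars false

open Groth.Agent.Lib.RedPts Groth.Agent.Lib.RedPts.Points Scheme' TensorProduct WithConv Torus.Centraliser Complete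

attribute [local instance] baseAlgebra

variable {k : Type u} [Field k] [IsAlgClosed k] {A : Type u} [CommRing A] [HopfAlgebra k A] [Algebra.FiniteType k A]

/-- A subtorus is closed, smooth and connected. -/
theorem torus_props {T G : Over (Spec (CommRingCat.of k))} [GrpObj T] [GrpObj G] [IsAffine G.left]
    [LocallyOfFiniteType G.hom] (i : T ⟶ G) [IsMonHom i] [Mono i] (hT : Red.IsTorus T) :
    IsClosedImmersion i.left ∧ Smooth T.hom ∧ ConnectedSpace T.left ∧ IsAffine T.left := by
  haveI := Groth.Agent.Lib.Tori.Basic.smooth_of_isTorus hT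
  haveI := Groth.Agent.Lib.Tori.Basic.isAffineHom_of_isTorus hT
  haveI : IsAffine T.left := isAffine_of_isAffineHom T.hom
  obtain ⟨A', _, _, e, he⟩ := Hopf.exists_iso T
  haveI := he
  haveI : Algebra.FiniteType k A' := finiteType_of_iso e
  have hT' := Groth.Agent.Lib.Tori.Basic.isTorus_congr (Groth.Agent.Lib.Tori.BaseChange.grpIso e).symm hT
  haveI := TorusSplit.isDomain_of_isTorus hT'
  haveI : ConnectedSpace (GA k A').left :=
    inferInstanceAs (ConnectedSpace (Spec (CommRingCat.of A')))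
  refine ⟨Groth.Agent.Lib.GrpQ.MonoClosed.isClosedImmersion_of_mono i, inferInstance, ?_, inferInstance⟩
  let e' : (GA k A').left ≅ T.left := ((Over.forget _).mapIso e).symm
  exact e'.hom.homeomorph.surjective.connectedSpace e'.hom.homeomorph.continuous

/-- A homomorphism on coordinate rings is surjective for closed immersions. -/
theorem surjective_algHomOf {H : Over (Spec (CommRingCat.of k))} (i : H ⟶ GA k A) [IsClosedImmersion i.left] :
    Function.Surjective (algHomOf i) := by
  haveI : IsAffine H.left := isAffine_of_isAffineHom i.left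
  let i' : H.left ⟶ Spec (CommRingCat.of A) := i.left
  haveI : IsClosedImmersion i' := ‹IsClosedImmersion i.left›
  intro y
  obtain ⟨z, hz⟩ := (IsClosedImmersion.isAffine_surjective_of_isAffine i').2 y
  refine ⟨(Scheme.ΓSpecIso (CommRingCat.of A)).hom z, ?_⟩
  show i'.appTop ((Scheme.ΓSpecIso (CommRingCat.of A)).inv ((Scheme.ΓSpecIso (CommRingCat.of A)).hom z)) = y
  rw [← hz]
  congr 1
  exact congr($((Scheme.ΓSpecIso (CommRingCat.of A)).hom_inv_id).hom z)

/-- The points of a subtorus form a torus. -/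
theorem isTor_ptsOf [IsDomain A] {T : Over (Spec (CommRingCat.of k))} [GrpObj T] (i : T ⟶ GA k A) [IsMonHom i]
    [Mono i] (hT : Red.IsTorus T) : IsTor (HopfPts.D k A) (ptsOf i) := by
  haveI := locallyOfFiniteType_GA (k := k) (A := A)
  obtain ⟨hcl, hsm, hconn, haff⟩ := torus_props i hT
  haveI := hcl
  haveI := hsm
  haveI := hconn
  have hScl := isCl_ptsOf i
  have hSirr := sirr_ptsOf i
  have hcomm : ∀ a ∈ ptsOf i, ∀ b ∈ ptsOf i, a * b = b * a := by
    rintro a ⟨x, hx⟩ b ⟨y, hy⟩
    apply ptHom_injective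
    rw [map_mul, map_mul, ← show x ≫ i = ptHom (𝟙_ _) a from hx, ← show y ≫ i = ptHom (𝟙_ _) b from hy,
      ← MonObj.mul_comp x y i, ← MonObj.mul_comp y x i, Groth.Agent.Lib.Tori.Comm.mul_comm_of_isTorus hT x y]
  refine ⟨hScl, hSirr, hcomm, ?_⟩
  haveI := isSolvable_of_comm hcomm
  obtain ⟨W, _, σ, hσ⟩ := Torus.GenRep.exists_gen (HopfPts.D k A) hasMul_pts pts_ext
  let S := ptsOf i
  let DS := (HopfPts.D k A).restrict S hScl
  have hσS := Torus.GenRep.Gen.restrict (HopfPts.D k A) hσ S hScl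
  obtain ⟨T₁, U₁, τ, hs⟩ := Torus.Split.exists_split DS
    ((HopfPts.D k A).sirr_restrict.mpr (by rw [Set.image_univ, Subtype.range_coe_subtype]; exact hSirr))
    (σ.comp S.subtype) hσS
  obtain ⟨A', _, _, e, he⟩ := Hopf.exists_iso T
  haveI := he
  haveI : Algebra.FiniteType k A' := finiteType_of_iso e
  have hT' := Groth.Agent.Lib.Tori.Basic.isTorus_congr (Groth.Agent.Lib.Tori.BaseChange.grpIso e).symm hT
  have hdiag := TorusSplit.isDiag_of_isTorus hT'
  have hU : ∀ u ∈ U₁, u = 1 := by
    intro u hu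
    obtain ⟨x, hx⟩ := u.2
    have hx1 : ∀ g : A', IsGroupLikeElem k g → algHomOf (x ≫ e.hom) g = 1 := by
      intro g hg
      obtain ⟨a, ha⟩ := surjective_algHomOf i (algHomOf e.hom g)
      have hval : ∀ (s : S) (y : 𝟙_ (Over (Spec (CommRingCat.of k))) ⟶ T), y ≫ i = ptHom _ (s : HopfPts.Pt k A) →
          algHomOf (y ≫ e.hom) g = baseHom (𝟙_ _) ((s : HopfPts.Pt k A).ofConv a) := fun s y hy => by
        rw [algHomOf_comp, ← ha, ← algHomOf_comp, hy, algHomOf_ptHom]
        rfl
      have hmul : ∀ s t : S, ((s * t : S) : HopfPts.Pt k A).ofConv a =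
          (s : HopfPts.Pt k A).ofConv a * (t : HopfPts.Pt k A).ofConv a := by
        intro s t
        obtain ⟨y, hy⟩ := s.2
        obtain ⟨z, hz⟩ := t.2
        apply baseHom_bijective.1
        rw [map_mul, ← hval s y hy, ← hval t z hz, ← hval (s * t) (y * z) (by
          rw [MonObj.mul_comp y z i, Subgroup.coe_mul, map_mul, ← show y ≫ i = ptHom (𝟙_ _) (s : HopfPts.Pt k A) from hy,
            ← show z ≫ i = ptHom (𝟙_ _) (t : HopfPts.Pt k A) from hz]), MonObj.mul_comp y z e.hom,
          algHomOf_apply, algHomOf_apply, algHomOf_apply]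
        exact ringHomOf_mul_of_isGroupLike _ _ hg.comul_eq_tmul_self
      have hone : ((1 : S) : HopfPts.Pt k A).ofConv a = 1 := by
        apply baseHom_bijective.1
        rw [← hval 1 1 (by rw [MonObj.one_comp i, OneMemClass.coe_one, map_one]), MonObj.one_comp e.hom, algHomOf_one,
          hg.counit_eq_one, map_one, map_one]
      let ψ : S →* kˣ := MonoidHom.toHomUnits
        { toFun := fun s => (s : HopfPts.Pt k A).ofConv a, map_one' := hone, map_mul' := hmul }
      have hψ : Torus.Diag.RegChar DS ψ := ⟨_, ⟨a, rfl⟩, rfl⟩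
      have h1 := congrArg Units.val (Torus.Central.char_eq_one DS hσS ((hs.nilp u).mpr hu) hψ)
      rw [hval u x hx]
      change baseHom _ ((ψ u : kˣ) : k) = 1
      rw [h1, Units.val_one, map_one]
    have hx2 : x ≫ e.hom = 1 := by
      refine algHomOf_injective (AlgHom.ext fun a => ?_)
      have ha : a ∈ Submodule.span k {a : A' | IsGroupLikeElem k a} := hdiag ▸ Submodule.mem_top
      induction ha using Submodule.span_induction with
      | mem g hg => rw [hx1 g hg, algHomOf_one, IsGroupLikeElem.counit_eq_one hg, map_one]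
      | zero => simp
      | add p q _ _ hp hq => rw [map_add, map_add, hp, hq]
      | smul c p _ hp => rw [map_smul, map_smul, hp]
    have hx3 : x = 1 := by rw [← cancel_mono e.hom, hx2, MonObj.one_comp e.hom]
    refine Subtype.ext (ptHom_injective ?_)
    rw [OneMemClass.coe_one, map_one, ← show x ≫ i = ptHom (𝟙_ _) (u : HopfPts.Pt k A) from hx, hx3, MonObj.one_comp i]
  have htop : ∀ s : S, s ∈ T₁ := fun s => by
    have h1 : (τ s)⁻¹ * s ∈ U₁ := (hs.tau_ker _).mp (by
      rw [map_mul, map_inv, hs.tau_fix _ (hs.tau_mem s), inv_mul_cancel])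
    rw [← inv_mul_eq_one.mp (hU _ h1)]
    exact hs.tau_mem s
  intro f hf h t ht
  refine hs.dense _ ⟨f, hf, rfl⟩ (fun s _ ⟨m, hm, hsm⟩ => h _ s.2 ⟨m, hm, ?_⟩) ⟨t, ht⟩ (htop _)
  rw [← SubmonoidClass.coe_pow, hsm, OneMemClass.coe_one]

theorem bijective_algHomOf_id (A' : Type u) [CommRing A'] [HopfAlgebra k A'] :
    Function.Bijective (algHomOf (𝟙 (GA k A'))) := by
  have h : ⇑(algHomOf (𝟙 (GA k A'))) = ⇑(Scheme.ΓSpecIso (CommRingCat.of A')).inv := funext fun z => by
    show (𝟙 (Spec (CommRingCat.of A')) : _ ⟶ _).appTop ((Scheme.ΓSpecIso (CommRingCat.of A')).inv z) = _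
    simp
  rw [h]
  exact ConcreteCategory.bijective_of_isIso (Scheme.ΓSpecIso (CommRingCat.of A')).inv

/-- The coordinate ring as global functions. -/
noncomputable def coordEquiv (A' : Type u) [CommRing A'] [HopfAlgebra k A'] :
    A' ≃ₐ[k] Γ((GA k A').left, ⊤) :=
  AlgEquiv.ofBijective (algHomOf (𝟙 (GA k A'))) (bijective_algHomOf_id A')

theorem coordEquiv_apply {A' : Type u} [CommRing A'] [HopfAlgebra k A'] (z : A') :
    coordEquiv (k := k) A' z = algHomOf (𝟙 (GA k A')) z := rfl

/-- The map of coordinate rings of a homomorphism. -/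
noncomputable def algebraMapOfPoint {C : Over (Spec (CommRingCat.of k))} {A' : Type u} [CommRing A'] [HopfAlgebra k A']
    (e : C ≅ GA k A') (c : C ⟶ GA k A) : A →ₐ[k] A' :=
  (coordEquiv A').symm.toAlgHom.comp (algHomOf (W := GA k A') (e.inv ≫ c))

theorem algHomOf_algebraMapOfPoint {C : Over (Spec (CommRingCat.of k))} {A' : Type u} [CommRing A'] [HopfAlgebra k A']
    [Algebra.FiniteType k A'] (e : C ≅ GA k A') (c : C ⟶ GA k A) {X : Over (Spec (CommRingCat.of k))} (x : X ⟶ GA k A')
    (a : A) : algHomOf x (algebraMapOfPoint e c a) = algHomOf (x ≫ e.inv ≫ c) a := by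
  rw [algHomOf_comp x (e.inv ≫ c)]
  conv_lhs => rw [← Category.comp_id x, algHomOf_comp]
  congr 1
  rw [algebraMapOfPoint, AlgHom.comp_apply, ← coordEquiv_apply]
  exact AlgEquiv.apply_symm_apply (coordEquiv A') _

theorem surjective_algebraMapOfPoint {C : Over (Spec (CommRingCat.of k))} {A' : Type u} [CommRing A'] [HopfAlgebra k A']
    [Algebra.FiniteType k A'] (e : C ≅ GA k A') (c : C ⟶ GA k A) [IsClosedImmersion c.left] :
    Function.Surjective (algebraMapOfPoint e c) := by
  haveI : IsIso e.inv.left := ((Over.forget _).mapIso e).isIso_inv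
  haveI : IsClosedImmersion (e.inv ≫ c).left := inferInstanceAs (IsClosedImmersion (e.inv.left ≫ c.left))
  intro y
  obtain ⟨a, ha⟩ := surjective_algHomOf (H := GA k A') (e.inv ≫ c) (algHomOf (𝟙 (GA k A')) y)
  refine ⟨a, (bijective_algHomOf_id (k := k) A').1 ?_⟩
  rw [algHomOf_algebraMapOfPoint, Category.id_comp]
  exact ha

theorem algebraMapOfPoint_pts {C : Over (Spec (CommRingCat.of k))} [GrpObj C] {A' : Type u} [CommRing A']
    [HopfAlgebra k A'] [Algebra.FiniteType k A'] (e : C ≅ GA k A') (c : C ⟶ GA k A) [IsMonHom c] (χ : HopfPts.Pt k A') :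
    ∃ s ∈ ptsOf c, ∀ a, χ.ofConv (algebraMapOfPoint e c a) = s.ofConv a := by
  obtain ⟨s, hs⟩ := ptHom_surjective ((ptHom _ χ ≫ e.inv) ≫ c)
  refine ⟨s, ⟨_, hs.symm⟩, fun a => baseHom_bijective.1 ?_⟩
  have h := algHomOf_algebraMapOfPoint e c (ptHom (𝟙_ _) χ) a
  rw [← Category.assoc, ← hs, algHomOf_ptHom, algHomOf_ptHom] at h
  exact h

theorem algebraMapOfPoint_mul {C : Over (Spec (CommRingCat.of k))} [GrpObj C] {A' : Type u} [CommRing A']
    [HopfAlgebra k A'] [Algebra.FiniteType k A'] (e : C ≅ GA k A') [IsMonHom e.hom] (c : C ⟶ GA k A) [IsMonHom c]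
    (r : HopfPts.Pt k A' → HopfPts.Pt k A)
    (hr : ∀ χ a, χ.ofConv (algebraMapOfPoint e c a) = (r χ).ofConv a) (χ χ' : HopfPts.Pt k A') :
    r (χ * χ') = r χ * r χ' := by
  haveI : IsMonHom e.inv := inferInstance
  have h : ∀ χ, ptHom (𝟙_ _) (r χ) = (ptHom (𝟙_ _) χ ≫ e.inv) ≫ c := fun χ => algHomOf_injective (AlgHom.ext fun a => by
    rw [Category.assoc, ← algHomOf_algebraMapOfPoint, algHomOf_ptHom, algHomOf_ptHom, hr])
  apply ptHom_injective
  rw [map_mul, h, h, h, map_mul, MonObj.mul_comp _ _ e.inv, MonObj.mul_comp _ _ c]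

/-- A closed subgroup whose points form a torus is a torus. -/
theorem isTorus_of_isTor {C : Over (Spec (CommRingCat.of k))} [GrpObj C] (c : C ⟶ GA k A) [IsMonHom c]
    [IsClosedImmersion c.left] [Smooth C.hom] [ConnectedSpace C.left] (hC : IsTor (HopfPts.D k A) (ptsOf c)) :
    Red.IsTorus C := by
  classical
  haveI : IsAffine C.left := isAffine_of_isAffineHom c.left
  obtain ⟨A', _, _, e, he⟩ := Hopf.exists_iso C
  haveI := he
  haveI : Algebra.FiniteType k A' := finiteType_of_iso e
  haveI := isDomain_of_iso e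
  obtain ⟨W, _, σ, hσ⟩ := Torus.GenRep.exists_gen (HopfPts.D k A) hasMul_pts pts_ext
  obtain ⟨b, hb⟩ := exists_diag hC hσ.reg
  let π : A →ₐ[k] A' := algebraMapOfPoint e c
  have hπs : Function.Surjective π := surjective_algebraMapOfPoint e c
  -- points
  have hpt : ∀ χ : HopfPts.Pt k A', ∃ s ∈ ptsOf c, ∀ a, χ.ofConv (π a) = s.ofConv a := algebraMapOfPoint_pts e c
  choose r hr hra using hpt
  have hrmul : ∀ χ χ', r (χ * χ') = r χ * r χ' := fun χ χ' => algebraMapOfPoint_mul e c r hra χ χ'
  have hrone : r 1 = 1 := mul_left_cancel (a := r 1) (by rw [← hrmul, _root_.mul_one, _root_.mul_one])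
  have hsub : ∀ a : A', ∀ χ : HopfPts.Pt k A', χ.ofConv a = HopfPts.ev k A' a χ := fun a χ => rfl
  -- eigenvalue functions
  let ev : Fin (Module.finrank k W) → HopfPts.Pt k A → k := fun i g => b.coord i (σ g (b i))
  have hact : ∀ s ∈ ptsOf c, ∀ i, σ s (b i) = ev i s • b i := fun s hs i => by
    obtain ⟨z, hz⟩ := hb s hs i
    show σ s (b i) = b.coord i (σ s (b i)) • b i
    rw [hz, map_smul, Module.Basis.coord_apply, Module.Basis.repr_self, Finsupp.single_eq_same, smul_eq_mul, _root_.mul_one]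
  have hevmul : ∀ i, ∀ s ∈ ptsOf c, ∀ t ∈ ptsOf c, ev i (s * t) = ev i s * ev i t := by
    intro i s hs t ht
    show b.coord i (σ (s * t) (b i)) = _
    rw [map_mul, Module.End.mul_apply, hact t ht, map_smul, hact s hs, smul_smul, map_smul, Module.Basis.coord_apply,
      Module.Basis.repr_self, Finsupp.single_eq_same, smul_eq_mul, _root_.mul_one, mul_comm]
  have hevone : ∀ i, ev i 1 = 1 := fun i => by
    show b.coord i (σ 1 (b i)) = _
    rw [map_one, Module.End.one_apply, Module.Basis.coord_apply, Module.Basis.repr_self, Finsupp.single_eq_same]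
  choose a ha using fun i => show ∃ a : A, HopfPts.ev k A a = ev i from hσ.reg (b i) (b.coord i)
  have hinj : ∀ p q : A', (∀ χ : HopfPts.Pt k A', χ.ofConv p = χ.ofConv q) → p = q := fun p q h =>
    HopfPts.ev_injective (k := k) (A := A') (funext h)
  have hgl : ∀ i, IsGroupLikeElem k (π (a i)) := fun i => by
    refine ⟨?_, sub_eq_zero.mp ?_⟩
    · have h := hra 1 (a i)
      rw [hrone] at h
      have h2 : (1 : HopfPts.Pt k A).ofConv (a i) = 1 := (congrFun (ha i) 1).trans (hevone i)
      rw [h2] at h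
      exact (AlgHom.convOne_apply (A := k) (π (a i))).symm.trans h
    · refine Words.tensor_eq_zero (fun x : HopfPts.Pt k A' => x.ofConv.toLinearMap)
        (fun x : HopfPts.Pt k A' => x.ofConv.toLinearMap)
        (fun m hm => hinj m 0 fun χ => (hm χ).trans (map_zero _).symm)
        (fun m hm => hinj m 0 fun χ => (hm χ).trans (map_zero _).symm) _ fun x y => ?_
      have h1 : (x * y).ofConv (π (a i)) = x.ofConv (π (a i)) * y.ofConv (π (a i)) := by
        rw [hra, hra, hra, hrmul]
        show HopfPts.ev k A (a i) (r x * r y) = HopfPts.ev k A (a i) (r x) * HopfPts.ev k A (a i) (r y)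
        rw [ha]
        exact hevmul i _ (hr x) _ (hr y)
      have key : ∀ t : A' ⊗[k] A', TensorProduct.lid k k (TensorProduct.map x.ofConv.toLinearMap y.ofConv.toLinearMap t) =
          Algebra.TensorProduct.lift x.ofConv y.ofConv (fun _ _ => .all ..) t := by
        intro t
        induction t using TensorProduct.induction_on with
        | zero => simp
        | tmul p q => simp
        | add p q hp hq => simp only [map_add, hp, hq]
      rw [map_sub, map_sub, key, key, Algebra.TensorProduct.lift_tmul, sub_eq_zero, ← h1]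
      exact (AlgHom.convMul_apply x y (π (a i))).symm
  -- span
  let P : Submodule k A' := Submodule.span k {a : A' | IsGroupLikeElem k a}
  let Ps : Subalgebra k A' := P.toSubalgebra (Submodule.subset_span IsGroupLikeElem.one) fun x y hx hy => by
    have h := Submodule.mul_mem_mul hx hy
    rw [Submodule.span_mul_span] at h
    refine Submodule.span_mono ?_ h
    rintro _ ⟨p, hp, q, hq, rfl⟩
    exact hp.mul hq
  let Z : Subalgebra k (HopfPts.Pt k A → k) :=
    { carrier := {f | ∃ v ∈ Ps, ∀ χ, f (r χ) = χ.ofConv v}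
      mul_mem' := by
        rintro f g ⟨v, hv, hfv⟩ ⟨w, hw, hgw⟩
        exact ⟨v * w, Ps.mul_mem hv hw, fun χ => by rw [Pi.mul_apply, hfv, hgw, map_mul]⟩
      add_mem' := by
        rintro f g ⟨v, hv, hfv⟩ ⟨w, hw, hgw⟩
        exact ⟨v + w, Ps.add_mem hv hw, fun χ => by rw [Pi.add_apply, hfv, hgw, map_add]⟩
      algebraMap_mem' := fun z => ⟨algebraMap k A' z, Ps.algebraMap_mem z, fun χ => (χ.ofConv.commutes z).symm⟩ }
  have hDZ : (HopfPts.D k A).R ≤ Z := by
    refine hσ.gen.trans (Algebra.adjoin_le ?_)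
    rintro _ ⟨w, l, rfl⟩
    refine ⟨∑ i, (b.repr w i * l (b i)) • π (a i),
      Ps.toSubmodule.sum_mem fun i _ => Ps.toSubmodule.smul_mem _ (Submodule.subset_span (hgl i)), fun χ => ?_⟩
    rw [map_sum]
    show l (σ (r χ) w) = _
    conv_lhs => rw [← b.sum_repr w, map_sum, map_sum]
    refine Finset.sum_congr rfl fun i _ => ?_
    rw [map_smul, map_smul, hact _ (hr χ), map_smul, map_smul, hra, smul_eq_mul, smul_eq_mul, smul_eq_mul]
    show _ = _ * HopfPts.ev k A (a i) (r χ)
    rw [ha]
    ring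
  have hspan : HopfRep.IsDiagonalizable k A' := by
    refine eq_top_iff.mpr fun y _ => ?_
    obtain ⟨y₀, rfl⟩ := hπs y
    obtain ⟨v, hv, hv'⟩ := hDZ ⟨y₀, rfl⟩
    rw [hinj (π y₀) v fun χ => (hra χ y₀).trans (hv' χ)]
    exact hv
  obtain ⟨n, hn⟩ := TorusSplit.isSplit_of_span hspan
  exact Groth.Agent.Lib.Tori.Basic.isTorus_congr (Groth.Agent.Lib.Tori.BaseChange.grpIso e)
    (Groth.Agent.Lib.Tori.Basic.isTorus_of_isSplit hn)

end Groth.Agent.H1.Classical.TorusPts
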