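import Groth.Agent.H1.Classical.CharDescent
import Groth.Agent.H1.Classical.CentralChars
import Groth.Agent.H1.Classical.TorusPts
import Groth.Agent.H1.Classical.Torus.Cartan
import Groth.Agent.H1.Classical.RadUApply
import Groth.Agent.H1.Classical.FieldDescent
import Groth.Agent.H60.RedLR.Reductive
import Groth.Agent.Lib.Tori.Basic

/-!
# A central torus meets the derived group in a finite scheme
-/

universe u

open TensorProduct CategoryTheory MonoidalCategory CartesianMonoidalCategory MonObj GrpObj AlgebraicGeometry WithConv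

namespace Groth.Agent.H1.Classical.CentralTorus

set_option linter.style.haveILetI false
set_option linter.unusedSectionVars false

open Groth.Agent.Lib.RedPts Groth.Agent.Lib.RedPts.Points Groth.Agent.Lib.RedPts.BC Groth.Agent.Lib.GrpSch Scheme'
  Torus Torus.Centraliser Groth.Agent.H60.RedLR

attribute [local instance] baseAlgebra

variable {k : Type u} [Field k] {A : Type u} [CommRing A] [HopfAlgebra k A]

/-- Functions in the commutative part are constant on what every commutative quotient kills. -/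
theorem algHomOf_commPart {D : Over (Spec (CommRingCat.of k))} [GrpObj D] (d : D ⟶ GA k A)
    (hkill : ∀ (H : Over (Spec (CommRingCat.of k))) [GrpObj H] [IsCommMonObj H] [LocallyOfFiniteType H.hom]
      [QuasiCompact H.hom] (f : GA k A ⟶ H) [IsMonHom f], d ≫ f = toUnit D ≫ η[H])
    {f : A} (hf : f ∈ CommPart.commPart k A) : algHomOf d f = algebraMap k _ (Coalgebra.counit f) := by
  obtain ⟨H, i1, i2, i3, i4, B, i5, i6, incB, b, eH, π, hπ, hπe, rfl⟩ := CommPart.exists_quotient hf
  letI := i1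
  letI := i2
  haveI := i3
  haveI := i4
  haveI := hπ
  have key : ∀ {W : Over (Spec (CommRingCat.of k))} (z : W ⟶ GA k A),
      algHomOf ((z ≫ π) ≫ eH.hom) b = algHomOf z (incB b) := fun {W} z => by
    rw [Category.assoc, hπe]
    conv_lhs => rw [← pointOf_algHomOf z, pointOf_comp_sp]
    exact AlgHom.congr_fun (algHomOf_pointOf ((algHomOf z).comp incB)) b
  have h : d ≫ π = (1 : D ⟶ GA k A) ≫ π := by rw [MonObj.one_comp, hkill H π, Hom.one_def]
  rw [← key d, h, key, algHomOf_one]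

theorem surjective_algHomOf {H : Over (Spec (CommRingCat.of k))} (i : H ⟶ GA k A) [IsClosedImmersion i.left] :
    Function.Surjective (algHomOf i) := by
  haveI : IsAffine H.left := isAffine_of_isAffineHom i.left
  let i' : H.left ⟶ Spec (CommRingCat.of A) := i.left
  haveI : IsClosedImmersion i' := ‹IsClosedImmersion i.left›
  intro y
  obtain ⟨z, hz⟩ := (IsClosedImmersion.isAffine_surjective_of_isAffine i').2 y
  refine ⟨(Scheme.ΓSpecIso (CommRingCat.of A)).hom z, ?_⟩
  show i'.appTop ((Scheme.ΓSpecIso (CommRingCat.of A)).inv ((Scheme.ΓSpecIso (CommRingCat.of A)).hom z)) = y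
  rw [← hz]
  congr 1
  exact congr($((Scheme.ΓSpecIso (CommRingCat.of A)).hom_inv_id).hom z)

/-- A point whose equations vanish factors through a closed subscheme. -/
theorem exists_lift {T W : Over (Spec (CommRingCat.of k))} (t : T ⟶ GA k A) [IsClosedImmersion t.left] (z : W ⟶ GA k A)
    (hz : RingHom.ker (algHomOf t) ≤ RingHom.ker (algHomOf z)) : ∃ y : W ⟶ T, y ≫ t = z := by
  haveI : IsAffine T.left := isAffine_of_isAffineHom t.left
  haveI : IsIso (toSpec T).left := inferInstanceAs (IsIso T.left.toSpecΓ)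
  haveI : IsIso ((Over.forget (Spec (CommRingCat.of k))).map (toSpec T)) := ‹IsIso (toSpec T).left›
  haveI : IsIso (toSpec T) := isIso_of_reflects_iso _ (Over.forget _)
  let e := Ideal.quotientKerAlgEquivOfSurjective (f := algHomOf t) (surjective_algHomOf t)
  let ψ₀ : Γ(T.left, ⊤) →ₐ[k] Γ(W.left, ⊤) :=
    (Ideal.Quotient.liftₐ (RingHom.ker (algHomOf t)) (algHomOf z) hz).comp e.symm.toAlgHom
  have hψ₀ : ψ₀.comp (algHomOf t) = algHomOf z := AlgHom.ext fun a => by
    show Ideal.Quotient.liftₐ _ _ hz (e.symm (algHomOf t a)) = _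
    rw [show e.symm (algHomOf t a) = Ideal.Quotient.mk _ a from (AlgEquiv.symm_apply_eq _).mpr rfl]
    rfl
  refine ⟨(toSpec W ≫ Scheme'.sp ψ₀) ≫ inv (toSpec T), ?_⟩
  conv_lhs => rw [← pointOf_algHomOf t]
  rw [show pointOf (algHomOf t) = toSpec T ≫ Scheme'.sp (algHomOf t) from rfl, Category.assoc,
    IsIso.inv_hom_id_assoc, Category.assoc, Scheme'.sp_comp, hψ₀]
  exact pointOf_algHomOf z

variable {K : Type u} [Field K] [Algebra k K]

/-- The point of the group over the larger field, as a point over the base. -/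
theorem down_ptHom_apply (X : HopfPts.Pt K (K ⊗[k] A)) {D : Over (Spec (CommRingCat.of k))} (d : D ⟶ GA k A)
    (y : 𝟙_ (Over (Spec (CommRingCat.of K))) ⟶ Red.bc (extBase k K) D)
    (hy : y ≫ (Over.pullback (extBase k K)).map d = ptHom (A := K ⊗[k] A) _ X ≫ bcComp k A K) :
    BC.down (extBase k K) y ≫ d = (Over.map (extBase k K)).map (ptHom (A := K ⊗[k] A) _ X) ≫ bcDown k A K := by
  rw [← BC.down_map, hy, BC.down_comp, bcComp, BC.down_up]

theorem algHomOf_bcDown {W : Over (Spec (CommRingCat.of K))} (z : W ⟶ GA K (K ⊗[k] A)) (a : A) :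
    algHomOf ((Over.map (extBase k K)).map z ≫ bcDown k A K) a = algHomOf z ((1 : K) ⊗ₜ[k] a) := by
  show ((Scheme.ΓSpecIso (CommRingCat.of A)).inv ≫ (z.left ≫ Spec.map (CommRingCat.ofHom
    (Algebra.TensorProduct.includeRight : A →ₐ[k] K ⊗[k] A).toRingHom)).appTop).hom a = _
  refine (ringHomOf_comp z.left _ a).trans ?_
  rw [algHomOf_apply, ringHomOf_apply z.left]
  refine congrArg _ ?_
  exact (congrArg (fun φ => φ.hom a) (Scheme.ΓSpecIso_inv_naturality (CommRingCat.ofHom
    (Algebra.TensorProduct.includeRight : A →ₐ[k] K ⊗[k] A).toRingHom))).symm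

theorem mul_comm_pts {T : Over (Spec (CommRingCat.of k))} (t : T ⟶ GA k A)
    (hcen : ∀ (X : Over (Spec (CommRingCat.of k))) (g : X ⟶ GA k A) (s : X ⟶ T), g * (s ≫ t) = (s ≫ t) * g)
    {X : HopfPts.Pt K (K ⊗[k] A)} (g : HopfPts.Pt K (K ⊗[k] A))
    (y : 𝟙_ (Over (Spec (CommRingCat.of K))) ⟶ Red.bc (extBase k K) T)
    (hy : y ≫ (Over.pullback (extBase k K)).map t = ptHom (A := K ⊗[k] A) _ X ≫ bcComp k A K) : g * X = X * g := by
  have h := hcen _ (BC.down (extBase k K) (ptHom (A := K ⊗[k] A) _ g ≫ bcComp k A K)) (BC.down (extBase k K) y)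
  rw [← BC.down_map, hy, ← BC.down_mul, ← BC.down_mul, ← MonObj.mul_comp, ← MonObj.mul_comp, ← map_mul, ← map_mul] at h
  have h2 := BC.down_injective h
  rw [cancel_mono] at h2
  exact ptHom_injective h2

variable [IsAlgClosed K] [Algebra.IsAlgebraic k K] [Algebra.FiniteType k A] [Smooth (GA k A).hom]
  [ConnectedSpace (GA k A).left]

theorem bc_ga_props : IsDomain (K ⊗[k] A) ∧ Smooth (GA K (K ⊗[k] A)).hom ∧ ConnectedSpace (GA K (K ⊗[k] A)).left := by
  haveI : IsAffine (GA k A).left := inferInstanceAs (IsAffine (Spec (CommRingCat.of A)))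
  haveI := (FieldDescent.bc_props (K := K) (GA k A)).2.1
  haveI := (FieldDescent.bc_props (K := K) (GA k A)).2.2
  haveI : IsIso (inv (bcComp k A K)).left := inferInstanceAs (IsIso ((Over.forget _).map (inv (bcComp k A K))))
  haveI : ConnectedSpace (GA K (K ⊗[k] A)).left :=
    (inv (bcComp k A K)).left.surjective.connectedSpace (inv (bcComp k A K)).left.continuous
  haveI : IsIso (bcComp k A K).left := inferInstanceAs (IsIso ((Over.forget _).map (bcComp k A K)))
  haveI : Smooth (GA K (K ⊗[k] A)).hom := by rw [← Over.w (bcComp k A K)]; infer_instance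
  exact ⟨isDomain_of_iso (Iso.refl (GA K (K ⊗[k] A))), inferInstance, inferInstance⟩

omit [IsAlgClosed K] [Algebra.IsAlgebraic k K] [Algebra.FiniteType k A] [Smooth (GA k A).hom]
  [ConnectedSpace (GA k A).left] in
theorem ext_mem_ptsOf {T : Over (Spec (CommRingCat.of k))} [GrpObj T] (t : T ⟶ GA k A) [IsMonHom t]
    [IsClosedImmersion t.left] [IsMonHom (asIso (bcComp k A K)).inv] (x : A →ₐ[k] K)
    (hxT : RingHom.ker (algHomOf t) ≤ RingHom.ker x) :
    CharDescent.ext (toConv x) ∈ ptsOf ((Over.pullback (extBase k K)).map t ≫ (asIso (bcComp k A K)).inv) := by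
  obtain ⟨y, hy⟩ := exists_lift t ((Over.map (extBase k K)).map (ptHom (A := K ⊗[k] A)
      (𝟙_ (Over (Spec (CommRingCat.of K)))) (CharDescent.ext (toConv x))) ≫ bcDown k A K) fun a ha => by
        rw [RingHom.mem_ker, algHomOf_bcDown, algHomOf_ptHom]
        have h0 : (CharDescent.ext (toConv x)).ofConv ((1 : K) ⊗ₜ[k] a) = 0 := by
          simpa [CharDescent.ext] using RingHom.mem_ker.mp (hxT ha)
        rw [h0, map_zero]
  refine ⟨BC.up (extBase k K) y, ?_⟩
  show BC.up (extBase k K) y ≫ (Over.pullback (extBase k K)).map t ≫ (asIso (bcComp k A K)).inv = _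
  rw [← cancel_mono (bcComp k A K)]
  simp only [Category.assoc, asIso_inv, IsIso.inv_hom_id, Category.comp_id]
  refine BC.down_injective ?_
  rw [BC.down_map, BC.down_up, BC.down_comp, bcComp, BC.down_up, hy]

/-- In a central set which is finite over a torus, finitely many points are killed by the commutative part. -/
theorem finite_of_tor {S : Set (HopfPts.Pt K (K ⊗[k] A))} {S₀ : Subgroup (HopfPts.Pt K (K ⊗[k] A))}
    (hS₀ : IsTor (HopfPts.D K (K ⊗[k] A)) S₀) (hc : ∀ s ∈ S₀, ∀ g, g * s = s * g)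
    (Q : Finset (HopfPts.Pt K (K ⊗[k] A))) (hQ : ∀ g ∈ S, ∃ q ∈ Q, q⁻¹ * g ∈ S₀)
    (J : Ideal A) (hJ : ∀ f ∈ CommPart.commPart k A, f - algebraMap k A (Coalgebra.counit f) ∈ J) :
    {x : A →ₐ[k] K | CharDescent.ext (toConv x) ∈ S ∧ J ≤ RingHom.ker x}.Finite := by
  classical
  haveI := (bc_ga_props (k := k) (A := A) (K := K)).1
  obtain ⟨W, _, σ, hσ⟩ := GenRep.exists_gen (HopfPts.D K (K ⊗[k] A)) hasMul_pts pts_ext
  obtain ⟨n, ψ, hψ, hfin⟩ := CentralChars.exists_chars hσ hS₀ hc
  have hker : ∀ x : A →ₐ[k] K, J ≤ RingHom.ker x → ∀ i, ψ i (CharDescent.ext (toConv x)) = 1 := by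
    intro x hxJ i
    obtain ⟨F, hF⟩ := hψ i
    have hv : ∀ X : HopfPts.Pt K (K ⊗[k] A), X.ofConv F = (ψ i X : K) := fun X => congrFun hF X
    refine Units.ext ?_
    rw [Units.val_one, ← hv, CharDescent.eval_eq_of_char F (fun X Y => by rw [hv, hv, hv, map_mul, Units.val_mul]) _
      (fun f hf => ?_), hv, map_one, Units.val_one]
    rw [CharDescent.res_ext, toConv_ofConv, ← sub_eq_zero, ← x.commutes, ← map_sub]
    exact hxJ (hJ f hf)
  have hqfin : ∀ q : HopfPts.Pt K (K ⊗[k] A), {g | q⁻¹ * g ∈ S₀ ∧ ∀ i, ψ i g = 1}.Finite := fun q => by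
    rcases Set.eq_empty_or_nonempty {g | q⁻¹ * g ∈ S₀ ∧ ∀ i, ψ i g = 1} with h | ⟨g₀, hg₀, hg₀'⟩
    · rw [h]; exact Set.finite_empty
    · refine (hfin.image fun s => g₀ * s).subset fun g hg => ⟨g₀⁻¹ * g, ⟨?_, fun i => ?_⟩, mul_inv_cancel_left g₀ g⟩
      · have := S₀.mul_mem (S₀.inv_mem hg₀) hg.1
        rwa [show (q⁻¹ * g₀)⁻¹ * (q⁻¹ * g) = g₀⁻¹ * g by group] at this
      · rw [map_mul, map_inv, hg₀' i, hg.2 i, inv_one, _root_.one_mul]
  refine ((Set.Finite.biUnion Q.finite_toSet fun q _ => hqfin q).image fun X => (CharDescent.res X).ofConv).subset ?_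
  rintro x ⟨hxS, hxJ⟩
  obtain ⟨q, hq, hqx⟩ := hQ _ hxS
  exact ⟨CharDescent.ext (toConv x), Set.mem_biUnion hq ⟨hqx, hker x hxJ⟩,
    congrArg WithConv.ofConv (CharDescent.res_ext (toConv x))⟩

/-- The geometric points common to a central torus and to the derived group are finite. -/
theorem finite_points {T : Over (Spec (CommRingCat.of k))} [GrpObj T] (t : T ⟶ GA k A) [IsMonHom t]
    [IsClosedImmersion t.left] (hT : Red.IsTorus T)
    (hcen : ∀ (X : Over (Spec (CommRingCat.of k))) (g : X ⟶ GA k A) (s : X ⟶ T), g * (s ≫ t) = (s ≫ t) * g)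
    (J : Ideal A) (hJ : ∀ f ∈ CommPart.commPart k A, f - algebraMap k A (Coalgebra.counit f) ∈ J) :
    {x : A →ₐ[k] K | RingHom.ker (algHomOf t) ≤ RingHom.ker x ∧ J ≤ RingHom.ker x}.Finite := by
  haveI := (bc_ga_props (k := k) (A := A) (K := K)).1
  haveI : IsMonHom (asIso (bcComp k A K)).hom := isMonHom_bcComp K
  haveI : Mono t := Over.mono_of_mono_left t
  let tK : Red.bc (extBase k K) T ⟶ GA K (K ⊗[k] A) :=
    (Over.pullback (extBase k K)).map t ≫ (asIso (bcComp k A K)).inv
  refine (finite_of_tor (S := ptsOf tK) (TorusPts.isTor_ptsOf tK (Lib.Tori.Basic.isTorus_bc hT _))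
    (fun s hs g => ?_) {1} (fun g hg => ⟨1, Finset.mem_singleton_self 1, by rwa [inv_one, _root_.one_mul]⟩) J hJ).subset
    fun x hx => ⟨ext_mem_ptsOf t x hx.1, hx.2⟩
  obtain ⟨y, hy⟩ := hs
  refine mul_comm_pts t hcen g y ?_
  rw [← show y ≫ tK = ptHom _ s from hy]
  simp [tK]

/-- The geometric points common to a central subgroup of a reductive group and to the derived group are finite. -/
theorem finite_points_centre (hG : Red.IsReductiveOver K (Red.bc (extBase k K) (GA k A)))
    {Z : Over (Spec (CommRingCat.of k))} [GrpObj Z] (z : Z ⟶ GA k A) [IsMonHom z] [IsClosedImmersion z.left]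
    (hcen : ∀ (X : Over (Spec (CommRingCat.of k))) (g : X ⟶ GA k A) (s : X ⟶ Z), g * (s ≫ z) = (s ≫ z) * g)
    (J : Ideal A) (hJ : ∀ f ∈ CommPart.commPart k A, f - algebraMap k A (Coalgebra.counit f) ∈ J) :
    {x : A →ₐ[k] K | RingHom.ker (algHomOf z) ≤ RingHom.ker x ∧ J ≤ RingHom.ker x}.Finite := by
  obtain ⟨hdom, hsm, hconn⟩ := bc_ga_props (k := k) (A := A) (K := K)
  haveI := hdom
  haveI := hsm
  haveI := hconn
  haveI : IsMonHom (asIso (bcComp k A K)).hom := isMonHom_bcComp K
  haveI : IsMonHom (asIso (bcComp k A K)).symm.hom := inferInstanceAs (IsMonHom (asIso (bcComp k A K)).inv)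
  have hred := isReductiveOver_congr (asIso (bcComp k A K)).symm hG
  haveI : IsIso (asIso (bcComp k A K)).inv.left := ((Over.forget _).mapIso (asIso (bcComp k A K))).isIso_inv
  haveI : IsClosedImmersion ((Over.pullback (extBase k K)).map z).left :=
    bc_map_left_of (P := @IsClosedImmersion) _ z inferInstance
  let zK : Red.bc (extBase k K) Z ⟶ GA K (K ⊗[k] A) :=
    (Over.pullback (extBase k K)).map z ≫ (asIso (bcComp k A K)).inv
  haveI : IsClosedImmersion zK.left := by
    rw [show zK.left = ((Over.pullback (extBase k K)).map z).left ≫ (asIso (bcComp k A K)).inv.left from rfl]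
    infer_instance
  have hcomm : ∀ s ∈ ptsOf zK, ∀ g, g * s = s * g := fun s hs g => by
    obtain ⟨y, hy⟩ := hs
    refine mul_comm_pts z hcen g y ?_
    rw [← show y ≫ zK = ptHom _ s from hy]
    simp [zK]
  obtain ⟨C, hCP, hCcl, hCirr, -, Q, -, hQ⟩ :=
    Torus.Cartan.exists_component_in (D := HopfPts.D K (K ⊗[k] A)) (ptsOf zK) (isCl_ptsOf zK)
  have hCc : ∀ a ∈ C, ∀ b ∈ C, a * b = b * a := fun a _ b hb => hcomm b (hCP hb) a
  haveI := isSolvable_of_comm hCc
  obtain ⟨C', _, c, hc1, hc2, hc3, hc4, hc5, hfac, hpt⟩ := exists_subgroup C hCcl hCirr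
  haveI := hc1
  haveI := hc2
  haveI := hc3
  haveI := hc4
  haveI : Mono c := Over.mono_of_mono_left c
  have hn : RadU.IsNormalPts c := fun g w => by
    obtain ⟨a, rfl⟩ := ptHom_surjective g
    obtain ⟨s, hs, hws⟩ := hpt w
    exact ⟨w, by rw [hws, ← map_inv, ← map_mul, ← map_mul, hcomm s (hCP hs) a, mul_inv_cancel_right]⟩
  have hS₀ := TorusPts.isTor_ptsOf c (RadU.isTorus_of_normal_solvable hred c (RadU.isNormalHom_of_pts _ hn) hc5)
  have hCeq : ∀ s, s ∈ ptsOf c ↔ s ∈ C := fun s => by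
    constructor
    · rintro ⟨w, hw⟩
      obtain ⟨s', hs', hws⟩ := hpt w
      exact (ptHom_injective (hws.symm.trans hw)) ▸ hs'
    · intro hs
      obtain ⟨w, hw⟩ := hfac (𝟙_ _) (ptHom _ s) fun b hb => by rw [algHomOf_ptHom, hb s hs, map_zero]
      exact ⟨w, hw⟩
  refine (finite_of_tor (S := ptsOf zK) hS₀ (fun s hs g => hcomm s (hCP ((hCeq s).mp hs)) g) Q
    (fun g hg => by
      obtain ⟨q, hq, hqg⟩ := hQ g hg
      exact ⟨q, hq, (hCeq _).mpr hqg⟩) J hJ).subset fun x hx => ⟨ext_mem_ptsOf z x hx.1, hx.2⟩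

omit [IsAlgClosed K] [Smooth (GA k A).hom] [ConnectedSpace (GA k A).left] in
/-- A closed subset with finitely many geometric points is finite. -/
theorem finite_zeroLocus [IsAlgClosed K] (I : Ideal A) (h : {x : A →ₐ[k] K | I ≤ RingHom.ker x}.Finite) :
    (PrimeSpectrum.zeroLocus (I : Set A)).Finite := by
  classical
  haveI : IsJacobsonRing A := isJacobsonRing_of_finiteType (A := k)
  have hmax : ∀ m : Ideal A, m.IsMaximal → I ≤ m → ∃ x : A →ₐ[k] K, I ≤ RingHom.ker x ∧ RingHom.ker x = m := by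
    intro m hm hIm
    letI := Ideal.Quotient.field m
    haveI : Module.Finite k (A ⧸ m) := finite_of_finite_type_of_isJacobsonRing k _
    haveI : Algebra.IsAlgebraic k (A ⧸ m) := Algebra.IsAlgebraic.of_finite k _
    let emb : A ⧸ m →ₐ[k] K := IsAlgClosed.lift
    have hker : RingHom.ker (emb.comp (Ideal.Quotient.mkₐ k m)) = m := Ideal.ext fun a => by
      rw [RingHom.mem_ker, AlgHom.comp_apply, map_eq_zero, Ideal.Quotient.mkₐ_eq_mk,
        Ideal.Quotient.eq_zero_iff_mem]
    exact ⟨_, hker.symm ▸ hIm, hker⟩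
  refine Set.Finite.of_finite_image (f := PrimeSpectrum.asIdeal) ((h.image fun x => RingHom.ker x).subset ?_)
    fun p _ q _ hpq => PrimeSpectrum.ext hpq
  rintro _ ⟨p, hp, rfl⟩
  by_contra hcon
  have hjac : p.asIdeal = sInf {m | p.asIdeal ≤ m ∧ m.IsMaximal} :=
    (IsJacobsonRing.out' p.asIdeal p.isPrime.isRadical).symm
  have hfin : {m | p.asIdeal ≤ m ∧ m.IsMaximal}.Finite := (h.image fun x => RingHom.ker x).subset fun m hm => by
    obtain ⟨x, hx1, hx2⟩ := hmax m hm.2 ((SetLike.coe_subset_coe.mp hp).trans hm.1)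
    exact ⟨x, hx1, hx2⟩
  have hle : hfin.toFinset.inf id ≤ p.asIdeal :=
    (le_sInf (s := {m | p.asIdeal ≤ m ∧ m.IsMaximal}) fun m hm =>
      Finset.inf_le (f := id) (hfin.mem_toFinset.mpr hm)).trans hjac.ge
  obtain ⟨m, hm, hmp⟩ := (Ideal.IsPrime.inf_le' p.isPrime).mp hle
  obtain ⟨hpm, hmax'⟩ := hfin.mem_toFinset.mp hm
  obtain ⟨x, hx1, hx2⟩ := hmax m hmax' ((SetLike.coe_subset_coe.mp hp).trans hpm)
  exact hcon ⟨x, hx1, hx2.trans (le_antisymm hmp hpm)⟩

omit [IsAlgClosed K] [Algebra.IsAlgebraic k K] [Smooth (GA k A).hom] [ConnectedSpace (GA k A).left] [Algebra.FiniteType k A] in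
theorem mem_zeroLocus {W : Over (Spec (CommRingCat.of k))} (f : W ⟶ GA k A) (p : W.left) {a : A}
    (ha : algHomOf f a = 0) : a ∈ (f.left.base p : PrimeSpectrum A).asIdeal := by
  have h := Lib.RedPts.Points.eq_toSpecΓ (A := A) f.left
  rw [show f.left.base p = (Spec.map (CommRingCat.ofHom (ringHomOf f.left))).base (W.left.toSpecΓ.base p) from
    congrArg (fun g : W.left ⟶ Spec (CommRingCat.of A) => g.base p) h]
  show (ringHomOf f.left a : Γ(W.left, ⊤)) ∈ (W.left.toSpecΓ.base p : PrimeSpectrum Γ(W.left, ⊤)).asIdeal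
  rw [← algHomOf_apply, ha]
  exact Ideal.zero_mem _

variable (K) in
/-- The fibre product of two closed subgroups is finite when it has finitely many geometric points. -/
theorem finite_pullback {T D : Over (Spec (CommRingCat.of k))} (t : T ⟶ GA k A) (d : D ⟶ GA k A)
    [IsClosedImmersion t.left] [IsClosedImmersion d.left]
    (h : {x : A →ₐ[k] K | RingHom.ker (algHomOf t) ≤ RingHom.ker x ∧ RingHom.ker (algHomOf d) ≤ RingHom.ker x}.Finite) :
    Finite ↥(Limits.pullback t.left d.left) := by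
  have hfin := finite_zeroLocus (K := K) (RingHom.ker (algHomOf t) ⊔ RingHom.ker (algHomOf d))
    (h.subset fun x hx => ⟨le_sup_left.trans hx, le_sup_right.trans hx⟩)
  haveI := hfin.to_subtype
  let g : Limits.pullback t.left d.left ⟶ Spec (CommRingCat.of A) := Limits.pullback.fst t.left d.left ≫ t.left
  refine Finite.of_injective (β := PrimeSpectrum.zeroLocus
    ((RingHom.ker (algHomOf t) ⊔ RingHom.ker (algHomOf d) : Ideal A) : Set A)) (fun p => ⟨g.base p, ?_⟩) fun p q hpq => ?_
  · refine SetLike.coe_subset_coe.mpr (sup_le (fun a ha => ?_) fun a ha => ?_)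
    · exact mem_zeroLocus t _ (RingHom.mem_ker.mp ha)
    · rw [show g = Limits.pullback.snd t.left d.left ≫ d.left from Limits.pullback.condition]
      exact mem_zeroLocus d _ (RingHom.mem_ker.mp ha)
  · haveI : IsClosedImmersion g := inferInstanceAs (IsClosedImmersion (Limits.pullback.fst t.left d.left ≫ t.left))
    exact g.isClosedEmbedding.injective (congrArg Subtype.val hpq)

omit [Smooth (GA k A).hom] [ConnectedSpace (GA k A).left] [IsAlgClosed K] [Algebra.IsAlgebraic k K] [Algebra.FiniteType k A] in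
theorem sub_counit_mem {D : Over (Spec (CommRingCat.of k))} [GrpObj D] (d : D ⟶ GA k A)
    (hkill : ∀ (H : Over (Spec (CommRingCat.of k))) [GrpObj H] [IsCommMonObj H] [LocallyOfFiniteType H.hom]
      [QuasiCompact H.hom] (f : GA k A ⟶ H) [IsMonHom f], d ≫ f = toUnit D ≫ η[H])
    {f : A} (hf : f ∈ CommPart.commPart k A) : f - algebraMap k A (Coalgebra.counit f) ∈ RingHom.ker (algHomOf d) := by
  rw [RingHom.mem_ker, map_sub, algHomOf_commPart d hkill hf, AlgHom.commutes, sub_self]

end Groth.Agent.H1.Classical.CentralTorus
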