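import Groth.Agent.H1.Classical.RadUApply
import Groth.Agent.Lib.Tori.BaseChange
import Groth.Agent.Lib.Tori.Basic

/-!
# Over an algebraically closed field the geometric fibre is the group itself
-/

universe u

open CategoryTheory MonoidalCategory CartesianMonoidalCategory MonObj GrpObj AlgebraicGeometry Limits

namespace Groth.Agent.H1.Classical.RedFibre

set_option linter.style.haveILetI false
set_option linter.unusedSectionVars false

open Groth.Agent.Lib.RedPts Groth.Agent.Lib.GrpSch Groth.Agent.Lib.RedPts.BC Scheme' FieldDescent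
  Groth.Agent.Lib.Tori.BaseChange

attribute [local instance] Groth.Agent.Lib.RedPts.Points.baseAlgebra

variable {k : Type u} [Field k] {K : Type u} [Field K] [Algebra k K]

theorem isIso_extBase (hb : Function.Bijective (algebraMap k K)) : IsIso (extBase k K) := by
  haveI : IsIso (CommRingCat.ofHom (algebraMap k K)) := (ConcreteCategory.isIso_iff_bijective _).mpr hb
  infer_instance

theorem isAlgebraic_of_bijective (hb : Function.Bijective (algebraMap k K)) : Algebra.IsAlgebraic k K :=
  ⟨fun x => by
    obtain ⟨c, rfl⟩ := hb.2 x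
    exact isAlgebraic_algebraMap c⟩

/-- The inverse base change of a subgroup of a base change along an isomorphism. -/
theorem exists_descent (hb : Function.Bijective (algebraMap k K)) {G : Over (Spec (CommRingCat.of k))} [GrpObj G]
    {U : Over (Spec (CommRingCat.of K))} [GrpObj U] (i : U ⟶ Red.bc (extBase k K) G) [IsMonHom i]
    [IsClosedImmersion i.left] [Smooth U.hom] [ConnectedSpace U.left] (hn : AlgGrp.IsNormalHom i) :
    ∃ (U' : Over (Spec (CommRingCat.of k))) (_ : GrpObj U') (i' : U' ⟶ G) (e : Red.bc (extBase k K) U' ≅ U),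
      IsMonHom i' ∧ IsClosedImmersion i'.left ∧ Smooth U'.hom ∧ ConnectedSpace U'.left ∧ AlgGrp.IsNormalHom i' ∧
      IsMonHom e.hom ∧ (IsIso U'.hom → IsIso U.hom) := by
  haveI := isIso_extBase hb
  let b : Spec (CommRingCat.of k) ⟶ Spec (CommRingCat.of K) := inv (extBase k K)
  let eG : Red.bc b (Red.bc (extBase k K) G) ≅ G :=
    overIso ((bcComp b (extBase k K) G).symm ≪≫ bcCongr (IsIso.inv_hom_id _) G ≪≫ bcId G)
  haveI : IsIso eG.hom.left := ((Over.forget _).mapIso eG).isIso_hom
  haveI : IsClosedImmersion ((Over.pullback b).map i).left :=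
    bc_map_left_of (P := @IsClosedImmersion) _ i inferInstance
  refine ⟨Red.bc b U, inferInstance, (Over.pullback b).map i ≫ eG.hom,
    overIso ((bcComp (extBase k K) b U).symm ≪≫ bcCongr (IsIso.hom_inv_id _) U ≪≫ bcId U),
    inferInstance, by rw [Over.comp_left]; infer_instance,
    inferInstanceAs (Smooth (pullback.snd U.hom b)),
    (inv (pullback.fst U.hom b)).surjective.connectedSpace (inv (pullback.fst U.hom b)).continuous, ?_,
    inferInstance, fun h => ?_⟩
  · intro T g n
    obtain ⟨n', hn'⟩ := (Groth.Agent.H69.NormalDescend.isNormalHom_iff b i).mpr (fun X _ g n => hn X g n) T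
      (g ≫ eG.inv) n
    refine ⟨n', ?_⟩
    rw [← cancel_mono eG.inv]
    simp only [MonObj.mul_comp, GrpObj.inv_comp, Category.assoc, eG.hom_inv_id, Category.comp_id]
    exact hn'
  · haveI : IsIso (pullback.snd U.hom b) := h
    rw [show U.hom = inv (pullback.fst U.hom b) ≫ pullback.snd U.hom b ≫ b by
      rw [IsIso.eq_inv_comp, pullback.condition]]
    infer_instance

theorem hasNoSubtorus_descent (hb : Function.Bijective (algebraMap k K)) [IsAlgClosed K]
    {U' : Over (Spec (CommRingCat.of k))} [GrpObj U'] {U : Over (Spec (CommRingCat.of K))} [GrpObj U]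
    (e : Red.bc (extBase k K) U' ≅ U) [IsMonHom e.hom] (hU : Red.HasNoSubtorus K U) : Red.HasNoSubtorus k U' := by
  intro T _ j _ _ hT
  haveI : Algebra.IsAlgebraic k K := isAlgebraic_of_bijective hb
  exact RadU.isTrivial_of_bc (hU _ ((Over.pullback (extBase k K)).map j ≫ e.hom)
    (Groth.Agent.Lib.Tori.Basic.isTorus_bc hT _))

/-- Reductivity is preserved by a trivial extension of the field. -/
theorem isReductiveOver_bc (hb : Function.Bijective (algebraMap k K)) [IsAlgClosed K] [IsAlgClosed k]
    {G : Over (Spec (CommRingCat.of k))} [GrpObj G] (hG : Red.IsReductiveOver k G) :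
    Red.IsReductiveOver K (Red.bc (extBase k K) G) := by
  haveI : Algebra.IsAlgebraic k K := isAlgebraic_of_bijective hb
  haveI := hG.1
  haveI := hG.2.1
  haveI := hG.2.2.1
  obtain ⟨h1, h2, h3⟩ := bc_props (K := K) G
  refine ⟨h1, h2, h3, fun U _ i _ hc hs hconn hn hU => ?_⟩
  haveI := hc
  haveI := hs
  haveI := hconn
  obtain ⟨U', _, i', e, hm, hc', hs', hconn', hn', he, hiso⟩ := exists_descent hb i hn
  haveI := hm
  haveI := he
  exact hiso (hG.2.2.2 U' i' hc' hs' hconn' hn' (hasNoSubtorus_descent hb e hU))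

theorem isSemisimpleOver_bc (hb : Function.Bijective (algebraMap k K)) [IsAlgClosed K] [IsAlgClosed k]
    {G : Over (Spec (CommRingCat.of k))} [GrpObj G] (hG : Red.IsSemisimpleOver k G) :
    Red.IsSemisimpleOver K (Red.bc (extBase k K) G) := by
  refine ⟨isReductiveOver_bc hb hG.1, fun T _ i _ hc hn hT => ?_⟩
  haveI := hc
  haveI : Algebra.IsAlgebraic k K := isAlgebraic_of_bijective hb
  haveI := hG.1.1
  haveI := hG.1.2.1
  haveI := hG.1.2.2.1
  obtain ⟨h1, h2, h3⟩ := bc_props (K := K) G
  haveI := h1
  haveI := h2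
  haveI : Mono i := Over.mono_of_mono_left i
  obtain ⟨-, hs, hconn, -⟩ := TorusPts.torus_props i hT
  haveI := hs
  haveI := hconn
  obtain ⟨T', _, i', e, hm, hc', hs', hconn', hn', he, hiso⟩ := exists_descent hb i hn
  haveI := hm
  haveI := he
  haveI : Mono (e.hom ≫ i) := mono_comp _ _
  exact hiso (hG.2 T' i' hc' hn' (RadU.isTorus_of_bc' (e.hom ≫ i)
    (Groth.Agent.Lib.Tori.Basic.isTorus_congr (grpIso e) hT)))

variable [IsAlgClosed k]

/-- Over an algebraically closed field reductivity is a condition on the group itself. -/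
theorem isReductive_of_isReductiveOver {G : Over (Spec (CommRingCat.of k))} [GrpObj G]
    (hG : Red.IsReductiveOver k G) : Red.IsReductive G := by
  haveI := hG.1
  refine ⟨inferInstance, hG.2.1, fun s => ?_⟩
  obtain ⟨alg, halg, hσ⟩ := exists_geomPt_eq s
  show Red.IsReductiveOver _ (Red.bc (Red.geomPt s) G)
  rw [hσ]
  exact isReductiveOver_bc (IsAlgClosed.algebraMap_bijective_of_isIntegral) hG

/-- Over an algebraically closed field semisimplicity is a condition on the group itself. -/
theorem isSemisimple_of_isSemisimpleOver {G : Over (Spec (CommRingCat.of k))} [GrpObj G]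
    (hG : Red.IsSemisimpleOver k G) : Red.IsSemisimple G := by
  haveI := hG.1.1
  refine ⟨inferInstance, hG.1.2.1, fun s => ?_⟩
  obtain ⟨alg, halg, hσ⟩ := exists_geomPt_eq s
  show Red.IsSemisimpleOver _ (Red.bc (Red.geomPt s) G)
  rw [hσ]
  exact isSemisimpleOver_bc (IsAlgClosed.algebraMap_bijective_of_isIntegral) hG

end Groth.Agent.H1.Classical.RedFibre
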