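import Groth.Agent.H1.Classical.CentralTorus
import Groth.Agent.H1.Classical.Torus.WeylFinite
import Groth.Agent.H1.Classical.RedFibre

/-!
# Semisimplicity of reductive groups through central tori
-/

universe u v w

open TensorProduct CategoryTheory MonoidalCategory CartesianMonoidalCategory MonObj GrpObj AlgebraicGeometry WithConv

namespace Groth.Agent.H1.Classical.CentralTorusRed

set_option linter.style.haveILetI false
set_option linter.unusedSectionVars false

open Groth.Agent.Lib.RedPts Groth.Agent.Lib.RedPts.Points Groth.Agent.Lib.RedPts.BC Groth.Agent.Lib.GrpSch Scheme'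
  Torus Torus.Centraliser Groth.Agent.H60.RedLR Kolchin

attribute [local instance] baseAlgebra

section Points

variable {k : Type u} [Field k] [IsAlgClosed k] {Γ : Type v} [Group Γ] {D : Alg k Γ} {W : Type w} [AddCommGroup W]
  [Module k W] [FiniteDimensional k W] {σ : Representation k Γ W}

theorem eq_of_coeff (hσ : GenRep.Gen D σ) {x y : Γ} (h : ∀ (w : W) (l : Module.Dual k W), l (σ x w) = l (σ y w)) :
    x = y :=
  hσ.faith (LinearMap.ext fun w => by
    rw [← sub_eq_zero, ← Module.forall_dual_apply_eq_zero_iff k]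
    exact fun l => by rw [map_sub, h w l, sub_self])

/-- An irreducible finite subgroup is trivial. -/
theorem eq_one_of_finite (hσ : GenRep.Gen D σ) {S : Subgroup Γ} (hS : D.SIrr S) (hfin : (S : Set Γ).Finite) :
    ∀ s ∈ S, s = 1 := by
  obtain ⟨v, -, hv⟩ := hS.exists_forall D ⟨1, S.one_mem⟩ hfin.toFinset
    (fun v => {f | ∃ (w : W) (l : Module.Dual k W), f = fun g => l (σ g w) - l (σ v w)})
    (fun v _ => by rintro _ ⟨w, l, rfl⟩; exact D.R.sub_mem (hσ.reg w l) (D.R.algebraMap_mem _))
    (fun c hc => ⟨c, hfin.mem_toFinset.mpr hc, by rintro _ ⟨w, l, rfl⟩; exact sub_self _⟩)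
  have key : ∀ c ∈ S, c = v := fun c hc => eq_of_coeff hσ fun w l => sub_eq_zero.mp (hv c hc _ ⟨w, l, rfl⟩)
  exact fun s hs => (key s hs).trans (key 1 S.one_mem).symm

/-- A torus normal in a connected group is central. -/
theorem central_of_normal (hirr : D.SIrr Set.univ) (hmul : Complete.HasMul D) (hσ : GenRep.Gen D σ) {T : Subgroup Γ}
    (hT : IsTor D T) (hn : ∀ g, ∀ t ∈ T, g * t * g⁻¹ ∈ T) : ∀ t ∈ T, ∀ g, g * t = t * g := by
  classical
  intro t ht g
  obtain ⟨v, -, hv⟩ := hirr.exists_forall D ⟨1, trivial⟩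
    ((Torus.WeylFinite.finite_actions hσ hT).toFinset.image fun φ => φ ⟨t, ht⟩)
    (fun v => {f | ∃ (w : W) (l : Module.Dual k W), f = fun x => l (σ (x * t * x⁻¹) w) - l (σ v w)})
    (fun v _ => by
      rintro _ ⟨w, l, rfl⟩
      refine D.R.sub_mem ?_ (D.R.algebraMap_mem _)
      have h := D.inv _ (conj_fn_mem hmul t (hσ.reg w l))
      simp only [_root_.inv_inv] at h
      exact h)
    (fun c _ => ⟨c * t * c⁻¹, Finset.mem_image.mpr ⟨fun s : T => c * s * c⁻¹,
      (Torus.WeylFinite.finite_actions hσ hT).mem_toFinset.mpr ⟨c, hn c, rfl⟩, rfl⟩,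
      by rintro _ ⟨w, l, rfl⟩; exact sub_self _⟩)
  have key : ∀ x : Γ, x * t * x⁻¹ = v := fun x =>
    eq_of_coeff hσ fun w l => sub_eq_zero.mp (hv x trivial _ ⟨w, l, rfl⟩)
  have h := (key g).trans (key 1).symm
  rwa [inv_one, _root_.one_mul, _root_.mul_one, mul_inv_eq_iff_eq_mul] at h

end Points

section Scheme

variable {K : Type u} [Field K] [IsAlgClosed K]

/-- Semisimplicity is invariant under isomorphism. -/
theorem isSemisimpleOver_congr {G G' : Over (Spec (CommRingCat.of K))} [GrpObj G] [GrpObj G'] (e : G ≅ G')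
    [IsMonHom e.hom] (h : Red.IsSemisimpleOver K G) : Red.IsSemisimpleOver K G' := by
  refine ⟨isReductiveOver_congr e h.1, fun T _ i _ hc hn hT => ?_⟩
  haveI := hc
  haveI : IsMonHom e.inv := inferInstance
  haveI : IsIso e.inv.left := ((Over.forget _).mapIso e).isIso_inv
  refine h.2 T (i ≫ e.inv) (by rw [Over.comp_left]; infer_instance) (fun X g n => ?_) hT
  obtain ⟨n', hn'⟩ := hn X (g ≫ e.hom) n
  refine ⟨n', ?_⟩
  rw [← Category.assoc n', ← hn']
  simp only [MonObj.mul_comp, GrpObj.inv_comp, Category.assoc, Iso.hom_inv_id, Category.comp_id]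

/-- A reductive group with only finite central tori is semisimple. -/
theorem isSemisimpleOver_of_finite {B : Type u} [CommRing B] [HopfAlgebra K B]
    (hred : Red.IsReductiveOver K (GA K B))
    (h : ∀ S : Subgroup (HopfPts.Pt K B), [Algebra.FiniteType K B] → IsTor (HopfPts.D K B) S →
      (∀ s ∈ S, ∀ g, g * s = s * g) → (S : Set (HopfPts.Pt K B)).Finite) : Red.IsSemisimpleOver K (GA K B) := by
  refine ⟨hred, fun T _ i _ hc hn hT => ?_⟩
  haveI := hc
  haveI := hred.2.1
  haveI := hred.2.2.1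
  haveI : Algebra.FiniteType K B :=
    Hopf.finiteType_of_locallyOfFiniteType (show LocallyOfFiniteType (GA K B).hom from inferInstance)
  haveI : IsDomain B := isDomain_of_iso (Iso.refl (GA K B))
  haveI : Mono i := Over.mono_of_mono_left i
  have hTor := TorusPts.isTor_ptsOf i hT
  obtain ⟨W, _, σ, hσ⟩ := GenRep.exists_gen (HopfPts.D K B) hasMul_pts pts_ext
  have hcen := central_of_normal HopfPts.sirr_univ hasMul_pts hσ hTor fun g t ht => by
    obtain ⟨y, hy⟩ := ht
    obtain ⟨y', hy'⟩ := hn _ (ptHom (A := B) _ g) y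
    refine ⟨y', ?_⟩
    show y' ≫ i = ptHom _ (g * t * g⁻¹)
    rw [← hy', map_mul, map_mul, map_inv, show y ≫ i = ptHom _ t from hy]
  have hone := eq_one_of_finite hσ hTor.irr (h _ hTor hcen)
  obtain ⟨-, hs, -, ha⟩ := TorusPts.torus_props i hT
  haveI := hs
  haveI := ha
  have hid : toUnit T ≫ η[T] = 𝟙 T := MaxTorusExists.hom_ext_of_points _ _ fun x => by
    obtain ⟨s, hs'⟩ := ptHom_surjective (x ≫ i)
    rw [Category.comp_id, ← Category.assoc, toUnit_unique (x ≫ toUnit T) (toUnit _), ← Hom.one_def,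
      ← cancel_mono i, MonObj.one_comp, ← hs', hone s ⟨x, hs'.symm⟩, map_one]
  haveI : IsIso (toUnit T) := ⟨η[T], hid, toUnit_unique _ _⟩
  haveI : IsIso (toUnit T).left := inferInstanceAs (IsIso ((Over.forget _).map (toUnit T)))
  show IsIso T.hom
  rw [← Over.w (toUnit T)]
  haveI : IsIso (𝟙_ (Over (Spec (CommRingCat.of K)))).hom := inferInstanceAs (IsIso (𝟙 _))
  infer_instance

end Scheme

section Descent

variable {k : Type u} [Field k]

/-- To prove semisimplicity over a field it is enough to bound central tori of the geometric fibre. -/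
theorem isSemisimple_of_finite {A : Type u} [CommRing A] [HopfAlgebra k A] (hG : Red.IsReductive (GA k A))
    (h : ∀ (K : Type u) [Field K] [IsAlgClosed K] [Algebra k K] [Algebra.IsAlgebraic k K],
      Red.IsReductiveOver K (Red.bc (extBase k K) (GA k A)) →
      ∀ S : Subgroup (HopfPts.Pt K (K ⊗[k] A)), [Algebra.FiniteType K (K ⊗[k] A)] → IsTor (HopfPts.D K (K ⊗[k] A)) S →
        (∀ s ∈ S, ∀ g, g * s = s * g) → (S : Set (HopfPts.Pt K (K ⊗[k] A))).Finite) : Red.IsSemisimple (GA k A) := by
  refine ⟨hG.1, hG.2.1, fun s => ?_⟩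
  have hred : Red.IsReductiveOver _ (Red.bc (Red.geomPt s) (GA k A)) := hG.2.2 s
  show Red.IsSemisimpleOver _ (Red.bc (Red.geomPt s) (GA k A))
  obtain ⟨alg, halg, hσ⟩ := exists_geomPt_eq s
  rw [hσ] at hred ⊢
  let K := AlgebraicClosure ((Spec (CommRingCat.of k)).residueField s)
  haveI : IsMonHom (asIso (bcComp k A K)).hom := isMonHom_bcComp K
  haveI : IsMonHom (asIso (bcComp k A K)).symm.hom := inferInstanceAs (IsMonHom (asIso (bcComp k A K)).inv)
  exact isSemisimpleOver_congr (asIso (bcComp k A K))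
    (isSemisimpleOver_of_finite (isReductiveOver_congr (asIso (bcComp k A K)).symm hred) (h K hred))

theorem isReductive_congr {G G' : Over (Spec (CommRingCat.of k))} [GrpObj G] [GrpObj G'] (e : G ≅ G')
    [IsMonHom e.hom] (h : Red.IsReductive G) : Red.IsReductive G' := by
  obtain ⟨h1, h2, h3⟩ := h
  haveI : IsIso e.inv.left := ((Over.forget _).mapIso e).isIso_inv
  haveI := h1
  haveI := h2
  refine ⟨?_, ?_, fun s => ?_⟩
  · rw [← Over.w e.inv]; infer_instance
  · rw [← Over.w e.inv]; infer_instance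
  · haveI : IsMonHom ((Over.pullback (Red.geomPt s)).mapIso e).hom :=
      inferInstanceAs (IsMonHom ((Over.pullback (Red.geomPt s)).map e.hom))
    exact isReductiveOver_congr ((Over.pullback (Red.geomPt s)).mapIso e) (h3 s)

/-- The connectedness and affineness of a reductive group over a field. -/
theorem reductive_props {G : Over (Spec (CommRingCat.of k))} [GrpObj G] (hG : Red.IsReductive G) :
    IsAffine G.left ∧ Smooth G.hom ∧ ConnectedSpace G.left := by
  haveI := hG.1
  refine ⟨isAffine_of_isAffineHom G.hom, hG.2.1, ?_⟩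
  let s : Spec (CommRingCat.of k) := IsLocalRing.closedPoint k
  have h : ConnectedSpace (Red.bc (Red.geomPt s) G).left := (hG.2.2 s).2.2.1
  obtain ⟨alg, halg, hσ⟩ := exists_geomPt_eq s
  rw [hσ] at h
  exact FieldDescent.connectedSpace_of_bc (K := AlgebraicClosure ((Spec (CommRingCat.of k)).residueField s)) G

theorem isSemisimple_congr {G G' : Over (Spec (CommRingCat.of k))} [GrpObj G] [GrpObj G'] (e : G ≅ G')
    [IsMonHom e.hom] (h : Red.IsSemisimple G) : Red.IsSemisimple G' := by
  obtain ⟨h1, h2, h3⟩ := h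
  haveI : IsIso e.inv.left := ((Over.forget _).mapIso e).isIso_inv
  haveI := h1
  haveI := h2
  refine ⟨?_, ?_, fun s => ?_⟩
  · rw [← Over.w e.inv]; infer_instance
  · rw [← Over.w e.inv]; infer_instance
  · haveI : IsMonHom ((Over.pullback (Red.geomPt s)).mapIso e).hom :=
      inferInstanceAs (IsMonHom ((Over.pullback (Red.geomPt s)).map e.hom))
    exact isSemisimpleOver_congr ((Over.pullback (Red.geomPt s)).mapIso e) (h3 s)

end Descent

end Groth.Agent.H1.Classical.CentralTorusRed
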