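import Groth.Agent.H1.Classical.ChevalleyScheme
import Groth.Agent.H1.Classical.CentralizerBorel
import Groth.Agent.H1.Classical.RedFibre
import Groth.Agent.H1.Classical.CentralTorusRed

/-!
# Centralisers of tori in reductive groups
-/

universe u

open CategoryTheory MonoidalCategory CartesianMonoidalCategory MonObj GrpObj AlgebraicGeometry

namespace Groth.Agent.H1.Classical.CentralizerRed

set_option linter.style.haveILetI false
set_option linter.unusedSectionVars false

open Groth.Agent.Lib.RedPts Groth.Agent.Lib.RedPts.Points Scheme' Unipotent MaxTorusScheme MaxTorusApply MaxTorusBorel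
  Groth.Agent.Lib.GrpSch WithConv Torus Torus.Centraliser Torus.MaxTorus Complete RadU FieldDescent

attribute [local instance] baseAlgebra

section AlgClosed

variable {k : Type u} [Field k] [IsAlgClosed k] {G : Over (Spec (CommRingCat.of k))} [GrpObj G] [IsAffine G.left]
  [Smooth G.hom] [ConnectedSpace G.left]

variable (G) in
/-- The unipotent radical exists. -/
theorem exists_isUnipotentRadical :
    ∃ (U : Over (Spec (CommRingCat.of k))) (_ : GrpObj U) (u : U ⟶ G), Par.IsUnipotentRadical u ∧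
      IsMonHom u ∧ IsClosedImmersion u.left ∧ Smooth U.hom ∧ ConnectedSpace U.left ∧ Red.HasNoSubtorus k U ∧
      AlgGrp.IsNormalHom u := by
  obtain ⟨U, _, u, h1, h2, h3, h4, h5, h6, hmax⟩ := exists_radU G
  haveI := h1
  haveI := h2
  haveI := h3
  haveI := h4
  haveI : IsAffine U.left := isAffine_of_isAffineHom u.left
  refine ⟨U, inferInstance, u, ⟨h1, h2, h6, h3, inferInstance,
    Chevalley.geomFibre_props (noTorsion_of_hasNoSubtorus h5), fun U' _ u' _ hc' hn' hs' _ hfib => ?_⟩,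
    h1, h2, h3, h4, h5, h6⟩
  haveI := hc'
  haveI := hs'
  haveI : IsAffine U'.left := isAffine_of_isAffineHom u'.left
  obtain ⟨hconn, hno⟩ := props_of_fibre hfib
  haveI := hconn
  exact hmax U' u' (isNormalPts_of_isNormalHom hn') hno

/-- A torus lies in a maximal torus. -/
theorem exists_maxTorus_ge {S : Over (Spec (CommRingCat.of k))} [GrpObj S] (iS : S ⟶ G) [IsMonHom iS] [Mono iS]
    (hS : Red.IsTorus S) :
    ∃ (T : Over (Spec (CommRingCat.of k))) (_ : GrpObj T) (iT : T ⟶ G) (s : S ⟶ T),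
      AGF.IsMaxTorus iT ∧ s ≫ iT = iS := by
  obtain ⟨A, _, _, _, _, e, he⟩ := exists_GA G
  haveI := he
  haveI := locallyOfFiniteType (k := k) (A := A)
  obtain ⟨W, _, σ, hσ⟩ := Torus.GenRep.exists_gen (HopfPts.D k A) hasMul_pts pts_ext
  obtain ⟨-, hsS, -, haS⟩ := TorusPts.torus_props (iS ≫ e.hom) hS
  haveI := hsS
  haveI := haS
  obtain ⟨B, hB⟩ := exists_bor (k := k) (A := A)
  obtain ⟨T₀, -, hT₀, hinto, -⟩ := Torus.MaxTorus.exists_max hasMul_pts hσ hB
  obtain ⟨a, ha⟩ := hinto _ (TorusPts.isTor_ptsOf (iS ≫ e.hom) hS)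
  obtain ⟨C, _, c, hc, hci, hCt, hp⟩ := exists_torus (hT₀.map_conj a⁻¹).tor
  haveI := hci
  haveI := hc
  have hmax := MaxTorusExists.isMaxTorus_of_isMax c hCt (hp.symm ▸ hT₀.map_conj a⁻¹)
  obtain ⟨s, hs⟩ := exists_factor c (iS ≫ e.hom) fun x => by
    obtain ⟨t, ht⟩ := ptHom_surjective (x ≫ iS ≫ e.hom)
    refine ⟨t, hp.ge ⟨a * t * a⁻¹, ha t ⟨x, ht.symm⟩, ?_⟩, ht.symm⟩
    show a⁻¹ * (a * t * a⁻¹) * a⁻¹⁻¹ = t
    group
  haveI : IsMonHom e.symm.hom := inferInstanceAs (IsMonHom e.inv)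
  exact ⟨C, inferInstance, c ≫ e.inv, s, isMaxTorus_comp e.symm hmax,
    by rw [← Category.assoc, hs, Category.assoc, e.hom_inv_id, Category.comp_id]⟩

/-- A normal connected unipotent subgroup of the centraliser of a torus lies in the unipotent radical. -/
theorem exists_factor_centralizer {S : Over (Spec (CommRingCat.of k))} [GrpObj S] (iS : S ⟶ G) [IsMonHom iS] [Mono iS]
    (hS : Red.IsTorus S) {C : Over (Spec (CommRingCat.of k))} [GrpObj C] (c : C ⟶ G) (hc : Red.IsCentralizerOf iS c)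
    {U : Over (Spec (CommRingCat.of k))} [GrpObj U] {u : U ⟶ G} (hU : Par.IsUnipotentRadical u)
    {W : Over (Spec (CommRingCat.of k))} [GrpObj W] [Smooth W.hom] [ConnectedSpace W.left] (f : W ⟶ C) [IsMonHom f]
    [IsClosedImmersion f.left] (hn : IsNormalPts f) (hW : NoTorsion W) : ∃ g : W ⟶ U, g ≫ u = f ≫ c := by
  obtain ⟨hcc, haC, hsC, hconC⟩ := CentralizerScheme.props' iS hS c hc
  haveI := hcc
  haveI := haC
  haveI := hsC
  haveI := hconC
  haveI := hc.1
  haveI := hc.2.1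
  haveI : IsAffine W.left := isAffine_of_isAffineHom f.left
  haveI : IsClosedImmersion (f ≫ c).left := by rw [Over.comp_left]; infer_instance
  obtain ⟨T, _, iT, s, hT, hs⟩ := exists_maxTorus_ge iS hS
  refine Chevalley.exists_factor_radU hU hT (f ≫ c) fun B _ iB t hB ht V _ v hV => ?_
  haveI := hB.1
  haveI := hB.2.1
  haveI := hB.2.2.1
  haveI := hB.2.2.2.1
  haveI : IsAffine B.left := isAffine_of_isAffineHom iB.left
  haveI : Mono iB := Over.mono_of_mono_left iB
  have hsB : (s ≫ t) ≫ iB = iS := by rw [Category.assoc, ht, hs]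
  haveI : IsMonHom ((s ≫ t) ≫ iB) := hsB.symm ▸ inferInstance
  haveI : IsMonHom (s ≫ t) := CentralizerBorel.isMonHom_of_mono_comp (s ≫ t) iB
  obtain ⟨D, _, dB, hdB, -, -⟩ := Groth.Agent.Lib.MultSmooth.exists_centralizer_smooth
    (CentralizerScheme.isMultTypeFT_of_isTorus hS) (s ≫ t)
  obtain ⟨dC, hdC, hD⟩ := CentralizerBorel.exists_isPullback hc hsB hdB
  haveI := hdC
  have hDB := CentralizerBorel.isBorelOver_inter iS hS hB (s ≫ t) hsB hc dC dB hD
  obtain ⟨φ, hφ⟩ := exists_factor_borel hDB f hn (isSolvableGrp_of_noTorsion hW)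
  haveI : IsMonHom dB := hdB.1
  haveI := hDB.2.1
  haveI : Mono dC := Over.mono_of_mono_left dC
  haveI : IsMonHom (φ ≫ dC) := hφ.symm ▸ inferInstance
  haveI : IsMonHom φ := CentralizerBorel.isMonHom_of_mono_comp φ dC
  obtain ⟨V₀, _, v₀, hv1, hv2, hv3, hv4, hv5, hv6, hvfac, -⟩ := exists_unipPart B hB.2.2.2.2.1
  haveI := hv1
  haveI := hv2
  haveI := hv3
  haveI := hv4
  haveI : IsAffine V₀.left := isAffine_of_isAffineHom v₀.left
  obtain ⟨q, hq⟩ := hvfac W (φ ≫ dB) hW
  obtain ⟨r, hr⟩ := hV.2.2.2.2.2.2 V₀ v₀ hv2 hv6 hv3 inferInstance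
    (Chevalley.geomFibre_props (noTorsion_of_hasNoSubtorus hv5))
  refine ⟨q ≫ r, ?_⟩
  calc (q ≫ r) ≫ v ≫ iB = (q ≫ r ≫ v) ≫ iB := by simp only [Category.assoc]
    _ = φ ≫ dB ≫ iB := by rw [hr, hq, Category.assoc]
    _ = φ ≫ dC ≫ c := by rw [hD.w]
    _ = f ≫ c := by rw [← Category.assoc, hφ]

/-- The centraliser of a torus in a reductive group is reductive. -/
theorem isReductiveOver_centralizer (hG : Red.IsReductiveOver k G) {S : Over (Spec (CommRingCat.of k))} [GrpObj S]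
    (iS : S ⟶ G) [IsMonHom iS] [Mono iS] (hS : Red.IsTorus S) {C : Over (Spec (CommRingCat.of k))} [GrpObj C]
    (c : C ⟶ G) (hc : Red.IsCentralizerOf iS c) : Red.IsReductiveOver k C := by
  obtain ⟨hcc, haC, hsC, hconC⟩ := CentralizerScheme.props' iS hS c hc
  haveI := hcc
  haveI := haC
  refine ⟨haC, hsC, hconC, fun W _ i _ hi hs hconn hn hW => ?_⟩
  haveI := hi
  haveI := hs
  haveI := hconn
  haveI := hc.1
  haveI := hc.2.1
  haveI : IsAffine W.left := isAffine_of_isAffineHom i.left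
  obtain ⟨U, _, u, hU, h1, h2, h3, h4, h5, h6⟩ := exists_isUnipotentRadical G
  haveI := h1
  haveI : IsIso U.hom := hG.2.2.2 U u h2 h3 h4 h6 h5
  obtain ⟨g, hg⟩ := exists_factor_centralizer iS hS c hc hU i (isNormalPts_of_isNormalHom hn)
    (noTorsion_of_hasNoSubtorus hW)
  haveI : Mono i := Over.mono_of_mono_left i
  haveI : Mono (g ≫ u) := hg.symm ▸ (inferInstance : Mono (i ≫ c))
  haveI : Mono g := mono_of_mono g u
  exact isTrivial_of_mono g

theorem isSolvableGrp_of_isNilpotentGrp {C : Over (Spec (CommRingCat.of k))} [GrpObj C] (h : AGF.IsNilpotentGrp C) :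
    Red.IsSolvableGrp C := by
  obtain ⟨n, hn⟩ := h
  refine ⟨n, fun X => ?_⟩
  haveI : Group.IsNilpotent (X ⟶ C) := ⟨⟨n, hn X⟩⟩
  refine le_bot_iff.mp ((derived_le_lower_central n).trans (le_of_eq ?_))
  exact Subgroup.lowerCentralSeries_eq_bot_iff_nilpotencyClass_le.mpr
    (Subgroup.upperCentralSeries_eq_top_iff_nilpotencyClass_le.mp (hn X))

/-- A maximal torus of a reductive group is its own centraliser. -/
theorem isCentralizerOf_self (hG : Red.IsReductiveOver k G) {T : Over (Spec (CommRingCat.of k))} [GrpObj T] {iT : T ⟶ G}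
    (hT : AGF.IsMaxTorus iT) : Red.IsCentralizerOf iT iT := by
  haveI := hT.1
  haveI := hT.2.1
  obtain ⟨C, _, c, hc, hcc, hsC⟩ := Groth.Agent.Lib.MultSmooth.exists_centralizer_smooth
    (CentralizerScheme.isMultTypeFT_of_isTorus hT.2.2.1) iT
  obtain ⟨-, haC, -, hconC⟩ := CentralizerScheme.props' iT hT.2.2.1 c hc
  haveI := hcc
  haveI := hsC
  haveI := haC
  haveI := hconC
  haveI := hc.1
  haveI := hc.2.1
  have hsol := isSolvableGrp_of_isNilpotentGrp (NilpotentScheme.cartan_nilpotent hT hc)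
  haveI : IsClosedImmersion (𝟙 C : C ⟶ C).left := by rw [Over.id_left]; infer_instance
  have hCt : Red.IsTorus C := isTorus_of_normal_solvable (isReductiveOver_centralizer hG iT hT.2.2.1 c hc) (𝟙 C)
    (fun X g n => ⟨g * n * g⁻¹, by simp⟩) hsol
  obtain ⟨f, hf⟩ := (hc.2.2 T iT).mpr fun X' x h => by
    rw [← MonObj.mul_comp, ← MonObj.mul_comp, Groth.Agent.Lib.Tori.Comm.mul_comm_of_isTorus hT.2.2.1]
  haveI : IsIso f := hT.2.2.2 C c f hCt hf
  refine ⟨hT.1, hT.2.1, fun X g => ⟨?_, fun h => ?_⟩⟩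
  · rintro ⟨z, rfl⟩
    exact (hc.2.2 X _).mp ⟨z ≫ f, by rw [Category.assoc, hf]⟩
  · obtain ⟨z, hz⟩ := (hc.2.2 X g).mpr h
    exact ⟨z ≫ CategoryTheory.inv f, by rw [← hz, Category.assoc, ← hf, IsIso.inv_hom_id_assoc]⟩

/-- A subtorus equal to its centraliser is maximal. -/
theorem isMaxTorus_of_self {S₀ : Scheme.{u}} {G T : Over S₀} [GrpObj G] [GrpObj T] {iT : T ⟶ G} [IsMonHom iT] [Mono iT]
    (hT : Red.IsTorus T) (h : Red.IsCentralizerOf iT iT) : AGF.IsMaxTorus iT := by
  refine ⟨inferInstance, inferInstance, hT, fun T' _ j _ _ f hT' hf => ?_⟩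
  obtain ⟨g, hg⟩ := (h.2.2 T' j).mpr fun X' x t => by
    rw [← hf, ← Category.assoc t, ← MonObj.mul_comp, ← MonObj.mul_comp,
      Groth.Agent.Lib.Tori.Comm.mul_comm_of_isTorus hT']
  exact ⟨g, by rw [← cancel_mono iT, Category.assoc, hg, hf, Category.id_comp],
    by rw [← cancel_mono j, Category.assoc, hf, hg, Category.id_comp]⟩

end AlgClosed

section AnyField

variable {k : Type u} [Field k] {G : Over (Spec (CommRingCat.of k))} [GrpObj G]

/-- The centraliser of a torus in a reductive group over a field is reductive. -/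
theorem isReductive_centralizer (hG : Red.IsReductive G) {S : Over (Spec (CommRingCat.of k))} [GrpObj S] (iS : S ⟶ G)
    [IsMonHom iS] [Mono iS] (hS : Red.IsTorus S) {C : Over (Spec (CommRingCat.of k))} [GrpObj C] (c : C ⟶ G)
    (hc : Red.IsCentralizerOf iS c) : Red.IsReductive C := by
  haveI := hG.1
  haveI := hG.2.1
  obtain ⟨Z, _, j, hj, hjc, hjs⟩ :=
    Groth.Agent.Lib.MultSmooth.exists_centralizer_smooth (CentralizerScheme.isMultTypeFT_of_isTorus hS) iS
  haveI := hjc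
  haveI := hjs
  obtain ⟨f, hf⟩ := CentralizerScheme.iso_of_isCentralizerOf hc hj
  haveI : IsIso f.hom.left := ((Over.forget _).mapIso f).isIso_hom
  haveI : IsClosedImmersion c.left := by rw [← hf, Over.comp_left]; infer_instance
  refine ⟨by rw [← Over.w c]; infer_instance, by rw [← Over.w f.hom]; infer_instance, fun s => ?_⟩
  obtain ⟨h1, h2, h3, -⟩ := id (hG.2.2 s)
  haveI : IsAffine (Red.bc (Red.geomPt s) G).left := h1
  haveI : Smooth (Red.bc (Red.geomPt s) G).hom := h2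
  haveI : ConnectedSpace (Red.bc (Red.geomPt s) G).left := h3
  exact isReductiveOver_centralizer (hG.2.2 s) ((Over.pullback (Red.geomPt s)).map iS)
    (Groth.Agent.Lib.Tori.Basic.isTorus_bc hS _) _ (isCentralizerOf_bc (Red.geomPt s) hc)

theorem isMaxTorus_fibre {T : Over (Spec (CommRingCat.of k))} [GrpObj T] {iT : T ⟶ G} (hT : Red.IsMaximalTorus iT)
    (s : Spec (CommRingCat.of k)) : AGF.IsMaxTorus ((Over.pullback (Red.geomPt s)).map iT) := by
  haveI := hT.1
  haveI := hT.2.1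
  exact ⟨inferInstance, inferInstance, Groth.Agent.Lib.Tori.Basic.isTorus_bc hT.2.2.1 _,
    fun T' _ j _ _ f hT' hf => hT.2.2.2 s T' j f hT' hf⟩

/-- A maximal torus of a reductive group over a field is its own centraliser. -/
theorem isCentralizerOf_self' (hG : Red.IsReductive G) {T : Over (Spec (CommRingCat.of k))} [GrpObj T] {iT : T ⟶ G}
    (hT : Red.IsMaximalTorus iT) : Red.IsCentralizerOf iT iT := by
  haveI := hT.1
  haveI := hT.2.1
  haveI := hG.1
  haveI := hG.2.1
  obtain ⟨C, _, c, hc, -, -⟩ :=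
    Groth.Agent.Lib.MultSmooth.exists_centralizer_smooth (CentralizerScheme.isMultTypeFT_of_isTorus hT.2.2.1) iT
  haveI := hc.1
  haveI := hc.2.1
  obtain ⟨f, hf⟩ := (hc.2.2 T iT).mpr fun X' x h => by
    rw [← MonObj.mul_comp, ← MonObj.mul_comp, Groth.Agent.Lib.Tori.Comm.mul_comm_of_isTorus hT.2.2.1]
  let s : Spec (CommRingCat.of k) := IsLocalRing.closedPoint k
  obtain ⟨h1, h2, h3, -⟩ := id (hG.2.2 s)
  haveI : IsAffine (Red.bc (Red.geomPt s) G).left := h1
  haveI : Smooth (Red.bc (Red.geomPt s) G).hom := h2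
  haveI : ConnectedSpace (Red.bc (Red.geomPt s) G).left := h3
  obtain ⟨g, hg⟩ := CentralizerScheme.iso_of_isCentralizerOf
    (isCentralizerOf_self (hG.2.2 s) (isMaxTorus_fibre hT s)) (isCentralizerOf_bc (Red.geomPt s) hc)
  have hfg : (Over.pullback (Red.geomPt s)).map f = g.hom := by
    haveI : Mono ((Over.pullback (Red.geomPt s)).map c) := inferInstance
    rw [← cancel_mono ((Over.pullback (Red.geomPt s)).map c), ← Functor.map_comp, hf]
    exact hg.symm
  have hiso : IsIso ((Over.pullback (Red.geomPt s)).map f) := hfg ▸ inferInstance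
  obtain ⟨alg, halg, hσ⟩ := exists_geomPt_eq s
  revert hiso
  rw [hσ]
  intro hiso
  haveI := hiso
  haveI : IsIso f := isIso_of_isIso_bc_map k (AlgebraicClosure ((Spec (CommRingCat.of k)).residueField s)) f
  refine ⟨hT.1, hT.2.1, fun X g => ⟨?_, fun h => ?_⟩⟩
  · rintro ⟨z, rfl⟩
    exact (hc.2.2 X _).mp ⟨z ≫ f, by rw [Category.assoc, hf]⟩
  · obtain ⟨z, hz⟩ := (hc.2.2 X g).mpr h
    exact ⟨z ≫ CategoryTheory.inv f, by rw [← hz, Category.assoc, ← hf, IsIso.inv_hom_id_assoc]⟩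

/-- A subtorus equal to its centraliser is a maximal torus. -/
theorem isMaximalTorus_of_self {T : Over (Spec (CommRingCat.of k))} [GrpObj T] {iT : T ⟶ G} [IsMonHom iT] [Mono iT]
    (hT : Red.IsTorus T) (h : Red.IsCentralizerOf iT iT) : Red.IsMaximalTorus iT :=
  ⟨inferInstance, inferInstance, hT, fun s T' _ j _ _ f hT' hf =>
    (isMaxTorus_of_self (Groth.Agent.Lib.Tori.Basic.isTorus_bc hT (Red.geomPt s))
      (isCentralizerOf_bc (Red.geomPt s) h)).2.2.2 T' j f hT' hf⟩

/-- Central points lie in every maximal torus. -/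
theorem exists_factor_maxTorus (hG : Red.IsReductive G) {T : Over (Spec (CommRingCat.of k))} [GrpObj T] {iT : T ⟶ G}
    (hT : Red.IsMaximalTorus iT) {X : Over (Spec (CommRingCat.of k))} (g : X ⟶ G)
    (hg : ∀ (X' : Over (Spec (CommRingCat.of k))) (x : X' ⟶ X) (h : X' ⟶ G), (x ≫ g) * h = h * (x ≫ g)) :
    ∃ t : X ⟶ T, t ≫ iT = g :=
  ((isCentralizerOf_self' hG hT).2.2 X g).mpr fun X' x h => hg X' x (h ≫ iT)

end AnyField

end Groth.Agent.H1.Classical.CentralizerRed
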