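import Groth.Agent.H1.Classical.MaxTorusApply
import Groth.Agent.Lib.MultSmooth.Centralizer

/-!
# Centralisers of tori as schemes
-/

universe u

open CategoryTheory MonoidalCategory CartesianMonoidalCategory MonObj GrpObj AlgebraicGeometry

namespace Groth.Agent.H1.Classical.CentralizerScheme

set_option linter.style.haveILetI false
set_option linter.unusedSectionVars false

open Groth.Agent.Lib.RedPts Groth.Agent.Lib.RedPts.Points Scheme' WithConv Torus Torus.Centraliser Complete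
  MaxTorusScheme MaxTorusApply

attribute [local instance] baseAlgebra

variable {k : Type u} [Field k]

theorem isMultTypeFT_of_isTorus {S₀ : Scheme.{u}} {X : Over S₀} [GrpObj X] (h : Red.IsTorus X) :
    SGA3x.IsMultTypeFT X := by
  obtain ⟨S', g, hg, hs, hc, hl⟩ := h
  refine ⟨S', g, hg, hs, hc, fun s' => ?_⟩
  obtain ⟨U, hU, r, he⟩ := hl s'
  exact ⟨U, hU, Fin r → ℤ, inferInstance, inferInstance, he⟩

theorem iso_of_isCentralizerOf {S₀ : Scheme.{u}} {H G C C' : Over S₀} [GrpObj H] [GrpObj G] [GrpObj C] [GrpObj C']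
    {i : H ⟶ G} {c : C ⟶ G} {c' : C' ⟶ G} (hc : Red.IsCentralizerOf i c) (hc' : Red.IsCentralizerOf i c') :
    ∃ f : C ≅ C', f.hom ≫ c' = c := by
  haveI := hc.2.1
  haveI := hc'.2.1
  obtain ⟨p, hp⟩ := (hc'.2.2 C c).mpr ((hc.2.2 C c).mp ⟨𝟙 C, Category.id_comp c⟩)
  obtain ⟨q, hq⟩ := (hc.2.2 C' c').mpr ((hc'.2.2 C' c').mp ⟨𝟙 C', Category.id_comp c'⟩)
  exact ⟨⟨p, q, by rw [← cancel_mono c, Category.assoc, hq, hp, Category.id_comp],
    by rw [← cancel_mono c', Category.assoc, hp, hq, Category.id_comp]⟩, hp⟩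

theorem comp_conjBy {G H X : Over (Spec (CommRingCat.of k))} [GrpObj G]
    (g : 𝟙_ (Over (Spec (CommRingCat.of k))) ⟶ G) (i : H ⟶ G) (h : X ⟶ H) :
    h ≫ AGF.conjBy g i = (toUnit X ≫ g) * (h ≫ i) * (toUnit X ≫ g)⁻¹ := by
  simp only [AGF.conjBy, MonObj.comp_mul, GrpObj.comp_inv, ← Category.assoc, toUnit_unique (h ≫ toUnit H) (toUnit X)]

variable [IsAlgClosed k] {A : Type u} [CommRing A] [HopfAlgebra k A] [Algebra.FiniteType k A] [IsDomain A]

/-- Commuting with the points is commuting with the scheme. -/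
theorem commute_of_points {T : Over (Spec (CommRingCat.of k))} [GrpObj T] [IsAffine T.left] [Smooth T.hom]
    (iT : T ⟶ GA k A) [IsMonHom iT] {χ : HopfPts.Pt k A} (hχ : ∀ s ∈ ptsOf iT, χ * s = s * χ) :
    AGF.conjBy (ptHom _ χ) iT = iT := algHomOf_injective (AlgHom.ext fun a => sub_eq_zero.mp (eq_zero_of_points _ fun x => by
  obtain ⟨s, hs⟩ := ptHom_surjective (x ≫ iT)
  rw [map_sub, ← algHomOf_comp, ← algHomOf_comp, point_conj χ s _ x hs.symm, hχ s ⟨x, hs.symm⟩, mul_inv_cancel_right,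
    hs, sub_self]))

/-- The centraliser of a torus is closed, smooth, connected, affine and has the centralising points. -/
theorem props {T : Over (Spec (CommRingCat.of k))} [GrpObj T] (iT : T ⟶ GA k A) [IsMonHom iT] [Mono iT]
    (hT : Red.IsTorus T) {C : Over (Spec (CommRingCat.of k))} [GrpObj C] (c : C ⟶ GA k A) [IsMonHom c]
    (hc : Red.IsCentralizerOf iT c) :
    IsClosedImmersion c.left ∧ IsAffine C.left ∧ Smooth C.hom ∧ ConnectedSpace C.left ∧
      ptsOf c = Subgroup.centralizer (ptsOf iT : Set (HopfPts.Pt k A)) := by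
  haveI := locallyOfFiniteType (k := k) (A := A)
  haveI : Smooth (GA k A).hom := smooth_GA
  obtain ⟨-, hsT, -, haT⟩ := TorusPts.torus_props iT hT
  haveI := hsT
  haveI := haT
  obtain ⟨Z, _, j, hj, hjc, hjs⟩ :=
    Groth.Agent.Lib.MultSmooth.exists_centralizer_smooth (isMultTypeFT_of_isTorus hT) iT
  obtain ⟨f, hf⟩ := iso_of_isCentralizerOf hc hj
  haveI : IsIso f.hom.left := ((Over.forget _).mapIso f).isIso_hom
  haveI : IsClosedImmersion c.left := by rw [← hf, Over.comp_left]; infer_instance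
  haveI : IsAffine C.left := isAffine_of_isAffineHom c.left
  haveI : Smooth C.hom := by rw [← Over.w f.hom]; infer_instance
  have hpts : ptsOf c = Subgroup.centralizer (ptsOf iT : Set (HopfPts.Pt k A)) := by
    refine SetLike.ext fun χ => ⟨?_, fun hχ => ?_⟩
    · rintro ⟨x, hx⟩
      refine Subgroup.mem_centralizer_iff.mpr fun s hs => ?_
      obtain ⟨y, hy⟩ := hs
      have h := (hc.2.2 _ (x ≫ c)).mp ⟨x, rfl⟩ (𝟙_ _) (𝟙 _) y
      change x ≫ c = _ at hx
      change y ≫ iT = _ at hy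
      rw [Category.id_comp, hx, hy, ← map_mul, ← map_mul] at h
      exact (ptHom_injective h).symm
    · refine (hc.2.2 _ (ptHom _ χ)).mpr fun X' x h => ?_
      have h1 : h ≫ AGF.conjBy (ptHom _ χ) iT = h ≫ iT := by
        rw [commute_of_points iT fun s hs => (Subgroup.mem_centralizer_iff.mp hχ s hs).symm]
      rw [comp_conjBy, mul_inv_eq_iff_eq_mul] at h1
      rwa [toUnit_unique x (toUnit X')]
  obtain ⟨B, hB⟩ := exists_bor (k := k) (A := A)
  obtain ⟨W, _, σ, hσ⟩ := Torus.GenRep.exists_gen (HopfPts.D k A) hasMul_pts pts_ext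
  obtain ⟨-, hirr⟩ := sirr_centralizer HopfPts.sirr_univ hasMul_pts hσ hB (TorusPts.isTor_ptsOf iT hT)
  have hsurj := TorusPts.surjective_algHomOf c
  have hpt : ∀ x : 𝟙_ (Over (Spec (CommRingCat.of k))) ⟶ C, ∃ s ∈ ptsOf c, x ≫ c = ptHom _ s := fun x => by
    obtain ⟨s, hs⟩ := ptHom_surjective (x ≫ c)
    exact ⟨s, ⟨x, hs.symm⟩, hs.symm⟩
  haveI : Nonempty C.left := ⟨(η[C] : 𝟙_ (Over (Spec (CommRingCat.of k))) ⟶ C).left (IsLocalRing.closedPoint k)⟩
  haveI : Nontrivial Γ(C.left, ⊤) := by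
    haveI : Nonempty (⊤ : C.left.Opens) := ⟨⟨Classical.arbitrary C.left, trivial⟩⟩
    infer_instance
  haveI : NoZeroDivisors Γ(C.left, ⊤) := ⟨fun {p q} hpq => by
    obtain ⟨a, rfl⟩ := hsurj p
    obtain ⟨b, rfl⟩ := hsurj q
    rw [← hpts] at hirr
    refine (hirr ⟨_, a, rfl⟩ ⟨_, b, rfl⟩ fun s hs => ?_).imp (fun h => ?_) (fun h => ?_)
    · obtain ⟨x, hx⟩ := hs
      change x ≫ c = _ at hx
      refine baseHom_bijective.1 ?_
      have := congrArg x.left.appTop hpq
      rw [map_mul, ← algHomOf_comp, ← algHomOf_comp, hx, algHomOf_ptHom, algHomOf_ptHom, map_zero, ← map_mul] at this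
      rw [map_zero]
      exact this
    · exact algHomOf_eq_zero c hpt a fun s hs => h s hs
    · exact algHomOf_eq_zero c hpt b fun s hs => h s hs⟩
  haveI : IsDomain Γ(C.left, ⊤) := NoZeroDivisors.to_isDomain _
  haveI : AlgebraicGeometry.IsIntegral (Spec Γ(C.left, ⊤)) := (affine_isIntegral_iff _).mpr inferInstance
  haveI : AlgebraicGeometry.IsIntegral C.left := isIntegral_of_isOpenImmersion C.left.isoSpec.hom
  exact ⟨inferInstance, inferInstance, inferInstance, inferInstance, hpts⟩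

/-- The centraliser of a torus is closed, smooth, affine and connected. -/
theorem props' {G : Over (Spec (CommRingCat.of k))} [GrpObj G] [IsAffine G.left] [Smooth G.hom] [ConnectedSpace G.left]
    {T : Over (Spec (CommRingCat.of k))} [GrpObj T] (iT : T ⟶ G) [IsMonHom iT] [Mono iT] (hT : Red.IsTorus T)
    {C : Over (Spec (CommRingCat.of k))} [GrpObj C] (c : C ⟶ G) (hc : Red.IsCentralizerOf iT c) :
    IsClosedImmersion c.left ∧ IsAffine C.left ∧ Smooth C.hom ∧ ConnectedSpace C.left := by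
  obtain ⟨A, _, _, _, _, e, he⟩ := exists_GA G
  haveI := he
  haveI := hc.1
  haveI := hc.2.1
  have hc' : Red.IsCentralizerOf (iT ≫ e.hom) (c ≫ e.hom) := by
    refine ⟨inferInstance, inferInstance, fun X g => ?_⟩
    constructor
    · rintro ⟨z, rfl⟩ X' x h
      have := congrArg (· ≫ e.hom) ((hc.2.2 X _).mp ⟨z, rfl⟩ X' x h)
      simpa only [MonObj.mul_comp, Category.assoc] using this
    · intro H
      obtain ⟨z, hz⟩ := (hc.2.2 X (g ≫ e.inv)).mpr fun X' x h => by
        rw [← cancel_mono e.hom]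
        simpa only [MonObj.mul_comp, Category.assoc, Iso.inv_hom_id, Category.comp_id] using H X' x h
      exact ⟨z, by rw [← Category.assoc, hz, Category.assoc, Iso.inv_hom_id, Category.comp_id]⟩
  obtain ⟨h1, h2, h3, h4, -⟩ := props (iT ≫ e.hom) hT (c ≫ e.hom) hc'
  haveI : IsIso e.hom.left := ((Over.forget _).mapIso e).isIso_hom
  refine ⟨?_, h2, h3, h4⟩
  haveI := h1
  have : c.left = (c ≫ e.hom).left ≫ CategoryTheory.inv e.hom.left := by
    rw [Over.comp_left, Category.assoc, IsIso.hom_inv_id, Category.comp_id]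
  rw [this]
  infer_instance

end Groth.Agent.H1.Classical.CentralizerScheme
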