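import Groth.Agent.H1.Classical.CentralizerBorel
import Groth.Agent.H1.Classical.Centre

/-!
# The centre of a Borel subgroup is the centre
-/

universe u

open CategoryTheory MonoidalCategory CartesianMonoidalCategory MonObj GrpObj AlgebraicGeometry

namespace Groth.Agent.H1.Classical.CentreBorel

set_option linter.style.haveILetI false
set_option linter.unusedSectionVars false

open Scheme' CentralizerScheme Groth.Agent.Lib.GrpSch FieldDescent Groth.Agent.Lib.RedPts.BC

/-- A central point lies in every Borel subgroup. -/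
theorem central_factor {k : Type u} [Field k] [IsAlgClosed k] {G B : Over (Spec (CommRingCat.of k))} [GrpObj G]
    [IsAffine G.left] [Smooth G.hom] [ConnectedSpace G.left] [GrpObj B] {iB : B ⟶ G} (hB : Red.IsBorelOver k iB)
    {X : Over (Spec (CommRingCat.of k))} (g : X ⟶ G)
    (hg : ∀ (X' : Over (Spec (CommRingCat.of k))) (x : X' ⟶ X) (h : X' ⟶ G), (x ≫ g) * h = h * (x ≫ g)) :
    ∃ f : X ⟶ B, f ≫ iB = g := by
  obtain ⟨T, _, iT, t, hT, ht⟩ := MaxTorusExists.exists_maxTorus_borel hB
  haveI := hT.1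
  obtain ⟨Z, _, j, hj, -, -⟩ :=
    Groth.Agent.Lib.MultSmooth.exists_centralizer_smooth (isMultTypeFT_of_isTorus hT.2.2.1) iT
  obtain ⟨z, hz⟩ := (hj.2.2 X g).mpr fun X' x h => hg X' x (h ≫ iT)
  obtain ⟨f, hf⟩ := CartanBorel.exists_factor_closed hT hj hB t ht
  exact ⟨z ≫ f, by rw [Category.assoc, hf, hz]⟩

/-- The centre of a Borel subgroup is the centre of the group. -/
theorem isCentre_comp {k : Type u} [Field k] {G B Z : Over (Spec (CommRingCat.of k))} [GrpObj G] [IsAffine G.left]
    [Smooth G.hom] [ConnectedSpace G.left] [GrpObj B] [GrpObj Z] {iB : B ⟶ G} (hB : Red.IsBorel iB) {z : Z ⟶ B}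
    (hz : Red.IsCentre z) : Red.IsCentre (z ≫ iB) := by
  haveI := hB.1
  haveI := hB.2.1
  haveI := hz.1
  haveI := hz.2.1
  haveI : Mono iB := Over.mono_of_mono_left iB
  refine ⟨inferInstance, inferInstance, fun X g => ⟨?_, fun hg => ?_⟩⟩
  · rintro ⟨z₀, rfl⟩ X' x h
    rw [Category.comp_id]
    refine commute_of_isBorel hB (x ≫ z₀ ≫ z ≫ iB) (fun W y b => ?_) h
    have := congrArg (· ≫ iB) ((hz.2.2 X (z₀ ≫ z)).mp ⟨z₀, rfl⟩ W (y ≫ x) b)
    simpa only [MonObj.mul_comp, Category.assoc, Category.comp_id] using this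
  · obtain ⟨K, _, _, _, _, -, hBK⟩ := exists_closure k
    obtain ⟨h1, h2, h3⟩ := bc_props (K := K) G
    haveI := h1
    haveI := h2
    haveI := h3
    obtain ⟨f', hf'⟩ := central_factor (hBK hB) ((Over.pullback (extBase k K)).map g) fun X' x h => by
      apply down_injective
      simp only [down_mul]
      rw [down_map x]
      have := hg _ (down _ x) (down _ h)
      rwa [Category.comp_id] at this
    obtain ⟨f, hf⟩ := exists_factor_of_bc iB g f' hf'
    obtain ⟨z₀, hz₀⟩ := (hz.2.2 X f).mpr fun X' x h => by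
      rw [← cancel_mono iB]
      have := hg X' x (h ≫ iB)
      simpa only [MonObj.mul_comp, Category.assoc, Category.comp_id, hf] using this
    exact ⟨z₀, by rw [← Category.assoc, hz₀, hf]⟩

end Groth.Agent.H1.Classical.CentreBorel
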