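import Groth.Agent.H1.Classical.MaxTorusExists
import Groth.Agent.H1.Classical.CartanBorel
import Groth.Agent.H1.Classical.ConjIso
import Groth.Agent.H1.Classical.Torus.NilpotentPts

/-!
# Nilpotent groups: Cartan subgroups, tori of nilpotent groups
-/

universe u

open CategoryTheory MonoidalCategory CartesianMonoidalCategory MonObj GrpObj AlgebraicGeometry

namespace Groth.Agent.H1.Classical.NilpotentScheme

set_option linter.style.haveILetI false
set_option linter.unusedSectionVars false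

open commutatorElement Groth.Agent.Lib.RedPts Groth.Agent.Lib.RedPts.Points Scheme' WithConv Torus Torus.Centraliser
  Complete MaxTorusScheme MaxTorusApply MaxTorusExists CentralizerScheme Torus.NilpotentPts Groth.Agent.Lib.GrpSch
  FieldDescent ConjIso

attribute [local instance] baseAlgebra

/-- If iterated commutators of rational points vanish, the group is nilpotent. -/
theorem isNilpotentGrp_of_points {k : Type u} [Field k] [IsAlgClosed k] {C : Over (Spec (CommRingCat.of k))} [GrpObj C]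
    [IsAffine C.left] [Smooth C.hom] (N : ℕ)
    (hN : ∀ x ∈ (IW N : Set (𝟙_ (Over (Spec (CommRingCat.of k))) ⟶ C)), x = 1) : AGF.IsNilpotentGrp C := by
  have key : ∀ j : ℕ, ∃ (P : Over (Spec (CommRingCat.of k))) (_ : GrpObj P) (_ : IsAffine P.left) (_ : Smooth P.hom)
      (w : P ⟶ C), (∀ X, ∀ x ∈ (IW j : Set (X ⟶ C)), ∃ z, x = z ≫ w) ∧
        ∀ z : 𝟙_ (Over (Spec (CommRingCat.of k))) ⟶ P, z ≫ w ∈ (IW j : Set _) := by
    intro j
    induction j with
    | zero => exact ⟨C, inferInstance, inferInstance, inferInstance, 𝟙 C,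
        fun X x _ => ⟨x, (Category.comp_id x).symm⟩, fun _ => trivial⟩
    | succ j ih =>
      obtain ⟨P, _, _, _, w, hw, hwp⟩ := ih
      haveI : IsAffine (P ⊗ C).left := by
        show IsAffine (Limits.pullback P.hom C.hom)
        infer_instance
      haveI : Smooth (P ⊗ C).hom := by rw [Over.tensorObj_hom]; infer_instance
      have hcomp : ∀ {X : Over (Spec (CommRingCat.of k))} (z : X ⟶ P ⊗ C),
          z ≫ ⁅fst P C ≫ w, snd P C⁆ = ⁅z ≫ fst P C ≫ w, z ≫ snd P C⁆ := fun z => by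
        simp only [commutatorElement_def, MonObj.comp_mul, GrpObj.comp_inv]
      refine ⟨P ⊗ C, inferInstance, inferInstance, inferInstance, ⁅fst P C ≫ w, snd P C⁆, ?_, fun z => ?_⟩
      · rintro X _ ⟨a, ha, b, rfl⟩
        obtain ⟨z, rfl⟩ := hw X a ha
        exact ⟨lift z b, by rw [hcomp, lift_fst_assoc, lift_snd]⟩
      · rw [hcomp]
        refine ⟨_, ?_, _, rfl⟩
        rw [← Category.assoc]
        exact hwp _
  obtain ⟨P, _, _, _, w, hw, hwp⟩ := key N
  have h1 : w = 1 := hom_ext_of_points _ _ fun x => by rw [hN _ (hwp x), MonObj.comp_one]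
  refine ⟨N, fun X => upper_eq_top fun x hx => ?_⟩
  obtain ⟨z, rfl⟩ := hw X x hx
  rw [h1, MonObj.comp_one]

/-- Nilpotency descends. -/
theorem isNilpotentGrp_of_bc {k K : Type u} [Field k] [Field K] [Algebra k K] {C : Over (Spec (CommRingCat.of k))}
    [GrpObj C] (h : AGF.IsNilpotentGrp (Red.bc (extBase k K) C)) : AGF.IsNilpotentGrp C := by
  obtain ⟨N, hN⟩ := h
  refine ⟨N, fun X => upper_eq_top fun x hx => ?_⟩
  let φ : (X ⟶ C) →* (Red.bc (extBase k K) X ⟶ Red.bc (extBase k K) C) :=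
    MonoidHom.mk' (fun y => (Over.pullback (extBase k K)).map y) fun a b => Functor.map_mul (Over.pullback (extBase k K)) a b
  have h1 := eq_one_of_upper (hN (Red.bc (extBase k K) X)) _ (map_IW φ N hx)
  have h2 : (Over.pullback (extBase k K)).map x = (Over.pullback (extBase k K)).map (1 : X ⟶ C) :=
    h1.trans (Functor.map_one (F := Over.pullback (extBase k K))).symm
  have h3 := congrArg (fun φ => φ ≫ bcProj (extBase k K) C) (congrArg CommaMorphism.left h2)
  simp only [(isPullback_bc_map (extBase k K) _).w] at h3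
  obtain ⟨⟨hs, hfl⟩, -⟩ := bcProj_surjective_flat_qc k K X
  haveI := hs
  haveI := hfl
  haveI := Flat.epi_of_flat_of_surjective (bcProj (extBase k K) X)
  exact Over.OverMorphism.ext ((cancel_epi (bcProj (extBase k K) X)).mp h3)

variable {k : Type u} [Field k] [IsAlgClosed k]

/-- A Cartan subgroup is nilpotent. -/
theorem cartan_nilpotent {G : Over (Spec (CommRingCat.of k))} [GrpObj G] [IsAffine G.left] [Smooth G.hom]
    [ConnectedSpace G.left] {T C : Over (Spec (CommRingCat.of k))} [GrpObj T] [GrpObj C] {iT : T ⟶ G} {c : C ⟶ G}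
    (hT : AGF.IsMaxTorus iT) (hc : Red.IsCentralizerOf iT c) : AGF.IsNilpotentGrp C := by
  obtain ⟨A, _, _, _, _, e, he⟩ := exists_GA G
  haveI := he
  haveI := locallyOfFiniteType (k := k) (A := A)
  haveI := hT.1
  haveI := hT.2.1
  haveI := hc.1
  haveI := hc.2.1
  have hT' := isMaxTorus_comp e hT
  obtain ⟨-, haff, hsm, -, hpts⟩ := props _ hT'.2.2.1 _ (CartanBorel.isCentralizerOf_comp hc e)
  haveI := haff
  haveI := hsm
  have hMax := isMax_ptsOf_torus _ hT'
  obtain ⟨B, hB, hTB⟩ := CartanOpen.exists_bor_containing hMax.tor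
  obtain ⟨W, _, σ, hσ⟩ := Torus.GenRep.exists_gen (HopfPts.D k A) hasMul_pts pts_ext
  obtain ⟨N, hN⟩ := iw_centralizer HopfPts.sirr_univ hasMul_pts hσ hB hMax hTB
  refine isNilpotentGrp_of_points N fun x hx => ?_
  let q : (𝟙_ (Over (Spec (CommRingCat.of k))) ⟶ C) →* HopfPts.Pt k A :=
    (MulEquiv.ofBijective (ptHom (A := A) (𝟙_ (Over (Spec (CommRingCat.of k)))))
      ⟨ptHom_injective, ptHom_surjective⟩).symm.toMonoidHom.comp (postcomp (c ≫ e.hom) _)
  have hq : ∀ y, ptHom (A := A) (𝟙_ _) (q y) = y ≫ c ≫ e.hom := fun y =>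
    (MulEquiv.ofBijective (ptHom (A := A) (𝟙_ (Over (Spec (CommRingCat.of k)))))
      ⟨ptHom_injective, ptHom_surjective⟩).apply_symm_apply _
  have h1 := hN _ (map_IW (q.codRestrict (Subgroup.centralizer (ptsOf (iT ≫ e.hom) : Set (HopfPts.Pt k A)))
    fun y => hpts.le ⟨y, (hq y).symm⟩) N hx)
  have h2 : ptHom (A := A) (𝟙_ _) (q x) = ptHom (𝟙_ _) 1 := congrArg _ (congrArg Subtype.val h1)
  rw [hq, map_one] at h2
  rw [← cancel_mono (c ≫ e.hom), h2, MonObj.one_comp]

/-- The maximal torus of a nilpotent group is central. -/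
theorem maxTorus_central {G : Over (Spec (CommRingCat.of k))} [GrpObj G] [IsAffine G.left] [Smooth G.hom]
    [ConnectedSpace G.left] (hnil : AGF.IsNilpotentGrp G) {T : Over (Spec (CommRingCat.of k))} [GrpObj T] {iT : T ⟶ G}
    (hT : AGF.IsMaxTorus iT) {X : Over (Spec (CommRingCat.of k))} (g : X ⟶ G) (x : X ⟶ T) :
    g * (x ≫ iT) = (x ≫ iT) * g := by
  obtain ⟨A, _, _, _, _, e, he⟩ := exists_GA G
  haveI := he
  haveI := locallyOfFiniteType (k := k) (A := A)
  haveI := hT.1
  haveI := hT.2.1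
  have hT' := isMaxTorus_comp e hT
  obtain ⟨-, hs, -, ha⟩ := TorusPts.torus_props (iT ≫ e.hom) hT'.2.2.1
  haveI := hs
  haveI := ha
  obtain ⟨n, hn⟩ := hnil
  obtain ⟨W, _, σ, hσ⟩ := Torus.GenRep.exists_gen (HopfPts.D k A) hasMul_pts pts_ext
  have hpts : ∀ y ∈ (IW n : Set (HopfPts.Pt k A)), y = 1 := fun y hy => by
    let q : HopfPts.Pt k A →* (𝟙_ (Over (Spec (CommRingCat.of k))) ⟶ G) := (postcomp e.inv _).comp (ptHom _)
    have h1 := eq_one_of_upper (hn _) _ (map_IW q n hy)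
    refine ptHom_injective ?_
    rw [map_one, ← cancel_mono e.inv, MonObj.one_comp]
    exact h1
  have hcomm := central_of_nilpotent HopfPts.sirr_univ hσ hpts (TorusPts.isTor_ptsOf (iT ≫ e.hom) hT'.2.2.1)
  haveI : IsAffine (G ⊗ T).left := by
    show IsAffine (Limits.pullback G.hom T.hom)
    infer_instance
  haveI : Smooth (G ⊗ T).hom := by rw [Over.tensorObj_hom]; infer_instance
  have huniv : fst G T * (snd G T ≫ iT) = (snd G T ≫ iT) * fst G T := hom_ext_of_points _ _ fun z => by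
    obtain ⟨γ, hγ⟩ := ptHom_surjective ((z ≫ fst G T) ≫ e.hom)
    obtain ⟨s, hs'⟩ := ptHom_surjective ((z ≫ snd G T) ≫ iT ≫ e.hom)
    rw [← cancel_mono e.hom, MonObj.comp_mul, MonObj.comp_mul, MonObj.mul_comp, MonObj.mul_comp]
    simp only [Category.assoc] at hγ hs' ⊢
    rw [← hγ, ← hs', ← map_mul, ← map_mul, hcomm γ s ⟨z ≫ snd G T, (Category.assoc _ _ _).trans hs'.symm⟩]
  have h := congrArg (lift g x ≫ ·) huniv
  simpa only [MonObj.comp_mul, lift_fst, lift_snd_assoc] using h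

/-- A group with only one maximal torus is nilpotent. -/
theorem nilpotent_of_unique {G : Over (Spec (CommRingCat.of k))} [GrpObj G] [IsAffine G.left] [Smooth G.hom]
    [ConnectedSpace G.left]
    (huniq : ∀ (T T' : Over (Spec (CommRingCat.of k))) [GrpObj T] [GrpObj T'] (iT : T ⟶ G) (iT' : T' ⟶ G),
      AGF.IsMaxTorus iT → AGF.IsMaxTorus iT' → ∃ f : T ≅ T', f.hom ≫ iT' = iT) :
    AGF.IsNilpotentGrp G := by
  obtain ⟨T, _, iT, hT⟩ := exists_maxTorus G
  obtain ⟨A, _, _, _, _, e, he⟩ := exists_GA G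
  haveI := he
  haveI := locallyOfFiniteType (k := k) (A := A)
  haveI := hT.1
  haveI := hT.2.1
  have hT' := isMaxTorus_comp e hT
  have hMax := isMax_ptsOf_torus _ hT'
  obtain ⟨B, hB, hTB⟩ := CartanOpen.exists_bor_containing hMax.tor
  obtain ⟨W, _, σ, hσ⟩ := Torus.GenRep.exists_gen (HopfPts.D k A) hasMul_pts pts_ext
  have hnorm : ∀ n, ∀ t ∈ ptsOf (iT ≫ e.hom), n * t * n⁻¹ ∈ ptsOf (iT ≫ e.hom) := by
    rintro n t ⟨y, hy⟩
    change y ≫ iT ≫ e.hom = _ at hy
    obtain ⟨f, hf⟩ := huniq T T (iT ≫ (conjIso (ptHom _ n ≫ e.inv)).hom) iT (isMaxTorus_comp _ hT) hT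
    refine ⟨y ≫ f.hom, ?_⟩
    show (y ≫ f.hom) ≫ iT ≫ e.hom = ptHom (𝟙_ _) _
    rw [Category.assoc, ← Category.assoc f.hom, hf, comp_conjIso, ← Category.assoc, comp_conjBy, MonObj.mul_comp,
      MonObj.mul_comp, GrpObj.inv_comp, toUnit_unique (toUnit _) (𝟙 _), Category.id_comp, Category.assoc, Category.assoc,
      Iso.inv_hom_id, Category.comp_id, hy, map_mul, map_mul, map_inv]
  have htop := centralizer_eq_top HopfPts.sirr_univ hasMul_pts hσ hB hMax.tor hnorm
  obtain ⟨N, hN⟩ := iw_centralizer HopfPts.sirr_univ hasMul_pts hσ hB hMax hTB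
  refine isNilpotentGrp_of_points N fun x hx => ?_
  let E := MulEquiv.ofBijective (ptHom (A := A) (𝟙_ (Over (Spec (CommRingCat.of k))))) ⟨ptHom_injective, ptHom_surjective⟩
  let q : (𝟙_ (Over (Spec (CommRingCat.of k))) ⟶ G) →* HopfPts.Pt k A := E.symm.toMonoidHom.comp (postcomp e.hom _)
  have h1 := hN _ (map_IW (q.codRestrict (Subgroup.centralizer (ptsOf (iT ≫ e.hom) : Set (HopfPts.Pt k A)))
    fun y => htop ▸ Subgroup.mem_top _) N hx)
  have h2 : E.symm (x ≫ e.hom) = 1 := congrArg Subtype.val h1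
  rw [MulEquiv.symm_apply_eq, map_one] at h2
  rw [← cancel_mono e.hom, h2, MonObj.one_comp]

/-- The centraliser of a maximal torus over any field is a smooth connected nilpotent group. -/
theorem cartan_field {k : Type u} [Field k] {G : Over (Spec (CommRingCat.of k))} [GrpObj G] [IsAffine G.left]
    [Smooth G.hom] [ConnectedSpace G.left] {T C : Over (Spec (CommRingCat.of k))} [GrpObj T] [GrpObj C] {iT : T ⟶ G}
    {c : C ⟶ G} (hT : Red.IsMaximalTorus iT) (hc : Red.IsCentralizerOf iT c) :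
    Smooth C.hom ∧ ConnectedSpace C.left ∧ AGF.IsNilpotentGrp C := by
  haveI := hT.1
  haveI := hT.2.1
  obtain ⟨hconn, hsm⟩ := connectedSpace_centralizer iT hT.2.2.1 c hc
  obtain ⟨K, _, _, _, _, hTK, -⟩ := exists_closure k
  obtain ⟨h1, h2, h3⟩ := bc_props (K := K) G
  haveI := h1
  haveI := h2
  haveI := h3
  exact ⟨hsm, hconn, isNilpotentGrp_of_bc (cartan_nilpotent (hTK hT) (isCentralizerOf_bc (extBase k K) hc))⟩

end Groth.Agent.H1.Classical.NilpotentScheme
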