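import Groth.Agent.H1.Classical.CentralTorusRed
import Groth.Agent.H1.Classical.RadUApply
import Groth.Agent.H1.Classical.NilpotentScheme
import Groth.Agent.Lib.Tori.Comm

/-!
# The radical of a reductive group is a central torus
-/

universe u

open TensorProduct CategoryTheory MonoidalCategory CartesianMonoidalCategory MonObj GrpObj AlgebraicGeometry WithConv

namespace Groth.Agent.H1.Classical.RadicalTorus

set_option linter.style.haveILetI false
set_option linter.unusedSectionVars false

open Groth.Agent.Lib.RedPts Groth.Agent.Lib.RedPts.Points Groth.Agent.Lib.RedPts.BC Groth.Agent.Lib.GrpSch Scheme'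
  Torus Torus.Centraliser Groth.Agent.H60.RedLR

attribute [local instance] baseAlgebra

variable {k : Type u} [Field k] {K : Type u} [Field K] [Algebra k K]

/-- Base change to a larger field is faithful. -/
theorem map_injective {X Y : Over (Spec (CommRingCat.of k))} (f g : X ⟶ Y)
    (h : (Over.pullback (extBase k K)).map f = (Over.pullback (extBase k K)).map g) : f = g := by
  have h3 := congrArg (fun φ => φ ≫ bcProj (extBase k K) Y) (congrArg CommaMorphism.left h)
  simp only [(isPullback_bc_map (extBase k K) _).w] at h3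
  obtain ⟨⟨hs, hfl⟩, -⟩ := bcProj_surjective_flat_qc k K X
  haveI := hs
  haveI := hfl
  haveI := Flat.epi_of_flat_of_surjective (bcProj (extBase k K) X)
  exact Over.OverMorphism.ext ((cancel_epi (bcProj (extBase k K) X)).mp h3)

/-- Base change of a solvable group. -/
theorem isSolvableGrp_bc {R : Over (Spec (CommRingCat.of k))} [GrpObj R] (h : Red.IsSolvableGrp R) :
    Red.IsSolvableGrp (Red.bc (extBase k K) R) := by
  obtain ⟨n, hn⟩ := h
  refine ⟨n, fun X => (Subgroup.eq_bot_iff_forall _).mpr fun a ha => ?_⟩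
  let ψ := BC.downMulEquiv (extBase k K) X R
  have := map_derivedSeries_le_derivedSeries ψ.toMonoidHom n ⟨a, ha, rfl⟩
  rw [hn, Subgroup.mem_bot] at this
  exact ψ.injective (this.trans (map_one ψ).symm)

/-- A normal torus of a connected smooth affine group over an algebraically closed field commutes with the group. -/
theorem commute_of_normal [IsAlgClosed K] {G : Over (Spec (CommRingCat.of K))} [GrpObj G] [IsAffine G.left]
    [Smooth G.hom] [ConnectedSpace G.left] {T : Over (Spec (CommRingCat.of K))} [GrpObj T] (i : T ⟶ G) [IsMonHom i]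
    [Mono i] (hT : Red.IsTorus T) (hn : RadU.IsNormalPts i) {P : Over (Spec (CommRingCat.of K))} [GrpObj P]
    [IsAffine P.left] [Smooth P.hom] (a : P ⟶ T) (b : P ⟶ G) : (a ≫ i) * b = b * (a ≫ i) := by
  obtain ⟨B, _, _, _, _, e, he⟩ := MaxTorusApply.exists_GA G
  haveI := he
  haveI : IsMonHom e.inv := inferInstance
  haveI : Mono (i ≫ e.hom) := mono_comp _ _
  obtain ⟨W, _, σ, hσ⟩ := GenRep.exists_gen (HopfPts.D K B) hasMul_pts pts_ext
  have hcen := CentralTorusRed.central_of_normal HopfPts.sirr_univ hasMul_pts hσ (TorusPts.isTor_ptsOf (i ≫ e.hom) hT)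
    fun g t ht => by
      obtain ⟨y, hy⟩ := ht
      obtain ⟨y', hy'⟩ := hn (ptHom (A := B) _ g ≫ e.inv) y
      refine ⟨y', ?_⟩
      show y' ≫ i ≫ e.hom = ptHom _ (g * t * g⁻¹)
      rw [← Category.assoc, ← hy', map_mul, map_mul, map_inv, ← show y ≫ i ≫ e.hom = ptHom _ t from hy]
      simp only [MonObj.mul_comp, GrpObj.inv_comp, Category.assoc, e.inv_hom_id, Category.comp_id]
  rw [← cancel_mono e.hom]
  refine MaxTorusExists.hom_ext_of_points _ _ fun x => ?_
  obtain ⟨t, ht⟩ := ptHom_surjective ((x ≫ a) ≫ i ≫ e.hom)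
  obtain ⟨g, hg⟩ := ptHom_surjective (x ≫ b ≫ e.hom)
  simp only [MonObj.mul_comp, MonObj.comp_mul, Category.assoc] at ht ⊢
  rw [← ht, ← hg, ← map_mul, ← map_mul, hcen t ⟨x ≫ a, show (x ≫ a) ≫ i ≫ e.hom = _ by rw [Category.assoc]; exact ht.symm⟩ g]

/-- A normal torus of a connected smooth affine group is central. -/
theorem central_of_normal {G : Over (Spec (CommRingCat.of k))} [GrpObj G] [IsAffine G.left] [Smooth G.hom]
    [ConnectedSpace G.left] {R : Over (Spec (CommRingCat.of k))} [GrpObj R] (r : R ⟶ G) [IsMonHom r]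
    [IsClosedImmersion r.left] [Smooth R.hom] [ConnectedSpace R.left] (hn : AlgGrp.IsNormalHom r) (hT : Red.IsTorus R) :
    ∀ (X : Over (Spec (CommRingCat.of k))) (t : X ⟶ R) (g : X ⟶ G), (t ≫ r) * g = g * (t ≫ r) := by
  haveI : IsAffine R.left := isAffine_of_isAffineHom r.left
  have huniv : (fst R G ≫ r) * snd R G = snd R G * (fst R G ≫ r) := by
    let K := AlgebraicClosure k
    refine map_injective (K := K) _ _ ?_
    obtain ⟨h1, h2, h3⟩ := FieldDescent.bc_props (K := K) G
    haveI := h1
    haveI := h2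
    haveI := h3
    haveI : IsAffine (R ⊗ G).left := inferInstanceAs (IsAffine (Limits.pullback R.hom G.hom))
    haveI : Smooth (R ⊗ G).hom := inferInstanceAs (Smooth (Limits.pullback.fst R.hom G.hom ≫ R.hom))
    haveI : IsAffineHom (Red.bc (extBase k K) (R ⊗ G)).hom := bc_hom_of (P := @IsAffineHom) _ _ inferInstance
    haveI : IsAffine (Red.bc (extBase k K) (R ⊗ G)).left :=
      isAffine_of_isAffineHom (Red.bc (extBase k K) (R ⊗ G)).hom
    haveI : Smooth (Red.bc (extBase k K) (R ⊗ G)).hom := bc_hom_of (P := @Smooth) _ _ inferInstance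
    haveI : Mono r := Over.mono_of_mono_left r
    rw [Functor.map_mul, Functor.map_mul, Functor.map_comp]
    exact commute_of_normal ((Over.pullback (extBase k K)).map r) (Lib.Tori.Basic.isTorus_bc hT _)
      (RadU.isNormalPts_of_isNormalHom ((Groth.Agent.H69.NormalDescend.isNormalHom_iff _ r).mpr fun X _ g n => hn X g n))
      _ _
  intro X t g
  have h := congrArg (lift t g ≫ ·) huniv
  simpa only [MonObj.comp_mul, ← Category.assoc, lift_fst, lift_snd] using h

/-- The radical of a reductive group is its largest central torus. -/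
theorem radical_props {G : Over (Spec (CommRingCat.of k))} [GrpObj G] (hG : Red.IsReductive G)
    {R : Over (Spec (CommRingCat.of k))} [GrpObj R] (r : R ⟶ G) [IsMonHom r] [IsClosedImmersion r.left]
    [Smooth R.hom] [ConnectedSpace R.left] (hsolv : Red.IsSolvableGrp R) (hnorm : AlgGrp.IsNormalHom r) :
    Red.IsTorus R ∧ ∀ (X : Over (Spec (CommRingCat.of k))) (t : X ⟶ R) (g : X ⟶ G), (t ≫ r) * g = g * (t ≫ r) := by
  obtain ⟨haff, hsm, hconn⟩ := CentralTorusRed.reductive_props hG
  haveI := haff
  haveI := hsm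
  haveI := hconn
  haveI := hG.1
  suffices hT : Red.IsTorus R from ⟨hT, central_of_normal r hnorm hT⟩
  let s : Spec (CommRingCat.of k) := IsLocalRing.closedPoint k
  obtain ⟨h1, h2, h3, h4⟩ := RadU.fibre_props r hnorm s
  have htriv := hG.2.2 s
  obtain ⟨alg, halg, hσ⟩ := Scheme'.exists_geomPt_eq s
  revert h1 h2 h3 h4 htriv
  show IsClosedImmersion ((Over.pullback (Red.geomPt s)).map r).left → Smooth (Red.bc (Red.geomPt s) R).hom →
    ConnectedSpace (Red.bc (Red.geomPt s) R).left → AlgGrp.IsNormalHom ((Over.pullback (Red.geomPt s)).map r) →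
    Red.IsReductiveOver _ (Red.bc (Red.geomPt s) G) → _
  rw [hσ]
  intro h1 h2 h3 h4 htriv
  haveI := h1
  haveI := h2
  haveI := h3
  haveI := htriv.1
  haveI := htriv.2.1
  haveI : Mono ((Over.pullback (extBase k (AlgebraicClosure ((Spec (CommRingCat.of k)).residueField s)))).map r) :=
    Over.mono_of_mono_left _
  exact RadU.isTorus_of_bc' ((Over.pullback (extBase k _)).map r)
    (RadU.isTorus_of_normal_solvable htriv _ h4 (isSolvableGrp_bc hsolv))

/-- A central subtorus factors through the radical. -/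
theorem factor_of_central {G : Over (Spec (CommRingCat.of k))} [GrpObj G] (hG : Red.IsReductive G)
    {R : Over (Spec (CommRingCat.of k))} [GrpObj R] (r : R ⟶ G)
    (hmax : ∀ (R' : Over (Spec (CommRingCat.of k))) [GrpObj R'] (r' : R' ⟶ G) [IsMonHom r'], IsClosedImmersion r'.left →
      Smooth R'.hom → ConnectedSpace R'.left → Red.IsSolvableGrp R' → AlgGrp.IsNormalHom r' →
      ∃ f : R' ⟶ R, f ≫ r = r')
    {S : Over (Spec (CommRingCat.of k))} [GrpObj S] (s : S ⟶ G) [IsMonHom s] [Mono s] (hS : Red.IsTorus S)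
    (hcen : ∀ (X : Over (Spec (CommRingCat.of k))) (t : X ⟶ S) (g : X ⟶ G), (t ≫ s) * g = g * (t ≫ s)) :
    ∃ f : S ⟶ R, f ≫ r = s := by
  obtain ⟨haff, hsm, hconn⟩ := CentralTorusRed.reductive_props hG
  haveI := haff
  haveI := hsm
  haveI := Groth.Agent.Lib.Tori.Basic.smooth_of_isTorus hS
  haveI := Groth.Agent.Lib.Tori.Basic.isAffineHom_of_isTorus hS
  haveI : IsAffine S.left := isAffine_of_isAffineHom S.hom
  haveI h1 : IsClosedImmersion s.left := Groth.Agent.Lib.GrpQ.MonoClosed.isClosedImmersion_of_mono s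
  have h2 : Smooth S.hom := inferInstance
  have h3 : ConnectedSpace S.left := by
    let K := AlgebraicClosure k
    haveI := hconn
    obtain ⟨g1, g2, g3⟩ := FieldDescent.bc_props (K := K) G
    haveI := g1
    haveI := g2
    haveI := g3
    haveI := (TorusPts.torus_props ((Over.pullback (extBase k K)).map s) (Lib.Tori.Basic.isTorus_bc hS _)).2.2.1
    exact FieldDescent.connectedSpace_of_bc (K := K) S
  refine hmax S s h1 h2 h3 ⟨1, fun X => ?_⟩ fun X g n => ⟨n, by rw [← hcen X n g, mul_inv_cancel_right]⟩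
  rw [derivedSeries_one, commutator_def, Subgroup.commutator_eq_bot_iff_le_centralizer]
  exact fun a _ => Subgroup.mem_centralizer_iff.mpr fun b _ => Lib.Tori.Comm.mul_comm_of_isTorus hS b a

end Groth.Agent.H1.Classical.RadicalTorus
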