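import Groth.Agent.H1.Classical.Cone
import Mathlib.RingTheory.Nullstellensatz
import Mathlib.Algebra.Polynomial.Eval.Subring
import Mathlib.Algebra.MvPolynomial.Monad

/-!
# The closed orbit in a representation and fixed lines of solvable subgroups (Borel's fixed point theorem)
-/

universe u v w

namespace Groth.Agent.H1.Classical.Fixed

set_option linter.style.haveILetI false
set_option linter.unusedSectionVars false

open MvPolynomial Module Kolchin Cone

variable {k : Type u} [Field k] [IsAlgClosed k] {Γ : Type v} [Group Γ] (D : Alg k Γ)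
  {V : Type w} [AddCommGroup V] [Module k V] {n : ℕ} (b : Basis (Fin n) k V)

/-- Polynomial functions on `V`. -/
noncomputable def pf (p : MvPolynomial (Fin n) k) (v : V) : k := eval (b.equivFun v) p

/-- Closed sets in the Zariski topology of `V`. -/
def ZCl (Z : Set V) : Prop := ∀ v, (∀ p, (∀ z ∈ Z, pf b p z = 0) → pf b p v = 0) → v ∈ Z

/-- The polynomial of a linear form. -/
noncomputable def lin (l : Dual k V) : MvPolynomial (Fin n) k := ∑ j, l (b j) • X j

theorem pf_lin (l : Dual k V) (v : V) : pf b (lin b l) v = l v := by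
  conv_rhs => rw [← b.sum_equivFun v, map_sum]
  simp [pf, lin, mul_comm]

theorem isHomogeneous_lin (l : Dual k V) : (lin b l).IsHomogeneous 1 :=
  IsHomogeneous.sum _ _ _ fun j _ => (homogeneousSubmodule _ k 1).smul_mem _ (isHomogeneous_X k j)

theorem pf_bind (T : End k V) (p : MvPolynomial (Fin n) k) (v : V) :
    pf b p (T v) = pf b (bind₁ (fun i => lin b ((b.coord i).comp T)) p) v := by
  show eval _ p = eval _ _
  rw [show (eval (b.equivFun v)) (bind₁ (fun i => lin b ((b.coord i).comp T)) p) =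
    aeval (b.equivFun v) (bind₁ (fun i => lin b ((b.coord i).comp T)) p) from rfl, aeval_bind₁]
  show eval _ p = eval (fun i => pf b (lin b ((b.coord i).comp T)) v) p
  simp only [pf_lin]
  rfl

theorem zcl_preimage {Z : Set V} (hZ : ZCl b Z) (T : End k V) : ZCl b (T ⁻¹' Z) := fun v hv =>
  hZ _ fun p hp => by
    rw [pf_bind]
    exact hv _ fun z hz => by rw [← pf_bind]; exact hp _ hz

/-- The closure. -/
def cl (C : Set V) : Set V := {v | ∀ p, (∀ z ∈ C, pf b p z = 0) → pf b p v = 0}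

theorem subset_cl (C : Set V) : C ⊆ cl b C := fun v hv _ hp => hp v hv

theorem zcl_cl (C : Set V) : ZCl b (cl b C) := fun _ hv p hp => hv p fun _ hz => hz p hp

theorem cl_subset {C Z : Set V} (h : C ⊆ Z) (hZ : ZCl b Z) : cl b C ⊆ Z := fun v hv =>
  hZ v fun p hp => hv p fun z hz => hp z (h hz)

theorem cl_map {C : Set V} (T : End k V) (h : ∀ z ∈ C, T z ∈ C) : ∀ v ∈ cl b C, T v ∈ cl b C :=
  cl_subset b (Z := T ⁻¹' cl b C) (fun z hz => subset_cl b C (h z hz)) (zcl_preimage b (zcl_cl b C) T)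

variable {D} (ρ : Representation k Γ V) (hρ : EndFn D.R (fun g => ρ g))

/-- A stable closed cone. -/
structure IsCone (Z : Set V) : Prop where
  closed : ZCl b Z
  smul : ∀ c : k, ∀ z ∈ Z, c • z ∈ Z
  stable : ∀ g, ∀ z ∈ Z, ρ g z ∈ Z

/-- The orbit of a vector up to scalars. -/
def orb (z : V) : Set V := {v | ∃ (c : k) (g : Γ), v = c • ρ g z}

/-- The coordinates of the orbit map. -/
noncomputable def orbCoord (z : V) (i : Fin n) : D.R := ⟨fun g => b.coord i (ρ g z), hρ z (b.coord i)⟩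

/-- The comorphism of `(g, c) ↦ c • g z`. -/
noncomputable def orbMap (z : V) : MvPolynomial (Fin n) k →ₐ[k] Polynomial D.R :=
  aeval fun i => Polynomial.C (orbCoord b ρ hρ z i) * Polynomial.X

/-- A point `(g, c)`. -/
noncomputable def point (g : Γ) (c : k) : Polynomial D.R →ₐ[k] k :=
  { Polynomial.eval₂RingHom ((Pi.evalAlgHom k (fun _ : Γ => k) g).comp D.R.val).toRingHom c with
    commutes' := fun r => by
      show Polynomial.eval₂ ((Pi.evalAlgHom k (fun _ : Γ => k) g).comp D.R.val).toRingHom c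
        (Polynomial.C (algebraMap k D.R r)) = r
      rw [Polynomial.eval₂_C]
      rfl }

theorem apply_orbMap (z : V) (χ : Polynomial D.R →ₐ[k] k) (g : Γ)
    (hg : ∀ f : D.R, χ (Polynomial.C f) = (f : Γ → k) g) (p : MvPolynomial (Fin n) k) :
    χ (orbMap b ρ hρ z p) = pf b p (χ Polynomial.X • ρ g z) := by
  show χ (aeval _ p) = eval _ p
  rw [← AlgHom.comp_apply, comp_aeval, show eval (b.equivFun (χ Polynomial.X • ρ g z)) p =
    aeval (b.equivFun (χ Polynomial.X • ρ g z)) p from rfl]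
  congr 1
  apply MvPolynomial.algHom_ext
  intro i
  rw [aeval_X, aeval_X, map_mul, hg]
  show b.coord i (ρ g z) * χ Polynomial.X = b.equivFun (χ Polynomial.X • ρ g z) i
  rw [map_smul, Pi.smul_apply, smul_eq_mul, mul_comm]
  rfl

theorem orbMap_eq_zero_iff (z : V) (p : MvPolynomial (Fin n) k) :
    orbMap b ρ hρ z p = 0 ↔ ∀ v ∈ orb ρ z, pf b p v = 0 := by
  have h : ∀ g c, point (D := D) g c (orbMap b ρ hρ z p) = pf b p (c • ρ g z) := by
    intro g c
    rw [apply_orbMap b ρ hρ z _ g (fun f => Polynomial.eval₂_C _ _) p,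
      show point (D := D) g c Polynomial.X = c from Polynomial.eval₂_X _ _]
  constructor
  · rintro hp _ ⟨c, g, rfl⟩
    rw [← h, hp, map_zero]
  · intro hall
    refine Polynomial.ext fun i => Subtype.ext (funext fun g => ?_)
    have h0 : (orbMap b ρ hρ z p).map ((Pi.evalAlgHom k (fun _ : Γ => k) g).comp D.R.val).toRingHom = 0 := by
      refine Polynomial.funext fun c => ?_
      rw [Polynomial.eval_map, Polynomial.eval_zero]
      exact (h g c).trans (hall _ ⟨c, g, rfl⟩)
    have h1 := congrArg (fun q => Polynomial.coeff q i) h0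
    simp only [Polynomial.coeff_map, Polynomial.coeff_zero] at h1
    exact h1

include hρ in
/-- There is a stable closed cone whose nonzero vectors form one orbit up to scalars. -/
theorem exists_closed_orbit [FiniteDimensional k V] [Nontrivial V] (hirr : D.SIrr Set.univ) :
    ∃ Z : Set V, IsCone b ρ Z ∧ (∃ z ∈ Z, z ≠ 0) ∧
      ∀ z ∈ Z, z ≠ 0 → ∀ z' ∈ Z, z' ≠ 0 → ∃ (c : k) (g : Γ), z' = c • ρ g z := by
  classical
  let vI : Set V → Ideal (MvPolynomial (Fin n) k) := fun C => vanishingIdeal k (b.equivFun '' C)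
  have hvI : ∀ C p, p ∈ vI C ↔ ∀ z ∈ C, pf b p z = 0 := fun C p => by
    simp only [vI, mem_vanishingIdeal_iff, Set.forall_mem_image]
    rfl
  let 𝒵 : Set (Set V) := {Z | IsCone b ρ Z ∧ ∃ z ∈ Z, z ≠ 0}
  obtain ⟨_, ⟨Z, hZ, rfl⟩, hmax⟩ := set_has_maximal_iff_noetherian.mpr
    (inferInstance : IsNoetherian (MvPolynomial (Fin n) k) (MvPolynomial (Fin n) k)) (vI '' 𝒵)
    ⟨_, Set.univ, ⟨⟨fun _ _ => trivial, fun _ _ _ => trivial, fun _ _ _ => trivial⟩,
      by simpa using exists_ne (0 : V)⟩, rfl⟩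
  obtain ⟨hcone, hne⟩ := hZ
  refine ⟨Z, hcone, hne, ?_⟩
  -- each orbit is dense
  have hdense : ∀ z ∈ Z, z ≠ 0 → ∀ p, orbMap b ρ hρ z p = 0 ↔ p ∈ vI Z := by
    intro z hz hz0 p
    have horb : orb ρ z ⊆ Z := by
      rintro _ ⟨c, g, rfl⟩
      exact hcone.smul c _ (hcone.stable g z hz)
    have hmem : vI (cl b (orb ρ z)) ∈ vI '' 𝒵 := by
      refine ⟨cl b (orb ρ z), ⟨⟨zcl_cl b _, fun c => cl_map b (c • (1 : End k V)) ?_, fun g => cl_map b (ρ g) ?_⟩,
        z, subset_cl b _ ⟨1, 1, by simp⟩, hz0⟩, rfl⟩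
      · rintro _ ⟨c', g, rfl⟩
        exact ⟨c * c', g, by simp [smul_smul, mul_comm c c']⟩
      · rintro _ ⟨c', g', rfl⟩
        exact ⟨c', g * g', by simp⟩
    have h1 : vI (cl b (orb ρ z)) = vI (orb ρ z) := le_antisymm
      (fun p hp => (hvI _ p).mpr fun v hv => (hvI _ p).mp hp v (subset_cl b _ hv))
      (fun p hp => (hvI _ p).mpr fun v hv => hv p ((hvI _ p).mp hp))
    have h2 : vI Z ≤ vI (orb ρ z) := fun p hp => (hvI _ p).mpr fun v hv => (hvI _ p).mp hp v (horb hv)
    have h3 : vI (orb ρ z) = vI Z := by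
      by_contra hne'
      exact hmax _ hmem (h1.symm ▸ lt_of_le_of_ne h2 (Ne.symm hne'))
    rw [orbMap_eq_zero_iff, ← hvI, h3]
  -- a dense open subset of each orbit
  haveI := D.finiteType
  haveI : IsDomain D.R := by
    have : NoZeroDivisors D.R := ⟨fun {f f'} h => (hirr f f' (fun c _ => by rw [h]; rfl)).imp
      (fun hf => Subtype.ext (funext fun c => hf c trivial)) fun hf => Subtype.ext (funext fun c => hf c trivial)⟩
    have : Nontrivial D.R := ⟨0, 1, fun h => zero_ne_one (congrFun (congrArg Subtype.val h) (1 : Γ))⟩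
    exact NoZeroDivisors.to_isDomain _
  have hopen : ∀ z ∈ Z, z ≠ 0 → ∃ p, p ∉ vI Z ∧ ∀ v ∈ Z, pf b p v ≠ 0 → v ∈ orb ρ z := by
    intro z hz hz0
    let ψ := orbMap b ρ hρ z
    have : (RingHom.ker ψ).IsPrime := RingHom.ker_isPrime ψ
    haveI : IsDomain (MvPolynomial (Fin n) k ⧸ RingHom.ker ψ) := Ideal.Quotient.isDomain _
    obtain ⟨p₀, hp0, hlift⟩ := exists_generic_lift (A := MvPolynomial (Fin n) k ⧸ RingHom.ker ψ)
      (B := Polynomial D.R) (Ideal.kerLiftAlg ψ) (Ideal.kerLiftAlg_injective ψ)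
    obtain ⟨p, rfl⟩ := Ideal.Quotient.mk_surjective p₀
    refine ⟨p, fun h => hp0 ?_, fun v hv hpv => ?_⟩
    · rw [← hdense z hz hz0] at h
      exact Ideal.Quotient.eq_zero_iff_mem.mpr h
    · let evv : MvPolynomial (Fin n) k →ₐ[k] k := aeval (b.equivFun v)
      have hfac : ∀ q ∈ RingHom.ker ψ, evv q = 0 := by
        intro q (hq : ψ q = 0)
        rw [hdense z hz hz0, hvI] at hq
        exact hq v hv
      let χ : MvPolynomial (Fin n) k ⧸ RingHom.ker ψ →ₐ[k] k := Ideal.Quotient.liftₐ _ evv hfac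
      obtain ⟨χ', hχ'⟩ := hlift χ hpv
      obtain ⟨g, hg⟩ := D.pts (χ'.comp (Polynomial.CAlgHom))
      refine ⟨χ' Polynomial.X, g, b.equivFun.injective (funext fun i => ?_)⟩
      have h1 := apply_orbMap b ρ hρ z χ' g (fun f => hg f) (X i)
      have h2 : χ' (ψ (X i)) = evv (X i) := by
        rw [show evv (X i) = χ (Ideal.Quotient.mk _ (X i)) from rfl, ← hχ']; rfl
      rw [h2] at h1
      simpa [pf, evv] using h1
  intro z hz hz0 z' hz' hz'0
  obtain ⟨p, hp, hpz⟩ := hopen z hz hz0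
  obtain ⟨p', hp', hpz'⟩ := hopen z' hz' hz'0
  -- the vanishing ideal of `Z` is prime
  have hprime : ∀ f f', f * f' ∈ vI Z → f ∈ vI Z ∨ f' ∈ vI Z := by
    intro f f' h
    simp only [← hdense z hz hz0, map_mul] at h ⊢
    exact mul_eq_zero.mp h
  obtain ⟨w, hw, hw0⟩ := hne
  obtain ⟨i, hi⟩ : ∃ i, (X i : MvPolynomial (Fin n) k) ∉ vI Z := by
    by_contra hcon
    push Not at hcon
    refine hw0 (b.equivFun.injective (funext fun i => ?_))
    have := (hvI _ _).mp (hcon i) w hw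
    simpa [pf] using this
  have hprod : p * p' * X i ∉ vI Z := fun h =>
    (hprime _ _ h).elim (fun h => (hprime _ _ h).elim hp hp') hi
  rw [hvI] at hprod
  push Not at hprod
  obtain ⟨v, hv, hvne⟩ := hprod
  simp only [pf, map_mul, mul_ne_zero_iff, eval_X] at hvne
  obtain ⟨c₁, g₁, h1⟩ := hpz v hv hvne.1.1
  obtain ⟨c₂, g₂, h2⟩ := hpz' v hv hvne.1.2
  have hv0 : v ≠ 0 := fun h => hvne.2 (by simp [h])
  have hc2 : c₂ ≠ 0 := fun h => hv0 (by rw [h2, h, zero_smul])
  refine ⟨c₂⁻¹ * c₁, g₂⁻¹ * g₁, ?_⟩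
  have h3 : ρ g₂ z' = (c₂⁻¹ * c₁) • ρ g₁ z := by
    rw [mul_smul, ← h1, h2, smul_smul, inv_mul_cancel₀ hc2, one_smul]
  rw [map_mul, End.mul_apply, ← map_smul, ← h3, ← End.mul_apply, ← map_mul, inv_mul_cancel, map_one,
    End.one_apply]

/-- A solvable irreducible group acting has an eigenvector. -/
theorem exists_eigvec {S : Type*} [Group S] (R : Subalgebra k (S → k)) [NoZeroDivisors R] [Group.IsSolvable S]
    {W : Type*} [AddCommGroup W] [Module k W] [FiniteDimensional k W] [Nontrivial W] (σ : Representation k S W)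
    (hσ : EndFn R (fun g => σ g)) (hσ' : EndFn R (fun g => σ g⁻¹)) :
    ∃ v : W, v ≠ 0 ∧ ∀ s, ∃ c : k, σ s v = c • v := by
  let 𝒮 : Set (Submodule k W) := {U | U ≠ ⊥ ∧ ∀ g, ∀ u ∈ U, σ g u ∈ U}
  obtain ⟨U, ⟨hU, hUs⟩, hmin⟩ := WellFounded.has_min (r := (· < ·)) wellFounded_lt 𝒮
    ⟨⊤, top_ne_bot, fun g u _ => trivial⟩
  have : Nontrivial U := Submodule.nontrivial_iff_ne_bot.mpr hU
  let σU : Representation k S U :=
    { toFun := fun g => (σ g).restrict (hUs g)
      map_one' := LinearMap.ext fun u => Subtype.ext (by simp)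
      map_mul' := fun a b => LinearMap.ext fun u => Subtype.ext (by simp) }
  have hres : ∀ (F : S → End k W) (hF : ∀ g, ∀ u ∈ U, F g u ∈ U), EndFn R F →
      EndFn R (fun g => (F g).restrict (hF g)) := by
    intro F hF h u l
    obtain ⟨l', hl'⟩ := LinearMap.exists_extend l
    have : (fun g => l ((F g).restrict (hF g) u)) = fun g => l' (F g u) := by
      funext g; rw [← hl']; rfl
    rw [this]; exact h u l'
  have hrank := Kolchin.finrank_eq_one (R := R) σU (hres _ hUs hσ) (hres _ (fun g => hUs g⁻¹) hσ')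
    (fun X hX => by
      by_contra hcon
      push Not at hcon
      refine hmin (X.map U.subtype) ⟨fun h => hcon.1 (Submodule.map_injective_of_injective
        U.injective_subtype (by rw [h, Submodule.map_bot])), ?_⟩ ?_
      · rintro g _ ⟨x, hx, rfl⟩
        exact ⟨σU g x, hX g x hx, rfl⟩
      · refine lt_of_le_of_ne (fun _ ⟨x, _, hx⟩ => hx ▸ x.2) fun h => hcon.2 ?_
        exact Submodule.map_injective_of_injective U.injective_subtype (by rw [h, Submodule.map_top, Submodule.range_subtype]))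
  obtain ⟨v, hv, hspan⟩ := finrank_eq_one_iff'.mp hrank
  exact ⟨v, fun h => hv (Subtype.ext h), fun s => by
    obtain ⟨c, hc⟩ := hspan (σU s v)
    exact ⟨c, (congrArg Subtype.val hc).symm⟩⟩

include hρ in
/-- Borel's fixed point theorem for closed cones. -/
theorem exists_fixed [FiniteDimensional k V] {Z : Set V} (hZ : IsCone b ρ Z) (hne : ∃ z ∈ Z, z ≠ 0)
    (S : Subgroup Γ) [Group.IsSolvable S] (hS : D.SIrr S) :
    ∃ v ∈ Z, v ≠ 0 ∧ ∀ s ∈ S, ∃ c : k, ρ s v = c • v := by
  classical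
  let R : Subalgebra k (S → k) := D.R.map (Alg.res S)
  haveI : NoZeroDivisors R := ⟨by
    rintro ⟨_, f, hf, rfl⟩ ⟨_, f', hf', rfl⟩ h
    rcases hS ⟨f, hf⟩ ⟨f', hf'⟩ (fun c hc => congrFun (congrArg Subtype.val h) (⟨c, hc⟩ : S)) with h1 | h1
    · exact Or.inl (Subtype.ext (funext fun c => h1 c c.2))
    · exact Or.inr (Subtype.ext (funext fun c => h1 c c.2))⟩
  let 𝒮 : Set (Submodule k V) := {W | (∀ s ∈ S, ∀ w ∈ W, ρ s w ∈ W) ∧ ∃ z ∈ Z, z ≠ 0 ∧ z ∈ W}
  obtain ⟨W, ⟨hWs, z₁, hz₁, hz₁0, hz₁W⟩, hmin⟩ := WellFounded.has_min (r := (· < ·)) wellFounded_lt 𝒮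
    ⟨⊤, fun _ _ _ _ => trivial, by obtain ⟨z, hz, hz0⟩ := hne; exact ⟨z, hz, hz0, trivial⟩⟩
  have : Nontrivial W := ⟨⟨⟨z₁, hz₁W⟩, 0, fun h => hz₁0 (congrArg Subtype.val h)⟩⟩
  let σ : Representation k S (Dual k W) :=
    { toFun := fun s => ((ρ (s : Γ)⁻¹).restrict (hWs _ (S.inv_mem s.2))).dualMap
      map_one' := LinearMap.ext fun φ => LinearMap.ext fun w => congrArg φ (Subtype.ext (by simp))
      map_mul' := fun a c => LinearMap.ext fun φ => LinearMap.ext fun w => congrArg φ (Subtype.ext (by simp)) }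
  have hcoef : ∀ (φ : Dual k W) (w : W), ∃ f ∈ D.R, ∀ s : S, f s = σ s φ w := by
    intro φ w
    obtain ⟨l, hl⟩ := LinearMap.exists_extend φ
    refine ⟨_, D.inv _ (hρ (w : V) l), fun s => ?_⟩
    show l _ = φ _
    rw [← hl]; rfl
  have hσ : EndFn R (fun s => σ s) := by
    intro φ Φ
    obtain ⟨w, rfl⟩ := (Module.evalEquiv k W).surjective Φ
    obtain ⟨f, hf, he⟩ := hcoef φ w
    exact ⟨f, hf, funext fun s => he s⟩
  have hσ' : EndFn R (fun s => σ s⁻¹) := by
    intro φ Φ
    obtain ⟨w, rfl⟩ := (Module.evalEquiv k W).surjective Φ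
    obtain ⟨f, hf, he⟩ := hcoef φ w
    exact ⟨_, D.inv f hf, funext fun s => he s⁻¹⟩
  obtain ⟨φ, hφ, hχ⟩ := exists_eigvec R σ hσ hσ'
  obtain ⟨L, hL⟩ := LinearMap.exists_extend φ
  have hLW : ∀ w (hw : w ∈ W), L w = φ ⟨w, hw⟩ := fun w hw => by rw [← hL]; rfl
  -- no nonzero vector of `Z ∩ W` lies in the hyperplane
  have hoff : ∀ z ∈ Z, z ∈ W → L z = 0 → z = 0 := by
    intro z hz hzW hLz
    by_contra hz0
    refine hmin (W ⊓ LinearMap.ker L) ⟨?_, z, hz, hz0, hzW, hLz⟩ (lt_of_le_of_ne inf_le_left fun h => ?_)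
    · intro s hs w hw
      refine ⟨hWs s hs w hw.1, ?_⟩
      obtain ⟨c, hc⟩ := hχ ⟨s⁻¹, S.inv_mem hs⟩
      have h1 : φ ⟨ρ s⁻¹⁻¹ w, hWs _ (S.inv_mem (S.inv_mem hs)) w hw.1⟩ = c * φ ⟨w, hw.1⟩ :=
        LinearMap.congr_fun hc ⟨w, hw.1⟩
      show L _ = 0
      rw [hLW _ (hWs s hs w hw.1)]
      simp only [inv_inv] at h1
      rw [h1, ← hLW _ hw.1, show L w = 0 from hw.2, mul_zero]
    · apply hφ
      ext ⟨w, hw⟩
      rw [← hLW w hw, LinearMap.zero_apply]
      exact (show w ∈ W ⊓ LinearMap.ker L by rw [h]; exact hw).2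
  -- the finitely many lines
  let Y : Set V := Z ∩ W
  let Z1 : Set V := {z | z ∈ Y ∧ L z = 1}
  have hWcl : ∀ v, (∀ p, (∀ z ∈ (W : Set V), pf b p z = 0) → pf b p v = 0) → v ∈ W := by
    intro v hv
    by_contra h
    obtain ⟨l, hlv, hlW⟩ := Submodule.exists_dual_map_eq_bot_of_notMem h inferInstance
    refine hlv ?_
    rw [← pf_lin b l]
    refine hv _ fun w hw => ?_
    rw [pf_lin]
    exact (Submodule.mem_bot k).mp (hlW ▸ ⟨w, hw, rfl⟩)
  have hfin : Z1.Finite := by
    let J := vanishingIdeal k (b.equivFun '' Y)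
    let K := J ⊔ Ideal.span {lin b L}
    have hJ : ∀ p, p ∈ J ↔ ∀ z ∈ Y, pf b p z = 0 := fun p => by
      simp only [J, mem_vanishingIdeal_iff, Set.forall_mem_image]; rfl
    have hzero : ∀ x ∈ zeroLocus k K, x = 0 := by
      intro x hx
      obtain ⟨v, rfl⟩ := b.equivFun.surjective x
      have hvanish : ∀ p ∈ K, pf b p v = 0 := fun p hp => mem_zeroLocus_iff.mp hx p hp
      have hvY : v ∈ Y :=
        ⟨hZ.closed v fun p hp => hvanish p (Ideal.mem_sup_left ((hJ p).mpr fun z hz => hp z hz.1)),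
          hWcl v fun p hp => hvanish p (Ideal.mem_sup_left ((hJ p).mpr fun z hz => hp z hz.2))⟩
      have hLv : L v = 0 := by
        rw [← pf_lin b L]
        exact hvanish _ (Ideal.mem_sup_right (Ideal.mem_span_singleton_self _))
      rw [hoff v hvY.1 hvY.2 hLv, map_zero]
    have hrad : ∀ i, ∃ m, (X i : MvPolynomial (Fin n) k) ^ m ∈ K := by
      intro i
      have : X i ∈ K.radical := by
        rw [← vanishingIdeal_zeroLocus_eq_radical (K := k) K, mem_vanishingIdeal_iff]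
        intro x hx
        simp [hzero x hx]
      exact this
    choose m hm using hrad
    let N := ∑ i, m i + 1
    have hfin' : (b.equivFun '' Z1).Finite := by
      refine Cone.finite_of_pow_eq _ N fun i => ?_
      have hN : (X i : MvPolynomial (Fin n) k) ^ N ∈ K :=
        Ideal.pow_mem_of_pow_mem K (hm i) (by
          have := Finset.single_le_sum (f := m) (fun _ _ => Nat.zero_le _) (Finset.mem_univ i)
          omega)
      obtain ⟨j, hj, r, hr, hsum⟩ := Submodule.mem_sup.mp hN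
      obtain ⟨r, rfl⟩ := Ideal.mem_span_singleton'.mp hr
      refine ⟨homogeneousComponent (∑ i, m i) r, lt_of_le_of_lt (homogeneousComponent_isHomogeneous _ _).totalDegree_le (by omega), ?_⟩
      rintro _ ⟨z, hz, rfl⟩
      have hjN := Cone.homogeneousComponent_vanish (b.equivFun '' Y)
        (by rintro c _ ⟨y, hy, rfl⟩; exact ⟨c • y, ⟨hZ.smul c y hy.1, W.smul_mem c hy.2⟩, map_smul _ _ _⟩)
        (p := j) (fun y hy => by obtain ⟨y, hy, rfl⟩ := hy; exact (hJ j).mp hj y hy) N _ ⟨z, hz.1, rfl⟩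
      have hcomp : homogeneousComponent N (r * lin b L) = homogeneousComponent (∑ i, m i) r * lin b L := by
        have hterm : ∀ d, homogeneousComponent N (homogeneousComponent d r * lin b L) =
            if d = ∑ i, m i then homogeneousComponent d r * lin b L else 0 := by
          intro d
          rw [homogeneousComponent_of_mem ((mem_homogeneousSubmodule _ _).mpr
            ((homogeneousComponent_isHomogeneous d r).mul (isHomogeneous_lin b L)))]
          by_cases hd : d = ∑ i, m i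
          · rw [if_pos hd, if_pos (by omega)]
          · rw [if_neg hd, if_neg (by omega)]
        conv_lhs => rw [← sum_homogeneousComponent r, Finset.sum_mul, map_sum]
        simp only [hterm, Finset.sum_ite_eq', Finset.mem_range]
        split_ifs with h
        · rfl
        · rw [homogeneousComponent_eq_zero _ _ (by omega), zero_mul]
      have htot := congrArg (homogeneousComponent N) hsum
      rw [map_add, hcomp, homogeneousComponent_of_mem (isHomogeneous_X_pow i N), if_pos rfl] at htot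
      have hev := congrArg (eval (b.equivFun z)) htot
      rw [map_add, hjN, zero_add, map_mul, map_pow, eval_X] at hev
      rw [← hev, show eval (b.equivFun z) (lin b L) = 1 from (pf_lin b L z).trans hz.2, mul_one]
    exact hfin'.of_finite_image b.equivFun.injective.injOn
  have hline : ∀ z ∈ Y, z ≠ 0 → (L z)⁻¹ • z ∈ Z1 := by
    intro z hz hz0
    have hLz : L z ≠ 0 := fun h => hz0 (hoff z hz.1 hz.2 h)
    exact ⟨⟨hZ.smul _ z hz.1, W.smul_mem _ hz.2⟩, by simp [hLz]⟩
  refine ⟨z₁, hz₁, hz₁0, ?_⟩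
  obtain ⟨t, -, ht⟩ := Alg.SIrr.exists_forall D hS ⟨1, S.one_mem⟩ hfin.toFinset
    (fun t => {f | ∃ l : Dual k V, l t = 0 ∧ f = fun g => l (ρ g z₁)})
    (fun t _ => by rintro _ ⟨l, -, rfl⟩; exact hρ z₁ l)
    (fun s hs => by
      have hz0 : ρ s z₁ ≠ 0 := fun h => hz₁0 (by
        have := congrArg (ρ s⁻¹) h
        rwa [← End.mul_apply, ← map_mul, inv_mul_cancel, map_one, End.one_apply, map_zero] at this)
      have hY : ρ s z₁ ∈ Y := ⟨hZ.stable s z₁ hz₁, hWs s hs z₁ hz₁W⟩
      refine ⟨_, hfin.mem_toFinset.mpr (hline _ hY hz0), ?_⟩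
      rintro _ ⟨l, hl, rfl⟩
      rw [map_smul, smul_eq_mul, mul_eq_zero, inv_eq_zero] at hl
      exact hl.resolve_left fun h => hz0 (hoff _ hY.1 hY.2 h))
  have hspan : ∀ s ∈ S, ρ s z₁ ∈ Submodule.span k {t} := by
    intro s hs
    by_contra h
    obtain ⟨l, hl, hlt⟩ := Submodule.exists_dual_map_eq_bot_of_notMem h inferInstance
    exact hl (ht s hs _ ⟨l, (Submodule.mem_bot k).mp (hlt ▸ ⟨t, Submodule.mem_span_singleton_self t, rfl⟩), rfl⟩)
  intro s hs
  obtain ⟨a, ha⟩ := Submodule.mem_span_singleton.mp (hspan 1 S.one_mem)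
  obtain ⟨c, hc⟩ := Submodule.mem_span_singleton.mp (hspan s hs)
  rw [map_one, End.one_apply] at ha
  have ha0 : a ≠ 0 := fun h => hz₁0 (by rw [← ha, h, zero_smul])
  exact ⟨c * a⁻¹, by rw [← hc, ← ha, smul_smul, mul_assoc, inv_mul_cancel₀ ha0, mul_one]⟩

end Groth.Agent.H1.Classical.Fixed
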