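import Groth.Agent.H1.Classical.CentralizerRed
import Groth.Agent.H1.Classical.TorusUnipotent
import Groth.Agent.H1.Classical.RadicalTorus

/-!
# The centre of a reductive group meets unipotent subgroups trivially
-/

universe u

open CategoryTheory MonoidalCategory CartesianMonoidalCategory MonObj GrpObj AlgebraicGeometry

namespace Groth.Agent.H1.Classical.CentreUnipotent

set_option linter.style.haveILetI false
set_option linter.unusedSectionVars false

open Groth.Agent.Lib.RedPts Groth.Agent.Lib.GrpSch Scheme' Unipotent FieldDescent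

attribute [local instance] Groth.Agent.Lib.RedPts.Points.baseAlgebra

variable {k : Type u} [Field k] {G : Over (Spec (CommRingCat.of k))} [GrpObj G]

theorem bc_centre {Z : Over (Spec (CommRingCat.of k))} [GrpObj Z] {z : Z ⟶ G} (hz : Red.IsCentre z) {S' : Scheme.{u}}
    (f : S' ⟶ Spec (CommRingCat.of k)) : Red.IsCentre ((Over.pullback f).map z) := by
  have h := isCentralizerOf_bc f hz
  rwa [CategoryTheory.Functor.map_id] at h

theorem eq_one_of_centre (hG : Red.IsReductive G) {Z : Over (Spec (CommRingCat.of k))} [GrpObj Z] {z : Z ⟶ G}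
    (hz : Red.IsCentre z) {U : Over (Spec (CommRingCat.of k))} [GrpObj U] [IsAffine U.left] [Smooth U.hom]
    [ConnectedSpace U.left]
    (hU : ∀ s : Spec (CommRingCat.of k),
      Red.HasNoSubtorus (AlgebraicClosure ((Spec (CommRingCat.of k)).residueField s)) (Red.geomFibre s U))
    (u : U ⟶ G) [IsMonHom u] [IsClosedImmersion u.left] {X : Over (Spec (CommRingCat.of k))} (a : X ⟶ Z) (b : X ⟶ U)
    (hab : a ≫ z = b ≫ u) : b ≫ u = 1 := by
  let s : Spec (CommRingCat.of k) := IsLocalRing.closedPoint k
  obtain ⟨alg, halg, hσ⟩ := exists_geomPt_eq s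
  have hred := hG.2.2 s
  obtain ⟨hn, hconn⟩ : Red.HasNoSubtorus _ (Red.bc (Red.geomPt s) U) ∧ True := ⟨hU s, trivial⟩
  revert hred hn
  show Red.IsReductiveOver _ (Red.bc (Red.geomPt s) G) → _
  rw [hσ]
  intro hred hn
  set f := extBase k (AlgebraicClosure ((Spec (CommRingCat.of k)).residueField s))
  haveI := hred.1
  haveI := hred.2.1
  haveI := hred.2.2.1
  obtain ⟨T, _, iT, hT⟩ := MaxTorusExists.exists_maxTorus (Red.bc f G)
  haveI := hT.1
  haveI := hT.2.1
  obtain ⟨h1, h2, h3⟩ := bc_props (K := AlgebraicClosure ((Spec (CommRingCat.of k)).residueField s)) U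
  haveI := h1
  haveI := h2
  haveI := h3
  have hcl : IsClosedImmersion ((Over.pullback f).map u).left :=
    bc_map_left_of (P := @IsClosedImmersion) _ u inferInstance
  haveI := hcl
  haveI : IsMonHom ((Over.pullback f).map u) := inferInstance
  obtain ⟨t, ht⟩ := (CentralizerRed.isCentralizerOf_self hred hT).2.2 _ ((Over.pullback f).map (a ≫ z)) |>.mpr
    fun X' x h => by
      have hc := bc_centre hz f
      have := (hc.2.2 _ ((Over.pullback f).map (a ≫ z))).mp
        ⟨(Over.pullback f).map a, ((Over.pullback f).map_comp a z).symm⟩ X' x (h ≫ iT)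
      simpa using this
  have h := TorusUnipotent.eq_one iT hT.2.2.1 ((Over.pullback f).map u) (noTorsion_of_hasNoSubtorus hn)
    ((Over.pullback f).map (a ≫ z)) ⟨t, ht⟩ ⟨(Over.pullback f).map b, by rw [hab, Functor.map_comp]⟩
  refine RadicalTorus.map_injective (K := AlgebraicClosure ((Spec (CommRingCat.of k)).residueField s)) _ _ ?_
  rw [← hab, Functor.map_one]
  exact h

end Groth.Agent.H1.Classical.CentreUnipotent
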