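import Groth.Agent.H1.Classical.Borel
import Groth.Agent.H1.LangCore
import Mathlib.RingTheory.HopfAlgebra.Convolution

/-!
# The group of points of a finitely generated Hopf algebra, with a faithful representation
-/

universe u v

namespace Groth.Agent.H1.Classical.HopfPts

set_option linter.style.haveILetI false
set_option linter.unusedSectionVars false

open TensorProduct Coalgebra WithConv Kolchin Module

variable (k : Type u) [Field k] (A : Type v) [CommRing A] [HopfAlgebra k A]

/-- The group of points. -/
abbrev Pt := WithConv (A →ₐ[k] k)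

/-- Elements as functions on points. -/
noncomputable def ev : A →ₐ[k] (Pt k A → k) where
  toFun a g := g.ofConv a
  map_one' := funext fun g => map_one g.ofConv
  map_mul' a b := funext fun g => map_mul g.ofConv a b
  map_zero' := funext fun g => map_zero g.ofConv
  map_add' a b := funext fun g => map_add g.ofConv a b
  commutes' r := funext fun g => g.ofConv.commutes r

variable {k A}

/-- Contraction of the left factor by a point. -/
noncomputable def lcon (g : Pt k A) : A →ₗ[k] A :=
  (TensorProduct.lid k A).toLinearMap ∘ₗ g.ofConv.toLinearMap.rTensor A ∘ₗ comul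

/-- Contraction of the right factor by a point. -/
noncomputable def rcon (g : Pt k A) : A →ₗ[k] A :=
  (TensorProduct.rid k A).toLinearMap ∘ₗ g.ofConv.toLinearMap.lTensor A ∘ₗ comul

theorem apply_lcon (g h : Pt k A) (a : A) : h.ofConv (lcon g a) = (g * h).ofConv a := by
  show _ = (g * h) a
  rw [AlgHom.convMul_apply]
  show h.ofConv (TensorProduct.lid k A (g.ofConv.toLinearMap.rTensor A (comul a))) = _
  induction comul (R := k) a using TensorProduct.induction_on with
  | zero => simp
  | tmul x y => simp
  | add x y hx hy => simp only [map_add, hx, hy]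

theorem apply_rcon (g h : Pt k A) (a : A) : h.ofConv (rcon g a) = (h * g).ofConv a := by
  show _ = (h * g) a
  rw [AlgHom.convMul_apply]
  show h.ofConv (TensorProduct.rid k A (g.ofConv.toLinearMap.lTensor A (comul a))) = _
  induction comul (R := k) a using TensorProduct.induction_on with
  | zero => simp
  | tmul x y => simp [mul_comm]
  | add x y hx hy => simp only [map_add, hx, hy]

theorem apply_antipode (h : Pt k A) (a : A) : h.ofConv (HopfAlgebra.antipode k a) = h⁻¹.ofConv a := rfl

variable [Algebra.FiniteType k A]

variable (k A) in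
/-- The classical group structure on the points. -/
noncomputable def D : Alg k (Pt k A) where
  R := (ev k A).range
  fg := by
    rw [← Algebra.map_top]
    exact (Algebra.FiniteType.out).map _
  pts χ := ⟨toConv (χ.comp (ev k A).rangeRestrict), by rintro ⟨_, a, rfl⟩; rfl⟩
  lmul g := by rintro _ ⟨a, rfl⟩; exact ⟨lcon g a, funext fun h => apply_lcon g h a⟩
  rmul g := by rintro _ ⟨a, rfl⟩; exact ⟨rcon g a, funext fun h => apply_rcon g h a⟩
  inv := by rintro _ ⟨a, rfl⟩; exact ⟨HopfAlgebra.antipode k a, funext fun h => apply_antipode h a⟩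

variable (k A) in
/-- Points separate a reduced algebra. -/
theorem ev_injective [IsAlgClosed k] [IsReduced A] : Function.Injective (ev k A) := by
  rw [injective_iff_map_eq_zero]
  intro a ha
  haveI : IsJacobsonRing A := isJacobsonRing_of_finiteType (A := k)
  have h : a ∈ Ideal.jacobson (⊥ : Ideal A) := by
    rw [Ideal.jacobson, Ideal.mem_sInf]
    rintro m ⟨-, hm⟩
    letI := Ideal.Quotient.field m
    have : Module.Finite k (A ⧸ m) := finite_of_finite_type_of_isJacobsonRing k _
    have : Algebra.IsIntegral k (A ⧸ m) := Algebra.IsIntegral.of_finite k _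
    let e := AlgEquiv.ofBijective (Algebra.ofId k (A ⧸ m))
      (IsAlgClosed.algebraMap_bijective_of_isIntegral (k := k) (K := A ⧸ m))
    have h0 : e.symm (Ideal.Quotient.mkₐ k m a) = 0 :=
      congrFun ha (toConv (e.symm.toAlgHom.comp (Ideal.Quotient.mkₐ k m)))
    simpa [Ideal.Quotient.eq_zero_iff_mem] using h0
  rw [IsJacobsonRing.out' (⊥ : Ideal A) ((Ideal.isRadical_bot_iff).mpr ‹_›)] at h
  exact (Submodule.mem_bot A).mp h

/-- The points of a domain form an irreducible group. -/
theorem sirr_univ [IsAlgClosed k] [IsDomain A] : (D k A).SIrr Set.univ := by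
  rintro ⟨_, a, rfl⟩ ⟨_, b, rfl⟩ h
  have h0 : a * b = 0 := ev_injective k A (funext fun g => by
    rw [map_mul, map_zero]; exact h g trivial)
  rcases mul_eq_zero.mp h0 with h | h
  · left; intro g _; show ev k A a g = 0; simp [h]
  · right; intro g _; show ev k A b g = 0; simp [h]

/-- A faithful finite dimensional representation. -/
theorem exists_faithful : ∃ (V : Submodule k A) (_ : FiniteDimensional k V) (ρ : Representation k (Pt k A) V),
    EndFn (D k A).R (fun g => ρ g) ∧ Function.Injective ρ := by
  obtain ⟨s, hs⟩ := ‹Algebra.FiniteType k A›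
  obtain ⟨V, hV, hsV, hVc⟩ := LangCore.exists_left_coideal_finset (k := k) s
  have hstab : ∀ g : Pt k A, ∀ w ∈ V, lcon g w ∈ V := by
    intro g w hw
    obtain ⟨t, ht⟩ := hVc w hw
    show TensorProduct.lid k A (g.ofConv.toLinearMap.rTensor A (comul w)) ∈ V
    rw [← ht]
    clear ht
    induction t using TensorProduct.induction_on with
    | zero => simp
    | tmul x y => simpa using V.smul_mem _ y.2
    | add x y hx hy => simp only [map_add]; exact add_mem hx hy
  haveI : FiniteDimensional k V := Module.Finite.iff_fg.mpr hV
  have hlcon : ∀ (g h : Pt k A) (w : A), lcon h (lcon g w) = lcon (g * h) w := by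
    intro g h w
    show TensorProduct.lid k A (h.ofConv.toLinearMap.rTensor A (comul (lcon g w))) = _
    have hco := Coalgebra.coassoc_apply (R := k) w
    let π : A ⊗[k] (A ⊗[k] A) →ₗ[k] A := (TensorProduct.lid k A).toLinearMap ∘ₗ
      TensorProduct.map g.ofConv.toLinearMap
        ((TensorProduct.lid k A).toLinearMap ∘ₗ h.ofConv.toLinearMap.rTensor A)
    have h2 := congrArg π hco
    have hl : π (TensorProduct.assoc k A A A (comul.rTensor A (comul w))) =
        lcon (g * h) w := by
      show _ = TensorProduct.lid k A ((g * h).ofConv.toLinearMap.rTensor A (comul w))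
      induction comul (R := k) w using TensorProduct.induction_on with
      | zero => simp
      | tmul x y =>
        rw [LinearMap.rTensor_tmul, LinearMap.rTensor_tmul, TensorProduct.lid_tmul]
        show π (TensorProduct.assoc k A A A (comul x ⊗ₜ y)) = (g * h) x • y
        rw [AlgHom.convMul_apply]
        induction comul (R := k) x using TensorProduct.induction_on with
        | zero => simp
        | tmul a b => simp [π, smul_smul, mul_comm]
        | add a b ha hb => simp only [TensorProduct.add_tmul, map_add, ha, hb, add_smul]
      | add x y hx hy => simp only [map_add, hx, hy]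
    have hr : π (comul.lTensor A (comul w)) =
        TensorProduct.lid k A (h.ofConv.toLinearMap.rTensor A (comul (lcon g w))) := by
      show _ = TensorProduct.lid k A (h.ofConv.toLinearMap.rTensor A
        (comul (TensorProduct.lid k A (g.ofConv.toLinearMap.rTensor A (comul w)))))
      induction comul (R := k) w using TensorProduct.induction_on with
      | zero => simp
      | tmul x y => simp [π]
      | add x y hx hy => simp only [map_add, hx, hy]
    rw [← hl, ← hr, h2]
  have hone : ∀ w : A, lcon (1 : Pt k A) w = w := fun w => by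
    show TensorProduct.lid k A ((1 : Pt k A).ofConv.toLinearMap.rTensor A (comul w)) = w
    have : (1 : Pt k A).ofConv.toLinearMap = (counit : A →ₗ[k] k) := LinearMap.ext fun a => by
      show (1 : Pt k A) a = _
      simp
    rw [this, Coalgebra.rTensor_counit_comul, TensorProduct.lid_tmul, one_smul]
  let ρ : Representation k (Pt k A) V :=
    { toFun := fun g => (lcon g⁻¹).restrict (hstab g⁻¹)
      map_one' := LinearMap.ext fun v => Subtype.ext (by
        show lcon (1⁻¹ : Pt k A) (v : A) = v
        rw [inv_one, hone])
      map_mul' := fun g h => LinearMap.ext fun v => Subtype.ext (by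
        show lcon (g * h)⁻¹ (v : A) = lcon g⁻¹ (lcon h⁻¹ v)
        rw [hlcon, mul_inv_rev]) }
  refine ⟨V, inferInstance, ρ, fun v l => ?_, ?_⟩
  · obtain ⟨l', hl'⟩ := LinearMap.exists_extend l
    have h0 : (fun g : Pt k A => l' (lcon g (v : A))) ∈ (D k A).R := by
      refine ⟨TensorProduct.rid k A ((comul (R := k) (v : A)) |> l'.lTensor A), funext fun g => ?_⟩
      show g.ofConv _ = l' (TensorProduct.lid k A (g.ofConv.toLinearMap.rTensor A (comul (v : A))))
      induction comul (R := k) (v : A) using TensorProduct.induction_on with
      | zero => simp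
      | tmul x y => simp [mul_comm]
      | add x y hx hy => simp only [map_add, hx, hy]
    convert (D k A).inv _ h0 using 1
    funext g
    rw [← hl']
    rfl
  · rw [injective_iff_map_eq_one]
    intro g hg
    have hgen : ∀ a : A, a ∈ s → g⁻¹.ofConv a = (1 : Pt k A).ofConv a := by
      intro a ha
      have h1 : lcon g⁻¹ a = a := congrArg Subtype.val (LinearMap.congr_fun hg ⟨a, hsV ha⟩)
      have h2 := apply_lcon g⁻¹ 1 a
      rw [mul_one, h1] at h2
      exact h2.symm
    have : g⁻¹ = 1 := ofConv_injective (AlgHom.ext_of_adjoin_eq_top hs fun a ha => hgen a ha)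
    exact inv_eq_one.mp this

/-- Borel subgroups on points. -/
theorem exists_borel [IsAlgClosed k] [IsDomain A] :
    ∃ B : Subgroup (Pt k A), (D k A).IsCl B ∧ (D k A).SIrr B ∧ Group.IsSolvable B ∧
      ∀ S : Subgroup (Pt k A), Group.IsSolvable S → (D k A).SIrr S → ∃ a, ∀ s ∈ S, a⁻¹ * s * a ∈ B := by
  obtain ⟨V, _, ρ, hρ, hf⟩ := exists_faithful (k := k) (A := A)
  exact Borel.exists_borel_of_faithful (D k A) sirr_univ ρ hρ hf

end Groth.Agent.H1.Classical.HopfPts
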