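import Groth.Agent.H1.Classical.CommPart
import Groth.Agent.H1.Classical.HopfPts
import Groth.Agent.Lib.GrpSch.SmoothReduced

/-!
# Characters over a larger field come from the commutative part
-/

universe u

open TensorProduct WithConv AlgebraicGeometry CategoryTheory CoalgebraStruct

namespace Groth.Agent.H1.Classical.CharDescent

set_option linter.style.haveILetI false
set_option linter.unusedSectionVars false

variable {k : Type u} [Field k] {A : Type u} [CommRing A] [HopfAlgebra k A]
  {K : Type u} [Field K] [Algebra k K]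

/-- The point over the larger field. -/
noncomputable def ext (x : WithConv (A →ₐ[k] K)) : HopfPts.Pt K (K ⊗[k] A) :=
  toConv (Algebra.TensorProduct.lift (Algebra.ofId K K) x.ofConv fun _ _ => .all ..)

/-- The restriction of a point over the larger field. -/
noncomputable def res (X : HopfPts.Pt K (K ⊗[k] A)) : WithConv (A →ₐ[k] K) :=
  toConv ((X.ofConv.restrictScalars k).comp Algebra.TensorProduct.includeRight)

theorem res_apply (X : HopfPts.Pt K (K ⊗[k] A)) (a : A) : (res X).ofConv a = X.ofConv ((1 : K) ⊗ₜ a) := rfl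

theorem res_ext (x : WithConv (A →ₐ[k] K)) : res (ext x) = x :=
  WithConv.ofConv_injective (AlgHom.ext fun a => by simp [res, ext])

theorem ext_res (X : HopfPts.Pt K (K ⊗[k] A)) : ext (res X) = X := by
  refine WithConv.ofConv_injective (Algebra.TensorProduct.ext (AlgHom.ext fun c => ?_) (AlgHom.ext fun a => ?_))
  · simp only [ext, toConv_ofConv, AlgHom.comp_apply, Algebra.TensorProduct.includeLeft_apply,
      Algebra.TensorProduct.lift_tmul, map_one, mul_one]
    exact (X.ofConv.commutes c).symm
  · simp [res, ext]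

theorem res_mul (X Y : HopfPts.Pt K (K ⊗[k] A)) : res (X * Y) = res X * res Y := by
  refine WithConv.ofConv_injective (AlgHom.ext fun a => ?_)
  show (X * Y) ((1 : K) ⊗ₜ[k] a) = (res X * res Y) a
  rw [AlgHom.convMul_apply, AlgHom.convMul_apply, TensorProduct.comul_tmul, Bialgebra.comul_one,
    Algebra.TensorProduct.one_def]
  induction comul (R := k) a using TensorProduct.induction_on with
  | zero => simp
  | add p q hp hq => simp only [TensorProduct.tmul_add, map_add, hp, hq]
  | tmul p q =>
    rw [TensorProduct.AlgebraTensorModule.tensorTensorTensorComm_tmul, Algebra.TensorProduct.lift_tmul,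
      Algebra.TensorProduct.lift_tmul]
    rfl

theorem ext_mul (x y : WithConv (A →ₐ[k] K)) : ext (x * y) = ext x * ext y := by
  conv_rhs => rw [← ext_res (ext x * ext y), res_mul, res_ext, res_ext]

theorem res_one : res (1 : HopfPts.Pt K (K ⊗[k] A)) = 1 := by
  refine WithConv.ofConv_injective (AlgHom.ext fun a => ?_)
  show (1 : HopfPts.Pt K (K ⊗[k] A)) ((1 : K) ⊗ₜ[k] a) = (1 : WithConv (A →ₐ[k] K)) a
  simp [TensorProduct.counit_tmul, Algebra.smul_def]

theorem isReduced_W4 [Smooth (Scheme'.GA k A).hom] : _root_.IsReduced (K ⊗[k] CommPart.W4 k A) := by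
  haveI hA : Algebra.Smooth k A := RingHom.smooth_algebraMap.mp
    ((HasRingHomProperty.Spec_iff (P := @Smooth) (φ := CommRingCat.ofHom (algebraMap k A))).mp
      (inferInstanceAs (Smooth (Scheme'.GA k A).hom)))
  haveI : Algebra.Smooth A (A ⊗[k] A) := inferInstance
  haveI h2 : Algebra.Smooth k (A ⊗[k] A) := Algebra.Smooth.comp k A (A ⊗[k] A)
  haveI : Algebra.Smooth (A ⊗[k] A) (CommPart.W4 k A) := inferInstance
  haveI h4 : Algebra.Smooth k (CommPart.W4 k A) := Algebra.Smooth.comp k (A ⊗[k] A) (CommPart.W4 k A)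
  haveI : Algebra.Smooth K (K ⊗[k] CommPart.W4 k A) := inferInstance
  haveI : Smooth (Spec.map (CommRingCat.ofHom (algebraMap K (K ⊗[k] CommPart.W4 k A)))) :=
    (HasRingHomProperty.Spec_iff (P := @Smooth)).mpr ((RingHom.smooth_algebraMap (R := K) (S := K ⊗[k] CommPart.W4 k A)).mpr inferInstance)
  exact (affine_isReduced_iff (CommRingCat.of (K ⊗[k] CommPart.W4 k A))).mp
    (Lib.GrpSch.isReduced_of_smooth_field (Spec.map (CommRingCat.ofHom (algebraMap K (K ⊗[k] CommPart.W4 k A)))))

variable [IsAlgClosed K]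

/-- Points separate elements. -/
theorem eq_zero_of_points {R : Type u} [CommRing R] [Algebra K R] [Algebra.FiniteType K R] [_root_.IsReduced R] {z : R}
    (h : ∀ φ : R →ₐ[K] K, φ z = 0) : z = 0 := by
  haveI : IsJacobsonRing R := isJacobsonRing_of_finiteType (A := K)
  have hz : z ∈ Ideal.jacobson (⊥ : Ideal R) := by
    rw [Ideal.jacobson, Ideal.mem_sInf]
    rintro m ⟨-, hm⟩
    letI := Ideal.Quotient.field m
    have : Module.Finite K (R ⧸ m) := finite_of_finite_type_of_isJacobsonRing K _
    have : Algebra.IsIntegral K (R ⧸ m) := Algebra.IsIntegral.of_finite K _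
    let e := AlgEquiv.ofBijective (Algebra.ofId K (R ⧸ m))
      (IsAlgClosed.algebraMap_bijective_of_isIntegral (k := K) (K := R ⧸ m))
    have h0 : e.symm (Ideal.Quotient.mkₐ K m z) = 0 := h (e.symm.toAlgHom.comp (Ideal.Quotient.mkₐ K m))
    simpa [Ideal.Quotient.eq_zero_iff_mem] using h0
  rw [IsJacobsonRing.out' (⊥ : Ideal R) ((Ideal.isRadical_bot_iff).mpr ‹_›)] at hz
  exact (Submodule.mem_bot R).mp hz

/-- A multiplicative function kills the difference of the two exchanged products. -/
theorem vanish {S : Type u} [CommRing S] [Algebra k S] [Algebra.FiniteType K (K ⊗[k] S)]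
    [_root_.IsReduced (K ⊗[k] S)] (p : Fin 4 → WithConv (A →ₐ[k] S)) (F : K ⊗[k] A)
    (hF : ∀ X Y : HopfPts.Pt K (K ⊗[k] A), (X * Y).ofConv F = X.ofConv F * Y.ofConv F) :
    ((CommPart.mul4 p).ofConv.toLinearMap - (CommPart.mul4 (CommPart.swap p)).ofConv.toLinearMap).lTensor K F = 0 := by
  have key : ∀ (φ : S →ₐ[k] K) (P : A →ₐ[k] S) (G : K ⊗[k] A),
      (Algebra.TensorProduct.lift (Algebra.ofId K K) φ fun _ _ => .all ..) (P.toLinearMap.lTensor K G) =
        (ext (toConv (φ.comp P))).ofConv G := fun φ P G => by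
    induction G using TensorProduct.induction_on with
    | zero => simp
    | add p q hp hq => simp only [map_add]; rw [← hp, ← hq]
    | tmul c a => simp [ext]
  refine eq_zero_of_points (K := K) (R := K ⊗[k] S) fun Φ => ?_
  let φ : S →ₐ[k] K := (Φ.restrictScalars k).comp (Algebra.TensorProduct.includeRight : S →ₐ[k] K ⊗[k] S)
  have hΦ : Φ = Algebra.TensorProduct.lift (Algebra.ofId K K) φ fun _ _ => .all .. :=
    Algebra.TensorProduct.ext (AlgHom.ext fun c => by simp [φ]; exact Φ.commutes c)
      (AlgHom.ext fun w => by simp [φ])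
  rw [hΦ, LinearMap.lTensor_sub]
  refine (map_sub _ _ _).trans (sub_eq_zero.mpr ?_)
  rw [key, key, CommPart.push_mul4, CommPart.push_mul4]
  simp only [CommPart.mul4, CommPart.swap, ext_mul, Matrix.cons_val, hF]
  ring

variable [Algebra.FiniteType k A] [Smooth (Scheme'.GA k A).hom]

/-- A multiplicative function takes the value at the neutral point on points killed by the commutative part. -/
theorem eval_eq_of_char (F : K ⊗[k] A)
    (hF : ∀ X Y : HopfPts.Pt K (K ⊗[k] A), (X * Y).ofConv F = X.ofConv F * Y.ofConv F)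
    (X : HopfPts.Pt K (K ⊗[k] A))
    (hX : ∀ f ∈ CommPart.commPart k A, (res X).ofConv f = algebraMap k K (Coalgebra.counit f)) :
    X.ofConv F = (1 : HopfPts.Pt K (K ⊗[k] A)).ofConv F := by
  haveI := isReduced_W4 (k := k) (A := A) (K := K)
  let N : A →ₗ[k] CommPart.W4 k A := (CommPart.prodA k A).toLinearMap - (CommPart.prodB k A).toLinearMap
  haveI : Algebra.FiniteType k (A ⊗[k] A) := Algebra.FiniteType.trans (S := A) ‹_› inferInstance
  haveI : Algebra.FiniteType k (CommPart.W4 k A) := Algebra.FiniteType.trans (S := A ⊗[k] A) ‹_› inferInstance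
  have hN : N.lTensor K F = 0 := vanish (CommPart.proj k A) F hF
  obtain ⟨s, hs⟩ := CommPart.exists_gen_inverse N
  let Q : A →ₗ[k] A := LinearMap.id - s ∘ₗ N
  have hQ : ∀ a, Q a ∈ CommPart.commPart k A := fun a => by
    refine CommPart.mem_commPart.mpr (sub_eq_zero.mp ?_)
    show N (a - s (N a)) = 0
    rw [map_sub, ← show (N ∘ₗ s ∘ₗ N) a = N (s (N a)) from rfl, hs, sub_self]
  have hQF : Q.lTensor K F = F := by
    rw [LinearMap.lTensor_sub, LinearMap.lTensor_id, LinearMap.sub_apply, LinearMap.id_apply, LinearMap.lTensor_comp,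
      LinearMap.comp_apply, hN, map_zero, sub_zero]
  conv_lhs => rw [← hQF, ← ext_res X]
  conv_rhs => rw [← hQF, ← ext_res (1 : HopfPts.Pt K (K ⊗[k] A)), res_one]
  clear hF hN hQF
  induction F using TensorProduct.induction_on with
  | zero => simp
  | add p q hp hq => simp only [map_add, hp, hq]
  | tmul c a =>
    simp only [LinearMap.lTensor_tmul, ext, toConv_ofConv, Algebra.TensorProduct.lift_tmul]
    rw [hX _ (hQ a)]
    simp

end Groth.Agent.H1.Classical.CharDescent
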