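import Groth.Agent.H1.Classical.UnipotentRadical
import Groth.Agent.H1.Classical.Torus.Diagonal

/-!
# The radical and the unipotent radical
-/

universe u

open CategoryTheory MonoidalCategory CartesianMonoidalCategory MonObj GrpObj AlgebraicGeometry Limits

namespace Groth.Agent.H1.Classical.RadU

set_option linter.style.haveILetI false
set_option linter.unusedSectionVars false

open Groth.Agent.Lib.RedPts Groth.Agent.Lib.RedPts.Points Scheme' Unipotent MaxTorusScheme MaxTorusApply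
  Groth.Agent.Lib.GrpSch WithConv

attribute [local instance] baseAlgebra

section Points

variable {k : Type u} [Field k] {Γ : Type*} [Group Γ] (D : Alg k Γ)

open scoped Pointwise

theorem sirr_mul {S T : Set Γ} (hS : D.SIrr S) (hT : D.SIrr T) : D.SIrr (S * T) := by
  intro f f' h
  by_contra hcon
  push Not at hcon
  obtain ⟨hf, hf'⟩ := hcon
  rw [Alg.mem_vI] at hf hf'
  push Not at hf hf'
  obtain ⟨_, ⟨s, hs, t, ht, rfl⟩, h1⟩ := hf
  obtain ⟨_, ⟨s', hs', t', ht', rfl⟩, h1'⟩ := hf'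
  have hprod : ∀ τ ∈ T, D.rTrans τ f ∈ D.vI S ∨ D.rTrans τ f' ∈ D.vI S := fun τ hτ =>
    hS _ _ fun σ hσ => h _ ⟨σ, hσ, τ, hτ, rfl⟩
  rcases hT (D.lTrans s f) (D.lTrans s' f') (fun τ hτ => by
      show (f : Γ → k) (s * τ) * (f' : Γ → k) (s' * τ) = 0
      rcases hprod τ hτ with h2 | h2
      · rw [show (f : Γ → k) (s * τ) = 0 from h2 s hs, zero_mul]
      · rw [show (f' : Γ → k) (s' * τ) = 0 from h2 s' hs', mul_zero]) with h3 | h3
  · exact h1 (h3 t ht)
  · exact h1' (h3 t' ht')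

theorem sirr_sup {S T : Subgroup Γ} [T.Normal] (hS : D.SIrr S) (hT : D.SIrr T) : D.SIrr (S ⊔ T : Subgroup Γ) := by
  rw [Subgroup.mul_normal S T]
  exact sirr_mul D hS hT

open Torus in
/-- The largest normal irreducible closed subgroup inside a closed subgroup. -/
theorem exists_core (P₀ : Subgroup Γ) (hP : D.IsCl P₀) :
    ∃ C : Subgroup Γ, D.IsCl C ∧ D.SIrr C ∧ C.Normal ∧ C ≤ P₀ ∧
      ∀ S : Subgroup Γ, D.SIrr S → S.Normal → S ≤ P₀ → S ≤ C := by
  let K : Set (Subgroup Γ) := {S | D.SIrr S ∧ S.Normal ∧ S ≤ P₀}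
  have hne : K.Nonempty := by
    refine ⟨⊥, fun f f' h => ?_, inferInstance, bot_le⟩
    rcases mul_eq_zero.mp (h 1 rfl : (f : Γ → k) 1 * (f' : Γ → k) 1 = 0) with h1 | h1
    · exact Or.inl fun c hc => by rw [Subgroup.mem_bot.mp hc]; exact h1
    · exact Or.inr fun c hc => by rw [Subgroup.mem_bot.mp hc]; exact h1
  have hdir : DirectedOn (· ≤ ·) K := fun S hS T hT => by
    haveI := hS.2.1
    haveI := hT.2.1
    exact ⟨S ⊔ T, ⟨sirr_sup D hS.1 hT.1, inferInstance, sup_le hS.2.2 hT.2.2⟩, le_sup_left, le_sup_right⟩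
  have hmem : ∀ {x : Γ}, x ∈ sSup K ↔ ∃ S ∈ K, x ∈ S := Subgroup.mem_sSup_of_directedOn hne hdir
  have hirr : D.SIrr (sSup K : Subgroup Γ) := by
    intro f f' h
    by_contra hcon
    push Not at hcon
    simp only [Alg.mem_vI, not_forall] at hcon
    obtain ⟨⟨x, hx, hfx⟩, y, hy, hfy⟩ := hcon
    obtain ⟨S, hS, hxS⟩ := hmem.mp hx
    obtain ⟨T, hT, hyT⟩ := hmem.mp hy
    obtain ⟨U, hU, hSU, hTU⟩ := hdir S hS T hT
    rcases hU.1 f f' (fun z hz => h z (hmem.mpr ⟨U, hU, hz⟩)) with h1 | h1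
    · exact hfx (h1 x (hSU hxS))
    · exact hfy (h1 y (hTU hyT))
  refine ⟨Diagonal.closure D (sSup K), Diagonal.isCl_closure D _, ?_, ⟨fun x hx a => ?_⟩,
    Diagonal.closure_le D hP (SetLike.coe_subset_coe.mpr (sSup_le fun S hS => hS.2.2)),
    fun S h1 h2 h3 => (le_sSup (show S ∈ K from ⟨h1, h2, h3⟩)).trans (Diagonal.le_closure D _)⟩
  · intro f f' h
    rcases hirr f f' (D.vI_anti (Diagonal.le_closure D _) h) with h1 | h1
    · exact Or.inl fun c hc => hc f h1
    · exact Or.inr fun c hc => hc f' h1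
  · intro f hf
    rw [← D.cTrans_apply]
    exact hx _ fun s hs => by
      rw [D.cTrans_apply]
      obtain ⟨S, hS, hsS⟩ := hmem.mp hs
      exact hf _ (hmem.mpr ⟨S, hS, hS.2.1.conj_mem s hsS a⟩)

end Points

variable {k : Type u} [Field k] [IsAlgClosed k]

/-- Normality on rational points. -/
def IsNormalPts {N G : Over (Spec (CommRingCat.of k))} [GrpObj G] (i : N ⟶ G) : Prop :=
  ∀ (g : 𝟙_ (Over (Spec (CommRingCat.of k))) ⟶ G) (w : 𝟙_ (Over (Spec (CommRingCat.of k))) ⟶ N),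
    ∃ w', g * (w ≫ i) * g⁻¹ = w' ≫ i

variable {G : Over (Spec (CommRingCat.of k))} [GrpObj G] [IsAffine G.left] [Smooth G.hom] [ConnectedSpace G.left]

/-- A normal connected solvable subgroup lies in every Borel subgroup. -/
theorem exists_factor_borel {B W : Over (Spec (CommRingCat.of k))} [GrpObj B] {iB : B ⟶ G}
    (hB : Red.IsBorelOver k iB) [GrpObj W] (f : W ⟶ G) [IsMonHom f] [IsClosedImmersion f.left] [Smooth W.hom]
    [ConnectedSpace W.left] (hn : IsNormalPts f) (hW : Red.IsSolvableGrp W) :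
    ∃ φ : W ⟶ B, φ ≫ iB = f := by
  obtain ⟨B', _, iB', φ', hB', hφ'⟩ := exists_borel_solvable f hW
  obtain ⟨g, c, hc⟩ := borel_conj iB' iB hB' hB
  obtain ⟨A, _, _, _, _, e, he⟩ := exists_GA G
  haveI := he
  haveI := hB.1
  haveI := hB.2.1
  haveI : IsIso e.hom.left := ((Over.forget _).mapIso e).isIso_hom
  haveI : IsClosedImmersion (iB ≫ e.hom).left := by rw [Over.comp_left]; infer_instance
  haveI : IsAffine W.left := isAffine_of_isAffineHom f.left
  obtain ⟨φ, hφ⟩ := MaxTorusScheme.exists_factor (iB ≫ e.hom) (f ≫ e.hom) fun x => by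
    obtain ⟨x', hx'⟩ := hn g⁻¹ x
    obtain ⟨s, hs⟩ := ptHom_surjective (x ≫ f ≫ e.hom)
    refine ⟨s, ⟨x' ≫ φ' ≫ c.hom, ?_⟩, hs.symm⟩
    have h1 : (x' ≫ φ') ≫ AGF.conjBy g iB' = x ≫ f := by
      rw [conj_point, Category.assoc, hφ', ← hx', _root_.inv_inv, ← _root_.mul_assoc, ← _root_.mul_assoc,
        mul_inv_cancel, _root_.one_mul, mul_inv_cancel_right]
    show (x' ≫ φ' ≫ c.hom) ≫ iB ≫ e.hom = ptHom _ s
    rw [hs, ← Category.assoc x f, ← h1, ← hc]
    simp only [Category.assoc]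
  exact ⟨φ, by rw [← cancel_mono e.hom, Category.assoc, hφ]⟩

/-- The largest normal connected solvable subgroup inside a given connected solvable subgroup. -/
theorem exists_normal_core {P : Over (Spec (CommRingCat.of k))} [GrpObj P] (j : P ⟶ G) [IsMonHom j]
    [IsClosedImmersion j.left] [Smooth P.hom] [ConnectedSpace P.left] (hP : Red.IsSolvableGrp P) :
    ∃ (C : Over (Spec (CommRingCat.of k))) (_ : GrpObj C) (c : C ⟶ G),
      IsMonHom c ∧ IsClosedImmersion c.left ∧ Smooth C.hom ∧ ConnectedSpace C.left ∧ Red.IsSolvableGrp C ∧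
      AlgGrp.IsNormalHom c ∧ (∃ p, p ≫ j = c) ∧
      ∀ (W : Over (Spec (CommRingCat.of k))) [GrpObj W] [IsAffine W.left] [Smooth W.hom] [ConnectedSpace W.left]
        (f : W ⟶ G) [IsMonHom f] [IsClosedImmersion f.left], IsNormalPts f → Red.IsSolvableGrp W →
        (∃ f', f' ≫ j = f) → ∃ f'', f'' ≫ c = f := by
  obtain ⟨A, _, _, _, _, e, he⟩ := exists_GA G
  haveI := he
  haveI : IsMonHom e.inv := inferInstance
  haveI := locallyOfFiniteType_GA (k := k) (A := A)
  haveI : IsIso e.hom.left := ((Over.forget _).mapIso e).isIso_hom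
  haveI : IsIso e.inv.left := ((Over.forget _).mapIso e).isIso_inv
  haveI : IsClosedImmersion (j ≫ e.hom).left := by rw [Over.comp_left]; infer_instance
  obtain ⟨C₀, hcl, hirr, hnorm, hle, hmax⟩ := exists_core (HopfPts.D k A) (ptsOf (j ≫ e.hom)) (isCl_ptsOf _)
  haveI := (ptsOf_props (j ≫ e.hom) hP).2.1
  haveI : Group.IsSolvable C₀ := Group.isSolvable_of_isSolvable_injective (Subgroup.inclusion_injective hle)
  obtain ⟨C, _, c, hc1, hc2, hc3, hc4, hc5, hfac, hpt⟩ := exists_subgroup C₀ hcl hirr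
  haveI := hc1
  haveI := hc2
  haveI := hc3
  haveI := hc4
  haveI : IsClosedImmersion (c ≫ e.inv).left := by rw [Over.comp_left]; infer_instance
  haveI : IsAffine C.left := isAffine_of_isAffineHom c.left
  refine ⟨C, inferInstance, c ≫ e.inv, inferInstance, inferInstance, hc3, hc4, hc5, ?_, ?_, ?_⟩
  · haveI : IsAffine (G ⊗ C).left := inferInstanceAs (IsAffine (Limits.pullback G.hom C.hom))
    haveI : Smooth (G ⊗ C).hom := inferInstanceAs (Smooth (Limits.pullback.fst G.hom C.hom ≫ G.hom))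
    let Φ : G ⊗ C ⟶ G := fst G C * (snd G C ≫ c ≫ e.inv) * (fst G C)⁻¹
    obtain ⟨Φ', hΦ'⟩ := hfac (G ⊗ C) (Φ ≫ e.hom) (algHomOf_eq_zero (T := (C₀ : Set (HopfPts.Pt k A))) _ fun x => by
      obtain ⟨g, hg⟩ := ptHom_surjective (x ≫ fst G C ≫ e.hom)
      obtain ⟨s, hsU, hxs⟩ := hpt (x ≫ snd G C)
      refine ⟨g * s * g⁻¹, hnorm.conj_mem s hsU g, ?_⟩
      simp only [Φ, MonObj.mul_comp, GrpObj.inv_comp, MonObj.comp_mul, GrpObj.comp_inv, Category.assoc,
        Iso.inv_hom_id, Category.comp_id]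
      rw [map_mul, map_mul, map_inv, hg, ← hxs, Category.assoc])
    intro X g n
    refine ⟨lift g n ≫ Φ', ?_⟩
    rw [Category.assoc, ← Category.assoc Φ', hΦ', Category.assoc, e.hom_inv_id, Category.comp_id]
    simp [Φ, MonObj.comp_mul, GrpObj.comp_inv]
  · obtain ⟨p, hp⟩ := MaxTorusScheme.exists_factor (j ≫ e.hom) c fun x => by
      obtain ⟨s, hs, hxs⟩ := hpt x
      exact ⟨s, hle hs, hxs⟩
    exact ⟨p, by rw [← cancel_mono e.hom, Category.assoc, hp, Category.assoc, e.inv_hom_id, Category.comp_id]⟩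
  · intro W _ _ _ _ f _ _ hn hW ⟨f', hf'⟩
    haveI : IsClosedImmersion (f ≫ e.hom).left := by rw [Over.comp_left]; infer_instance
    obtain ⟨hirr', -, hpts⟩ := ptsOf_props (f ≫ e.hom) hW
    have hS : ptsOf (f ≫ e.hom) ≤ C₀ := hmax _ hirr' ⟨fun s hs a => by
      obtain ⟨x, hx⟩ := hs
      obtain ⟨y, hy⟩ := hn (ptHom _ a ≫ e.inv) x
      refine ⟨y, ?_⟩
      show y ≫ f ≫ e.hom = _
      rw [← Category.assoc, ← hy, MonObj.mul_comp, MonObj.mul_comp, GrpObj.inv_comp, map_mul, map_mul, map_inv,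
        Category.assoc _ e.inv, e.inv_hom_id, Category.comp_id, Category.assoc,
        show x ≫ f ≫ e.hom = ptHom (𝟙_ _) s from hx]⟩ fun s ⟨x, hx⟩ => ⟨x ≫ f', by
      show (x ≫ f') ≫ j ≫ e.hom = _
      rw [Category.assoc, ← Category.assoc f', hf']
      exact hx⟩
    obtain ⟨q, hq⟩ := hfac W (f ≫ e.hom) (algHomOf_eq_zero (T := (C₀ : Set (HopfPts.Pt k A))) _ fun x => by
      obtain ⟨t, ht, hx⟩ := hpts x
      exact ⟨t, hS ht, hx⟩)
    exact ⟨q, by rw [← Category.assoc, hq, Category.assoc, e.hom_inv_id, Category.comp_id]⟩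

variable (G) in
/-- The radical. -/
theorem exists_radical :
    ∃ (R : Over (Spec (CommRingCat.of k))) (_ : GrpObj R) (r : R ⟶ G),
      IsMonHom r ∧ IsClosedImmersion r.left ∧ Smooth R.hom ∧ ConnectedSpace R.left ∧ Red.IsSolvableGrp R ∧
      AlgGrp.IsNormalHom r ∧
      ∀ (W : Over (Spec (CommRingCat.of k))) [GrpObj W] [IsAffine W.left] [Smooth W.hom] [ConnectedSpace W.left]
        (f : W ⟶ G) [IsMonHom f] [IsClosedImmersion f.left], IsNormalPts f → Red.IsSolvableGrp W →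
        ∃ f', f' ≫ r = f := by
  obtain ⟨B, _, iB, hB⟩ := BorelExists.exists_borel G
  haveI := hB.1
  haveI := hB.2.1
  haveI := hB.2.2.1
  haveI := hB.2.2.2.1
  obtain ⟨C, _, c, h1, h2, h3, h4, h5, h6, -, hmax⟩ := exists_normal_core iB hB.2.2.2.2.1
  exact ⟨C, inferInstance, c, h1, h2, h3, h4, h5, h6, fun W _ _ _ _ f _ _ hn hW =>
    hmax W f hn hW (exists_factor_borel hB f hn hW)⟩

variable (G) in
/-- The unipotent radical. -/
theorem exists_radU :
    ∃ (U : Over (Spec (CommRingCat.of k))) (_ : GrpObj U) (u : U ⟶ G),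
      IsMonHom u ∧ IsClosedImmersion u.left ∧ Smooth U.hom ∧ ConnectedSpace U.left ∧ Red.HasNoSubtorus k U ∧
      AlgGrp.IsNormalHom u ∧
      ∀ (W : Over (Spec (CommRingCat.of k))) [GrpObj W] [IsAffine W.left] [Smooth W.hom] [ConnectedSpace W.left]
        (f : W ⟶ G) [IsMonHom f] [IsClosedImmersion f.left], IsNormalPts f → NoTorsion W →
        ∃ f', f' ≫ u = f := by
  obtain ⟨B, _, iB, hB⟩ := BorelExists.exists_borel G
  haveI := hB.1
  haveI := hB.2.1
  haveI := hB.2.2.1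
  haveI := hB.2.2.2.1
  haveI : IsAffine B.left := isAffine_of_isAffineHom iB.left
  obtain ⟨V, _, v, hv1, hv2, hv3, hv4, hv5, -, hfac, -⟩ := exists_unipPart B hB.2.2.2.2.1
  haveI := hv1
  haveI := hv2
  haveI := hv3
  haveI := hv4
  haveI : IsAffine V.left := isAffine_of_isAffineHom v.left
  haveI : IsClosedImmersion (v ≫ iB).left := by rw [Over.comp_left]; infer_instance
  have hVno : NoTorsion V := noTorsion_of_hasNoSubtorus hv5
  obtain ⟨C, _, c, h1, h2, h3, h4, -, h6, ⟨p, hp⟩, hmax⟩ :=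
    exists_normal_core (v ≫ iB) (isSolvableGrp_of_noTorsion hVno)
  haveI := h1
  haveI := h2
  haveI := h3
  haveI := h4
  haveI : IsAffine C.left := isAffine_of_isAffineHom c.left
  haveI : Mono (v ≫ iB) := Over.mono_of_mono_left _
  haveI : IsMonHom (p ≫ v ≫ iB) := hp.symm ▸ inferInstance
  haveI : IsMonHom p := CentralizerBorel.isMonHom_of_mono_comp p (v ≫ iB)
  haveI : Mono c := Over.mono_of_mono_left c
  haveI : Mono (p ≫ v ≫ iB) := hp.symm ▸ inferInstance
  haveI : Mono p := mono_of_mono p (v ≫ iB)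
  refine ⟨C, inferInstance, c, h1, h2, h3, h4, hasNoSubtorus_of_noTorsion (noTorsion_of_mono p hVno), h6,
    fun W _ _ _ _ f _ _ hn hW => ?_⟩
  have hWs := isSolvableGrp_of_noTorsion hW
  obtain ⟨φ, hφ⟩ := exists_factor_borel hB f hn hWs
  haveI : Mono iB := Over.mono_of_mono_left iB
  haveI : IsMonHom (φ ≫ iB) := hφ.symm ▸ inferInstance
  haveI : IsMonHom φ := CentralizerBorel.isMonHom_of_mono_comp φ iB
  obtain ⟨φ', hφ'⟩ := hfac W φ hW
  exact hmax W f hn hWs ⟨φ', by rw [← Category.assoc, hφ', hφ]⟩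

end Groth.Agent.H1.Classical.RadU
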