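import Groth.Agent.H1.Classical.Torus.WeylFinite
import Groth.Agent.H1.Classical.Torus.Weights
import Groth.Agent.H1.Classical.RadU

/-!
# Characters trivial on the radical are trivial
-/

universe u v w

namespace Groth.Agent.H1.Classical.CharRad

set_option linter.style.haveILetI false
set_option linter.unusedSectionVars false

open Module Kolchin Open Complete Torus Torus.Centraliser Torus.MaxTorus MvPolynomial

variable {k : Type u} [Field k] [IsAlgClosed k] {Γ : Type v} [Group Γ] {D : Alg k Γ}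

/-- The slice of a closed cone by linear coordinates vanishing together only at zero is finite. -/
theorem finite_slice {σ : Type} [Fintype σ] (Z : Set (σ → k)) (hcl : Elim.PCl Z)
    (hsmul : ∀ c : k, ∀ z ∈ Z, c • z ∈ Z) (I : Finset σ) (hoff : ∀ z ∈ Z, (∀ i ∈ I, z i = 0) → z = 0)
    (a : σ → k) : {z ∈ Z | ∀ i ∈ I, z i = a i}.Finite := by
  classical
  let J := vanishingIdeal k Z
  let K := J ⊔ Ideal.span ((I : Set σ).image fun i => (X i : MvPolynomial σ k))
  have hzero : ∀ x ∈ zeroLocus k K, x = 0 := fun x hx => by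
    have hvanish : ∀ p ∈ K, eval x p = 0 := fun p hp => mem_zeroLocus_iff.mp hx p hp
    refine hoff x (hcl x fun p hp => hvanish p (Ideal.mem_sup_left (mem_vanishingIdeal_iff.mpr hp))) fun i hi => ?_
    simpa using hvanish _ (Ideal.mem_sup_right (Ideal.subset_span ⟨i, hi, rfl⟩))
  have hrad : ∀ j, ∃ m, (X j : MvPolynomial σ k) ^ m ∈ K := fun j => by
    have : X j ∈ K.radical := by
      rw [← vanishingIdeal_zeroLocus_eq_radical (K := k) K, mem_vanishingIdeal_iff]
      intro x hx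
      simp [hzero x hx]
    exact this
  choose m hm using hrad
  let M := ∑ j, m j
  refine Cone.finite_of_pow_eq _ (M + 1) fun j => ?_
  have hN : (X j : MvPolynomial σ k) ^ (M + 1) ∈ K :=
    Ideal.pow_mem_of_pow_mem K (hm j) (by
      have := Finset.single_le_sum (f := m) (fun _ _ => Nat.zero_le _) (Finset.mem_univ j)
      omega)
  obtain ⟨f, hf, r, hr, hsum⟩ := Submodule.mem_sup.mp hN
  obtain ⟨c, -, hc⟩ := Submodule.mem_span_set'.mp hr |> fun ⟨n, c, g, h⟩ =>
    (⟨fun i => ∑ l : Fin n, if (g l : MvPolynomial σ k) = X i then c l else 0, trivial, by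
      rw [← h]
      refine Eq.trans ?_ (Finset.sum_congr rfl fun l _ => rfl)
      simp only [Finset.sum_mul, ite_mul, zero_mul]
      rw [Finset.sum_comm]
      refine Finset.sum_congr rfl fun l _ => ?_
      obtain ⟨i, hi, hgi⟩ := (g l).2
      rw [Finset.sum_eq_single i]
      · rw [if_pos hgi.symm, smul_eq_mul]
        exact congrArg (c l * ·) hgi
      · exact fun i' _ hne => if_neg fun h => hne (X_injective (R := k) (h.symm.trans hgi.symm))
      · exact fun h => absurd hi h⟩ :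
      ∃ c : σ → MvPolynomial σ k, True ∧ ∑ i ∈ I, c i * X i = r)
  refine ⟨∑ i ∈ I, homogeneousComponent M (c i) * C (a i), ?_, ?_⟩
  · refine Nat.lt_succ_of_le ((totalDegree_finsetSum_le fun i _ => ?_))
    refine (totalDegree_mul _ _).trans ?_
    rw [totalDegree_C, add_zero]
    exact (homogeneousComponent_isHomogeneous _ _).totalDegree_le
  · rintro z ⟨hz, hza⟩
    have hfN := Cone.homogeneousComponent_vanish Z hsmul (p := f) (fun y hy => mem_vanishingIdeal_iff.mp hf y hy)
      (M + 1) z hz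
    have hcomp : ∀ i, homogeneousComponent (M + 1) (c i * X i) = homogeneousComponent M (c i) * X i := fun i => by
      have hterm : ∀ d, homogeneousComponent (M + 1) (homogeneousComponent d (c i) * X i) =
          if d = M then homogeneousComponent d (c i) * X i else 0 := by
        intro d
        rw [homogeneousComponent_of_mem ((mem_homogeneousSubmodule _ _).mpr
          ((homogeneousComponent_isHomogeneous d (c i)).mul (isHomogeneous_X k i)))]
        by_cases hd : d = M
        · rw [if_pos hd, if_pos (by omega)]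
        · rw [if_neg hd, if_neg (by omega)]
      conv_lhs => rw [← sum_homogeneousComponent (c i), Finset.sum_mul, map_sum]
      simp only [hterm, Finset.sum_ite_eq', Finset.mem_range]
      split_ifs with h
      · rfl
      · rw [homogeneousComponent_eq_zero _ _ (by omega), zero_mul]
    have htot := congrArg (homogeneousComponent (M + 1)) hsum
    rw [map_add, ← hc, map_sum, homogeneousComponent_of_mem (isHomogeneous_X_pow j (M + 1)), if_pos rfl] at htot
    have hev := congrArg (eval z) htot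
    rw [map_add, hfN, zero_add, map_sum, map_pow, eval_X] at hev
    rw [← hev, map_sum]
    refine Finset.sum_congr rfl fun i hi => ?_
    rw [hcomp, map_mul, map_mul, eval_X, eval_C, hza i hi]

/-- Determinants of compressions span a finite dimensional space of functions. -/
theorem det_span_fg {W U : Type w} [AddCommGroup W] [Module k W] [FiniteDimensional k W] [AddCommGroup U] [Module k U]
    [FiniteDimensional k U] (σ : Γ → End k W) (ι : U →ₗ[k] W) :
    ∃ P : Submodule k (Γ → k), P.FG ∧ ∀ L : W →ₗ[k] U, (fun g => LinearMap.det (L.comp ((σ g).comp ι))) ∈ P := by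
  classical
  let b := Module.finBasis k U
  let c := Module.finBasis k W
  let M : Submodule k (Γ → k) :=
    Submodule.span k (Set.range fun p : Fin (finrank k W) × Fin (finrank k U) => fun g => c.coord p.1 (σ g (ι (b p.2))))
  refine ⟨M ^ finrank k U, Submodule.FG.pow (Submodule.fg_span (Set.finite_range _)) _, fun L => ?_⟩
  let A : Matrix (Fin (finrank k U)) (Fin (finrank k U)) (Γ → k) :=
    Matrix.of fun i j g => b.coord i (L (σ g (ι (b j))))
  have hA : ∀ i j, A i j ∈ M := fun i j => by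
    have : A i j = ∑ l, b.coord i (L (c l)) • fun g => c.coord l (σ g (ι (b j))) := funext fun g => by
      show b.coord i (L (σ g (ι (b j)))) = _
      conv_lhs => rw [← c.sum_repr (σ g (ι (b j))), map_sum, map_sum]
      rw [Finset.sum_apply]
      refine Finset.sum_congr rfl fun l _ => ?_
      rw [map_smul, map_smul, smul_eq_mul, Pi.smul_apply, smul_eq_mul, mul_comm]
      rfl
    rw [this]
    exact Submodule.sum_mem _ fun l _ => M.smul_mem _ (Submodule.subset_span ⟨(l, j), rfl⟩)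
  have hdet : (fun g => LinearMap.det (L.comp ((σ g).comp ι))) = A.det := funext fun g => by
    rw [← LinearMap.det_toMatrix b, show A.det g = (Pi.evalRingHom (fun _ : Γ => k) g) A.det from rfl, RingHom.map_det]
    congr 1
    ext i j
    exact LinearMap.toMatrix_apply b b _ i j
  rw [hdet, Matrix.det_apply]
  refine Submodule.sum_mem _ fun π _ => ?_
  rw [Units.smul_def, ← Int.cast_smul_eq_zsmul k]
  refine Submodule.smul_mem _ _ ?_
  have key : ∀ s : Finset (Fin (finrank k U)), ∏ i ∈ s, A (π i) i ∈ M ^ s.card := by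
    intro s
    induction s using Finset.induction_on with
    | empty => simp
    | insert a s ha ih =>
      rw [Finset.prod_insert ha, Finset.card_insert_of_notMem ha, pow_succ']
      exact Submodule.mul_mem_mul (hA _ _) ih
  simpa using key Finset.univ

variable {W : Type w} [AddCommGroup W] [Module k W] [FiniteDimensional k W] {σ : Representation k Γ W}

/-- The sum over the Weyl group of the conjugates of a point of a torus. -/
theorem exists_norm (hmul : HasMul D) (hσ : GenRep.Gen D σ) {T : Subgroup Γ} (hT : IsTor D T) :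
    ∃ (N : ℕ) (π : Γ → Γ), N ≠ 0 ∧ π 1 = 1 ∧ (∀ t ∈ T, π t ∈ T) ∧
      (∀ n, (∀ t ∈ T, n * t * n⁻¹ ∈ T) → ∀ t ∈ T, n * π t = π t * n) ∧
      (∀ χ : Γ →* kˣ, ∀ t ∈ T, χ (π t) = χ t ^ N) ∧
      (∀ χ : T →* kˣ, (∀ n (hn : ∀ t ∈ T, n * t * n⁻¹ ∈ T) (t : T), χ ⟨n * t * n⁻¹, hn t t.2⟩ = χ t) →
        ∀ (t : T) (h : π t ∈ T), χ ⟨π t, h⟩ = χ t ^ N) ∧
      ∀ f ∈ D.R, ∃ F ∈ D.R, ∀ t ∈ T, f (π t) = F t := by
  classical
  letI : CommGroup T := { (inferInstance : Group T) with mul_comm := fun a b => Subtype.ext (hT.comm a a.2 b b.2) }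
  let hfin := WeylFinite.finite_actions hσ hT
  let A := hfin.toFinset
  have hAmem : ∀ {φ}, φ ∈ A ↔ ∃ n : Γ, (∀ t ∈ T, n * t * n⁻¹ ∈ T) ∧ φ = fun t : T => n * t * n⁻¹ :=
    fun {φ} => hfin.mem_toFinset
  let lift : (T → Γ) → T → T := fun φ t => if h : φ t ∈ T then ⟨φ t, h⟩ else 1
  have hlift : ∀ φ ∈ A, ∀ t, (lift φ t : Γ) = φ t := fun φ hφ t => by
    obtain ⟨n, hn, rfl⟩ := hAmem.mp hφ
    simp only [lift, dif_pos (hn t t.2)]
  let p : T → T := fun t => ∏ φ ∈ A, lift φ t
  have hval : ∀ (t : T) {α : Type _} [CommMonoid α] (χ : Γ →* α), χ (p t) = ∏ φ ∈ A, χ (φ t) := fun t α _ χ => by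
    show (χ.comp T.subtype) (∏ φ ∈ A, lift φ t) = _
    rw [map_prod]
    exact Finset.prod_congr rfl fun φ hφ => congrArg χ (hlift φ hφ t)
  have hp1 : p 1 = 1 := Finset.prod_eq_one fun φ hφ => Subtype.ext (by
    obtain ⟨n, hn, rfl⟩ := hAmem.mp hφ
    rw [hlift _ (hAmem.mpr ⟨n, hn, rfl⟩)]
    simp)
  refine ⟨A.card, fun g => if h : g ∈ T then (p ⟨g, h⟩ : Γ) else 1, ?_, ?_, ?_, ?_, ?_, ?_, ?_⟩
  · refine Finset.card_ne_zero.mpr ⟨fun t : T => (1 : Γ) * t * 1⁻¹, hAmem.mpr ⟨1, fun t ht => by simpa using ht, rfl⟩⟩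
  · beta_reduce
    rw [dif_pos T.one_mem]
    exact congrArg Subtype.val hp1
  · intro t ht
    beta_reduce
    rw [dif_pos ht]
    exact (p ⟨t, ht⟩).2
  · intro n hn t ht
    beta_reduce
    rw [dif_pos ht]
    let c : T →* T := MonoidHom.mk' (fun x => ⟨n * x * n⁻¹, hn x x.2⟩) fun a b => Subtype.ext (by
      show n * (a * b : Γ) * n⁻¹ = n * a * n⁻¹ * (n * b * n⁻¹)
      group)
    have hconj : c (p ⟨t, ht⟩) = p ⟨t, ht⟩ := by
      rw [map_prod]
      refine Finset.prod_bij (fun φ _ => fun x : T => n * φ x * n⁻¹) (fun φ hφ => ?_) ?_ ?_ ?_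
      · obtain ⟨m, hm, rfl⟩ := hAmem.mp hφ
        refine hAmem.mpr ⟨n * m, fun x hx => ?_, funext fun x => by group⟩
        rw [show n * m * x * (n * m)⁻¹ = n * (m * x * m⁻¹) * n⁻¹ by group]
        exact hn _ (hm x hx)
      · intro φ _ φ' _ h
        exact funext fun x => mul_left_cancel (mul_right_cancel (congrFun h x))
      · intro ψ hψ
        obtain ⟨φ, hφ, h⟩ := Finset.surj_on_of_inj_on_of_card_le (s := A) (t := A)
          (fun φ _ => fun x : T => n * φ x * n⁻¹) (fun φ hφ => by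
            obtain ⟨m, hm, rfl⟩ := hAmem.mp hφ
            refine hAmem.mpr ⟨n * m, fun x hx => ?_, funext fun x => by group⟩
            rw [show n * m * x * (n * m)⁻¹ = n * (m * x * m⁻¹) * n⁻¹ by group]
            exact hn _ (hm x hx))
          (fun φ φ' _ _ h => funext fun x => mul_left_cancel (mul_right_cancel (congrFun h x))) le_rfl ψ hψ
        exact ⟨φ, hφ, h.symm⟩
      · intro φ hφ
        refine Subtype.ext ?_
        show n * (lift φ ⟨t, ht⟩ : Γ) * n⁻¹ = (lift (fun x : T => n * φ x * n⁻¹) ⟨t, ht⟩ : Γ)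
        obtain ⟨m, hm, rfl⟩ := hAmem.mp hφ
        have hmem : (fun x : T => n * (m * x * m⁻¹) * n⁻¹) ∈ A := hAmem.mpr ⟨n * m, fun x hx => by
          rw [show n * m * x * (n * m)⁻¹ = n * (m * x * m⁻¹) * n⁻¹ by group]
          exact hn _ (hm x hx), funext fun x => by group⟩
        rw [hlift _ hφ]
        exact (hlift _ hmem ⟨t, ht⟩).symm
    have h := congrArg Subtype.val hconj
    change n * (p ⟨t, ht⟩ : Γ) * n⁻¹ = (p ⟨t, ht⟩ : Γ) at h
    calc n * (p ⟨t, ht⟩ : Γ) = n * (p ⟨t, ht⟩ : Γ) * n⁻¹ * n := by group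
      _ = _ := by rw [h]
  · intro χ t ht
    beta_reduce
    rw [dif_pos ht, hval _ χ]
    refine Finset.prod_eq_pow_card fun φ hφ => ?_
    obtain ⟨n, -, rfl⟩ := hAmem.mp hφ
    rw [map_mul, map_mul, map_inv, mul_comm (χ n), mul_inv_cancel_right]
  · intro χ hχ t h
    have heq : (⟨_, h⟩ : T) = p t := Subtype.ext (dif_pos t.2)
    rw [heq, map_prod]
    refine Finset.prod_eq_pow_card fun φ hφ => ?_
    obtain ⟨n, hn, rfl⟩ := hAmem.mp hφ
    rw [show lift (fun t : T => n * t * n⁻¹) t = ⟨n * t * n⁻¹, hn t t.2⟩ from Subtype.ext (hlift _ hφ t)]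
    exact hχ n hn t
  · have key : ∀ s : Finset (T → Γ), s ⊆ A → ∀ f ∈ D.R, ∃ F ∈ D.R, ∀ t : T, f (∏ φ ∈ s, lift φ t : T) = F t := by
      intro s
      induction s using Finset.induction_on with
      | empty => exact fun _ f _ => ⟨algebraMap k (Γ → k) (f 1), D.R.algebraMap_mem _, fun t => by simp⟩
      | insert φ s hφs ih =>
        intro hsub f hf
        obtain ⟨n, hn, hφ⟩ := hAmem.mp (hsub (Finset.mem_insert_self _ _))
        obtain ⟨l, a, b, hab⟩ := hmul ⟨f, hf⟩
        choose G hG hG' using fun i => ih (fun x hx => hsub (Finset.mem_insert_of_mem hx)) _ (b i).2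
        refine ⟨fun g => ∑ i, (D.cTrans n (a i) : Γ → k) g * G i g, ?_, fun t => ?_⟩
        · have : (fun g => ∑ i, (D.cTrans n (a i) : Γ → k) g * G i g) = ∑ i, (D.cTrans n (a i) : Γ → k) * G i := by
            funext g; simp
          rw [this]
          exact D.R.sum_mem fun i _ => D.R.mul_mem (D.cTrans n (a i)).2 (hG i)
        · rw [Finset.prod_insert hφs, Subgroup.coe_mul, hlift φ (hsub (Finset.mem_insert_self _ _))]
          refine (hab _ _).trans ?_
          refine Finset.sum_congr rfl fun i _ => ?_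
          rw [hG' i t, D.cTrans_apply, hφ]
    intro f hf
    obtain ⟨F, hF, hF'⟩ := key A subset_rfl f hf
    exact ⟨F, hF, fun t ht => by beta_reduce; rw [dif_pos ht]; exact hF' ⟨t, ht⟩⟩

theorem exists_stab_space (hmul : HasMul D) (B : Subgroup Γ) (hB : D.IsCl B) :
    ∃ (W : Type (max u v)) (_ : AddCommGroup W) (_ : Module k W) (_ : FiniteDimensional k W) (τ : Representation k Γ W)
      (_ : EndFn D.R (fun g => τ g)) (U : Submodule k W), ∀ g, g ∈ B ↔ U.map (τ g) = U := by
  obtain ⟨W', hfd, τ, hτ, U, hU⟩ := Absorb.exists_stab_subspace D hmul B hB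
  exact ⟨W', inferInstance, inferInstance, hfd, τ, hτ, U, hU⟩

/-- An irreducible subset of a torus commuting with its normaliser lies in all Borel subgroups. -/
theorem mem_borel_of_comm_normalizer (hmul : HasMul D) (hσ : GenRep.Gen D σ) {B T : Subgroup Γ} (hB : IsBor D B)
    (hT : IsMax D T) (hTB : T ≤ B) {S : Set Γ} (hS : D.SIrr S) (h1 : (1 : Γ) ∈ S) (hST : ∀ s ∈ S, s ∈ T)
    (hc : ∀ s ∈ S, ∀ n, (∀ t ∈ T, n * t * n⁻¹ ∈ T) → n * s = s * n) :
    ∀ s ∈ S, ∀ g, g⁻¹ * s * g ∈ B := by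
  classical
  obtain ⟨W', _, _, _, τ, hτ, U, hU⟩ := exists_stab_space hmul B hB.cl
  have hUst : ∀ b ∈ B, ∀ x ∈ U, τ b x ∈ U := fun b hb x hx => ((hU b).mp hb).le ⟨x, hx, rfl⟩
  obtain ⟨L₀, hL₀⟩ := U.subtype.exists_leftInverse_of_injective U.ker_subtype
  let δ : (W' →ₗ[k] U) → Γ → k := fun L g => LinearMap.det (L.comp ((τ g).comp U.subtype))
  have hδ : ∀ L, δ L ∈ D.R := fun L => Central.det_regular fun x l => hτ (x : W') (l.comp L)
  let ν : Γ → k := δ L₀
  have hrmul : ∀ L g b, b ∈ B → δ L (g * b) = δ L g * ν b := fun L g b hb => by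
    show LinearMap.det _ = LinearMap.det _ * LinearMap.det _
    rw [← LinearMap.det_comp]
    congr 1
    ext x : 1
    show L (τ (g * b) x) = L (τ g (L₀ (τ b x) : W'))
    have h0 : L₀ (τ b x) = ⟨τ b x, hUst b hb x x.2⟩ := LinearMap.congr_fun hL₀ ⟨τ b x, hUst b hb x x.2⟩
    rw [h0, map_mul, End.mul_apply]
  obtain ⟨P, hP, hPmem⟩ := det_span_fg (fun g => τ g) U.subtype
  let Λ : Submodule k (Γ → k) := Submodule.span k (Set.range δ)
  have hΛP : Λ ≤ P := Submodule.span_le.mpr (by rintro _ ⟨L, rfl⟩; exact hPmem L)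
  haveI : Module.Finite k P := ⟨(Submodule.fg_top P).mpr hP⟩
  haveI : FiniteDimensional k Λ := Submodule.finiteDimensional_of_le hΛP
  have hΛR : ∀ f ∈ Λ, f ∈ D.R :=
    Submodule.span_le (p := Subalgebra.toSubmodule D.R).mpr (by rintro _ ⟨L, rfl⟩; exact hδ L)
  have hΛmul : ∀ f ∈ Λ, ∀ g, ∀ b ∈ B, f (g * b) = f g * ν b := by
    intro f hf g b hb
    induction hf using Submodule.span_induction with
    | mem x hx => obtain ⟨L, rfl⟩ := hx; exact hrmul L g b hb
    | zero => simp
    | add x y _ _ hx hy => simp [hx, hy, add_mul]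
    | smul c x _ hx => simp [hx, mul_assoc]
  let ltr : Γ → (Γ → k) →ₗ[k] (Γ → k) := fun a =>
    { toFun := fun f x => f (a⁻¹ * x), map_add' := fun _ _ => rfl, map_smul' := fun _ _ => rfl }
  have hst : ∀ a, ∀ f ∈ Λ, ltr a f ∈ Λ := fun a => Submodule.span_le (p := Λ.comap (ltr a)).mpr (by
    rintro _ ⟨L, rfl⟩
    refine Submodule.subset_span ⟨L.comp (τ a⁻¹), funext fun x => ?_⟩
    show LinearMap.det _ = LinearMap.det _
    rw [map_mul, End.mul_eq_comp, LinearMap.comp_assoc, LinearMap.comp_assoc])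
  let ρ : Representation k Γ Λ :=
    { toFun := fun a => (ltr a).restrict (hst a)
      map_one' := LinearMap.ext fun f => Subtype.ext (funext fun x => by
        show (f : Γ → k) (1⁻¹ * x) = (f : Γ → k) x
        rw [inv_one, one_mul])
      map_mul' := fun a b => LinearMap.ext fun f => Subtype.ext (funext fun x => by
        show (f : Γ → k) ((a * b)⁻¹ * x) = (f : Γ → k) (b⁻¹ * (a⁻¹ * x))
        rw [_root_.mul_inv_rev, mul_assoc]) }
  have hρ : EndFn D.R (fun g => ρ g) := fun f l => by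
    have hev : ∀ x, ∀ Φ : Γ → k, Φ ∈ D.R → (fun a => Φ (a⁻¹ * x)) ∈ D.R := fun x Φ hΦ => D.inv _ (D.rmul x Φ hΦ)
    -- evaluations span the dual
    have hspan : l ∈ Submodule.span k (Set.range fun x : Γ =>
        ((LinearMap.proj x : (Γ → k) →ₗ[k] k).comp Λ.subtype : Dual k Λ)) := by
      by_contra hnot
      obtain ⟨Φ, hΦ, hΦ0⟩ := Submodule.exists_dual_map_eq_bot_of_notMem hnot inferInstance
      obtain ⟨y, rfl⟩ := (Module.evalEquiv k Λ).surjective Φ
      have hy : y = 0 := Subtype.ext (funext fun x => (Submodule.mem_bot k).mp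
        (hΦ0 ▸ ⟨_, Submodule.subset_span ⟨x, rfl⟩, rfl⟩))
      exact hΦ (by rw [hy, map_zero]; rfl)
    induction hspan using Submodule.span_induction with
    | mem x hx => obtain ⟨x, rfl⟩ := hx; exact hev x _ (hΛR f f.2)
    | zero => exact D.R.zero_mem
    | add x y _ _ hx hy => exact D.R.add_mem hx hy
    | smul c x _ hx => exact D.R.smul_mem hx c
  obtain ⟨e, he⟩ := exists_diag hT.tor hρ
  let c : Fin (finrank k Λ) → Γ → k := fun i g => e.coord i (ρ g (e i))
  have hact : ∀ t ∈ T, ∀ i (x : Γ), (e i : Γ → k) (t⁻¹ * x) = c i t * (e i : Γ → k) x := fun t ht i x => by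
    obtain ⟨d, hd⟩ := he t ht i
    have hd' : c i t = d := by
      show e.coord i (ρ t (e i)) = d
      rw [hd, map_smul, Basis.coord_apply, Basis.repr_self, Finsupp.single_eq_same, smul_eq_mul, mul_one]
    rw [hd']
    exact congrFun (congrArg Subtype.val hd) x
  have hnz : ∀ g, ∃ i, (e i : Γ → k) g ≠ 0 := by
    intro g
    by_contra h
    push Not at h
    have hall : ∀ f ∈ Λ, f g = 0 := fun f hf => by
      have : (LinearMap.proj g : (Γ → k) →ₗ[k] k).comp Λ.subtype = 0 := e.ext fun i => h i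
      exact LinearMap.congr_fun this ⟨f, hf⟩
    have h1 := hall _ (Submodule.subset_span ⟨L₀.comp (τ g⁻¹), rfl⟩)
    change LinearMap.det _ = 0 at h1
    rw [LinearMap.comp_assoc, ← LinearMap.comp_assoc _ (τ g), ← End.mul_eq_comp, ← map_mul, inv_mul_cancel, map_one,
      End.one_eq_id, LinearMap.id_comp, hL₀, LinearMap.det_id] at h1
    exact one_ne_zero h1
  have hsep : ∀ g g' (d : k), d ≠ 0 → (∀ i, (e i : Γ → k) g' = d * (e i : Γ → k) g) → g⁻¹ * g' ∈ B := by
    intro g g' d hd hprop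
    have hall : ∀ f ∈ Λ, f g' = d * f g := fun f hf => by
      have : (LinearMap.proj g' : (Γ → k) →ₗ[k] k).comp Λ.subtype = d • (LinearMap.proj g : (Γ → k) →ₗ[k] k).comp Λ.subtype :=
        e.ext fun i => hprop i
      exact LinearMap.congr_fun this ⟨f, hf⟩
    let V : Submodule k W' := U.map (τ g)
    have hle : U.map (τ g') ≤ V := by
      rintro _ ⟨x, hx, rfl⟩
      by_contra hnot
      obtain ⟨Y, hY⟩ := Submodule.exists_isCompl (V ⊔ Submodule.span k {τ g' x})
      have hx0 : (⟨x, hx⟩ : U) ≠ 0 := fun h => hnot (by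
        rw [show x = 0 from congrArg Subtype.val h, map_zero]; exact zero_mem _)
      have hcompl : IsCompl V (Submodule.span k {τ g' x} ⊔ Y) := by
        refine ⟨?_, ?_⟩
        · rw [Submodule.disjoint_def]
          intro z hzV hz
          obtain ⟨q₀, hq₀, q, hq, rfl⟩ := Submodule.mem_sup.mp hz
          obtain ⟨r, rfl⟩ := Submodule.mem_span_singleton.mp hq₀
          have hq0 : q = 0 := Submodule.disjoint_def.mp hY.disjoint q
            (by
              have : q = (r • τ g' x + q) - r • τ g' x := (add_sub_cancel_left _ _).symm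
              rw [this]
              exact Submodule.sub_mem _ (Submodule.mem_sup_left hzV)
                (Submodule.mem_sup_right (Submodule.smul_mem _ _ (Submodule.mem_span_singleton_self _)))) hq
          subst hq0
          rw [add_zero] at hzV ⊢
          by_cases hr : r = 0
          · rw [hr, zero_smul]
          · exact absurd (by simpa [smul_smul, inv_mul_cancel₀ hr] using V.smul_mem r⁻¹ hzV) hnot
        · rw [codisjoint_iff, ← sup_assoc]
          exact hY.sup_eq_top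
      let pr : W' →ₗ[k] W' := V.subtype.comp (V.projectionOnto _ hcompl)
      have h := hall _ (Submodule.subset_span ⟨L₀.comp ((τ g⁻¹).comp pr), rfl⟩)
      change LinearMap.det _ = d * LinearMap.det _ at h
      have hA : (L₀.comp ((τ g⁻¹).comp pr)).comp ((τ g).comp U.subtype) = LinearMap.id := by
        ext y : 1
        show L₀ (τ g⁻¹ (pr (τ g y))) = y
        rw [show pr (τ g (y : W')) = τ g y from congrArg Subtype.val
          (Submodule.projectionOnto_apply_left hcompl ⟨τ g y, y, y.2, rfl⟩), ← End.mul_apply, ← map_mul,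
          inv_mul_cancel, map_one, End.one_apply]
        exact LinearMap.congr_fun hL₀ y
      have hB0 : LinearMap.det ((L₀.comp ((τ g⁻¹).comp pr)).comp ((τ g').comp U.subtype)) = 0 := by
        by_contra hne
        have := (LinearMap.isUnit_iff_isUnit_det _).mpr (isUnit_iff_ne_zero.mpr hne)
        refine hx0 ((Module.End.isUnit_iff _).mp this |>.1 ?_)
        rw [map_zero]
        show L₀ (τ g⁻¹ (pr (τ g' x))) = 0
        rw [show pr (τ g' x) = 0 from congrArg Subtype.val ((Submodule.projectionOnto_apply_eq_zero_iff hcompl).mpr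
          (Submodule.mem_sup_left (Submodule.mem_span_singleton_self _))), map_zero, map_zero]
      rw [hA, LinearMap.det_id, mul_one, hB0] at h
      exact hd h.symm
    have hinj : ∀ a, Function.Injective (τ a) := fun a =>
      Function.LeftInverse.injective (g := τ a⁻¹) fun x => by
        rw [← End.mul_apply, ← map_mul, inv_mul_cancel, map_one, End.one_apply]
    have heq : U.map (τ g') = V := Submodule.eq_of_le_of_finrank_eq hle (by
      rw [← LinearEquiv.finrank_eq (Submodule.equivMapOfInjective _ (hinj g') U),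
        ← LinearEquiv.finrank_eq (Submodule.equivMapOfInjective _ (hinj g) U)])
    rw [hU, map_mul, End.mul_eq_comp, Submodule.map_comp, heq, ← Submodule.map_comp, ← End.mul_eq_comp, ← map_mul,
      inv_mul_cancel, map_one, End.one_eq_id, Submodule.map_id]
  -- weights at fixed points
  let I : Finset (Fin (finrank k Λ)) := Finset.univ.filter fun i => ∀ s ∈ S, c i s * ν s = 1
  have hν : ∀ b ∈ B, ν b * ν b⁻¹ = 1 := fun b hb => by
    rw [← hrmul L₀ b b⁻¹ (B.inv_mem hb), mul_inv_cancel]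
    show LinearMap.det _ = 1
    rw [map_one, End.one_eq_id, LinearMap.id_comp, hL₀, LinearMap.det_id]
  have hfix : ∀ g, (∀ t ∈ T, g⁻¹ * t * g ∈ B) → ∀ i, (e i : Γ → k) g ≠ 0 → i ∈ I := by
    intro g hg i hi
    obtain ⟨b, hb, hb'⟩ := conj_borel hmul hσ hB (hT.map_conj g⁻¹) hT (by
      rintro _ ⟨t, ht, rfl⟩
      show g⁻¹ * t * g⁻¹⁻¹ ∈ B
      rw [_root_.inv_inv]; exact hg t ht) hTB
    have hn : ∀ t ∈ T, b * g⁻¹ * t * (b * g⁻¹)⁻¹ ∈ T := fun t ht => by
      have : b * (g⁻¹ * t * g⁻¹⁻¹) * b⁻¹ ∈ T := hb' ▸ ⟨_, ⟨t, ht, rfl⟩, rfl⟩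
      rwa [show b * g⁻¹ * t * (b * g⁻¹)⁻¹ = b * (g⁻¹ * t * g⁻¹⁻¹) * b⁻¹ by group]
    refine Finset.mem_filter.mpr ⟨Finset.mem_univ _, fun s hs => ?_⟩
    have hsB : s ∈ B := hTB (hST s hs)
    have h := hc s hs _ hn
    have hg' : s⁻¹ * g = g * b⁻¹ * s⁻¹ * b := by
      have h' : s⁻¹ * (b * g⁻¹)⁻¹ = (b * g⁻¹)⁻¹ * s⁻¹ := by rw [← mul_inv_rev, h, mul_inv_rev]
      calc s⁻¹ * g = s⁻¹ * (b * g⁻¹)⁻¹ * b := by group
        _ = (b * g⁻¹)⁻¹ * s⁻¹ * b := by rw [h']
        _ = _ := by group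
    have hmem := (e i).2
    have h2 := hact s (hST s hs) i g
    rw [hg', hΛmul _ hmem _ b hb, hΛmul _ hmem _ _ (B.inv_mem hsB), hΛmul _ hmem _ _ (B.inv_mem hb)] at h2
    have h3 := hν b hb
    have h4 := hν s hsB
    have h5 : c i s * (e i : Γ → k) g = (e i : Γ → k) g * ν s⁻¹ := by
      rw [← h2]
      linear_combination ((e i : Γ → k) g * ν s⁻¹) * h3
    have h6 : (e i : Γ → k) g * (c i s * ν s) = (e i : Γ → k) g * 1 := by
      linear_combination ν s * h5 + (e i : Γ → k) g * h4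
    exact mul_left_cancel₀ hi h6
  -- the cone
  let y : Γ → Fin (finrank k Λ) → k := fun g i => (e i : Γ → k) g
  let Z : Set (Fin (finrank k Λ) → k) := {z | ∃ g, ∀ i j, z i * y g j = z j * y g i}
  have hZ : ∀ z, z ∈ Z ↔ ∃ (g : Γ) (d : k), z = d • y g := fun z => by
    constructor
    · rintro ⟨g, hg⟩
      obtain ⟨j, hj⟩ := hnz g
      refine ⟨g, z j / y g j, funext fun i => ?_⟩
      rw [Pi.smul_apply, smul_eq_mul, div_mul_eq_mul_div, eq_div_iff hj]
      exact hg i j
    · rintro ⟨g, d, rfl⟩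
      exact ⟨g, fun i j => by simp only [Pi.smul_apply, smul_eq_mul]; ring⟩
  have hZsmul : ∀ d : k, ∀ z ∈ Z, d • z ∈ Z := fun d z hz => by
    obtain ⟨g, d', rfl⟩ := (hZ z).mp hz
    exact (hZ _).mpr ⟨g, d * d', smul_smul _ _ _⟩
  have hZcl : Elim.PCl Z := by
    refine hB.comp (Fin (finrank k Λ)) {q : Γ × (Fin (finrank k Λ) → k) | ∀ i j, q.2 i * y q.1 j = q.2 j * y q.1 i} ?_ ?_
    · intro q hq i j
      have h := hq (MvPolynomial.X i * MvPolynomial.C (⟨_, hΛR _ (e j).2⟩ : D.R) -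
        MvPolynomial.X j * MvPolynomial.C (⟨_, hΛR _ (e i).2⟩ : D.R)) fun c hc => by
          rw [map_sub, map_mul, map_mul, Complete.pev_X, Complete.pev_X, Complete.pev_C, Complete.pev_C, sub_eq_zero]
          exact hc i j
      rw [map_sub, map_mul, map_mul, Complete.pev_X, Complete.pev_X, Complete.pev_C, Complete.pev_C, sub_eq_zero] at h
      exact h
    · intro g z hgz b hb i j
      show z i * y (g * b) j = z j * y (g * b) i
      simp only [y, hΛmul _ (e i).2 g b hb, hΛmul _ (e j).2 g b hb]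
      linear_combination ν b * hgz i j
  have hoff : ∀ z ∈ Z, (∀ i ∈ I, z i = 0) → z = 0 := by
    intro z₀ hz₀ hI
    by_contra hne
    let m := finrank k Λ
    let DT := D.restrict T hT.tor.cl
    haveI : Group.IsSolvable T := MaxTorus.solvable_tor hT.tor
    haveI : Group.IsSolvable (⊤ : Subgroup T) :=
      Group.isSolvable_of_isSolvable_injective (f := (⊤ : Subgroup T).subtype) Subtype.val_injective
    let bb := Pi.basisFun k (Fin m)
    let ρT : Representation k T (Fin m → k) :=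
      { toFun := fun t => LinearMap.pi fun i => c i t • LinearMap.proj i
        map_one' := LinearMap.ext fun v => funext fun i => by
          show c i (1 : Γ) * v i = v i
          simp [c]
        map_mul' := fun a b => LinearMap.ext fun v => funext fun i => by
          show c i ((a : Γ) * b) * v i = c i (a : Γ) * (c i (b : Γ) * v i)
          have : c i ((a : Γ) * b) = c i (a : Γ) * c i (b : Γ) := by
            obtain ⟨x, hx⟩ : ∃ x, (e i : Γ → k) x ≠ 0 := by
              by_contra h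
              push Not at h
              exact e.ne_zero i (Subtype.ext (funext h))
            have h1 := hact _ (T.mul_mem a.2 b.2) i x
            rw [mul_inv_rev, mul_assoc, hact _ b.2, hact _ a.2] at h1
            exact mul_right_cancel₀ hx (h1.symm.trans (by ring))
          rw [this, mul_assoc] }
    have hρT : EndFn DT.R (fun t => ρT t) := fun v l => by
      refine ⟨fun g => ∑ i, c i g * (v i * l (Pi.single i 1)), ?_, funext fun t => ?_⟩
      · have : (fun g => ∑ i, c i g * (v i * l (Pi.single i 1))) =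
            ∑ i, c i * algebraMap k (Γ → k) (v i * l (Pi.single i 1)) := by
          funext g; simp
        rw [this]
        exact D.R.sum_mem fun i _ => D.R.mul_mem (hρ (e i) (e.coord i)) (D.R.algebraMap_mem _)
      · show ∑ i, c i (t : Γ) * (v i * l (Pi.single i 1)) = l (ρT t v)
        conv_rhs => rw [pi_eq_sum_univ (ρT t v), map_sum]
        refine Finset.sum_congr rfl fun i _ => ?_
        rw [map_smul, smul_eq_mul, ← mul_assoc]
        refine congrArg₂ (· * ·) rfl (congrArg l (funext fun j => ?_))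
        by_cases h : i = j
        · subst h; simp
        · rw [Pi.single_eq_of_ne (Ne.symm h), if_neg h]
    let Z₁ : Set (Fin m → k) := {z ∈ Z | ∀ i ∈ I, z i = 0}
    have hpf : ∀ p (z : Fin m → k), Fixed.pf bb p z = eval z p := fun p z => by
      show eval (bb.equivFun z) p = _
      rw [show bb.equivFun z = z from funext fun i => Pi.basisFun_repr k (Fin m) z i]
    have hcone : Fixed.IsCone bb ρT Z₁ := by
      refine ⟨fun v hv => ?_, fun d z hz => ⟨hZsmul d z hz.1, fun i hi => by simp [hz.2 i hi]⟩, ?_⟩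
      · refine ⟨hZcl v fun p hp => ?_, fun i hi => ?_⟩
        · rw [← hpf]
          exact hv p fun z hz => by rw [hpf]; exact hp z hz.1
        · have := hv (MvPolynomial.X i) fun z hz => by rw [hpf, eval_X]; exact hz.2 i hi
          rwa [hpf, eval_X] at this
      · rintro t z ⟨hz, hzI⟩
        refine ⟨?_, fun i hi => ?_⟩
        · obtain ⟨g, d, rfl⟩ := (hZ z).mp hz
          refine (hZ _).mpr ⟨(t : Γ)⁻¹ * g, d, funext fun i => ?_⟩
          show c i (t : Γ) * (d * y g i) = d * (e i : Γ → k) ((t : Γ)⁻¹ * g)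
          rw [hact _ t.2]
          ring
        · show c i (t : Γ) * z i = 0
          rw [hzI i hi, mul_zero]
    have hirrT : DT.SIrr ((⊤ : Subgroup T) : Set T) := by
      refine D.sirr_restrict.mpr ?_
      rw [Subgroup.coe_top, Set.image_univ, Subtype.range_coe_subtype]
      exact hT.tor.irr
    obtain ⟨v, hv, hv0, hvfix⟩ := Fixed.exists_fixed bb ρT hρT hcone ⟨z₀, ⟨hz₀, hI⟩, hne⟩ ⊤ hirrT
    obtain ⟨g, d, rfl⟩ := (hZ v).mp hv.1
    have hd : d ≠ 0 := fun h => hv0 (by rw [h, zero_smul])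
    have hgB : ∀ t ∈ T, g⁻¹ * t * g ∈ B := by
      intro t ht
      obtain ⟨μ, hμ⟩ := hvfix ⟨t⁻¹, T.inv_mem ht⟩ trivial
      have hμ' : ∀ i, (e i : Γ → k) (t * g) = μ * (e i : Γ → k) g := fun i => by
        have h := congrFun hμ i
        change c i t⁻¹ * (d * y g i) = μ * (d * y g i) at h
        have h2 := hact _ (T.inv_mem ht) i g
        rw [_root_.inv_inv] at h2
        rw [h2]
        refine mul_left_cancel₀ hd ?_
        linear_combination h
      have hμ0 : μ ≠ 0 := fun h => by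
        obtain ⟨i, hi⟩ := hnz (t * g)
        exact hi (by rw [hμ' i, h, zero_mul])
      rw [mul_assoc]
      exact hsep g (t * g) μ hμ0 hμ'
    obtain ⟨i, hi⟩ := hnz g
    have := hv.2 i (hfix g hgB i hi)
    exact (mul_ne_zero hd hi) this
  -- conclusion
  intro s hs g
  have hfin := finite_slice Z hZcl hZsmul I hoff (y g)
  have hkey : ∀ i, c i s * ν s * y g i = y g i := by
    let cand : Γ → Fin (finrank k Λ) → k := fun x i => c i x * ν x * y g i
    have hcand : ∀ x ∈ S, cand x ∈ {z ∈ Z | ∀ i ∈ I, z i = y g i} := fun x hx => by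
      refine ⟨(hZ _).mpr ⟨x⁻¹ * g, ν x, funext fun i => ?_⟩, fun i hi => ?_⟩
      · show c i x * ν x * y g i = ν x * (e i : Γ → k) (x⁻¹ * g)
        rw [hact x (hST x hx)]
        ring
      · show c i x * ν x * y g i = y g i
        rw [(Finset.mem_filter.mp hi).2 x hx, one_mul]
    obtain ⟨z, -, hz⟩ := Alg.SIrr.exists_forall D hS ⟨1, h1⟩ hfin.toFinset
      (fun z => Set.range fun i : Fin (finrank k Λ) => c i * ν * algebraMap k (Γ → k) (y g i) - algebraMap k (Γ → k) (z i))
      (fun z _ => by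
        rintro _ ⟨i, rfl⟩
        exact D.R.sub_mem (D.R.mul_mem (D.R.mul_mem (hρ (e i) (e.coord i)) (hδ L₀)) (D.R.algebraMap_mem _))
          (D.R.algebraMap_mem _))
      (fun x hx => ⟨cand x, hfin.mem_toFinset.mpr (hcand x hx), by
        rintro _ ⟨i, rfl⟩
        simp [cand]⟩)
    intro i
    have h2 := hz s hs _ ⟨i, rfl⟩
    have h3 := hz 1 h1 _ ⟨i, rfl⟩
    simp only [Pi.sub_apply, Pi.mul_apply, Pi.algebraMap_apply, Algebra.algebraMap_self, RingHom.id_apply, sub_eq_zero] at h2 h3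
    have hc1 : c i 1 * ν 1 = 1 := by
      have hν1 : ν 1 = 1 := by
        show LinearMap.det _ = 1
        rw [map_one, End.one_eq_id, LinearMap.id_comp, hL₀, LinearMap.det_id]
      rw [hν1, mul_one]
      show e.coord i (ρ 1 (e i)) = 1
      simp
    rw [h2, ← h3, hc1, one_mul]
  have hsB : s ∈ B := hTB (hST s hs)
  have h := hν s hsB
  have hprop : ∀ i, (e i : Γ → k) (s⁻¹ * g) = ν s⁻¹ * (e i : Γ → k) g := fun i => by
    rw [hact s (hST s hs)]
    have hk := hkey i
    simp only [y] at hk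
    linear_combination ν s⁻¹ * hk - c i s * (e i : Γ → k) g * h
  have hmem := hsep g (s⁻¹ * g) (ν s⁻¹) (fun h0 => by rw [h0, mul_zero] at h; exact zero_ne_one h) hprop
  have := B.inv_mem hmem
  rwa [show (g⁻¹ * (s⁻¹ * g))⁻¹ = g⁻¹ * s * g by group] at this

/-- The norms of a maximal torus lie in a normal irreducible subgroup of every Borel subgroup. -/
theorem exists_normal_norm (hmul : HasMul D) (hσ : GenRep.Gen D σ) {B T : Subgroup Γ} (hB : IsBor D B) (hT : IsMax D T)
    (hTB : T ≤ B) {π : Γ → Γ} (hπ1 : π 1 = 1) (hπT : ∀ t ∈ T, π t ∈ T)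
    (hπn : ∀ n, (∀ t ∈ T, n * t * n⁻¹ ∈ T) → ∀ t ∈ T, n * π t = π t * n)
    (hπreg : ∀ f ∈ D.R, ∃ F ∈ D.R, ∀ t ∈ T, f (π t) = F t) :
    ∃ C : Subgroup Γ, D.IsCl C ∧ D.SIrr C ∧ C.Normal ∧ C ≤ B ∧ ∀ t ∈ T, π t ∈ C := by
  classical
  let S : Set Γ := π '' T
  have hS : D.SIrr S := by
    intro f f' h
    obtain ⟨F, hF, hF'⟩ := hπreg _ f.2
    obtain ⟨F', hF'', hF'''⟩ := hπreg _ f'.2
    rcases hT.tor.irr ⟨F, hF⟩ ⟨F', hF''⟩ (fun t ht => by
      show F t * F' t = 0
      rw [← hF' t ht, ← hF''' t ht]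
      exact h _ ⟨t, ht, rfl⟩) with h1 | h1
    · exact Or.inl (by rintro _ ⟨t, ht, rfl⟩; rw [hF' t ht]; exact h1 t ht)
    · exact Or.inr (by rintro _ ⟨t, ht, rfl⟩; rw [hF''' t ht]; exact h1 t ht)
  have hSmem := mem_borel_of_comm_normalizer hmul hσ hB hT hTB hS ⟨1, T.one_mem, hπ1⟩
    (by rintro _ ⟨t, ht, rfl⟩; exact hπT t ht) (by rintro _ ⟨t, ht, rfl⟩ n hn; exact hπn n hn t ht)
  let K : Subgroup Γ := B.normalCore
  have hKmem : ∀ x, x ∈ K ↔ ∀ g, g * x * g⁻¹ ∈ B := fun _ => Iff.rfl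
  have hKcl : D.IsCl K := by
    intro x hx
    refine (hKmem x).mpr fun g => hB.cl fun f hf => ?_
    rw [← D.cTrans_apply]
    refine hx _ fun c hc => ?_
    rw [D.cTrans_apply]
    exact hf _ ((hKmem c).mp hc g)
  let DK := D.restrict K hKcl
  obtain ⟨C0, hC0cl, hC0irr, hC0max⟩ := DK.exists_component
  let C : Subgroup Γ := C0.map K.subtype
  have hCset : (C : Set Γ) = Subtype.val '' (C0 : Set K) := Subgroup.coe_map _ _
  have hCcl : D.IsCl C := by rw [hCset]; exact D.isCl_image hC0cl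
  have hCirr : D.SIrr C := by rw [hCset]; exact D.sirr_restrict.mp hC0irr
  have hCK : ∀ x ∈ C, x ∈ K := by rintro _ ⟨x, -, rfl⟩; exact x.2
  have habs : ∀ X : Set Γ, D.SIrr X → (1 : Γ) ∈ X → (∀ x ∈ X, x ∈ K) → X ⊆ C := by
    intro X hX h1 hXK x hx
    refine ⟨⟨x, hXK x hx⟩, hC0max (Subtype.val ⁻¹' X) (D.sirr_restrict.mpr ?_) h1 hx, rfl⟩
    have himg : Subtype.val '' (Subtype.val ⁻¹' X : Set K) = X :=
      Set.Subset.antisymm (Set.image_preimage_subset _ _) fun y hy => ⟨⟨y, hXK y hy⟩, hy, rfl⟩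
    rwa [himg]
  have hCn : C.Normal := ⟨fun x hx g => habs ((fun x => g * x * g⁻¹) '' C)
    (Alg.SIrr.image D hCirr _ _ (D.cTrans_apply g)) ⟨1, C.one_mem, by simp⟩
    (by rintro _ ⟨y, hy, rfl⟩; exact (inferInstance : K.Normal).conj_mem y (hCK y hy) g) ⟨x, hx, rfl⟩⟩
  have hSC : S ⊆ C := habs S hS ⟨1, T.one_mem, hπ1⟩ fun x hx => (hKmem x).mpr fun g => by
    have := hSmem x hx g⁻¹
    rwa [_root_.inv_inv] at this
  exact ⟨C, hCcl, hCirr, hCn, fun x hx => B.normalCore_le (hCK x hx), fun t ht => hSC ⟨t, ht, rfl⟩⟩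

/-- A character trivial on the normal irreducible subgroups of a Borel subgroup is trivial. -/
theorem char_eq_one (hirr : D.SIrr Set.univ) (hmul : HasMul D) (hσ : GenRep.Gen D σ) {B : Subgroup Γ} (hB : IsBor D B)
    {χ : Γ →* kˣ} (hreg : Diag.RegChar D χ)
    (hrad : ∀ N : Subgroup Γ, D.IsCl N → D.SIrr N → N.Normal → N ≤ B → ∀ x ∈ N, χ x = 1) : χ = 1 := by
  classical
  obtain ⟨T, hTB, hT, -, hinto⟩ := exists_max hmul hσ hB
  obtain ⟨N, π, hN, hπ1, hπT, hπn, hπχ, -, hπreg⟩ := exists_norm hmul hσ hT.tor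
  obtain ⟨C, hCcl, hCirr, hCn, hCB, hSC⟩ := exists_normal_norm hmul hσ hB hT hTB hπ1 hπT hπn hπreg
  have hTN : ∀ t ∈ T, χ t ^ N = 1 := fun t ht => by
    rw [← hπχ χ t ht]
    exact hrad C hCcl hCirr hCn hCB _ (hSC t ht)
  have hT1 : ∀ t ∈ T, χ t = 1 := by
    let J : Finset k := (Polynomial.nthRootsFinset N (1 : k))
    obtain ⟨ζ, -, hζ⟩ := Alg.SIrr.exists_forall D hT.tor.irr ⟨1, T.one_mem⟩ J
      (fun ζ => {(fun g => (χ g : k)) - algebraMap k (Γ → k) ζ})
      (fun ζ _ => by rintro _ rfl; exact D.R.sub_mem hreg (D.R.algebraMap_mem _))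
      (fun t ht => ⟨(χ t : k), (Polynomial.mem_nthRootsFinset (Nat.pos_of_ne_zero hN) 1).mpr (by
        rw [← Units.val_pow_eq_pow_val, hTN t ht, Units.val_one]), by rintro _ rfl; simp⟩)
    intro t ht
    have h1 := hζ 1 T.one_mem _ rfl
    have h2 := hζ t ht _ rfl
    simp [sub_eq_zero] at h1 h2
    exact Units.ext (by rw [h2, ← h1, Units.val_one])
  have hB1 : ∀ b ∈ B, χ b = 1 := by
    haveI := hB.solv
    obtain ⟨T₁, U₁, τ, hs⟩ := Split.exists_split (D.restrict B hB.cl)
      (D.sirr_restrict.mpr (by rw [Set.image_univ, Subtype.range_coe_subtype]; exact hB.irr))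
      (σ.comp B.subtype) (GenRep.Gen.restrict D hσ B hB.cl)
    have hT₁ : IsTor D (T₁.map B.subtype) := by
      have hset : ((T₁.map B.subtype : Subgroup Γ) : Set Γ) = Subtype.val '' (T₁ : Set B) := Subgroup.coe_map _ _
      refine ⟨hset ▸ D.isCl_image hs.clT, hset ▸ D.sirr_restrict.mp hs.irrT, ?_, ?_⟩
      · rintro _ ⟨a, ha, rfl⟩ _ ⟨b, hb, rfl⟩
        rw [← map_mul, hs.comm a ha b hb, map_mul]
      · rintro f hf h _ ⟨t, ht, rfl⟩
        refine hs.dense _ ⟨f, hf, rfl⟩ (fun s hsT ⟨m, hm, hsm⟩ => h _ ⟨s, hsT, rfl⟩ ⟨m, hm, ?_⟩) t ht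
        show ((s : Γ)) ^ m = 1
        rw [← SubmonoidClass.coe_pow, hsm, OneMemClass.coe_one]
    obtain ⟨a, -, ha⟩ := hinto _ hT₁ (by rintro _ ⟨b, -, rfl⟩; exact b.2)
    intro b hb
    have hu : (τ ⟨b, hb⟩)⁻¹ * ⟨b, hb⟩ ∈ U₁ := (hs.tau_ker _).mp (by
      rw [map_mul, map_inv, hs.tau_fix _ (hs.tau_mem _), inv_mul_cancel])
    have h1 : χ (((τ ⟨b, hb⟩)⁻¹ * ⟨b, hb⟩ : B) : Γ) = 1 :=
      Central.char_eq_one D hσ ((hs.nilp _).mpr hu) hreg
    have h2 : χ (τ ⟨b, hb⟩ : Γ) = 1 := by
      have := hT1 _ (ha _ ⟨_, hs.tau_mem ⟨b, hb⟩, rfl⟩)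
      rwa [map_mul, map_mul, map_inv, mul_comm (χ a), mul_inv_cancel_right] at this
    rw [Subgroup.coe_mul, Subgroup.coe_inv, map_mul, map_inv, h2, inv_one, one_mul] at h1
    exact h1
  refine MonoidHom.ext fun g => Units.ext ?_
  have := Invariant.const_of_complete D hirr hB.comp ⟨_, hreg⟩
    (fun g b hb => by show (χ (g * b) : k) = χ g; rw [map_mul, hB1 b hb, mul_one]) g
  rw [show (χ g : k) = (χ 1 : k) from this, map_one]
  rfl

end Groth.Agent.H1.Classical.CharRad
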