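import Groth.Agent.H1.Classical.CharRad
import Groth.Agent.H1.Classical.RadUApply
import Groth.Agent.H1.Obs.Crit

/-!
# Characters trivial on the radical are trivial, for group schemes
-/

universe u

open CategoryTheory MonoidalCategory CartesianMonoidalCategory MonObj GrpObj AlgebraicGeometry

namespace Groth.Agent.H1.Classical.CharRad

set_option linter.style.haveILetI false
set_option linter.unusedSectionVars false

open Groth.Agent.Lib.RedPts Groth.Agent.Lib.RedPts.Points Scheme' Unipotent MaxTorusScheme MaxTorusApply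
  Groth.Agent.Lib.GrpSch WithConv Torus Torus.Centraliser RadU Groth.Agent.H1.RInv Groth.Agent.H1.Obs

attribute [local instance] baseAlgebra

variable {k : Type u} [Field k] [IsAlgClosed k] {G : Over (Spec (CommRingCat.of k))} [GrpObj G] [IsAffine G.left]
  [Smooth G.hom]

theorem char_ext {χ : G ⟶ Red.Gm (Spec (CommRingCat.of k))} (h : ∀ x : P G, ev x (Red.gmFn χ) = 1) : χ = 1 :=
  Lib.RedPts.Gm.gmFn_injective (ext_fun fun x => by rw [h x, Lib.RedPts.Gm.gmFn_one, map_one])

theorem exists_char_pts {A : Type u} [CommRing A] [HopfAlgebra k A] [Algebra.FiniteType k A] (e : G ≅ GA k A)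
    [IsMonHom e.hom] (χ : G ⟶ Red.Gm (Spec (CommRingCat.of k))) [IsMonHom χ] :
    ∃ ψ : HopfPts.Pt k A →* kˣ, Diag.RegChar (HopfPts.D k A) ψ ∧
      ∀ s, (ψ s : k) = ev (ptHom (A := A) (𝟙_ _) s ≫ e.inv) (Red.gmFn χ) := by
  haveI : IsMonHom e.inv := inferInstance
  let c : HopfPts.Pt k A → k := fun s => ev (ptHom (A := A) (𝟙_ _) s ≫ e.inv) (Red.gmFn χ)
  let ψ : HopfPts.Pt k A →* k :=
    { toFun := c
      map_one' := by
        show ev (ptHom (A := A) (𝟙_ _) 1 ≫ e.inv) _ = 1
        rw [map_one, MonObj.one_comp, Obs.ev_gmFn_one]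
      map_mul' := fun a b => by
        show ev (ptHom (A := A) (𝟙_ _) (a * b) ≫ e.inv) _ = _
        rw [map_mul, MonObj.mul_comp, Obs.ev_gmFn_mul] }
  refine ⟨ψ.toHomUnits, ?_, fun s => rfl⟩
  obtain ⟨a, ha⟩ := (TorusPts.bijective_algHomOf_id (k := k) A).2 (e.inv.left.appTop (Red.gmFn χ))
  refine ⟨a, funext fun s => ?_⟩
  show s.ofConv a = ev (ptHom (A := A) (𝟙_ _) s ≫ e.inv) (Red.gmFn χ)
  have h : algHomOf (ptHom (A := A) (𝟙_ (Over (Spec (CommRingCat.of k)))) s) a =
      (ptHom (A := A) (𝟙_ _) s ≫ e.inv).left.appTop (Red.gmFn χ) := by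
    conv_lhs => rw [← Category.comp_id (ptHom (A := A) (𝟙_ (Over (Spec (CommRingCat.of k)))) s), algHomOf_comp, ha]
    rfl
  rw [algHomOf_ptHom] at h
  show s.ofConv a = (Scheme.ΓSpecIso (CommRingCat.of k)).hom ((ptHom (A := A) (𝟙_ _) s ≫ e.inv).left.appTop (Red.gmFn χ))
  rw [← h]
  exact (Iso.inv_hom_id_apply (Scheme.ΓSpecIso (CommRingCat.of k)) _).symm

variable [ConnectedSpace G.left]

/-- A character trivial on normal connected solvable subgroups is trivial. -/
theorem scheme_char_eq_one (χ : G ⟶ Red.Gm (Spec (CommRingCat.of k))) [IsMonHom χ]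
    (h : ∀ (W : Over (Spec (CommRingCat.of k))) [GrpObj W] [IsAffine W.left] [Smooth W.hom] [ConnectedSpace W.left]
      (f : W ⟶ G) [IsMonHom f] [IsClosedImmersion f.left], IsNormalPts f → Red.IsSolvableGrp W → f ≫ χ = 1) :
    χ = 1 := by
  obtain ⟨A, _, _, _, _, e, he⟩ := exists_GA G
  haveI := he
  haveI : IsMonHom e.inv := inferInstance
  haveI : IsIso e.inv.left := ((Over.forget _).mapIso e).isIso_inv
  obtain ⟨W₀, _, σ, hσ⟩ := GenRep.exists_gen (HopfPts.D k A) hasMul_pts pts_ext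
  obtain ⟨B, hB⟩ := exists_bor (k := k) (A := A)
  obtain ⟨ψ, hψ, hψv⟩ := exists_char_pts e χ
  have hψ1 : ψ = 1 := char_eq_one HopfPts.sirr_univ hasMul_pts hσ hB hψ fun N hcl hirr hn hle x hx => by
    haveI := hB.solv
    haveI : Group.IsSolvable N := Group.isSolvable_of_isSolvable_injective (Subgroup.inclusion_injective hle)
    obtain ⟨C, _, c, hc1, hc2, hc3, hc4, hc5, hfac, hpt⟩ := exists_subgroup N hcl hirr
    haveI := hc1
    haveI := hc2
    haveI := hc3
    haveI := hc4
    haveI : IsAffine C.left := isAffine_of_isAffineHom c.left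
    haveI : IsClosedImmersion (c ≫ e.inv).left := by rw [Over.comp_left]; infer_instance
    have hCn : IsNormalPts (c ≫ e.inv) := fun g w => by
      obtain ⟨a, ha⟩ := ptHom_surjective (g ≫ e.hom)
      obtain ⟨s, hs, hws⟩ := hpt w
      obtain ⟨w', hw'⟩ := hfac (𝟙_ _) (ptHom _ (a * s * a⁻¹)) fun b hb => by
        rw [algHomOf_ptHom, hb _ (hn.conj_mem s hs a), map_zero]
      refine ⟨w', ?_⟩
      rw [← cancel_mono e.hom, MonObj.mul_comp, MonObj.mul_comp, GrpObj.inv_comp]
      simp only [Category.assoc, e.inv_hom_id, Category.comp_id]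
      rw [hw', hws, map_mul, map_mul, map_inv, ha]
    have h1 := h C (c ≫ e.inv) hCn hc5
    obtain ⟨w, hw⟩ := hfac (𝟙_ _) (ptHom _ x) fun b hb => by rw [algHomOf_ptHom, hb x hx, map_zero]
    refine Units.ext ?_
    rw [hψv, ← hw, Category.assoc, Obs.ev_comp, ← Lib.RedPts.Gm.gmFn_comp, h1, Lib.RedPts.Gm.gmFn_one, map_one,
      Units.val_one]
  refine char_ext fun x => ?_
  obtain ⟨s, hs⟩ := ptHom_surjective (x ≫ e.hom)
  have := hψv s
  rw [hψ1, hs, Category.assoc, e.hom_inv_id, Category.comp_id] at this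
  exact this.symm

/-- A group without subtori has no characters. -/
theorem char_eq_one_of_noTorsion (hU : NoTorsion G) (χ : G ⟶ Red.Gm (Spec (CommRingCat.of k))) [IsMonHom χ] :
    χ = 1 := by
  obtain ⟨A, _, _, _, _, e, he⟩ := exists_GA G
  haveI := he
  haveI : IsMonHom e.inv := inferInstance
  obtain ⟨W₀, _, σ, hσ⟩ := GenRep.exists_gen (HopfPts.D k A) hasMul_pts pts_ext
  obtain ⟨ψ, hψ, hψv⟩ := exists_char_pts e χ
  have hnil : Red.HasNoSubtorus k (GA k A) := fun T _ j _ _ hT =>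
    hasNoSubtorus_of_noTorsion hU T (j ≫ e.inv) hT
  refine char_ext fun x => ?_
  obtain ⟨s, hs⟩ := ptHom_surjective (x ≫ e.hom)
  have := hψv s
  rw [Central.char_eq_one _ hσ (nilp_GA hnil hσ s) hψ, hs, Category.assoc, e.hom_inv_id, Category.comp_id] at this
  exact this.symm

end Groth.Agent.H1.Classical.CharRad
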