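import Groth.Agent.H1.Classical.CharRad

/-!
# Unipotent sets lying in the Borel subgroups containing a maximal torus
-/

universe u v w

namespace Groth.Agent.H1.Classical.Chevalley

set_option linter.style.haveILetI false
set_option linter.unusedSectionVars false

open Module Kolchin Open Complete Torus Torus.Centraliser Torus.MaxTorus MvPolynomial

variable {k : Type u} [Field k] [IsAlgClosed k] {Γ : Type v} [Group Γ] {D : Alg k Γ}

/-- The point evaluation of a finitely supported exponent determines it. -/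
theorem exp_injective {r : ℕ} {Δ : Type v} [Group Δ] (ψ : Fin r → Δ →* kˣ)
    (hind : ∀ p : MvPolynomial (Fin r) k, (∀ g, MvPolynomial.eval (fun j => (ψ j g : k)) p = 0) → p = 0)
    (u : Fin r → ℤ) (h : ∀ g, ∏ j, ψ j g ^ u j = 1) : u = 0 := by
  classical
  let p : Fin r →₀ ℕ := Finsupp.equivFunOnFinite.symm fun j => (u j).toNat
  let q : Fin r →₀ ℕ := Finsupp.equivFunOnFinite.symm fun j => (-u j).toNat
  have h0 := hind (monomial p 1 - monomial q 1) fun g => by
    have hu : ∏ j, ψ j g ^ (p j : ℕ) = ∏ j, ψ j g ^ (q j : ℕ) := by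
      refine div_eq_one.mp ?_
      rw [← Finset.prod_div_distrib, ← h g]
      refine Finset.prod_congr rfl fun j _ => ?_
      rw [← zpow_natCast, ← zpow_natCast, div_eq_mul_inv, ← zpow_sub]
      congr 1
      show ((u j).toNat : ℤ) - ((-u j).toNat : ℤ) = u j
      omega
    rw [map_sub, eval_monomial, eval_monomial, one_mul, one_mul, Finsupp.prod_fintype _ _ (fun _ => pow_zero _),
      Finsupp.prod_fintype _ _ (fun _ => pow_zero _), sub_eq_zero]
    simpa using congrArg (Units.val) hu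
  have hpq : p = q := monomial_left_injective one_ne_zero (sub_eq_zero.mp h0)
  funext j
  have := DFunLike.congr_fun hpq j
  change (u j).toNat = (-u j).toNat at this
  rw [Pi.zero_apply]
  omega

/-- Among finitely many characters of a torus one is extreme. -/
theorem exists_vertex {T : Subgroup Γ} (hT : IsTor D T) {m : ℕ} (i1 : Fin m) (c : Fin m → Γ → k)
    (hreg : ∀ i, c i ∈ D.R) (hone : ∀ i, c i 1 = 1) (hmul : ∀ i, ∀ a ∈ T, ∀ b ∈ T, c i (a * b) = c i a * c i b) :
    ∃ i0 : Fin m, ∀ a : Fin m →₀ ℕ, (∀ t ∈ T, a.prod (fun i n => c i t ^ n) = c i0 t ^ a.degree) →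
      ∀ i, a i ≠ 0 → ∀ t ∈ T, c i t = c i0 t := by
  classical
  let DT := D.restrict T hT.cl
  let χ : Fin m → T →* kˣ := fun i => MonoidHom.toHomUnits
    { toFun := fun t => c i t, map_one' := hone i, map_mul' := fun a b => hmul i a a.2 b b.2 }
  have hχ : ∀ i, Diag.RegChar DT (χ i) := fun i => ⟨c i, hreg i, rfl⟩
  have hirr : DT.SIrr Set.univ := D.sirr_restrict.mpr (by
    rw [Set.image_univ, Subtype.range_coe_subtype]; exact hT.irr)
  obtain ⟨r, ψ, hψ⟩ := Diag.exists_torusChars hirr χ hχ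
  choose ex hex using hψ.mono
  let sq : Fin m → ℤ := fun i => ∑ j, ex i j ^ 2
  haveI : Nonempty (Fin m) := ⟨i1⟩
  obtain ⟨i0, hi0⟩ := Finite.exists_max sq
  refine ⟨i0, fun a ha => ?_⟩
  have hzs : ∀ (x : kˣ) (f : Fin m → ℤ), ∏ i, x ^ f i = x ^ ∑ i, f i := fun x f => by
    induction (Finset.univ : Finset (Fin m)) using Finset.cons_induction with
    | empty => simp
    | cons a t ha ih => rw [Finset.prod_cons, Finset.sum_cons, ih, zpow_add]
  have hlin : ∀ j, ∑ i, (a i : ℤ) * ex i j = (a.degree : ℤ) * ex i0 j := by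
    have h0 := exp_injective ψ hψ.indep (fun j => ∑ i, (a i : ℤ) * ex i j - (a.degree : ℤ) * ex i0 j) fun g => by
      have hval : ∀ i, χ i g = ∏ j, ψ j g ^ ex i j := fun i => by
        rw [hex i, MonoidHom.finsetProd_apply]
        rfl
      have hg : ∏ i, χ i g ^ a i = χ i0 g ^ a.degree := Units.ext (by
        rw [Units.coe_prod, Units.val_pow_eq_pow_val]
        refine Eq.trans ?_ (ha g g.2)
        rw [Finsupp.prod_fintype _ _ (fun _ => pow_zero _)]
        exact Finset.prod_congr rfl fun i _ => Units.val_pow_eq_pow_val _ _)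
      simp only [hval, ← Finset.prod_pow] at hg
      rw [Finset.prod_comm] at hg
      simp only [zpow_sub, Finset.prod_mul_distrib, Finset.prod_inv_distrib]
      rw [mul_inv_eq_one]
      refine Eq.trans (Finset.prod_congr rfl fun j _ => ?_) (hg.trans (Finset.prod_congr rfl fun j _ => ?_))
      · rw [← hzs]
        exact Finset.prod_congr rfl fun i _ => by rw [← zpow_natCast, ← zpow_mul, mul_comm]
      · rw [← zpow_natCast, ← zpow_mul, mul_comm]
    exact fun j => sub_eq_zero.mp (congrFun h0 j)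
  have hdeg : (a.degree : ℤ) = ∑ i, (a i : ℤ) := by
    rw [Finsupp.degree_eq_sum, Nat.cast_sum]
  have hsum : ∑ i, (a i : ℤ) * ∑ j, (ex i j - ex i0 j) ^ 2 =
      ∑ i, (a i : ℤ) * sq i - (a.degree : ℤ) * sq i0 := by
    have hcross : ∑ i, (a i : ℤ) * ∑ j, ex i j * ex i0 j = (a.degree : ℤ) * sq i0 := by
      simp only [Finset.mul_sum, sq]
      rw [Finset.sum_comm]
      refine Finset.sum_congr rfl fun j _ => ?_
      calc ∑ i, (a i : ℤ) * (ex i j * ex i0 j) = (∑ i, (a i : ℤ) * ex i j) * ex i0 j := by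
            rw [Finset.sum_mul]; exact Finset.sum_congr rfl fun i _ => by ring
        _ = _ := by rw [hlin j]; ring
    have h1 : ∀ i, (a i : ℤ) * ∑ j, (ex i j - ex i0 j) ^ 2 =
        (a i : ℤ) * sq i - 2 * ((a i : ℤ) * ∑ j, ex i j * ex i0 j) + (a i : ℤ) * sq i0 := fun i => by
      simp only [sq, Finset.mul_sum, ← Finset.sum_sub_distrib, ← Finset.sum_add_distrib]
      exact Finset.sum_congr rfl fun j _ => by ring
    simp only [h1, Finset.sum_add_distrib, Finset.sum_sub_distrib, ← Finset.mul_sum, ← Finset.sum_mul, hcross, ← hdeg]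
    ring
  have hle : ∑ i, (a i : ℤ) * sq i ≤ (a.degree : ℤ) * sq i0 := by
    rw [hdeg, Finset.sum_mul]
    exact Finset.sum_le_sum fun i _ => mul_le_mul_of_nonneg_left (hi0 i) (Nat.cast_nonneg _)
  have hzero : ∀ i, (a i : ℤ) * ∑ j, (ex i j - ex i0 j) ^ 2 = 0 := by
    have hnn : ∀ i ∈ (Finset.univ : Finset (Fin m)), 0 ≤ (a i : ℤ) * ∑ j, (ex i j - ex i0 j) ^ 2 :=
      fun i _ => mul_nonneg (Nat.cast_nonneg _) (Finset.sum_nonneg fun j _ => sq_nonneg _)
    have := (Finset.sum_eq_zero_iff_of_nonneg hnn).mp (le_antisymm (by linarith) (Finset.sum_nonneg hnn))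
    exact fun i => this i (Finset.mem_univ i)
  intro i hai t ht
  have hex0 : ∀ j, ex i j = ex i0 j := fun j => by
    have h := (mul_eq_zero.mp (hzero i)).resolve_left (Nat.cast_ne_zero.mpr hai)
    exact sub_eq_zero.mp (pow_eq_zero_iff two_ne_zero |>.mp
      ((Finset.sum_eq_zero_iff_of_nonneg fun j _ => sq_nonneg _).mp h j (Finset.mem_univ j)))
  have : χ i = χ i0 := by
    rw [hex i, hex i0]
    exact Finset.prod_congr rfl fun j _ => by rw [hex0 j]
  exact congrArg Units.val (DFunLike.congr_fun this ⟨t, ht⟩)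

/-- A map from the group to a vector space, semi-invariant under `B` and diagonal under `T`. -/
structure Orb (D : Alg k Γ) (B T : Subgroup Γ) {m : ℕ} (c : Fin m → Γ → k) (y : Γ → Fin m → k) : Prop where
  reg : ∀ i, (fun g => y g i) ∈ D.R
  nz : ∀ g, ∃ i, y g i ≠ 0
  rinv : ∀ g, ∀ b ∈ B, ∃ d : k, y (g * b) = d • y g
  act : ∀ t ∈ T, ∀ g i, y (t * g) i = c i t * y g i
  creg : ∀ i, c i ∈ D.R
  cone' : ∀ i, c i 1 = 1
  cmul : ∀ i, ∀ a ∈ T, ∀ b ∈ T, c i (a * b) = c i a * c i b

/-- The cone over the image. -/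
def cone {m : ℕ} (y : Γ → Fin m → k) : Set (Fin m → k) := {z | ∃ g, ∀ i j, z i * y g j = z j * y g i}

variable {B T : Subgroup Γ} {m : ℕ} {c : Fin m → Γ → k} {y : Γ → Fin m → k}

theorem mem_cone (h : Orb D B T c y) {z : Fin m → k} : z ∈ cone y ↔ ∃ (g : Γ) (d : k), z = d • y g := by
  constructor
  · rintro ⟨g, hg⟩
    obtain ⟨j, hj⟩ := h.nz g
    refine ⟨g, z j / y g j, funext fun i => ?_⟩
    rw [Pi.smul_apply, smul_eq_mul, div_mul_eq_mul_div, eq_div_iff hj]
    exact hg i j
  · rintro ⟨g, d, rfl⟩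
    exact ⟨g, fun i j => by simp only [Pi.smul_apply, smul_eq_mul]; ring⟩

theorem smul_mem_cone {d : k} {z : Fin m → k} (hz : z ∈ cone y) : d • z ∈ cone y := by
  obtain ⟨g, hg⟩ := hz
  exact ⟨g, fun i j => by simp only [Pi.smul_apply, smul_eq_mul]; linear_combination d * hg i j⟩

/-- The part of the cone over the zero locus of semi-invariant functions is closed. -/
theorem cl_cone_sub (hB : IsBor D B) (h : Orb D B T c y) {ι : Type*} (F : ι → Γ → k) (hF : ∀ a, F a ∈ D.R)
    (hFinv : ∀ g, (∀ a, F a g = 0) → ∀ b ∈ B, ∀ a, F a (g * b) = 0) :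
    Elim.PCl {z : Fin m → k | ∃ g, (∀ i j, z i * y g j = z j * y g i) ∧ ∀ a, F a g = 0} := by
  refine hB.comp (Fin m)
    {q : Γ × (Fin m → k) | (∀ i j, q.2 i * y q.1 j = q.2 j * y q.1 i) ∧ ∀ a, F a q.1 = 0} ?_ ?_
  · intro q hq
    refine ⟨fun i j => ?_, fun a => ?_⟩
    · have h' := hq (MvPolynomial.X i * MvPolynomial.C (⟨_, h.reg j⟩ : D.R) -
        MvPolynomial.X j * MvPolynomial.C (⟨_, h.reg i⟩ : D.R)) fun x hx => by
          rw [map_sub, map_mul, map_mul, Complete.pev_X, Complete.pev_X, Complete.pev_C, Complete.pev_C, sub_eq_zero]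
          exact hx.1 i j
      rw [map_sub, map_mul, map_mul, Complete.pev_X, Complete.pev_X, Complete.pev_C, Complete.pev_C, sub_eq_zero] at h'
      exact h'
    · have h' := hq (MvPolynomial.C (⟨_, hF a⟩ : D.R)) fun x hx => by
        rw [Complete.pev_C]; exact hx.2 a
      rwa [Complete.pev_C] at h'
  · rintro g z ⟨hgz, hg⟩ b hb
    refine ⟨fun i j => ?_, hFinv g hg b hb⟩
    obtain ⟨d, hd⟩ := h.rinv g b hb
    show z i * y (g * b) j = z j * y (g * b) i
    simp only [hd, Pi.smul_apply, smul_eq_mul]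
    linear_combination d * hgz i j

theorem cl_cone (hB : IsBor D B) (h : Orb D B T c y) : Elim.PCl (cone y) := by
  have h' := cl_cone_sub hB h (fun _ : PEmpty.{1} => (0 : Γ → k)) (fun a => a.elim) (fun _ _ _ _ a => a.elim)
  intro z hz
  obtain ⟨g, hg, -⟩ := h' z fun p hp => hz p fun x hx => hp x (by obtain ⟨g, hg⟩ := hx; exact ⟨g, hg, fun a => a.elim⟩)
  exact ⟨g, hg⟩

theorem act_mem_cone (h : Orb D B T c y) {z : Fin m → k} (hz : z ∈ cone y) {t : Γ} (ht : t ∈ T) :
    (fun i => c i t * z i) ∈ cone y := by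
  obtain ⟨g, d, rfl⟩ := (mem_cone h).mp hz
  exact (mem_cone h).mpr ⟨t * g, d, funext fun i => by
    simp only [Pi.smul_apply, smul_eq_mul, h.act t ht]; ring⟩

open scoped _root_.Classical in
/-- The part of an extreme weight of a point of the cone lies in the cone. -/
theorem proj_mem (hB : IsBor D B) (h : Orb D B T c y) {i0 : Fin m}
    (hv : ∀ a : Fin m →₀ ℕ, (∀ t ∈ T, a.prod (fun i n => c i t ^ n) = c i0 t ^ a.degree) →
      ∀ i, a i ≠ 0 → ∀ t ∈ T, c i t = c i0 t)
    {z : Fin m → k} (hz : z ∈ cone y) :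
    (fun i => if ∀ t ∈ T, c i t = c i0 t then z i else 0) ∈ cone y := by
  set z' : Fin m → k := fun i => if ∀ t ∈ T, c i t = c i0 t then z i else 0 with hz'
  refine cl_cone hB h z' fun p hp => ?_
  have hhom : ∀ d, ∀ x ∈ cone y, eval x (homogeneousComponent d p) = 0 :=
    fun d x hx => Cone.homogeneousComponent_vanish (cone y) (fun e w hw => smul_mem_cone hw) hp d x hx
  rw [← sum_homogeneousComponent p, map_sum]
  refine Finset.sum_eq_zero fun d _ => ?_
  set q := homogeneousComponent d p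
  let mon : (Fin m →₀ ℕ) → (T →* k) := fun a =>
    { toFun := fun t => a.prod fun i n => c i t ^ n
      map_one' := by simp [h.cone']
      map_mul' := fun s t => by
        rw [← Finsupp.prod_mul]
        exact Finsupp.prod_congr fun i _ => by rw [Subgroup.coe_mul, h.cmul i s s.2 t t.2, mul_pow] }
  let top : T →* k :=
    { toFun := fun t => c i0 t ^ d
      map_one' := by simp [h.cone']
      map_mul' := fun s t => by rw [Subgroup.coe_mul, h.cmul i0 s s.2 t t.2, mul_pow] }
  let w : (Fin m →₀ ℕ) → k := fun a => coeff a q * a.prod fun i n => z i ^ n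
  let cf : (T →* k) → k := fun χ => ∑ a ∈ q.support.filter fun a => mon a = χ, w a
  have hrel : ∀ t : T, ∑ χ ∈ q.support.image mon, cf χ * χ t = 0 := fun t => by
    have h0 := hhom d _ (act_mem_cone h hz t.2)
    rw [eval_eq] at h0
    rw [← h0, ← Finset.sum_fiberwise_of_maps_to (g := mon) (t := q.support.image mon)
      fun a ha => Finset.mem_image_of_mem mon ha]
    refine Finset.sum_congr rfl fun χ _ => ?_
    rw [Finset.sum_mul]
    refine Finset.sum_congr rfl fun a ha => ?_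
    obtain ⟨-, rfl⟩ := Finset.mem_filter.mp ha
    show coeff a q * (a.prod fun i n => z i ^ n) * (a.prod fun i n => c i t ^ n) = _
    rw [mul_assoc, ← Finsupp.prod_mul]
    refine congrArg _ (Finset.prod_congr rfl fun i _ => ?_)
    show z i ^ a i * c i t ^ a i = (c i t * z i) ^ a i
    rw [← mul_pow, mul_comm]
  have hcf : ∀ χ ∈ q.support.image mon, cf χ = 0 := by
    have hli := linearIndependent_monoidHom T k
    rw [linearIndependent_iff'] at hli
    exact hli _ cf (funext fun t => by simpa [Finset.sum_apply] using hrel t)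
  have hcftop : cf top = 0 := by
    by_cases ht : top ∈ q.support.image mon
    · exact hcf top ht
    · refine Finset.sum_eq_zero fun a ha => absurd ?_ ht
      exact Finset.mem_image.mpr ⟨a, (Finset.mem_filter.mp ha).1, (Finset.mem_filter.mp ha).2⟩
  rw [← hcftop, eval_eq]
  symm
  show ∑ a ∈ q.support.filter (fun a => mon a = top), w a = _
  rw [Finset.sum_filter]
  refine Finset.sum_congr rfl fun a ha => ?_
  have hdeg : a.degree = d := by
    rw [Finsupp.degree_eq_weight_one]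
    exact homogeneousComponent_isHomogeneous d p (mem_support_iff.mp ha)
  by_cases htop : mon a = top
  · rw [if_pos htop]
    refine congrArg _ (Finset.prod_congr rfl fun i hi => ?_)
    show z i ^ a i = z' i ^ a i
    rw [hz']
    simp only
    rw [if_pos fun t ht => hv a (fun t ht => hdeg.symm ▸ DFunLike.congr_fun htop ⟨t, ht⟩) i
      (Finsupp.mem_support_iff.mp hi) t ht]
  · rw [if_neg htop, eq_comm]
    obtain ⟨i, hi, hni⟩ : ∃ i ∈ a.support, ¬∀ t ∈ T, c i t = c i0 t := by
      by_contra hcon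
      refine htop (MonoidHom.ext fun t => ?_)
      show (a.prod fun i n => c i t ^ n) = c i0 t ^ d
      rw [← hdeg, Finsupp.degree_apply, ← Finset.prod_pow_eq_pow_sum]
      refine Finset.prod_congr rfl fun i hi => ?_
      show c i t ^ a i = _
      rw [not_not.mp fun hne => hcon ⟨i, hi, hne⟩]
      exact t.2
    refine mul_eq_zero_of_right _ (Finset.prod_eq_zero hi ?_)
    rw [hz']
    simp only
    rw [if_neg hni, zero_pow (Finsupp.mem_support_iff.mp hi)]

/-- A stable closed part of the cone contains a fixed line of the torus. -/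
theorem exists_fixed (hT : IsTor D T) (h : Orb D B T c y) {Z₁ : Set (Fin m → k)} (hcl : Elim.PCl Z₁)
    (hsub : Z₁ ⊆ cone y) (hsmul : ∀ d : k, ∀ z ∈ Z₁, d • z ∈ Z₁) (hne : ∃ z ∈ Z₁, z ≠ 0)
    (hst : ∀ t ∈ T, ∀ z ∈ Z₁, (fun i => c i t * z i) ∈ Z₁) :
    ∃ g, y g ∈ Z₁ ∧ ∀ t ∈ T, ∃ μ : k, μ ≠ 0 ∧ y (t * g) = μ • y g := by
  classical
  let DT := D.restrict T hT.cl
  haveI : Group.IsSolvable T := MaxTorus.solvable_tor hT
  haveI : Group.IsSolvable (⊤ : Subgroup T) :=
    Group.isSolvable_of_isSolvable_injective (f := (⊤ : Subgroup T).subtype) Subtype.val_injective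
  let bb := Pi.basisFun k (Fin m)
  let ρT : Representation k T (Fin m → k) :=
    { toFun := fun t => LinearMap.pi fun i => c i t • LinearMap.proj i
      map_one' := LinearMap.ext fun v => funext fun i => by
        show c i (1 : Γ) * v i = v i
        rw [h.cone', one_mul]
      map_mul' := fun a b => LinearMap.ext fun v => funext fun i => by
        show c i ((a : Γ) * b) * v i = c i (a : Γ) * (c i (b : Γ) * v i)
        rw [h.cmul i a a.2 b b.2, mul_assoc] }
  have hρT : EndFn DT.R (fun t => ρT t) := fun v l => by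
    refine ⟨fun g => ∑ i, c i g * (v i * l (Pi.single i 1)), ?_, funext fun t => ?_⟩
    · have : (fun g => ∑ i, c i g * (v i * l (Pi.single i 1))) =
          ∑ i, c i * algebraMap k (Γ → k) (v i * l (Pi.single i 1)) := by
        funext g; simp
      rw [this]
      exact D.R.sum_mem fun i _ => D.R.mul_mem (h.creg i) (D.R.algebraMap_mem _)
    · show ∑ i, c i (t : Γ) * (v i * l (Pi.single i 1)) = l (ρT t v)
      conv_rhs => rw [pi_eq_sum_univ (ρT t v), map_sum]
      refine Finset.sum_congr rfl fun i _ => ?_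
      rw [map_smul, smul_eq_mul, ← mul_assoc]
      refine congrArg₂ (· * ·) rfl (congrArg l (funext fun j => ?_))
      by_cases h : i = j
      · subst h; simp
      · rw [Pi.single_eq_of_ne (Ne.symm h), if_neg h]
  have hpf : ∀ p (z : Fin m → k), Fixed.pf bb p z = eval z p := fun p z => by
    show eval (bb.equivFun z) p = _
    rw [show bb.equivFun z = z from funext fun i => Pi.basisFun_repr k (Fin m) z i]
  have hcone : Fixed.IsCone bb ρT Z₁ :=
    ⟨fun v hv => hcl v fun p hp => by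
        rw [← hpf]
        exact hv p fun z hz => by rw [hpf]; exact hp z hz,
      hsmul, fun t z hz => hst t t.2 z hz⟩
  have hirrT : DT.SIrr ((⊤ : Subgroup T) : Set T) := by
    refine D.sirr_restrict.mpr ?_
    rw [Subgroup.coe_top, Set.image_univ, Subtype.range_coe_subtype]
    exact hT.irr
  obtain ⟨v, hv, hv0, hvfix⟩ := Fixed.exists_fixed bb ρT hρT hcone hne ⊤ hirrT
  obtain ⟨g, d, rfl⟩ := (mem_cone h).mp (hsub hv)
  have hd : d ≠ 0 := fun h => hv0 (by rw [h, zero_smul])
  refine ⟨g, by simpa [smul_smul, inv_mul_cancel₀ hd] using hsmul d⁻¹ _ hv, fun t ht => ?_⟩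
  obtain ⟨μ, hμ⟩ := hvfix ⟨t, ht⟩ trivial
  have hμ' : y (t * g) = μ • y g := funext fun i => by
    have h1 := congrFun hμ i
    change c i t * (d * y g i) = μ * (d * y g i) at h1
    rw [h.act t ht, Pi.smul_apply, smul_eq_mul]
    exact mul_left_cancel₀ hd (by linear_combination h1)
  refine ⟨μ, fun h0 => ?_, hμ'⟩
  obtain ⟨i, hi⟩ := h.nz (t * g)
  exact hi (by rw [hμ', h0, zero_smul]; rfl)

/-- An embedding of the quotient by a Borel subgroup into a projective space. -/
structure Emb (D : Alg k Γ) (B T : Subgroup Γ) {m : ℕ} (y : Γ → Fin m → k) (c : Fin m → Γ → k)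
    (ρ : Representation k Γ (Fin m → k)) : Prop where
  orb : Orb D B T (fun i g => c i g⁻¹) y
  sep : ∀ g g' (d : k), d ≠ 0 → y g' = d • y g → g⁻¹ * g' ∈ B
  indep : ∀ v : Fin m → k, (∀ g, ∑ i, v i * y g i = 0) → v = 0
  reg : EndFn D.R (fun g => ρ g)
  trans : ∀ a g (v : Fin m → k), ∑ i, ρ a v i * y g i = ∑ i, v i * y (a⁻¹ * g) i
  diag : ∀ t ∈ T, ∀ (v : Fin m → k) i, ρ t v i = c i t * v i

theorem exists_emb (hmul : HasMul D) (hB : IsBor D B) (hT : IsTor D T) :
    ∃ (m : ℕ) (y : Γ → Fin m → k) (c : Fin m → Γ → k) (ρ : Representation k Γ (Fin m → k)), Emb D B T y c ρ := by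
  classical
  obtain ⟨W', _, _, _, τ, hτ, U, hU⟩ := CharRad.exists_stab_space hmul B hB.cl
  have hUst : ∀ b ∈ B, ∀ x ∈ U, τ b x ∈ U := fun b hb x hx => ((hU b).mp hb).le ⟨x, hx, rfl⟩
  obtain ⟨L₀, hL₀⟩ := U.subtype.exists_leftInverse_of_injective U.ker_subtype
  let δ : (W' →ₗ[k] U) → Γ → k := fun L g => LinearMap.det (L.comp ((τ g).comp U.subtype))
  have hδ : ∀ L, δ L ∈ D.R := fun L => Central.det_regular fun x l => hτ (x : W') (l.comp L)
  let ν : Γ → k := δ L₀
  have hrmul : ∀ L g b, b ∈ B → δ L (g * b) = δ L g * ν b := fun L g b hb => by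
    show LinearMap.det _ = LinearMap.det _ * LinearMap.det _
    rw [← LinearMap.det_comp]
    congr 1
    ext x : 1
    show L (τ (g * b) x) = L (τ g (L₀ (τ b x) : W'))
    have h0 : L₀ (τ b x) = ⟨τ b x, hUst b hb x x.2⟩ := LinearMap.congr_fun hL₀ ⟨τ b x, hUst b hb x x.2⟩
    rw [h0, map_mul, End.mul_apply]
  obtain ⟨P, hP, hPmem⟩ := CharRad.det_span_fg (fun g => τ g) U.subtype
  let Λ : Submodule k (Γ → k) := Submodule.span k (Set.range δ)
  have hΛP : Λ ≤ P := Submodule.span_le.mpr (by rintro _ ⟨L, rfl⟩; exact hPmem L)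
  haveI : Module.Finite k P := ⟨(Submodule.fg_top P).mpr hP⟩
  haveI : FiniteDimensional k Λ := Submodule.finiteDimensional_of_le hΛP
  have hΛR : ∀ f ∈ Λ, f ∈ D.R :=
    Submodule.span_le (p := Subalgebra.toSubmodule D.R).mpr (by rintro _ ⟨L, rfl⟩; exact hδ L)
  have hΛmul : ∀ f ∈ Λ, ∀ g, ∀ b ∈ B, f (g * b) = f g * ν b := by
    intro f hf g b hb
    induction hf using Submodule.span_induction with
    | mem x hx => obtain ⟨L, rfl⟩ := hx; exact hrmul L g b hb
    | zero => simp
    | add x y _ _ hx hy => simp [hx, hy, add_mul]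
    | smul c x _ hx => simp [hx, mul_assoc]
  let ltr : Γ → (Γ → k) →ₗ[k] (Γ → k) := fun a =>
    { toFun := fun f x => f (a⁻¹ * x), map_add' := fun _ _ => rfl, map_smul' := fun _ _ => rfl }
  have hst : ∀ a, ∀ f ∈ Λ, ltr a f ∈ Λ := fun a => Submodule.span_le (p := Λ.comap (ltr a)).mpr (by
    rintro _ ⟨L, rfl⟩
    refine Submodule.subset_span ⟨L.comp (τ a⁻¹), funext fun x => ?_⟩
    show LinearMap.det _ = LinearMap.det _
    rw [map_mul, End.mul_eq_comp, LinearMap.comp_assoc, LinearMap.comp_assoc])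
  let ρ : Representation k Γ Λ :=
    { toFun := fun a => (ltr a).restrict (hst a)
      map_one' := LinearMap.ext fun f => Subtype.ext (funext fun x => by
        show (f : Γ → k) (1⁻¹ * x) = (f : Γ → k) x
        rw [inv_one, one_mul])
      map_mul' := fun a b => LinearMap.ext fun f => Subtype.ext (funext fun x => by
        show (f : Γ → k) ((a * b)⁻¹ * x) = (f : Γ → k) (b⁻¹ * (a⁻¹ * x))
        rw [_root_.mul_inv_rev, mul_assoc]) }
  have hρ : EndFn D.R (fun g => ρ g) := fun f l => by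
    have hev : ∀ x, ∀ Φ : Γ → k, Φ ∈ D.R → (fun a => Φ (a⁻¹ * x)) ∈ D.R := fun x Φ hΦ => D.inv _ (D.rmul x Φ hΦ)
    -- evaluations span the dual
    have hspan : l ∈ Submodule.span k (Set.range fun x : Γ =>
        ((LinearMap.proj x : (Γ → k) →ₗ[k] k).comp Λ.subtype : Dual k Λ)) := by
      by_contra hnot
      obtain ⟨Φ, hΦ, hΦ0⟩ := Submodule.exists_dual_map_eq_bot_of_notMem hnot inferInstance
      obtain ⟨y, rfl⟩ := (Module.evalEquiv k Λ).surjective Φ
      have hy : y = 0 := Subtype.ext (funext fun x => (Submodule.mem_bot k).mp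
        (hΦ0 ▸ ⟨_, Submodule.subset_span ⟨x, rfl⟩, rfl⟩))
      exact hΦ (by rw [hy, map_zero]; rfl)
    induction hspan using Submodule.span_induction with
    | mem x hx => obtain ⟨x, rfl⟩ := hx; exact hev x _ (hΛR f f.2)
    | zero => exact D.R.zero_mem
    | add x y _ _ hx hy => exact D.R.add_mem hx hy
    | smul c x _ hx => exact D.R.smul_mem hx c
  obtain ⟨e, he⟩ := exists_diag hT hρ
  let c : Fin (finrank k Λ) → Γ → k := fun i g => e.coord i (ρ g (e i))
  have hact : ∀ t ∈ T, ∀ i (x : Γ), (e i : Γ → k) (t⁻¹ * x) = c i t * (e i : Γ → k) x := fun t ht i x => by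
    obtain ⟨d, hd⟩ := he t ht i
    have hd' : c i t = d := by
      show e.coord i (ρ t (e i)) = d
      rw [hd, map_smul, Basis.coord_apply, Basis.repr_self, Finsupp.single_eq_same, smul_eq_mul, mul_one]
    rw [hd']
    exact congrFun (congrArg Subtype.val hd) x
  have hnz : ∀ g, ∃ i, (e i : Γ → k) g ≠ 0 := by
    intro g
    by_contra h
    push Not at h
    have hall : ∀ f ∈ Λ, f g = 0 := fun f hf => by
      have : (LinearMap.proj g : (Γ → k) →ₗ[k] k).comp Λ.subtype = 0 := e.ext fun i => h i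
      exact LinearMap.congr_fun this ⟨f, hf⟩
    have h1 := hall _ (Submodule.subset_span ⟨L₀.comp (τ g⁻¹), rfl⟩)
    change LinearMap.det _ = 0 at h1
    rw [LinearMap.comp_assoc, ← LinearMap.comp_assoc _ (τ g), ← End.mul_eq_comp, ← map_mul, inv_mul_cancel, map_one,
      End.one_eq_id, LinearMap.id_comp, hL₀, LinearMap.det_id] at h1
    exact one_ne_zero h1
  have hsep : ∀ g g' (d : k), d ≠ 0 → (∀ i, (e i : Γ → k) g' = d * (e i : Γ → k) g) → g⁻¹ * g' ∈ B := by
    intro g g' d hd hprop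
    have hall : ∀ f ∈ Λ, f g' = d * f g := fun f hf => by
      have : (LinearMap.proj g' : (Γ → k) →ₗ[k] k).comp Λ.subtype = d • (LinearMap.proj g : (Γ → k) →ₗ[k] k).comp Λ.subtype :=
        e.ext fun i => hprop i
      exact LinearMap.congr_fun this ⟨f, hf⟩
    let V : Submodule k W' := U.map (τ g)
    have hle : U.map (τ g') ≤ V := by
      rintro _ ⟨x, hx, rfl⟩
      by_contra hnot
      obtain ⟨Y, hY⟩ := Submodule.exists_isCompl (V ⊔ Submodule.span k {τ g' x})
      have hx0 : (⟨x, hx⟩ : U) ≠ 0 := fun h => hnot (by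
        rw [show x = 0 from congrArg Subtype.val h, map_zero]; exact zero_mem _)
      have hcompl : IsCompl V (Submodule.span k {τ g' x} ⊔ Y) := by
        refine ⟨?_, ?_⟩
        · rw [Submodule.disjoint_def]
          intro z hzV hz
          obtain ⟨q₀, hq₀, q, hq, rfl⟩ := Submodule.mem_sup.mp hz
          obtain ⟨r, rfl⟩ := Submodule.mem_span_singleton.mp hq₀
          have hq0 : q = 0 := Submodule.disjoint_def.mp hY.disjoint q
            (by
              have : q = (r • τ g' x + q) - r • τ g' x := (add_sub_cancel_left _ _).symm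
              rw [this]
              exact Submodule.sub_mem _ (Submodule.mem_sup_left hzV)
                (Submodule.mem_sup_right (Submodule.smul_mem _ _ (Submodule.mem_span_singleton_self _)))) hq
          subst hq0
          rw [add_zero] at hzV ⊢
          by_cases hr : r = 0
          · rw [hr, zero_smul]
          · exact absurd (by simpa [smul_smul, inv_mul_cancel₀ hr] using V.smul_mem r⁻¹ hzV) hnot
        · rw [codisjoint_iff, ← sup_assoc]
          exact hY.sup_eq_top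
      let pr : W' →ₗ[k] W' := V.subtype.comp (V.projectionOnto _ hcompl)
      have h := hall _ (Submodule.subset_span ⟨L₀.comp ((τ g⁻¹).comp pr), rfl⟩)
      change LinearMap.det _ = d * LinearMap.det _ at h
      have hA : (L₀.comp ((τ g⁻¹).comp pr)).comp ((τ g).comp U.subtype) = LinearMap.id := by
        ext y : 1
        show L₀ (τ g⁻¹ (pr (τ g y))) = y
        rw [show pr (τ g (y : W')) = τ g y from congrArg Subtype.val
          (Submodule.projectionOnto_apply_left hcompl ⟨τ g y, y, y.2, rfl⟩), ← End.mul_apply, ← map_mul,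
          inv_mul_cancel, map_one, End.one_apply]
        exact LinearMap.congr_fun hL₀ y
      have hB0 : LinearMap.det ((L₀.comp ((τ g⁻¹).comp pr)).comp ((τ g').comp U.subtype)) = 0 := by
        by_contra hne
        have := (LinearMap.isUnit_iff_isUnit_det _).mpr (isUnit_iff_ne_zero.mpr hne)
        refine hx0 ((Module.End.isUnit_iff _).mp this |>.1 ?_)
        rw [map_zero]
        show L₀ (τ g⁻¹ (pr (τ g' x))) = 0
        rw [show pr (τ g' x) = 0 from congrArg Subtype.val ((Submodule.projectionOnto_apply_eq_zero_iff hcompl).mpr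
          (Submodule.mem_sup_left (Submodule.mem_span_singleton_self _))), map_zero, map_zero]
      rw [hA, LinearMap.det_id, mul_one, hB0] at h
      exact hd h.symm
    have hinj : ∀ a, Function.Injective (τ a) := fun a =>
      Function.LeftInverse.injective (g := τ a⁻¹) fun x => by
        rw [← End.mul_apply, ← map_mul, inv_mul_cancel, map_one, End.one_apply]
    have heq : U.map (τ g') = V := Submodule.eq_of_le_of_finrank_eq hle (by
      rw [← LinearEquiv.finrank_eq (Submodule.equivMapOfInjective _ (hinj g') U),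
        ← LinearEquiv.finrank_eq (Submodule.equivMapOfInjective _ (hinj g) U)])
    rw [hU, map_mul, End.mul_eq_comp, Submodule.map_comp, heq, ← Submodule.map_comp, ← End.mul_eq_comp, ← map_mul,
      inv_mul_cancel, map_one, End.one_eq_id, Submodule.map_id]
  have hν : ∀ b ∈ B, ν b * ν b⁻¹ = 1 := fun b hb => by
    rw [← hrmul L₀ b b⁻¹ (B.inv_mem hb), mul_inv_cancel]
    show LinearMap.det _ = 1
    rw [map_one, End.one_eq_id, LinearMap.id_comp, hL₀, LinearMap.det_id]
  let σe : Representation k Γ (Fin (finrank k Λ) → k) :=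
    { toFun := fun a => e.equivFun.toLinearMap ∘ₗ ρ a ∘ₗ e.equivFun.symm.toLinearMap
      map_one' := LinearMap.ext fun v => by
        show e.equivFun (ρ 1 (e.equivFun.symm v)) = v
        rw [map_one]
        exact e.equivFun.apply_symm_apply v
      map_mul' := fun a b => LinearMap.ext fun v => by
        show e.equivFun (ρ (a * b) _) = e.equivFun (ρ a (e.equivFun.symm (e.equivFun (ρ b _))))
        rw [LinearEquiv.symm_apply_apply, map_mul]
        rfl }
  have hval : ∀ (f : Λ) g, (f : Γ → k) g = ∑ i, e.equivFun f i * (e i : Γ → k) g := fun f g => by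
    show ((LinearMap.proj g : (Γ → k) →ₗ[k] k).comp Λ.subtype) f = _
    conv_lhs => rw [← e.sum_equivFun f, map_sum]
    exact Finset.sum_congr rfl fun i _ => by rw [map_smul]; rfl
  have hone : ∀ i, c i 1 = 1 := fun i => by simp [c]
  have hcm : ∀ i, ∀ a ∈ T, ∀ b ∈ T, c i (a * b) = c i a * c i b := fun i a ha b hb => by
    obtain ⟨d, hd⟩ := he b hb i
    show e.coord i (ρ (a * b) (e i)) = e.coord i (ρ a (e i)) * e.coord i (ρ b (e i))
    rw [map_mul, End.mul_apply, hd, map_smul, map_smul, map_smul, show e.coord i (e i) = 1 by simp,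
      smul_eq_mul, smul_eq_mul, mul_one, mul_comm]
  refine ⟨finrank k Λ, fun g i => (e i : Γ → k) g, c, σe,
    ⟨fun i => hΛR _ (e i).2, hnz, fun g b hb => ⟨ν b, funext fun i => ?_⟩, fun t ht g i => ?_,
      fun i => D.inv _ (hρ (e i) (e.coord i)), fun i => ?_, fun i a ha b hb => ?_⟩,
    fun g g' d hd hgg' => hsep g g' d hd (congrFun hgg'), fun v hv => ?_, fun v l => ?_, fun a g v => ?_,
    fun t ht v i => ?_⟩
  · show (e i : Γ → k) (g * b) = ν b * (e i : Γ → k) g
    rw [hΛmul _ (e i).2 g b hb, mul_comm]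
  · have h' := hact t⁻¹ (T.inv_mem ht) i g
    rwa [inv_inv] at h'
  · show c i (1 : Γ)⁻¹ = 1
    rw [inv_one, hone]
  · show c i (a * b)⁻¹ = c i a⁻¹ * c i b⁻¹
    rw [mul_inv_rev, hcm i _ (T.inv_mem hb) _ (T.inv_mem ha), mul_comm]
  · refine e.equivFun.symm.injective ?_
    rw [map_zero]
    refine Subtype.ext (funext fun g => ?_)
    rw [hval, LinearEquiv.apply_symm_apply]
    exact hv g
  · exact hρ (e.equivFun.symm v) (l ∘ₗ e.equivFun.toLinearMap)
  · have h1 := hval (ρ a (e.equivFun.symm v)) g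
    have h2 := hval (e.equivFun.symm v) (a⁻¹ * g)
    rw [LinearEquiv.apply_symm_apply] at h2
    exact h1.symm.trans h2
  · show e.equivFun (ρ t (e.equivFun.symm v)) i = c i t * v i
    rw [Basis.equivFun_symm_apply, map_sum, map_sum, Finset.sum_apply, Finset.sum_eq_single i]
    · obtain ⟨d, hd⟩ := he t ht i
      rw [map_smul, map_smul, Pi.smul_apply, smul_eq_mul, mul_comm]
      rfl
    · intro j _ hj
      obtain ⟨d, hd⟩ := he t ht j
      rw [map_smul, hd, map_smul, map_smul, Pi.smul_apply, Pi.smul_apply]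
      simp [Basis.equivFun_apply, Finsupp.single_eq_of_ne, hj, Ne.symm hj]
    · exact fun h => absurd (Finset.mem_univ i) h

variable {W : Type w} [AddCommGroup W] [Module k W] [FiniteDimensional k W] {σ : Representation k Γ W}

/-- Luna's argument: an irreducible unipotent set lying in the Borel subgroups containing a maximal torus lies in all
Borel subgroups. -/
theorem mem_borel_of_unipotent (hmul : HasMul D) (hσ : GenRep.Gen D σ) (hB : IsBor D B) (hT : IsMax D T) (hTB : T ≤ B)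
    {S : Set Γ} (hS : D.SIrr S) (h1 : (1 : Γ) ∈ S) (hnil : ∀ s ∈ S, IsNilpotent (σ s - 1))
    (hin : ∀ g, (∀ t ∈ T, g⁻¹ * t * g ∈ B) → ∀ s ∈ S, g⁻¹ * s * g ∈ B) :
    ∀ s ∈ S, ∀ g, g⁻¹ * s * g ∈ B := by
  classical
  obtain ⟨m, y, c, ρ, E⟩ := exists_emb hmul hB hT.tor
  have hB1 : (1 : Γ) ∈ B := B.one_mem
  have i1 : Fin m := (E.orb.nz 1).choose
  have hcreg : ∀ i, c i ∈ D.R := fun i => by
    simpa using D.inv _ (E.orb.creg i)
  have hcone : ∀ i, c i 1 = 1 := fun i => by simpa using E.orb.cone' i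
  have hcmul : ∀ i, ∀ a ∈ T, ∀ b ∈ T, c i (a * b) = c i a * c i b := fun i a ha b hb => by
    have := E.orb.cmul i b⁻¹ (T.inv_mem hb) a⁻¹ (T.inv_mem ha)
    simp only [← mul_inv_rev, inv_inv] at this
    rw [this, mul_comm]
  obtain ⟨i0, hi0⟩ := exists_vertex hT.tor i1 c hcreg hcone hcmul
  have hi0' : ∀ a : Fin m →₀ ℕ, (∀ t ∈ T, a.prod (fun i n => c i t⁻¹ ^ n) = c i0 t⁻¹ ^ a.degree) →
      ∀ i, a i ≠ 0 → ∀ t ∈ T, c i t⁻¹ = c i0 t⁻¹ := fun a ha i hi t ht =>
    hi0 a (fun s hs => by simpa using ha s⁻¹ (T.inv_mem hs)) i hi t⁻¹ (T.inv_mem ht)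
  have hclass : ∀ i, (∀ t ∈ T, c i t⁻¹ = c i0 t⁻¹) ↔ ∀ t ∈ T, c i t = c i0 t := fun i =>
    ⟨fun h t ht => by simpa using h t⁻¹ (T.inv_mem ht), fun h t ht => h t⁻¹ (T.inv_mem ht)⟩
  -- a fixed point of extreme weight
  obtain ⟨g1, hg1⟩ : ∃ g, y g i0 ≠ 0 := by
    by_contra hcon
    push Not at hcon
    have := E.indep (Pi.single i0 1) fun g => by simp [Pi.single_apply, hcon g]
    exact one_ne_zero (α := k) (by simpa using congrFun this i0)
  obtain ⟨g0, d1, hg0⟩ := (mem_cone E.orb).mp (proj_mem hB E.orb hi0' ((mem_cone E.orb).mpr ⟨g1, 1, (one_smul _ _).symm⟩))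
  have hd1 : d1 ≠ 0 := fun h0 => hg1 (by simpa [h0] using congrFun hg0 i0)
  have hg0off : ∀ i, ¬(∀ t ∈ T, c i t = c i0 t) → y g0 i = 0 := fun i hi => by
    have := congrFun hg0 i
    rw [if_neg (mt (hclass i).mp hi)] at this
    exact (mul_eq_zero.mp this.symm).resolve_left hd1
  have hg0T : ∀ t ∈ T, g0⁻¹ * t * g0 ∈ B := fun t ht => by
    rw [mul_assoc]
    refine E.sep g0 (t * g0) (c i0 t⁻¹) (fun h0 => ?_) (funext fun i => ?_)
    · have := hcmul i0 t ht t⁻¹ (T.inv_mem ht)
      rw [mul_inv_cancel, hcone, h0, mul_zero] at this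
      exact one_ne_zero this
    · rw [E.orb.act t ht, Pi.smul_apply, smul_eq_mul]
      by_cases hi : ∀ t ∈ T, c i t = c i0 t
      · rw [hi t⁻¹ (T.inv_mem ht)]
      · rw [hg0off i hi, mul_zero, mul_zero]
  -- a line fixed by `B` among the functions
  haveI := hB.solv
  obtain ⟨v2, -, hv20, hv2⟩ := Fixed.exists_fixed (Pi.basisFun k (Fin m)) ρ E.reg (Z := Set.univ)
    ⟨fun _ _ => trivial, fun _ _ _ => trivial, fun _ _ _ => trivial⟩
    ⟨Pi.single i0 1, trivial, fun h => one_ne_zero (α := k) (by simpa using congrFun h i0)⟩ B hB.irr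
  have O2 : Orb D B T c (fun g => ρ g v2) := by
    refine ⟨fun i => E.reg v2 (LinearMap.proj i), fun g => ?_, fun g b hb => ?_, fun t ht g i => ?_, hcreg, hcone, hcmul⟩
    · by_contra hcon
      push Not at hcon
      refine hv20 ?_
      have h0 : ρ g v2 = 0 := funext hcon
      have h2 := congrArg (ρ g⁻¹) h0
      rwa [← End.mul_apply, ← map_mul, inv_mul_cancel, map_one, End.one_apply, map_zero] at h2
    · obtain ⟨e, he⟩ := hv2 b hb
      exact ⟨e, by show ρ (g * b) v2 = e • ρ g v2; rw [map_mul, End.mul_apply, he, map_smul]⟩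
    · show ρ (t * g) v2 i = c i t * ρ g v2 i
      rw [map_mul, End.mul_apply, E.diag t ht]
  -- an extreme weight vector in the orbit of that line
  obtain ⟨g2, hg2⟩ : ∃ g, ∑ i, v2 i * y g i ≠ 0 := by
    by_contra hcon
    push Not at hcon
    exact hv20 (E.indep v2 hcon)
  obtain ⟨a, d2, ha⟩ := (mem_cone O2).mp (proj_mem hB O2 hi0 ((mem_cone O2).mpr ⟨g0 * g2⁻¹, 1, (one_smul _ _).symm⟩))
  set v0 : Fin m → k := ρ a v2 with hv0
  have hf00 : ∑ i, v0 i * y g0 i ≠ 0 := by
    intro h0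
    refine hg2 ?_
    have htr := E.trans (g0 * g2⁻¹) g0 v2
    rw [show (g0 * g2⁻¹)⁻¹ * g0 = g2 by group] at htr
    rw [← htr]
    calc ∑ i, ρ (g0 * g2⁻¹) v2 i * y g0 i = ∑ i, d2 * (v0 i * y g0 i) := by
          refine Finset.sum_congr rfl fun i _ => ?_
          by_cases hi : ∀ t ∈ T, c i t = c i0 t
          · have := congrFun ha i
            rw [if_pos hi] at this
            rw [this]
            show d2 * v0 i * _ = _
            ring
          · rw [hg0off i hi]; ring
      _ = 0 := by rw [← Finset.mul_sum, h0, mul_zero]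
  have hd2 : d2 ≠ 0 := by
    intro h0
    refine hg2 ?_
    have htr := E.trans (g0 * g2⁻¹) g0 v2
    rw [show (g0 * g2⁻¹)⁻¹ * g0 = g2 by group] at htr
    rw [← htr]
    refine Finset.sum_eq_zero fun i _ => ?_
    by_cases hi : ∀ t ∈ T, c i t = c i0 t
    · have := congrFun ha i
      rw [if_pos hi, h0, zero_smul] at this
      rw [this, Pi.zero_apply, zero_mul]
    · rw [hg0off i hi, mul_zero]
  have hv0off : ∀ i, ¬(∀ t ∈ T, c i t = c i0 t) → v0 i = 0 := fun i hi => by
    have := congrFun ha i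
    rw [if_neg hi] at this
    exact (mul_eq_zero.mp this.symm).resolve_left hd2
  have hv0T : ∀ t ∈ T, ρ t v0 = c i0 t • v0 := fun t ht => funext fun i => by
    rw [E.diag t ht, Pi.smul_apply, smul_eq_mul]
    by_cases hi : ∀ t ∈ T, c i t = c i0 t
    · rw [hi t ht]
    · rw [hv0off i hi, mul_zero, mul_zero]
  -- that vector is fixed by a Borel subgroup containing `T`
  let F : Fin m × Fin m → Γ → k := fun p g => ρ g v2 p.1 * v0 p.2 - ρ g v2 p.2 * v0 p.1
  have hF : ∀ p, F p ∈ D.R := fun p => by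
    have hp : F p = (fun g => ρ g v2 p.1) * algebraMap k (Γ → k) (v0 p.2) -
        (fun g => ρ g v2 p.2) * algebraMap k (Γ → k) (v0 p.1) := by
      funext g; simp [F]
    rw [hp]
    exact D.R.sub_mem (D.R.mul_mem (O2.reg p.1) (D.R.algebraMap_mem _)) (D.R.mul_mem (O2.reg p.2) (D.R.algebraMap_mem _))
  let Z3 : Set (Fin m → k) := {z | ∃ g, (∀ i j, z i * y g j = z j * y g i) ∧ ∀ p, F p g = 0}
  have hZ3 : Elim.PCl Z3 := cl_cone_sub hB E.orb F hF fun g hg b hb p => by
    obtain ⟨e, he⟩ := O2.rinv g b hb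
    change ρ (g * b) v2 = e • ρ g v2 at he
    have h0 := hg p
    show ρ (g * b) v2 p.1 * v0 p.2 - ρ (g * b) v2 p.2 * v0 p.1 = 0
    rw [he]
    simp only [Pi.smul_apply, smul_eq_mul]
    linear_combination e * h0
  obtain ⟨g3', hg3', hg3T'⟩ := exists_fixed hT.tor E.orb hZ3 (fun z ⟨g, hg, _⟩ => ⟨g, hg⟩)
    (fun d z ⟨g, hg, hgF⟩ => ⟨g, fun i j => by simp only [Pi.smul_apply, smul_eq_mul]; linear_combination d * hg i j, hgF⟩)
    (by
      obtain ⟨i, hi⟩ := E.orb.nz a
      exact ⟨y a, ⟨a, fun i j => mul_comm _ _, fun p => by simp only [F, hv0]; ring⟩, fun h => hi (congrFun h i)⟩)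
    (by
      rintro t ht z ⟨g, hg, hgF⟩
      refine ⟨t * g, fun i j => ?_, fun p => ?_⟩
      · simp only [E.orb.act t ht]
        linear_combination c i t⁻¹ * c j t⁻¹ * hg i j
      · have hc0 : c i0 t * c i0 t⁻¹ = 1 := by rw [← hcmul i0 t ht t⁻¹ (T.inv_mem ht), mul_inv_cancel, hcone]
        have h0 := hgF p
        simp only [F, sub_eq_zero] at h0 ⊢
        rw [map_mul, End.mul_apply, E.diag t ht, E.diag t ht]
        by_cases h1 : ∀ t ∈ T, c p.1 t = c i0 t
        · by_cases h2 : ∀ t ∈ T, c p.2 t = c i0 t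
          · rw [h1 t ht, h2 t ht]; linear_combination c i0 t * h0
          · rw [hv0off p.2 h2, mul_zero] at h0 ⊢
            rcases mul_eq_zero.mp h0.symm with h | h <;> simp [h]
        · rw [hv0off p.1 h1, mul_zero] at h0 ⊢
          rcases mul_eq_zero.mp h0 with h | h <;> simp [h])
  obtain ⟨g3, hg3, hgF⟩ := hg3'
  have hg3T : ∀ t ∈ T, g3⁻¹ * t * g3 ∈ B := fun t ht => by
    obtain ⟨μ, hμ, hμ'⟩ := hg3T' t ht
    obtain ⟨j, hj⟩ := E.orb.nz g3
    obtain ⟨i, hi⟩ := E.orb.nz g3'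
    -- `y g3'` and `y g3` are proportional
    have hprop : y g3' = (y g3' j / y g3 j) • y g3 := funext fun i => by
      rw [Pi.smul_apply, smul_eq_mul, div_mul_eq_mul_div, eq_div_iff hj]
      exact hg3 i j
    have hd : y g3' j / y g3 j ≠ 0 := fun h0 => hi (by rw [hprop, h0, zero_smul]; rfl)
    rw [mul_assoc]
    refine E.sep g3 (t * g3) μ hμ (funext fun l => ?_)
    have h1 := congrFun hμ' l
    rw [E.orb.act t ht, hprop, Pi.smul_apply, Pi.smul_apply, Pi.smul_apply, smul_eq_mul, smul_eq_mul] at h1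
    rw [E.orb.act t ht, Pi.smul_apply, smul_eq_mul]
    exact mul_left_cancel₀ hd (by linear_combination h1)
  obtain ⟨e3, he30, he3⟩ : ∃ e : k, e ≠ 0 ∧ v0 = e • ρ g3 v2 := by
    obtain ⟨j, hj⟩ := O2.nz g3
    refine ⟨v0 j / ρ g3 v2 j, fun h0 => ?_, funext fun i => ?_⟩
    · refine hf00 (Finset.sum_eq_zero fun i _ => ?_)
      have := hgF (i, j)
      simp only [F, sub_eq_zero] at this
      rw [(div_eq_zero_iff.mp h0).resolve_right hj, mul_zero] at this
      rw [(mul_eq_zero.mp this.symm).resolve_left hj, zero_mul]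
    · rw [Pi.smul_apply, smul_eq_mul, div_mul_eq_mul_div, eq_div_iff hj]
      have := hgF (i, j)
      simp only [F, sub_eq_zero] at this
      linear_combination -this
  have hfix : ∀ w, g3⁻¹ * w * g3 ∈ B → IsNilpotent (σ w - 1) → ρ w v0 = v0 := by
    intro w hw hwn
    choose χ hχ using fun b : B => hv2 b b.2
    obtain ⟨j, hj⟩ : ∃ j, v2 j ≠ 0 := Function.ne_iff.mp hv20
    have hχone : χ 1 = 1 := by
      have h' := congrFun (hχ 1) j
      rw [OneMemClass.coe_one, map_one, End.one_apply, Pi.smul_apply, smul_eq_mul] at h'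
      exact mul_right_cancel₀ hj (h'.symm.trans (one_mul _).symm)
    have hχmul : ∀ b b', χ (b * b') = χ b * χ b' := fun b b' => by
      have h' := congrFun (hχ (b * b')) j
      rw [Subgroup.coe_mul, map_mul, End.mul_apply, hχ b', map_smul, hχ b] at h'
      simp only [Pi.smul_apply, smul_eq_mul] at h'
      exact mul_right_cancel₀ hj (by linear_combination -h')
    let ψ : B →* kˣ := MonoidHom.toHomUnits { toFun := χ, map_one' := hχone, map_mul' := hχmul }
    have hψ : Diag.RegChar (D.restrict B hB.cl) ψ := by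
      refine ⟨(fun g => ρ g v2 j) * algebraMap k (Γ → k) (v2 j)⁻¹,
        D.R.mul_mem (O2.reg j) (D.R.algebraMap_mem _), funext fun b => ?_⟩
      show ρ (b : Γ) v2 j * (v2 j)⁻¹ = χ b
      rw [hχ b, Pi.smul_apply, smul_eq_mul, mul_inv_cancel_right₀ hj]
    have hnb : IsNilpotent (σ.comp B.subtype ⟨_, hw⟩ - 1) := by
      show IsNilpotent (σ (g3⁻¹ * w * g3) - 1)
      obtain ⟨N, hN⟩ := hwn
      refine ⟨N, ?_⟩
      have hu : σ (g3⁻¹ * w * g3) - 1 = σ g3⁻¹ * (σ w - 1) * σ g3 := by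
        rw [mul_sub, sub_mul, mul_one, ← map_mul, ← map_mul, ← map_mul, inv_mul_cancel, map_one]
      have hinv : σ g3 * σ g3⁻¹ = 1 := by rw [← map_mul, mul_inv_cancel, map_one]
      have hinv' : σ g3⁻¹ * σ g3 = 1 := by rw [← map_mul, inv_mul_cancel, map_one]
      let cu : (End k W)ˣ := ⟨σ g3⁻¹, σ g3, hinv', hinv⟩
      rw [hu]
      show ((cu : End k W) * (σ w - 1) * ((cu⁻¹ : (End k W)ˣ) : End k W)) ^ N = 0
      rw [Units.conj_pow, hN, mul_zero, zero_mul]
    have h2 : ψ ⟨_, hw⟩ = 1 := Central.char_eq_one _ (GenRep.Gen.restrict D hσ B hB.cl) hnb hψ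
    have h3 : ρ (g3⁻¹ * w * g3) v2 = v2 := by
      rw [show ρ (g3⁻¹ * w * g3) v2 = (ψ ⟨_, hw⟩ : k) • v2 from hχ ⟨_, hw⟩, h2, Units.val_one, one_smul]
    rw [he3, map_smul, ← End.mul_apply, ← map_mul, show w * g3 = g3 * (g3⁻¹ * w * g3) by group, map_mul, End.mul_apply, h3]
  -- the functions `x ↦ f₀ (n x)`
  let f0 : Γ → k := fun x => ∑ i, v0 i * y x i
  have hconjN : ∀ n, n ∈ Subgroup.normalizer (T : Set Γ) → ∀ t ∈ T, n * t * n⁻¹ ∈ T := fun n hn t ht =>
    (Subgroup.mem_normalizer_iff.mp hn t).mp ht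
  have hinv : ∀ n ∈ Subgroup.normalizer (T : Set Γ), ∀ s ∈ S, ∀ x, f0 (n * s * x) = f0 (n * x) := by
    intro n hn s hs x
    have hw : g3⁻¹ * (n * s * n⁻¹) * g3 ∈ B := by
      have := hin (n⁻¹ * g3) (fun t ht => by
        rw [show (n⁻¹ * g3)⁻¹ * t * (n⁻¹ * g3) = g3⁻¹ * (n * t * n⁻¹) * g3 by group]
        exact hg3T _ (hconjN n hn t ht)) s hs
      rwa [show (n⁻¹ * g3)⁻¹ * s * (n⁻¹ * g3) = g3⁻¹ * (n * s * n⁻¹) * g3 by group] at this
    have hwn : IsNilpotent (σ (n * s * n⁻¹) - 1) := by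
      obtain ⟨N, hN⟩ := hnil s hs
      have h1 : σ n * σ n⁻¹ = 1 := by rw [← map_mul, mul_inv_cancel, map_one]
      have h2 : σ n⁻¹ * σ n = 1 := by rw [← map_mul, inv_mul_cancel, map_one]
      let cu : (End k W)ˣ := ⟨σ n, σ n⁻¹, h1, h2⟩
      refine ⟨N, ?_⟩
      rw [map_mul, map_mul, show σ n * σ s * σ n⁻¹ - 1 = (cu : End k W) * (σ s - 1) * ((cu⁻¹ : (End k W)ˣ) : End k W) by
        rw [mul_sub, sub_mul, mul_one]; exact congrArg _ h1.symm, Units.conj_pow, hN, mul_zero, zero_mul]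
    have h4 := hfix _ hw hwn
    calc f0 (n * s * x) = ∑ i, ρ (n * s * n⁻¹) v0 i * y (n * s * x) i := by rw [h4]
      _ = ∑ i, v0 i * y ((n * s * n⁻¹)⁻¹ * (n * s * x)) i := E.trans _ _ _
      _ = f0 (n * x) := by rw [show (n * s * n⁻¹)⁻¹ * (n * s * x) = n * x by group]
  let L : Γ → (Fin m → k) → k := fun n z => ∑ i, ρ n⁻¹ v0 i * z i
  have hL : ∀ n x, L n (y x) = f0 (n * x) := fun n x => by
    show ∑ i, ρ n⁻¹ v0 i * y x i = _
    rw [E.trans, inv_inv]
  have hLs : ∀ n (d : k) z, L n (d • z) = d * L n z := fun n d z => by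
    simp only [L, Pi.smul_apply, smul_eq_mul, Finset.mul_sum]
    exact Finset.sum_congr rfl fun i _ => by ring
  have hlev : ∀ (v : Fin m → k) (z : Fin m → k), eval z (∑ i, MvPolynomial.C (v i) * X i) = ∑ i, v i * z i :=
    fun v z => by simp
  have hcov : ∀ g, ∃ n ∈ Subgroup.normalizer (T : Set Γ), f0 (n * g) ≠ 0 := by
    by_contra hcon
    push Not at hcon
    obtain ⟨g, hg⟩ := hcon
    let Z1 : Set (Fin m → k) := {z ∈ cone y | ∀ n ∈ Subgroup.normalizer (T : Set Γ), L n z = 0}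
    have hZ1 : Elim.PCl Z1 := fun z hz => by
      refine ⟨cl_cone hB E.orb z fun p hp => hz p fun x hx => hp x hx.1, fun n hn => ?_⟩
      have h0 := hz (∑ i, MvPolynomial.C (ρ n⁻¹ v0 i) * X i) fun x hx => by rw [hlev]; exact hx.2 n hn
      rwa [hlev] at h0
    obtain ⟨g4, ⟨-, hg4⟩, hg4T'⟩ := exists_fixed hT.tor E.orb hZ1 (fun z hz => hz.1)
      (fun d z hz => ⟨smul_mem_cone hz.1, fun n hn => by rw [hLs, hz.2 n hn, mul_zero]⟩)
      (by
        obtain ⟨i, hi⟩ := E.orb.nz g
        exact ⟨y g, ⟨(mem_cone E.orb).mpr ⟨g, 1, (one_smul _ _).symm⟩, fun n hn => (hL n g).trans (hg n hn)⟩,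
          fun h => hi (congrFun h i)⟩)
      (by
        rintro t ht z ⟨hz, hzL⟩
        refine ⟨act_mem_cone E.orb hz ht, fun n hn => ?_⟩
        obtain ⟨x, d, rfl⟩ := (mem_cone E.orb).mp hz
        have hz' : (fun i => c i t⁻¹ * (d • y x) i) = d • y (t * x) := funext fun i => by
          simp only [Pi.smul_apply, smul_eq_mul, E.orb.act t ht]; ring
        rw [hz', hLs, hL]
        have h0 := hzL n hn
        rw [hLs, hL] at h0
        rcases mul_eq_zero.mp h0 with h | h
        · rw [h, zero_mul]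
        · have hs : n * t * n⁻¹ ∈ T := hconjN n hn t ht
          have h5 := E.trans (n * t * n⁻¹)⁻¹ (n * x) v0
          rw [hv0T _ (T.inv_mem hs), inv_inv, show n * t * n⁻¹ * (n * x) = n * (t * x) by group] at h5
          have h6 : f0 (n * (t * x)) = c i0 (n * t * n⁻¹)⁻¹ * f0 (n * x) := by
            show ∑ i, v0 i * y (n * (t * x)) i = _ * ∑ i, v0 i * y (n * x) i
            rw [← h5, Finset.mul_sum]
            exact Finset.sum_congr rfl fun i _ => by rw [Pi.smul_apply, smul_eq_mul]; ring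
          rw [h6, h, mul_zero, mul_zero])
    have hg4T : ∀ t ∈ T, g4⁻¹ * t * g4 ∈ B := fun t ht => by
      obtain ⟨μ, hμ, hμ'⟩ := hg4T' t ht
      rw [mul_assoc]
      exact E.sep g4 (t * g4) μ hμ hμ'
    obtain ⟨b, hb, hb'⟩ := conj_borel hmul hσ hB (hT.map_conj g4⁻¹) (hT.map_conj g0⁻¹)
      (by rintro _ ⟨t, ht, rfl⟩; show g4⁻¹ * t * g4⁻¹⁻¹ ∈ B; rw [inv_inv]; exact hg4T t ht)
      (by rintro _ ⟨t, ht, rfl⟩; show g0⁻¹ * t * g0⁻¹⁻¹ ∈ B; rw [inv_inv]; exact hg0T t ht)
    have hn : g0 * b * g4⁻¹ ∈ Subgroup.normalizer (T : Set Γ) := Subgroup.mem_normalizer_iff.mpr fun t => by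
      have h1 := SetLike.ext_iff.mp hb' (b * (g4⁻¹ * t * g4⁻¹⁻¹) * b⁻¹)
      simp only [mem_map, inv_inv] at h1
      rw [show g4 * (b⁻¹ * (b * (g4⁻¹ * t * g4) * b⁻¹) * b) * g4⁻¹ = t by group] at h1
      rw [show g0 * b * g4⁻¹ * t * (g0 * b * g4⁻¹)⁻¹ = g0 * (b * (g4⁻¹ * t * g4) * b⁻¹) * g0⁻¹ by group]
      exact h1
    have h0 := hg4 _ hn
    rw [hL, inv_mul_cancel_right] at h0
    obtain ⟨e, he⟩ := E.orb.rinv g0 b hb
    have he0 : e ≠ 0 := fun h => by
      obtain ⟨i, hi⟩ := E.orb.nz (g0 * b)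
      exact hi (by rw [he, h, zero_smul]; rfl)
    have h7 : f0 (g0 * b) = e * ∑ i, v0 i * y g0 i := by
      show ∑ i, v0 i * y (g0 * b) i = _
      rw [he, Finset.mul_sum]
      exact Finset.sum_congr rfl fun i _ => by rw [Pi.smul_apply, smul_eq_mul]; ring
    rw [h7] at h0
    exact hf00 ((mul_eq_zero.mp h0).resolve_left he0)
  -- finitely many points with the same values of these functions
  intro s hs g
  obtain ⟨n, hn, hng⟩ := hcov g
  let Zg : Set (Fin m → k) := {z ∈ cone y | ∀ n' ∈ Subgroup.normalizer (T : Set Γ), L n' z * L n (y g) = L n z * L n' (y g)}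
  have hZg : Elim.PCl Zg := fun z hz => by
    refine ⟨cl_cone hB E.orb z fun p hp => hz p fun x hx => hp x hx.1, fun n' hn' => ?_⟩
    let q : MvPolynomial (Fin m) k := (∑ i, MvPolynomial.C (ρ n'⁻¹ v0 i) * X i) * MvPolynomial.C (L n (y g)) -
      (∑ i, MvPolynomial.C (ρ n⁻¹ v0 i) * X i) * MvPolynomial.C (L n' (y g))
    have hq : ∀ x, eval x q = L n' x * L n (y g) - L n x * L n' (y g) := fun x => by simp [q, L]
    have h0 := hz q fun x hx => by rw [hq, sub_eq_zero]; exact hx.2 n' hn'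
    rwa [hq, sub_eq_zero] at h0
  let Z' : Set (Option (Fin m) → k) := {z | (fun i => z (some i)) ∈ Zg ∧ z none = L n fun i => z (some i)}
  have hZ' : Elim.PCl Z' := fun z hz => by
    refine ⟨hZg _ fun p hp => ?_, ?_⟩
    · have h0 := hz (rename some p) fun x hx => by rw [eval_rename]; exact hp _ hx.1
      rwa [eval_rename] at h0
    · let q : MvPolynomial (Option (Fin m)) k := X none - ∑ i, MvPolynomial.C (ρ n⁻¹ v0 i) * X (some i)
      have hq : ∀ x, eval x q = x none - L n fun i => x (some i) := fun x => by simp [q, L]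
      have h0 := hz q fun x hx => by rw [hq, sub_eq_zero]; exact hx.2
      rwa [hq, sub_eq_zero] at h0
  have hsm : ∀ d : k, ∀ z ∈ Z', d • z ∈ Z' := by
    rintro d z ⟨⟨h1, h2⟩, h3⟩
    refine ⟨⟨smul_mem_cone (d := d) h1, fun n' hn' => ?_⟩, ?_⟩
    · show L n' (d • fun i => z (some i)) * _ = L n (d • fun i => z (some i)) * _
      rw [hLs, hLs]
      linear_combination d * h2 n' hn'
    · show d * z none = L n (d • fun i => z (some i))
      rw [hLs, h3]
  have hoff : ∀ z ∈ Z', (∀ i ∈ ({none} : Finset (Option (Fin m))), z i = 0) → z = 0 := by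
    rintro z ⟨⟨h1, h2⟩, h3⟩ hnone
    have hz0 : z none = 0 := hnone none (Finset.mem_singleton_self _)
    obtain ⟨x, d, hx⟩ := (mem_cone E.orb).mp h1
    rw [hx] at h2 h3
    rw [hz0, hLs, hL] at h3
    have hd : d = 0 := by
      by_contra hd
      obtain ⟨n', hn', hn'x⟩ := hcov x
      have h4 := h2 n' hn'
      rw [hLs, hLs, hL n x, ← h3, zero_mul] at h4
      rw [hL n' x, hL n g] at h4
      rcases mul_eq_zero.mp h4 with h5 | h5
      · exact (mul_ne_zero hd hn'x) h5
      · exact hng h5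
    funext i
    rcases i with _ | i
    · exact hz0
    · exact (congrFun hx i).trans (by rw [hd]; simp)
  let cand : Γ → Option (Fin m) → k := fun x o => o.elim (L n (y g)) (y (x * g))
  have hfin := CharRad.finite_slice Z' hZ' hsm {none} hoff (fun _ => L n (y g))
  have hcand : ∀ x ∈ S, cand x ∈ {z ∈ Z' | ∀ i ∈ ({none} : Finset (Option (Fin m))), z i = L n (y g)} := by
    intro x hx
    have hinv' : ∀ n' ∈ Subgroup.normalizer (T : Set Γ), L n' (y (x * g)) = L n' (y g) := fun n' hn' => by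
      rw [hL, hL, ← mul_assoc, hinv n' hn' x hx]
    refine ⟨⟨⟨(mem_cone E.orb).mpr ⟨x * g, 1, (one_smul _ _).symm⟩, fun n' hn' => ?_⟩, ?_⟩, fun i hi => ?_⟩
    · show L n' (y (x * g)) * _ = L n (y (x * g)) * _
      rw [hinv' n' hn', hinv' n hn, mul_comm]
    · exact (hinv' n hn).symm
    · rw [Finset.mem_singleton.mp hi]; rfl
  obtain ⟨z, -, hz⟩ := Alg.SIrr.exists_forall D hS ⟨1, h1⟩ hfin.toFinset
    (fun z => Set.range fun i : Fin m => (fun x => y (x * g) i) - algebraMap k (Γ → k) (z (some i)))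
    (fun z _ => by
      rintro _ ⟨i, rfl⟩
      exact D.R.sub_mem (D.rmul g _ (E.orb.reg i)) (D.R.algebraMap_mem _))
    (fun x hx => ⟨cand x, hfin.mem_toFinset.mpr (hcand x hx), by
      rintro _ ⟨i, rfl⟩
      simp [cand]⟩)
  have heq : y (s * g) = y g := funext fun i => by
    have h2 := hz s hs _ ⟨i, rfl⟩
    have h3 := hz 1 h1 _ ⟨i, rfl⟩
    simp only [Pi.sub_apply, Pi.algebraMap_apply, Algebra.algebraMap_self, RingHom.id_apply, sub_eq_zero] at h2 h3
    rw [h2, ← h3, one_mul]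
  rw [mul_assoc]
  exact E.sep g (s * g) 1 one_ne_zero (by rw [heq, one_smul])

end Groth.Agent.H1.Classical.Chevalley
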