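import Groth.Agent.H1.Classical.Chevalley
import Groth.Agent.H1.Classical.RadUApply
import Groth.Agent.H1.Classical.CartanOpen

/-!
# Subgroups of the unipotent radicals of the Borel subgroups containing a maximal torus
-/

universe u v w

open CategoryTheory MonoidalCategory CartesianMonoidalCategory MonObj GrpObj AlgebraicGeometry

namespace Groth.Agent.H1.Classical.Chevalley

set_option linter.style.haveILetI false
set_option linter.unusedSectionVars false

open Groth.Agent.Lib.RedPts Groth.Agent.Lib.RedPts.Points Scheme' Unipotent MaxTorusScheme MaxTorusApply MaxTorusBorel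
  Groth.Agent.Lib.GrpSch WithConv Torus Torus.Centraliser Torus.MaxTorus Complete RadU FieldDescent

attribute [local instance] baseAlgebra

section Points

variable {k : Type u} [Field k] [IsAlgClosed k] {Γ : Type v} [Group Γ] {D : Alg k Γ} {B T : Subgroup Γ}
  {W : Type w} [AddCommGroup W] [Module k W] [FiniteDimensional k W] {σ : Representation k Γ W}

/-- Chevalley's theorem on points. -/
theorem exists_normal_unipotent (hmul : HasMul D) (hσ : GenRep.Gen D σ) (hB : IsBor D B) (hT : IsMax D T) (hTB : T ≤ B)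
    {H : Subgroup Γ} (hH : D.SIrr H) (hnil : ∀ s ∈ H, IsNilpotent (σ s - 1))
    (hin : ∀ g, (∀ t ∈ T, g⁻¹ * t * g ∈ B) → ∀ s ∈ H, g⁻¹ * s * g ∈ B) :
    ∃ C : Subgroup Γ, D.IsCl C ∧ D.SIrr C ∧ C.Normal ∧ Group.IsSolvable C ∧ (∀ c ∈ C, IsNilpotent (σ c - 1)) ∧
      H ≤ C := by
  classical
  have hall := mem_borel_of_unipotent hmul hσ hB hT hTB hH H.one_mem hnil hin
  let K : Subgroup Γ := B.normalCore
  have hKmem : ∀ x, x ∈ K ↔ ∀ g, g * x * g⁻¹ ∈ B := fun _ => Iff.rfl
  have hKcl : D.IsCl K := by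
    intro x hx
    refine (hKmem x).mpr fun g => hB.cl fun f hf => ?_
    rw [← D.cTrans_apply]
    refine hx _ fun c hc => ?_
    rw [D.cTrans_apply]
    exact hf _ ((hKmem c).mp hc g)
  let DK := D.restrict K hKcl
  obtain ⟨C0, hC0cl, hC0irr, hC0max⟩ := DK.exists_component
  let C : Subgroup Γ := C0.map K.subtype
  have hCset : (C : Set Γ) = Subtype.val '' (C0 : Set K) := Subgroup.coe_map _ _
  have hCcl : D.IsCl C := by rw [hCset]; exact D.isCl_image hC0cl
  have hCirr : D.SIrr C := by rw [hCset]; exact D.sirr_restrict.mp hC0irr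
  have hCK : ∀ x ∈ C, x ∈ K := by rintro _ ⟨x, -, rfl⟩; exact x.2
  have habs : ∀ X : Set Γ, D.SIrr X → (1 : Γ) ∈ X → (∀ x ∈ X, x ∈ K) → X ⊆ C := by
    intro X hX h1 hXK x hx
    refine ⟨⟨x, hXK x hx⟩, hC0max (Subtype.val ⁻¹' X) (D.sirr_restrict.mpr ?_) h1 hx, rfl⟩
    have himg : Subtype.val '' (Subtype.val ⁻¹' X : Set K) = X :=
      Set.Subset.antisymm (Set.image_preimage_subset _ _) fun y hy => ⟨⟨y, hXK y hy⟩, hy, rfl⟩
    rwa [himg]
  have hCn : C.Normal := ⟨fun x hx g => habs ((fun x => g * x * g⁻¹) '' C)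
    (Alg.SIrr.image D hCirr _ _ (D.cTrans_apply g)) ⟨1, C.one_mem, by simp⟩
    (by rintro _ ⟨y, hy, rfl⟩; exact (inferInstance : K.Normal).conj_mem y (hCK y hy) g) ⟨x, hx, rfl⟩⟩
  have hHC : (H : Set Γ) ⊆ C := habs H hH H.one_mem fun x hx => (hKmem x).mpr fun g => by
    have := hall x hx g⁻¹
    rwa [_root_.inv_inv] at this
  have hCB : C ≤ B := fun x hx => B.normalCore_le (hCK x hx)
  haveI := hB.solv
  haveI : Group.IsSolvable C := Group.isSolvable_of_isSolvable_injective (Subgroup.inclusion_injective hCB)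
  have hirrC : (D.restrict C hCcl).SIrr Set.univ := D.sirr_restrict.mpr (by
    rw [Set.image_univ, Subtype.range_coe_subtype]; exact hCirr)
  obtain ⟨T₁, U₁, τ, hs⟩ := Split.exists_split (D.restrict C hCcl) hirrC (σ.comp C.subtype)
    (GenRep.Gen.restrict D hσ C hCcl)
  have hUset : ((U₁.map C.subtype : Subgroup Γ) : Set Γ) = Subtype.val '' (U₁ : Set C) := Subgroup.coe_map _ _
  have hmem : ∀ x, x ∈ U₁.map C.subtype ↔ x ∈ C ∧ IsNilpotent (σ x - 1) := fun x => by
    constructor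
    · rintro ⟨y, hy, rfl⟩
      exact ⟨y.2, (hs.nilp y).mpr hy⟩
    · rintro ⟨hx, hn⟩
      exact ⟨⟨x, hx⟩, (hs.nilp ⟨x, hx⟩).mp hn, rfl⟩
  refine ⟨U₁.map C.subtype, hUset ▸ D.isCl_image hs.clU, hUset ▸ D.sirr_restrict.mp hs.irrU,
    ⟨fun x hx g => ?_⟩, ?_, fun x hx => ((hmem x).mp hx).2, fun x hx => (hmem x).mpr ⟨hHC hx, hnil x hx⟩⟩
  · obtain ⟨hxC, N, hN⟩ := (hmem x).mp hx
    refine (hmem _).mpr ⟨hCn.conj_mem x hxC g, N, ?_⟩
    have h1 : σ g * σ g⁻¹ = 1 := by rw [← map_mul, mul_inv_cancel, map_one]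
    have h2 : σ g⁻¹ * σ g = 1 := by rw [← map_mul, inv_mul_cancel, map_one]
    let cu : (Module.End k W)ˣ := ⟨σ g, σ g⁻¹, h1, h2⟩
    rw [map_mul, map_mul, show σ g * σ x * σ g⁻¹ - 1 =
      (cu : Module.End k W) * (σ x - 1) * ((cu⁻¹ : (Module.End k W)ˣ) : Module.End k W) by
        rw [mul_sub, sub_mul, _root_.mul_one]; exact congrArg _ h1.symm, Units.conj_pow, hN, mul_zero, zero_mul]
  · exact Group.isSolvable_of_isSolvable_injective
      (Subgroup.inclusion_injective (show U₁.map C.subtype ≤ B from fun x hx => hCB ((hmem x).mp hx).1))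

end Points

variable {k : Type u} [Field k] [IsAlgClosed k]

theorem geomFibre_props {U : Over (Spec (CommRingCat.of k))} [GrpObj U] [IsAffine U.left] [Smooth U.hom]
    [ConnectedSpace U.left] (hU : NoTorsion U) (s : Spec (CommRingCat.of k)) :
    ConnectedSpace (Red.geomFibre s U).left ∧
      Red.HasNoSubtorus (AlgebraicClosure ((Spec (CommRingCat.of k)).residueField s)) (Red.geomFibre s U) := by
  obtain ⟨alg, halg, hσ⟩ := exists_geomPt_eq s
  obtain ⟨h1, h2, h3⟩ := bc_props (K := AlgebraicClosure ((Spec (CommRingCat.of k)).residueField s)) U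
  show ConnectedSpace (Red.bc (Red.geomPt s) U).left ∧ Red.HasNoSubtorus _ (Red.bc (Red.geomPt s) U)
  rw [hσ]
  haveI := h1
  haveI := h2
  haveI := h3
  exact ⟨h3, hasNoSubtorus_of_noTorsion ((UnipotentRadical.noTorsion_bc_iff U).mpr hU)⟩

/-- The points of a group without torsion are unipotent. -/
theorem nilp_of_noTorsion {A : Type u} [CommRing A] [HopfAlgebra k A] [Algebra.FiniteType k A] [IsDomain A]
    {H : Over (Spec (CommRingCat.of k))} [GrpObj H] [IsAffine H.left] [Smooth H.hom] [ConnectedSpace H.left]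
    (hH : NoTorsion H) (i : H ⟶ GA k A) [IsMonHom i] {W : Type u} [AddCommGroup W] [Module k W] [FiniteDimensional k W]
    {σ : Representation k (HopfPts.Pt k A) W} (hσ : GenRep.Gen (HopfPts.D k A) σ) :
    ∀ s ∈ ptsOf i, IsNilpotent (σ s - 1) := by
  obtain ⟨A', _, _, _, _, e', he'⟩ := exists_GA H
  haveI := he'
  haveI : IsMonHom e'.inv := inferInstance
  obtain ⟨r, hr, hrreg⟩ := exists_ptMap (e'.inv ≫ i)
  obtain ⟨W', _, σ', hσ'⟩ := Torus.GenRep.exists_gen (HopfPts.D k A') hasMul_pts pts_ext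
  have h' : Red.HasNoSubtorus k (GA k A') := fun T' _ j _ _ hT' => hasNoSubtorus_of_noTorsion hH T' (j ≫ e'.inv) hT'
  rintro s ⟨x, hx⟩
  obtain ⟨χ, hχ⟩ := ptHom_surjective (x ≫ e'.hom)
  have hsr : r χ = s := ptHom_injective (by
    rw [← hr, hχ, Category.assoc, e'.hom_inv_id_assoc]
    exact hx)
  have h := ImageTorus.nilp_of_gen hσ' (nilp_GA h' hσ' χ) (ρ := σ.comp r) fun w l => hrreg _ (hσ.reg w l)
  rw [← hsr]
  exact h

/-- A connected subgroup of the unipotent radicals of the Borel subgroups containing a maximal torus lies in the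
unipotent radical. -/
theorem exists_factor_radU {G : Over (Spec (CommRingCat.of k))} [GrpObj G] [IsAffine G.left] [Smooth G.hom]
    [ConnectedSpace G.left] {U : Over (Spec (CommRingCat.of k))} [GrpObj U] {u : U ⟶ G} (hU : Par.IsUnipotentRadical u)
    {T : Over (Spec (CommRingCat.of k))} [GrpObj T] {iT : T ⟶ G} (hT : AGF.IsMaxTorus iT)
    {H : Over (Spec (CommRingCat.of k))} [GrpObj H] (j : H ⟶ G) [IsMonHom j] [IsClosedImmersion j.left]
    [Smooth H.hom] [ConnectedSpace H.left]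
    (hH : ∀ (B : Over (Spec (CommRingCat.of k))) [GrpObj B] (iB : B ⟶ G) (t : T ⟶ B), Red.IsBorelOver k iB → t ≫ iB = iT →
      ∀ (V : Over (Spec (CommRingCat.of k))) [GrpObj V] (v : V ⟶ B), Par.IsUnipotentRadical v →
        ∃ f : H ⟶ V, f ≫ v ≫ iB = j) :
    ∃ g : H ⟶ U, g ≫ u = j := by
  haveI : IsAffine H.left := isAffine_of_isAffineHom j.left
  obtain ⟨A, _, _, _, _, e, he⟩ := exists_GA G
  haveI := he
  haveI := locallyOfFiniteType_GA (k := k) (A := A)
  haveI : IsMonHom e.inv := inferInstance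
  haveI : IsIso e.hom.left := ((Over.forget _).mapIso e).isIso_hom
  haveI : IsIso e.inv.left := ((Over.forget _).mapIso e).isIso_inv
  haveI := hT.1
  haveI := hT.2.1
  haveI : IsClosedImmersion (j ≫ e.hom).left := by rw [Over.comp_left]; infer_instance
  obtain ⟨W, _, σ, hσ⟩ := Torus.GenRep.exists_gen (HopfPts.D k A) hasMul_pts pts_ext
  have hT₁ := isMaxTorus_comp e hT
  have hTm := isMax_ptsOf_torus _ hT₁
  obtain ⟨-, hsT, -, haT⟩ := TorusPts.torus_props (iT ≫ e.hom) hT₁.2.2.1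
  haveI := hsT
  haveI := haT
  obtain ⟨B0, hB0, hTB0⟩ := CartanOpen.exists_bor_containing hTm.tor
  -- the scheme attached to a conjugate of `B0` containing the torus
  have key : ∀ g, (∀ t ∈ ptsOf (iT ≫ e.hom), g⁻¹ * t * g ∈ B0) →
      NoTorsion H ∧ ∀ s ∈ ptsOf (j ≫ e.hom), g⁻¹ * s * g ∈ B0 := by
    intro g hg
    haveI := hB0.solv
    have hM := (Image.isMax_of_absorbing hB0.cl hB0.irr hB0.solv hB0.abs).conj g
    obtain ⟨C, _, c, hC, hfac, hpt⟩ := exists_borel_of_isMax hM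
    haveI := hC.1
    haveI := hC.2.1
    haveI := hC.2.2.1
    haveI := hC.2.2.2.1
    obtain ⟨t, ht⟩ := hfac T (iT ≫ e.hom) (algHomOf_eq_zero
      (T := ((B0.map (MulAut.conj g).toMonoidHom : Subgroup _) : Set (HopfPts.Pt k A))) _ fun x => by
      obtain ⟨s, hs⟩ := ptHom_surjective (x ≫ iT ≫ e.hom)
      refine ⟨s, ?_, hs.symm⟩
      rw [SetLike.mem_coe, Image.mem_map_conj]
      exact hg s ⟨x, hs.symm⟩)
    haveI : IsMonHom e.symm.hom := inferInstanceAs (IsMonHom e.inv)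
    have hC' : Red.IsBorelOver k (c ≫ e.inv) := isBorelOver_comp hC e.symm
    haveI : IsAffine C.left := isAffine_of_isAffineHom c.left
    obtain ⟨V, _, v, hv1, hv2, hv3, hv4, hv5, hv6, hvfac, -⟩ := exists_unipPart C hC.2.2.2.2.1
    haveI := hv1
    haveI := hv2
    haveI := hv3
    haveI := hv4
    haveI : IsAffine V.left := isAffine_of_isAffineHom v.left
    obtain ⟨f, hf⟩ := hH C (c ≫ e.inv) t hC'
      (by rw [← Category.assoc, ht, Category.assoc, e.hom_inv_id, Category.comp_id]) V v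
      (UnipotentRadical.isUnipotentRadical_of hv5 v hv1 hv2 hv6 hvfac)
    haveI := hC'.1
    haveI := hC'.2.1
    haveI : Mono (v ≫ c ≫ e.inv) := by
      haveI : IsClosedImmersion (v ≫ c ≫ e.inv).left := by rw [Over.comp_left]; infer_instance
      exact Over.mono_of_mono_left _
    haveI : IsMonHom (f ≫ v ≫ c ≫ e.inv) := hf.symm ▸ inferInstance
    haveI : IsMonHom f := CentralizerBorel.isMonHom_of_mono_comp f (v ≫ c ≫ e.inv)
    haveI : Mono j := Over.mono_of_mono_left j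
    haveI : Mono (f ≫ v ≫ c ≫ e.inv) := hf.symm ▸ inferInstance
    haveI : Mono f := mono_of_mono f (v ≫ c ≫ e.inv)
    refine ⟨noTorsion_of_mono f (noTorsion_of_hasNoSubtorus hv5), ?_⟩
    rintro s ⟨x, hx⟩
    obtain ⟨s', hs', hxs⟩ := hpt (x ≫ f ≫ v)
    have hss : s = s' := ptHom_injective (by
      rw [← hxs, ← show x ≫ j ≫ e.hom = ptHom (𝟙_ _) s from hx, ← hf]
      simp only [Category.assoc, e.inv_hom_id, Category.comp_id])
    rw [hss]
    rwa [Image.mem_map_conj] at hs'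
  have hno : NoTorsion H := (key 1 fun t ht => by simpa using hTB0 ht).1
  obtain ⟨C, hCcl, hCirr, hCn, hCsol, hCnil, hHC⟩ := exists_normal_unipotent hasMul_pts hσ hB0 hTm hTB0
    (ptsOf_props (j ≫ e.hom) (isSolvableGrp_of_noTorsion hno)).1 (nilp_of_noTorsion hno (j ≫ e.hom) hσ)
    fun g hg => (key g hg).2
  haveI := hCsol
  obtain ⟨N, _, c, hc1, hc2, hc3, hc4, -, hfac, hpt⟩ := exists_subgroup C hCcl hCirr
  haveI := hc1
  haveI := hc2
  haveI := hc3
  haveI := hc4
  haveI : IsAffine N.left := isAffine_of_isAffineHom c.left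
  haveI : Mono c := Over.mono_of_mono_left c
  haveI : IsClosedImmersion (c ≫ e.inv).left := by rw [Over.comp_left]; infer_instance
  have hnoN : NoTorsion N := fun x m hm hx => by
    obtain ⟨s, hs, hxs⟩ := hpt x
    have hsm : s ^ m = 1 := ptHom_injective (by rw [map_pow, ← hxs, ← Unipotent.pow_comp, hx, MonObj.one_comp, map_one])
    rw [← cancel_mono c, MonObj.one_comp, hxs, Cartan.eq_one_of_nilp hσ.faith hm hsm (hCnil s hs), map_one]
  have hNn : IsNormalPts (c ≫ e.inv) := fun g w => by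
    obtain ⟨a, ha⟩ := ptHom_surjective (g ≫ e.hom)
    obtain ⟨s, hs, hws⟩ := hpt w
    obtain ⟨w', hw'⟩ := hfac (𝟙_ _) (ptHom _ (a * s * a⁻¹)) fun b hb => by
      rw [algHomOf_ptHom, hb _ (hCn.conj_mem s hs a), map_zero]
    refine ⟨w', ?_⟩
    rw [← cancel_mono e.hom, MonObj.mul_comp, MonObj.mul_comp, GrpObj.inv_comp]
    simp only [Category.assoc, e.inv_hom_id, Category.comp_id]
    rw [hw', hws, map_mul, map_mul, map_inv, ha]
  obtain ⟨f, hf⟩ := hU.2.2.2.2.2.2 N (c ≫ e.inv) inferInstance (isNormalHom_of_pts _ hNn) inferInstance inferInstance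
    (geomFibre_props hnoN)
  obtain ⟨q, hq⟩ := hfac H (j ≫ e.hom) (algHomOf_eq_zero (T := (C : Set (HopfPts.Pt k A))) _ fun x => by
    obtain ⟨s, hs⟩ := ptHom_surjective (x ≫ j ≫ e.hom)
    exact ⟨s, hHC ⟨x, hs.symm⟩, hs.symm⟩)
  exact ⟨q ≫ f, by rw [Category.assoc, hf, ← Category.assoc, hq, Category.assoc, e.hom_inv_id, Category.comp_id]⟩

end Groth.Agent.H1.Classical.Chevalley
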