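import Groth.Prelude.Def_AGF
import Groth.Prelude.Def_ChGrp
import Groth.Agent.Lib.GrpSch.Basic
import Mathlib.AlgebraicGeometry.Morphisms.UniversallyOpen
import Mathlib.AlgebraicGeometry.Morphisms.Proper
import Mathlib.AlgebraicGeometry.PullbackCarrier

/-!
# Closures of orbits and complete homogeneous spaces
-/

universe u

open CategoryTheory MonoidalCategory CartesianMonoidalCategory MonObj GrpObj AlgebraicGeometry

namespace Groth.Agent.H1.Classical.ClosureOrbit

set_option linter.style.haveILetI false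

open Groth.Agent.Lib.GrpSch

variable {k : Type u} [Field k] {G H X Y : Over (Spec (CommRingCat.of k))} [GrpObj G] [GrpObj H]

theorem isOpenMap_snd : IsOpenMap (snd G X).left := by
  haveI : UniversallyOpen G.hom := inferInstance
  haveI : UniversallyOpen (snd G X).left := snd_left_of (P := @UniversallyOpen) X inferInstance
  exact (snd G X).left.isOpenMap

/-- A closure of an orbit is stable. -/
theorem act_mem_closure (a : AlgGrp.Action G X) (x : 𝟙_ (Over (Spec (CommRingCat.of k))) ⟶ X) {p : (G ⊗ X).left}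
    (hp : (snd G X).left p ∈ closure (Set.range (a.orbitMap x).left)) :
    a.act.left p ∈ closure (Set.range (a.orbitMap x).left) := by
  have h1 : p ∈ closure ((snd G X).left ⁻¹' Set.range (a.orbitMap x).left) :=
    (isOpenMap_snd (G := G) (X := X)).preimage_closure_subset_closure_preimage hp
  refine closure_mono ?_ (image_closure_subset_closure_image a.act.left.continuous ⟨p, h1, rfl⟩)
  rintro _ ⟨q, ⟨g, hg⟩, rfl⟩
  obtain ⟨r, hr1, hr2⟩ := Scheme.exists_preimage_of_isPullback
    ((show IsPullback (G ◁ a.orbitMap x) (snd G G) (snd G X) (a.orbitMap x) from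
      ⟨⟨whiskerLeft_snd _ _⟩, ⟨Limits.PullbackCone.IsLimit.mk (whiskerLeft_snd _ _)
        (fun s => lift (s.fst ≫ fst G X) s.snd)
        (fun s => by
          apply CartesianMonoidalCategory.hom_ext
          · simp
          · simp only [Category.assoc, whiskerLeft_snd, lift_snd_assoc]; exact s.condition.symm)
        (fun s => by simp)
        (fun s m hm1 hm2 => by
          apply CartesianMonoidalCategory.hom_ext
          · rw [lift_fst, ← hm1]; simp
          · rw [lift_snd, hm2])⟩⟩).map (Over.forget _)) q g hg.symm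
  change (G ◁ a.orbitMap x).left r = q at hr1
  subst hr1
  have h2 : (G ◁ a.orbitMap x) ≫ a.act = (fst G G * snd G G) ≫ a.orbitMap x := by
    rw [AlgGrp.Action.comp_orbitMap, AlgGrp.Action.lift_mul_act, ← AlgGrp.Action.comp_orbitMap]
    refine congrArg (· ≫ a.act) ?_
    apply CartesianMonoidalCategory.hom_ext <;> simp
  refine ⟨(fst G G * snd G G).left r, ?_⟩
  have h3 := congrArg (fun f => f.left r) h2
  exact h3.symm

theorem act_mem_closure_iff (a : AlgGrp.Action G X) (x : 𝟙_ (Over (Spec (CommRingCat.of k))) ⟶ X) (p : (G ⊗ X).left) :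
    a.act.left p ∈ closure (Set.range (a.orbitMap x).left) ↔
      (snd G X).left p ∈ closure (Set.range (a.orbitMap x).left) := by
  refine ⟨fun hp => ?_, act_mem_closure a x⟩
  let σ : G ⊗ X ⟶ G ⊗ X := lift (fst G X)⁻¹ a.act
  have h1 : σ ≫ snd G X = a.act := lift_snd _ _
  have h2 : σ ≫ a.act = snd G X := by
    have h := act_inv_act a (fst G X) (snd G X)
    rw [lift_fst_snd, Category.id_comp] at h
    exact h
  have h3 := act_mem_closure a x (p := σ.left p) (by
    rwa [show (snd G X).left (σ.left p) = a.act.left p from congrArg (fun f => f.left p) h1])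
  rwa [show a.act.left (σ.left p) = (snd G X).left p from congrArg (fun f => f.left p) h2] at h3

/-- If the quotient by a subgroup is complete, then the translates of a closed stable set form a closed set. -/
theorem isClosed_act_image (i : H ⟶ G) [IsMonHom i] (π : G ⟶ Y) [Surjective π.left] [Flat π.left]
    [LocallyOfFiniteType π.left] (hπ : IsPullback (fst G H) ((G ◁ i) ≫ μ[G]) π π) [IsProper Y.hom]
    (a : AlgGrp.Action G X) {Z : Set X.left} (hZ : IsClosed Z)
    (hZH : ∀ p : (H ⊗ X).left, (a.restrict i).act.left p ∈ Z ↔ (snd H X).left p ∈ Z) :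
    IsClosed (a.act.left '' ((snd G X).left ⁻¹' Z)) := by
  let ψ : G ⊗ X ⟶ X := (shear a).inv ≫ snd G X
  let q : G ⊗ X ⟶ Y ⊗ X := π ▷ X
  let W : Set (G ⊗ X).left := ψ.left ⁻¹' Z
  have hsat : ∀ w₁ w₂ : (G ⊗ X).left, q.left w₁ = q.left w₂ → w₁ ∈ W → w₂ ∈ W := by
    intro w₁ w₂ h hw
    obtain ⟨r, hr1, hr2⟩ := Scheme.exists_preimage_of_isPullback
      ((show IsPullback (fst G H ▷ X) (((G ◁ i) ≫ μ[G]) ▷ X) q q from
        ⟨⟨by simp only [q, ← comp_whiskerRight, hπ.w]⟩, ⟨Limits.PullbackCone.IsLimit.mk _
          (fun s => lift (hπ.lift (s.fst ≫ fst G X) (s.snd ≫ fst G X)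
            (by simpa [q] using congrArg (· ≫ fst Y X) s.condition)) (s.fst ≫ snd G X))
          (fun s => by apply CartesianMonoidalCategory.hom_ext <;> simp)
          (fun s => by
            apply CartesianMonoidalCategory.hom_ext
            · simp only [Category.assoc, whiskerRight_fst, lift_fst_assoc]
              exact hπ.lift_snd _ _ _
            · simpa [q] using congrArg (· ≫ snd Y X) s.condition)
          (fun s m hm1 hm2 => by
            apply CartesianMonoidalCategory.hom_ext
            · rw [lift_fst]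
              apply hπ.hom_ext
              · rw [IsPullback.lift_fst, ← hm1]; simp
              · rw [IsPullback.lift_snd, ← hm2]; simp only [Category.assoc, whiskerRight_fst]
            · rw [lift_snd, ← hm1]; simp)⟩⟩).map (Over.forget _)) w₁ w₂ h
    change (fst G H ▷ X).left r = w₁ at hr1
    change (((G ◁ i) ≫ μ[G]) ▷ X).left r = w₂ at hr2
    subst hr1 hr2
    let d : (G ⊗ H) ⊗ X ⟶ H ⊗ X := lift (fst _ _ ≫ snd G H)⁻¹ ((fst G H ▷ X) ≫ ψ)
    have h1 : (((G ◁ i) ≫ μ[G]) ▷ X) ≫ ψ = d ≫ (a.restrict i).act := by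
      simp only [ψ, d, shear, lift_snd]
      rw [AlgGrp.Action.lift_restrict_act]
      simp only [comp_lift_assoc, ← Category.assoc, GrpObj.comp_inv, comp_lift]
      simp only [whiskerRight_fst, whiskerRight_snd, Category.assoc]
      rw [← AlgGrp.Action.lift_mul_act]
      refine congrArg (fun g => lift g (snd (G ⊗ H) X) ≫ a.act) ?_
      have h5 : (G ◁ i) ≫ μ[G] = fst G H * (snd G H ≫ i) := by
        rw [Hom.mul_def]
        refine congrArg (· ≫ μ[G]) ?_
        apply CartesianMonoidalCategory.hom_ext <;> simp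
      rw [h5]
      simp [MonObj.comp_mul, GrpObj.inv_comp]
    show ((((G ◁ i) ≫ μ[G]) ▷ X) ≫ ψ).left r ∈ Z
    rw [h1]
    show (a.restrict i).act.left (d.left r) ∈ Z
    rw [hZH, show (snd H X).left (d.left r) = ((fst G H ▷ X) ≫ ψ).left r from
      congrArg (fun f : (G ⊗ H) ⊗ X ⟶ X => f.left r) (lift_snd _ _)]
    exact hw
  have hWc : IsClosed W := hZ.preimage ψ.left.continuous
  haveI : IsLocallyNoetherian Y.left := LocallyOfFiniteType.isLocallyNoetherian Y.hom
  haveI : LocallyOfFinitePresentation π.left := inferInstance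
  haveI : UniversallyOpen π.left := inferInstance
  haveI : UniversallyOpen q.left := whiskerRight_left_of (P := @UniversallyOpen) π X inferInstance
  haveI : Surjective q.left := whiskerRight_left_of (P := @Surjective) π X inferInstance
  have hqW : IsClosed (q.left '' W) := by
    rw [← isOpen_compl_iff]
    have : (q.left '' W)ᶜ = q.left '' Wᶜ := by
      ext y
      obtain ⟨w, rfl⟩ := q.left.surjective y
      refine ⟨fun h => ⟨w, fun hw => h ⟨w, hw, rfl⟩, rfl⟩, ?_⟩
      rintro ⟨w', hw', h'⟩ ⟨w'', hw'', h''⟩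
      exact hw' (hsat w'' w' (h''.trans h'.symm) hw'')
    rw [this]
    exact q.left.isOpenMap _ hWc.isOpen_compl
  haveI : UniversallyClosed (snd Y X).left := snd_left_of (P := @UniversallyClosed) X inferInstance
  have : a.act.left '' ((snd G X).left ⁻¹' Z) = (snd Y X).left '' (q.left '' W) := by
    rw [Set.image_image]
    have h1 : ∀ w, (snd Y X).left (q.left w) = (snd G X).left w := fun w =>
      congrArg (fun f => f.left w) (whiskerRight_snd π X)
    simp only [h1]
    ext z
    constructor
    · rintro ⟨p, hp, rfl⟩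
      refine ⟨(shear a).hom.left p, ?_, congrArg (fun f => f.left p) (shear_hom_snd a)⟩
      show ((shear a).hom ≫ ψ).left p ∈ Z
      simpa [ψ] using hp
    · rintro ⟨w, hw, rfl⟩
      refine ⟨(shear a).inv.left w, hw, ?_⟩
      rw [← shear_hom_snd a]
      show ((shear a).inv ≫ (shear a).hom ≫ snd G X).left w = _
      rw [Iso.inv_hom_id_assoc]
  rw [this]
  exact (snd Y X).left.isClosedMap _ hqW

/-- The closure of an orbit, when the quotient by the subgroup is complete. -/
theorem closure_orbit_eq [LocallyOfFiniteType G.hom] (i : H ⟶ G) [IsMonHom i] (b : AlgGrp.Action G Y)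
    (o : 𝟙_ (Over (Spec (CommRingCat.of k))) ⟶ Y) (hY : AGF.IsQuotient i Y b o) [IsProper Y.hom]
    (a : AlgGrp.Action G X) (x : 𝟙_ (Over (Spec (CommRingCat.of k))) ⟶ X) :
    closure (Set.range (a.orbitMap x).left) =
      a.act.left '' ((snd G X).left ⁻¹' closure (Set.range (i ≫ a.orbitMap x).left)) := by
  obtain ⟨hlft, hflat, hsurj, hsq⟩ := hY
  have hr : (a.restrict i).orbitMap x = i ≫ a.orbitMap x := by
    rw [AlgGrp.Action.comp_orbitMap, AlgGrp.Action.orbitMap, AlgGrp.Action.lift_restrict_act, Category.id_comp]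
  haveI : LocallyOfFiniteType (b.orbitMap o).left := by
    haveI : LocallyOfFiniteType ((b.orbitMap o).left ≫ Y.hom) := by rw [Over.w]; infer_instance
    exact locallyOfFiniteType_of_comp _ Y.hom
  haveI := hflat
  haveI := hsurj
  haveI : IsLocallyNoetherian Y.left := LocallyOfFiniteType.isLocallyNoetherian Y.hom
  refine Set.Subset.antisymm (closure_minimal ?_ ?_) ?_
  · rintro _ ⟨g, rfl⟩
    refine ⟨(lift (𝟙 G) (toUnit G ≫ x)).left g, subset_closure ?_, rfl⟩
    have h1 : lift (𝟙 G) (toUnit G ≫ x) ≫ snd G X = (toUnit G ≫ (1 : _ ⟶ H)) ≫ i ≫ a.orbitMap x := by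
      rw [lift_snd, Category.assoc, ← Category.assoc (1 : _ ⟶ H), MonObj.one_comp, AlgGrp.Action.comp_orbitMap,
        toUnit_unique (toUnit (𝟙_ (Over (Spec (CommRingCat.of k))))) (𝟙 _), Category.id_comp, AlgGrp.Action.lift_one_act]
    exact ⟨(toUnit G ≫ (1 : _ ⟶ H)).left g, (congrArg (fun f => f.left g) h1).symm⟩
  · refine isClosed_act_image i (b.orbitMap o) hsq a isClosed_closure ?_
    rw [← hr]
    exact act_mem_closure_iff (a.restrict i) x
  · rintro _ ⟨p, hp, rfl⟩
    refine act_mem_closure a x (closure_mono ?_ hp)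
    rintro _ ⟨h, rfl⟩
    exact ⟨i.left h, rfl⟩

end Groth.Agent.H1.Classical.ClosureOrbit
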