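import Groth.Agent.H1.Classical.Centre
import Groth.Agent.Lib.RedPts.Points
import Groth.Agent.Lib.Hopf.SubStruct
import Groth.Agent.Lib.Hopf.SubHopf
import Groth.Agent.Lib.GrpQ.RepMat

/-!
# Functions invariant under exchanging two factors: the commutative quotients of an affine group
-/

universe u

attribute [local instance] Groth.Agent.Lib.RedPts.Points.baseAlgebra

open TensorProduct WithConv CategoryTheory MonoidalCategory CartesianMonoidalCategory MonObj GrpObj AlgebraicGeometry
  CoalgebraStruct

namespace Groth.Agent.H1.Classical.CommPart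

set_option linter.style.haveILetI false
set_option linter.unusedSectionVars false
set_option maxHeartbeats 400000

variable {k : Type u} [Field k] {A : Type u} [CommRing A] [HopfAlgebra k A]

section Conv

variable {R R' : Type u} [CommRing R] [Algebra k R] [CommRing R'] [Algebra k R']

/-- The inverse of a point. -/
noncomputable def inv' (f : WithConv (A →ₐ[k] R)) : WithConv (A →ₐ[k] R) :=
  toConv (f.ofConv.comp (HopfAlgebra.antipodeAlgHom k A))

theorem inv'_mul (f : WithConv (A →ₐ[k] R)) : inv' f * f = 1 := by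
  have h := AlgHom.comp_convMul_distrib f.ofConv (toConv (HopfAlgebra.antipodeAlgHom k A)) (toConv (AlgHom.id k A))
  rw [show toConv (HopfAlgebra.antipodeAlgHom k A) * toConv (AlgHom.id k A) = (1 : WithConv (A →ₐ[k] A)) from
    AlgHom.antipode_id_cancel] at h
  simp only [AlgHom.comp_id] at h
  apply WithConv.ofConv_injective
  show _ = (1 : WithConv (A →ₐ[k] R)).ofConv
  rw [show inv' f * f = toConv (f.ofConv.comp (HopfAlgebra.antipodeAlgHom k A)) * toConv f.ofConv from rfl, ← h]
  ext a
  simp

@[reducible] noncomputable def convGroup : Group (WithConv (A →ₐ[k] R)) where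
  inv := inv'
  inv_mul_cancel := inv'_mul

theorem push_mul (φ : R →ₐ[k] R') (a b : WithConv (A →ₐ[k] R)) :
    φ.comp (a * b).ofConv = (toConv (φ.comp a.ofConv) * toConv (φ.comp b.ofConv)).ofConv :=
  AlgHom.comp_convMul_distrib φ a b

/-- The product of four points. -/
noncomputable def mul4 (x : Fin 4 → WithConv (A →ₐ[k] R)) : WithConv (A →ₐ[k] R) := x 0 * x 1 * x 2 * x 3

theorem push_mul4 (φ : R →ₐ[k] R') (x : Fin 4 → WithConv (A →ₐ[k] R)) :
    toConv (φ.comp (mul4 x).ofConv) = mul4 fun i => toConv (φ.comp (x i).ofConv) := by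
  simp only [mul4, push_mul, toConv_ofConv]

theorem push_apply (φ : R →ₐ[k] R') (x : Fin 4 → WithConv (A →ₐ[k] R)) (f : A) :
    φ (mul4 x f) = mul4 (fun i => toConv (φ.comp (x i).ofConv)) f := by
  rw [← push_mul4]
  rfl

/-- The exchange of the two middle points. -/
def swap {α : Type*} (x : Fin 4 → α) : Fin 4 → α := ![x 0, x 2, x 1, x 3]

theorem swap_of_univ (p : Fin 4 → WithConv (A →ₐ[k] R)) (f : A) (h : (mul4 p).ofConv f = (mul4 (swap p)).ofConv f)
    (φ : R →ₐ[k] R') (x : Fin 4 → WithConv (A →ₐ[k] R')) (hφ : ∀ i, toConv (φ.comp (p i).ofConv) = x i) :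
    mul4 x f = mul4 (swap x) f := by
  have e1 := push_apply φ p f
  have e2 := push_apply φ (swap p) f
  rw [funext hφ] at e1
  rw [show (fun i => toConv (φ.comp (swap p i).ofConv)) = swap x from funext fun i => by
    fin_cases i <;> exact hφ _] at e2
  rw [← e1, ← e2]
  exact congrArg φ h

theorem univ_right {S : Type u} [CommRing S] [Algebra k S] (p : Fin 4 → WithConv (A →ₐ[k] S)) (f : A)
    (h : ∀ x : Fin 4 → WithConv (A →ₐ[k] S ⊗[k] A), mul4 x f = mul4 (swap x) f) :
    (toConv ((Algebra.TensorProduct.includeLeft : S →ₐ[k] S ⊗[k] A).comp (mul4 p).ofConv) *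
      toConv (Algebra.TensorProduct.includeRight : A →ₐ[k] S ⊗[k] A)) f =
    (toConv ((Algebra.TensorProduct.includeLeft : S →ₐ[k] S ⊗[k] A).comp (mul4 (swap p)).ofConv) *
      toConv (Algebra.TensorProduct.includeRight : A →ₐ[k] S ⊗[k] A)) f := by
  rw [push_mul4, push_mul4]
  let q : Fin 4 → WithConv (A →ₐ[k] S ⊗[k] A) := fun i =>
    toConv ((Algebra.TensorProduct.includeLeft : S →ₐ[k] S ⊗[k] A).comp (p i).ofConv)
  have h1 := h ![q 0, q 1, q 2, q 3 * toConv (Algebra.TensorProduct.includeRight : A →ₐ[k] S ⊗[k] A)]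
  simp only [mul4, swap, Matrix.cons_val, ← _root_.mul_assoc] at h1 ⊢
  exact h1

theorem univ_left {S : Type u} [CommRing S] [Algebra k S] (p : Fin 4 → WithConv (A →ₐ[k] S)) (f : A)
    (h : ∀ x : Fin 4 → WithConv (A →ₐ[k] A ⊗[k] S), mul4 x f = mul4 (swap x) f) :
    (toConv (Algebra.TensorProduct.includeLeft : A →ₐ[k] A ⊗[k] S) *
      toConv ((Algebra.TensorProduct.includeRight : S →ₐ[k] A ⊗[k] S).comp (mul4 p).ofConv)) f =
    (toConv (Algebra.TensorProduct.includeLeft : A →ₐ[k] A ⊗[k] S) *
      toConv ((Algebra.TensorProduct.includeRight : S →ₐ[k] A ⊗[k] S).comp (mul4 (swap p)).ofConv)) f := by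
  rw [push_mul4, push_mul4]
  let q : Fin 4 → WithConv (A →ₐ[k] A ⊗[k] S) := fun i =>
    toConv ((Algebra.TensorProduct.includeRight : S →ₐ[k] A ⊗[k] S).comp (p i).ofConv)
  have h1 := h ![toConv (Algebra.TensorProduct.includeLeft : A →ₐ[k] A ⊗[k] S) * q 0, q 1, q 2, q 3]
  simp only [mul4, swap, Matrix.cons_val, ← _root_.mul_assoc] at h1 ⊢
  exact h1

theorem univ_inv (p : Fin 4 → WithConv (A →ₐ[k] R)) (f : A)
    (h : ∀ x : Fin 4 → WithConv (A →ₐ[k] R), mul4 x f = mul4 (swap x) f) :
    (mul4 p).ofConv (HopfAlgebra.antipodeAlgHom k A f) =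
      (mul4 (swap p)).ofConv (HopfAlgebra.antipodeAlgHom k A f) := by
  letI : Group (WithConv (A →ₐ[k] R)) := convGroup
  have key : ∀ z : WithConv (A →ₐ[k] R), z.ofConv (HopfAlgebra.antipodeAlgHom k A f) = z⁻¹ f := fun z => rfl
  rw [key, key]
  have h1 := h ![(p 3)⁻¹, (p 2)⁻¹, (p 1)⁻¹, (p 0)⁻¹]
  simp only [mul4, swap, Matrix.cons_val, _root_.mul_inv_rev, ← _root_.mul_assoc] at h1 ⊢
  exact h1

end Conv

variable (k A)

/-- Functions of four variables. -/
abbrev W4 : Type u := (A ⊗[k] A) ⊗[k] (A ⊗[k] A)

/-- The four projections. -/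
noncomputable def proj : Fin 4 → WithConv (A →ₐ[k] W4 k A) :=
  ![toConv ((Algebra.TensorProduct.includeLeft : A ⊗[k] A →ₐ[k] W4 k A).comp Algebra.TensorProduct.includeLeft),
    toConv ((Algebra.TensorProduct.includeLeft : A ⊗[k] A →ₐ[k] W4 k A).comp Algebra.TensorProduct.includeRight),
    toConv ((Algebra.TensorProduct.includeRight : A ⊗[k] A →ₐ[k] W4 k A).comp Algebra.TensorProduct.includeLeft),
    toConv ((Algebra.TensorProduct.includeRight : A ⊗[k] A →ₐ[k] W4 k A).comp Algebra.TensorProduct.includeRight)]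

/-- The two products to compare. -/
noncomputable def prodA : A →ₐ[k] W4 k A := (mul4 (proj k A)).ofConv

/-- The two products to compare. -/
noncomputable def prodB : A →ₐ[k] W4 k A := (mul4 (swap (proj k A))).ofConv

/-- The functions invariant under the exchange of two inner factors. -/
noncomputable def commPart : Subalgebra k A := AlgHom.equalizer (prodA k A) (prodB k A)

variable {k A}

theorem mem_commPart {f : A} : f ∈ commPart k A ↔ prodA k A f = prodB k A f := Iff.rfl

theorem exists_lift {R : Type u} [CommRing R] [Algebra k R] (x : Fin 4 → WithConv (A →ₐ[k] R)) :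
    ∃ φ : W4 k A →ₐ[k] R, ∀ i, toConv (φ.comp (proj k A i).ofConv) = x i := by
  refine ⟨Algebra.TensorProduct.lift
    (Algebra.TensorProduct.lift (x 0).ofConv (x 1).ofConv fun _ _ => .all ..)
    (Algebra.TensorProduct.lift (x 2).ofConv (x 3).ofConv fun _ _ => .all ..) fun _ _ => .all .., fun i => ?_⟩
  refine WithConv.ofConv_injective ?_
  fin_cases i <;>
    simp [proj, ← AlgHom.comp_assoc, Algebra.TensorProduct.lift_comp_includeLeft, Algebra.TensorProduct.lift_comp_includeRight]

theorem eval_swap {f : A} (hf : f ∈ commPart k A) {R : Type u} [CommRing R] [Algebra k R]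
    (x : Fin 4 → WithConv (A →ₐ[k] R)) : mul4 x f = mul4 (swap x) f := by
  obtain ⟨φ, hφ⟩ := exists_lift x
  exact swap_of_univ (proj k A) f (mem_commPart.mp hf) φ x hφ

theorem eval_comm {f : A} (hf : f ∈ commPart k A) {R : Type u} [CommRing R] [Algebra k R]
    (a b : WithConv (A →ₐ[k] R)) : (a * b) f = (b * a) f := by
  have h := eval_swap hf ![1, a, b, 1]
  simpa [mul4, swap] using h

theorem antipode_mem {f : A} (hf : f ∈ commPart k A) : HopfAlgebra.antipodeAlgHom k A f ∈ commPart k A :=
  mem_commPart.mpr (univ_inv (proj k A) f fun x => eval_swap hf x)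

theorem apply_mul_incl {R : Type u} [CommRing R] [Algebra k R] (Q : A →ₐ[k] R) (f : A) :
    (toConv ((Algebra.TensorProduct.includeLeft : R →ₐ[k] R ⊗[k] A).comp Q) *
      toConv (Algebra.TensorProduct.includeRight : A →ₐ[k] R ⊗[k] A)) f = Q.toLinearMap.rTensor A (comul (R := k) f) := by
  rw [AlgHom.convMul_apply]
  induction comul (R := k) f using TensorProduct.induction_on with
  | zero => simp
  | add r s hr hs => simp only [map_add, hr, hs]
  | tmul r s => simp

theorem apply_incl_mul {R : Type u} [CommRing R] [Algebra k R] (Q : A →ₐ[k] R) (f : A) :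
    (toConv (Algebra.TensorProduct.includeLeft : A →ₐ[k] A ⊗[k] R) *
      toConv ((Algebra.TensorProduct.includeRight : R →ₐ[k] A ⊗[k] R).comp Q)) f = Q.toLinearMap.lTensor A (comul (R := k) f) := by
  rw [AlgHom.convMul_apply]
  induction comul (R := k) f using TensorProduct.induction_on with
  | zero => simp
  | add r s hr hs => simp only [map_add, hr, hs]
  | tmul r s => simp

theorem rTensor_eq {f : A} (hf : f ∈ commPart k A) :
    (prodA k A).toLinearMap.rTensor A (comul (R := k) f) = (prodB k A).toLinearMap.rTensor A (comul (R := k) f) :=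
  (apply_mul_incl (prodA k A) f).symm.trans
    ((univ_right (proj k A) f fun x => eval_swap hf x).trans (apply_mul_incl (prodB k A) f))

theorem lTensor_eq {f : A} (hf : f ∈ commPart k A) :
    (prodA k A).toLinearMap.lTensor A (comul (R := k) f) = (prodB k A).toLinearMap.lTensor A (comul (R := k) f) :=
  (apply_incl_mul (prodA k A) f).symm.trans
    ((univ_left (proj k A) f fun x => eval_swap hf x).trans (apply_incl_mul (prodB k A) f))

/-- A linear map has a generalised inverse. -/
theorem exists_gen_inverse {V W : Type*} [AddCommGroup V] [Module k V] [AddCommGroup W] [Module k W] (N : V →ₗ[k] W) :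
    ∃ s : W →ₗ[k] V, N ∘ₗ s ∘ₗ N = N := by
  obtain ⟨s₀, hs₀⟩ := N.rangeRestrict.exists_rightInverse_of_surjective N.range_rangeRestrict
  obtain ⟨s, hs⟩ := s₀.exists_extend
  refine ⟨s, LinearMap.ext fun v => ?_⟩
  show N (s (N v)) = N v
  rw [show s (N v) = s₀ (N.rangeRestrict v) from LinearMap.congr_fun hs (N.rangeRestrict v)]
  exact congrArg Subtype.val (LinearMap.congr_fun hs₀ (N.rangeRestrict v))

theorem comul_mem {f : A} (hf : f ∈ commPart k A) : comul (R := k) f ∈
    LinearMap.range (TensorProduct.map (commPart k A).val.toLinearMap (commPart k A).val.toLinearMap) := by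
  let N : A →ₗ[k] W4 k A := (prodA k A).toLinearMap - (prodB k A).toLinearMap
  obtain ⟨s, hs⟩ := exists_gen_inverse N
  let Q : A →ₗ[k] A := LinearMap.id - s ∘ₗ N
  have hQ : ∀ a, Q a ∈ commPart k A := fun a => by
    refine mem_commPart.mpr (sub_eq_zero.mp ?_)
    show N (a - s (N a)) = 0
    rw [map_sub, ← show (N ∘ₗ s ∘ₗ N) a = N (s (N a)) from rfl, hs, sub_self]
  have hr : Q.rTensor A (comul (R := k) f) = comul (R := k) f := by
    have h0 : N.rTensor A (comul (R := k) f) = 0 := by
      rw [show N = _ - _ from rfl, LinearMap.rTensor_sub]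
      exact sub_eq_zero.mpr (rTensor_eq hf)
    rw [LinearMap.rTensor_sub, LinearMap.rTensor_id, LinearMap.sub_apply, LinearMap.id_apply, LinearMap.rTensor_comp,
      LinearMap.comp_apply, h0, map_zero, sub_zero]
  have hl : Q.lTensor A (comul (R := k) f) = comul (R := k) f := by
    have h0 : N.lTensor A (comul (R := k) f) = 0 := by
      rw [show N = _ - _ from rfl, LinearMap.lTensor_sub]
      exact sub_eq_zero.mpr (lTensor_eq hf)
    rw [LinearMap.lTensor_sub, LinearMap.lTensor_id, LinearMap.sub_apply, LinearMap.id_apply, LinearMap.lTensor_comp,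
      LinearMap.comp_apply, h0, map_zero, sub_zero]
  let q : A →ₗ[k] commPart k A := Q.codRestrict (Subalgebra.toSubmodule (commPart k A)) hQ
  refine ⟨TensorProduct.map q q (comul (R := k) f), ?_⟩
  rw [← LinearMap.comp_apply, ← TensorProduct.map_comp]
  show TensorProduct.map Q Q (comul (R := k) f) = _
  rw [← LinearMap.rTensor_comp_lTensor, LinearMap.comp_apply, hl, hr]

theorem isHopfSubalgebra : SGA3.IsHopfSubalgebra k A (commPart k A) :=
  ⟨fun _ hf => comul_mem hf, fun _ hf => antipode_mem hf⟩

open Lib.Hopf in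
/-- Every invariant function comes from a commutative quotient of finite type. -/
theorem exists_quotient {f : A} (hf : f ∈ commPart k A) :
    ∃ (H : Over (Spec (CommRingCat.of k))) (_ : GrpObj H) (_ : IsCommMonObj H) (_ : LocallyOfFiniteType H.hom)
      (_ : QuasiCompact H.hom) (B : Type u) (_ : CommRing B) (_ : HopfAlgebra k B) (incB : B →ₐ[k] A) (b : B)
      (eH : H ≅ Scheme'.GA k B) (π : Scheme'.GA k A ⟶ H), IsMonHom π ∧ π ≫ eH.hom = Scheme'.sp incB ∧ incB b = f := by
  classical
  letI := SubStruct.subHopf (isHopfSubalgebra (k := k) (A := A))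
  obtain ⟨B, hB, hfg, hBh⟩ := SubHopf.exists_fg_hopfSubalgebra (k := k) ({⟨f, hf⟩} : Finset (commPart k A))
  letI := SubStruct.subHopf hBh
  haveI : Algebra.FiniteType k B := (Subalgebra.fg_iff_finiteType B).1 hfg
  let incB : B →ₐ[k] A := (commPart k A).val.comp B.val
  have hι : ∀ b : B, comul (R := k) (incB b) = Algebra.TensorProduct.map incB incB (comul (R := k) b) := fun b => by
    show comul (R := k) ((B.val b : commPart k A) : A) = _
    rw [Algebra.TensorProduct.map_comp, AlgHom.comp_apply,
      show comul (R := k) b = SubStruct.subComul hBh b from rfl, SubStruct.map_subComul]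
    exact (SubStruct.map_subComul isHopfSubalgebra (B.val b)).symm
  haveI : Coalgebra.IsCocomm k B := ⟨LinearMap.ext fun b => by
    apply SubStruct.map_val_injective incB (Subtype.val_injective.comp Subtype.val_injective) incB
      (Subtype.val_injective.comp Subtype.val_injective)
    have h := eval_comm (f := incB b) (B.val b : commPart k A).2
      (toConv (Algebra.TensorProduct.includeRight : A →ₐ[k] A ⊗[k] A))
      (toConv (Algebra.TensorProduct.includeLeft : A →ₐ[k] A ⊗[k] A))
    rw [AlgHom.convMul_apply, AlgHom.convMul_apply, hι] at h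
    have e1 : ∀ z : B ⊗[k] B, Algebra.TensorProduct.map incB incB (TensorProduct.comm k B B z) =
        Algebra.TensorProduct.lift (toConv (Algebra.TensorProduct.includeRight : A →ₐ[k] A ⊗[k] A)).ofConv
          (toConv (Algebra.TensorProduct.includeLeft : A →ₐ[k] A ⊗[k] A)).ofConv (fun _ _ => .all ..)
          (Algebra.TensorProduct.map incB incB z) := fun z => by
      induction z using TensorProduct.induction_on with
      | zero => simp
      | add r s hr hs => simp only [map_add, hr, hs]
      | tmul r s => simp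
    have e2 : ∀ z : A ⊗[k] A,
        Algebra.TensorProduct.lift (toConv (Algebra.TensorProduct.includeLeft : A →ₐ[k] A ⊗[k] A)).ofConv
          (toConv (Algebra.TensorProduct.includeRight : A →ₐ[k] A ⊗[k] A)).ofConv (fun _ _ => .all ..) z = z :=
      fun z => by
      induction z using TensorProduct.induction_on with
      | zero => simp
      | add r s hr hs => simp only [map_add, hr, hs]
      | tmul r s => simp
    exact ((e1 _).trans h).trans (e2 _)⟩
  haveI : IsMonHom (Scheme'.sp incB : Scheme'.GA k A ⟶ Scheme'.GA k B) :=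
    Lib.GrpQ.RepMat.one_hom_of_mul _ fun W x y => by
      have key : ∀ (z : W ⟶ Scheme'.GA k A) (c : B), Lib.RedPts.Points.algHomOf (z ≫ Scheme'.sp incB) c =
          Lib.RedPts.Points.algHomOf z (incB c) := fun z c => by
        conv_lhs => rw [← Lib.RedPts.Points.pointOf_algHomOf z, Scheme'.pointOf_comp_sp]
        exact (AlgHom.congr_fun (Lib.RedPts.Points.algHomOf_pointOf ((Lib.RedPts.Points.algHomOf z).comp incB)) c)
      refine Lib.RedPts.Points.algHomOf_injective (AlgHom.ext fun b => ?_)
      rw [Lib.RedPts.Points.algHomOf_mul, key, Lib.RedPts.Points.algHomOf_mul, hι]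
      induction comul (R := k) b using TensorProduct.induction_on with
      | zero => simp
      | add r s hr hs => simp only [map_add, hr, hs]
      | tmul r s => simp [key]
  exact ⟨Scheme'.GA k B, inferInstance, inferInstance,
    locallyOfFiniteType_specOverSpec (R := CommRingCat.of k) (A := CommRingCat.of B),
    inferInstanceAs (QuasiCompact (Spec.map _)), B, inferInstance, inferInstance, incB,
    ⟨⟨f, hf⟩, hB (Finset.mem_singleton_self _)⟩, Iso.refl _, Scheme'.sp incB, inferInstance, Category.comp_id _, rfl⟩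

end Groth.Agent.H1.Classical.CommPart
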