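import Groth.Agent.H1.Classical.Solvable
import Groth.Agent.H1.Classical.HopfPts
import Groth.Agent.Lib.Comod.Basic
import Groth.Prelude.Def_HopfRep

/-!
# Comodules as representations of the group of points
-/

universe u v w

namespace Groth.Agent.H1.Classical.ComodPts

set_option linter.style.haveILetI false
set_option linter.unusedSectionVars false

open TensorProduct WithConv Module Kolchin Groth.Agent.Lib.Comod.Basic

variable {k : Type u} [Field k] {A : Type v} [CommRing A] [HopfAlgebra k A]
variable (V : Type w) [AddCommGroup V] [Module k V] [HopfRep.Comod k A V]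

theorem act_eq (g : A →ₐ[k] k) : HopfRep.Comod.act k A V g = dact V g.toLinearMap := rfl

theorem conv_eq (g h : HopfPts.Pt k A) :
    conv g.ofConv.toLinearMap h.ofConv.toLinearMap = (g * h).ofConv.toLinearMap := by
  refine LinearMap.ext fun a => ?_
  show LinearMap.mul' k k (TensorProduct.map g.ofConv.toLinearMap h.ofConv.toLinearMap (Coalgebra.comul a)) = (g * h) a
  rw [AlgHom.convMul_apply]
  induction Coalgebra.comul (R := k) a using TensorProduct.induction_on with
  | zero => simp
  | tmul x y => simp
  | add x y hx hy => simp only [map_add, hx, hy]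

/-- The action of points. -/
noncomputable def rep : Representation k (HopfPts.Pt k A) V where
  toFun g := HopfRep.Comod.act k A V g.ofConv
  map_one' := by
    rw [act_eq, show (1 : HopfPts.Pt k A).ofConv.toLinearMap = (Coalgebra.counit : A →ₗ[k] k) from
      LinearMap.ext fun a => by show (1 : HopfPts.Pt k A) a = _; simp, dact_counit]
    rfl
  map_mul' g h := LinearMap.ext fun v => by
    simp only [act_eq, End.mul_apply, dact_dact, conv_eq]

theorem rep_apply (g : HopfPts.Pt k A) : rep (k := k) (A := A) V g = HopfRep.Comod.act k A V g.ofConv := rfl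

variable [Algebra.FiniteType k A]

theorem endFn : EndFn (HopfPts.D k A).R (fun g => rep (k := k) (A := A) V g) := fun v l => by
  refine ⟨TensorProduct.lid k A (l.rTensor A (HopfRep.Comod.coact (k := k) (A := A) v)), funext fun g => ?_⟩
  show g.ofConv _ = l (contract V g.ofConv.toLinearMap (HopfRep.Comod.coact (k := k) (A := A) v))
  induction HopfRep.Comod.coact (k := k) (A := A) v using TensorProduct.induction_on with
  | zero => simp
  | tmul x y => simp [mul_comm]
  | add x y hx hy => simp only [map_add, hx, hy]

theorem endFn_inv : EndFn (HopfPts.D k A).R (fun g => rep (k := k) (A := A) V g⁻¹) := fun v l =>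
  (HopfPts.D k A).inv _ (endFn V v l)

/-- Subspaces stable under all points are subcomodules, for a reduced algebra. -/
theorem isSubcomod_of_stable [IsAlgClosed k] [IsReduced A] (W : Submodule k V)
    (h : ∀ g, ∀ w ∈ W, rep (k := k) (A := A) V g w ∈ W) : HopfRep.IsSubcomod (k := k) (A := A) W := by
  rw [isSubcomod_iff]
  intro φ w hw
  by_contra hcon
  obtain ⟨l, hl, hlW⟩ := Submodule.exists_dual_map_eq_bot_of_notMem hcon inferInstance
  have h0 : TensorProduct.lid k A (l.rTensor A (HopfRep.Comod.coact (k := k) (A := A) w)) = 0 := by
    refine HopfPts.ev_injective k A (funext fun g => ?_)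
    show g.ofConv _ = g.ofConv 0
    rw [map_zero]
    have : l (rep (k := k) (A := A) V g w) = 0 := (Submodule.mem_bot k).mp (hlW ▸ ⟨_, h g w hw, rfl⟩)
    rw [← this]
    show g.ofConv _ = l (contract V g.ofConv.toLinearMap (HopfRep.Comod.coact (k := k) (A := A) w))
    clear this
    induction HopfRep.Comod.coact (k := k) (A := A) w using TensorProduct.induction_on with
    | zero => simp
    | tmul x y => simp [mul_comm]
    | add x y hx hy => simp only [map_add, hx, hy]
  apply hl
  have h1 := congrArg φ h0
  rw [map_zero] at h1
  rw [← h1]
  show l (contract V φ (HopfRep.Comod.coact (k := k) (A := A) w)) = _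
  induction HopfRep.Comod.coact (k := k) (A := A) w using TensorProduct.induction_on with
  | zero => simp
  | tmul x y => simp [mul_comm]
  | add x y hx hy => simp only [map_add, hx, hy]

theorem noZeroDivisors [IsAlgClosed k] [IsReduced A] (hconn : ∀ e : A, IsIdempotentElem e → e = 0 ∨ e = 1) :
    NoZeroDivisors (HopfPts.D k A).R := by
  have h := Alg.sirr_univ_of_idempotent (HopfPts.D k A) (by
    rintro ⟨_, a, rfl⟩ he
    have ha : IsIdempotentElem a := HopfPts.ev_injective k A (by
      rw [map_mul]; exact congrArg Subtype.val he)
    rcases hconn a ha with h | h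
    · left; exact Subtype.ext (show HopfPts.ev k A a = 0 by rw [h, map_zero])
    · right; exact Subtype.ext (show HopfPts.ev k A a = 1 by rw [h, map_one]))
  exact ⟨fun {f f'} h0 => (h f f' (fun c _ => by rw [h0]; rfl)).imp
    (fun hf => Subtype.ext (funext fun c => hf c trivial)) fun hf => Subtype.ext (funext fun c => hf c trivial)⟩

end Groth.Agent.H1.Classical.ComodPts
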