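import Groth.Agent.H1.Classical.Kolchin
import Mathlib.RingTheory.Spectrum.Prime.Chevalley
import Mathlib.RingTheory.Spectrum.Prime.ConstructibleSet
import Mathlib.RingTheory.MvPolynomial.Homogeneous
import Mathlib.RingTheory.FiniteStability
import Mathlib.LinearAlgebra.Basis.VectorSpace
import Mathlib.RingTheory.IntegralDomain

/-!
# Closed cones: the closed orbit and fixed lines
-/

universe u v w

namespace Groth.Agent.H1.Classical.Cone

set_option linter.style.haveILetI false
set_option linter.unusedSectionVars false

open MvPolynomial Module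

/-- A generic point of the image lifts. -/
theorem exists_generic_lift {k : Type u} [Field k] [IsAlgClosed k] {A : Type v} {B : Type w} [CommRing A] [CommRing B]
    [Algebra k A] [Algebra k B] [Algebra.FiniteType k A] [Algebra.FiniteType k B] [IsDomain A] [IsDomain B]
    (φ : A →ₐ[k] B) (hφ : Function.Injective φ) :
    ∃ p : A, p ≠ 0 ∧ ∀ χ : A →ₐ[k] k, χ p ≠ 0 → ∃ χ' : B →ₐ[k] k, χ'.comp φ = χ := by
  letI := φ.toRingHom.toAlgebra
  haveI : IsScalarTower k A B := IsScalarTower.of_algebraMap_eq fun x => (φ.commutes x).symm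
  haveI : Algebra.FiniteType A B := Algebra.FiniteType.of_restrictScalars_finiteType k A B
  haveI : IsNoetherianRing A := Algebra.FiniteType.isNoetherianRing k A
  have hfp : φ.toRingHom.FinitePresentation := Algebra.FinitePresentation.of_finiteType.mp ‹_›
  obtain ⟨S, hS⟩ := PrimeSpectrum.exists_constructibleSetData_iff.mpr
    (PrimeSpectrum.isConstructible_range_comap hfp)
  have hbot : (⟨⊥, Ideal.isPrime_bot⟩ : PrimeSpectrum A) ∈ S.toSet := by
    rw [hS]
    refine ⟨⟨⊥, Ideal.isPrime_bot⟩, PrimeSpectrum.ext ?_⟩
    show Ideal.comap φ.toRingHom ⊥ = ⊥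
    exact Ideal.comap_bot_of_injective _ hφ
  simp only [PrimeSpectrum.ConstructibleSetData.toSet, Set.mem_iUnion] at hbot
  obtain ⟨C, hC, hCg, hCf⟩ := hbot
  refine ⟨C.f, fun h => hCf (by simp [PrimeSpectrum.zeroLocus, h]), fun χ hχ => ?_⟩
  have hker : (RingHom.ker χ).IsMaximal := RingHom.ker_isMaximal_of_surjective χ
    fun c => ⟨algebraMap k A c, χ.commutes c⟩
  have hmem : (⟨RingHom.ker χ, hker.isPrime⟩ : PrimeSpectrum A) ∈ Set.range (PrimeSpectrum.comap φ.toRingHom) := by
    rw [← hS]
    simp only [PrimeSpectrum.ConstructibleSetData.toSet, Set.mem_iUnion]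
    refine ⟨C, hC, ?_, ?_⟩
    · intro a ha
      have : a = 0 := by simpa using hCg ha
      simp [this]
    · intro h
      exact hχ (by simpa [PrimeSpectrum.zeroLocus] using h)
  obtain ⟨q, hq⟩ := hmem
  obtain ⟨n, hn, hqn⟩ := Ideal.exists_le_maximal q.asIdeal q.2.ne_top
  letI := Ideal.Quotient.field n
  have : Module.Finite k (B ⧸ n) := finite_of_finite_type_of_isJacobsonRing k _
  have : Algebra.IsIntegral k (B ⧸ n) := Algebra.IsIntegral.of_finite k _
  let e := AlgEquiv.ofBijective (Algebra.ofId k (B ⧸ n))
    (IsAlgClosed.algebraMap_bijective_of_isIntegral (k := k) (K := B ⧸ n))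
  let χ' : B →ₐ[k] k := e.symm.toAlgHom.comp (Ideal.Quotient.mkₐ k n)
  refine ⟨χ', AlgHom.ext fun a => ?_⟩
  have h1 : a - algebraMap k A (χ a) ∈ RingHom.ker χ := by simp [RingHom.mem_ker]
  have h2 : φ (a - algebraMap k A (χ a)) ∈ n := by
    refine hqn ?_
    have := congrArg PrimeSpectrum.asIdeal hq
    exact (SetLike.ext_iff.mp this _).mpr h1
  have h3 : χ' (φ (a - algebraMap k A (χ a))) = 0 := by
    simp only [χ', AlgHom.comp_apply, Ideal.Quotient.mkₐ_eq_mk, Ideal.Quotient.eq_zero_iff_mem.mpr h2, map_zero]
  simpa [sub_eq_zero] using h3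

variable {k : Type u} [Field k] [IsAlgClosed k] {σ : Type*} [Fintype σ]

/-- Homogeneous components of a polynomial vanishing on a cone vanish on it. -/
theorem homogeneousComponent_vanish (Z : Set (σ → k)) (hZ : ∀ c : k, ∀ z ∈ Z, c • z ∈ Z)
    {p : MvPolynomial σ k} (hp : ∀ z ∈ Z, eval z p = 0) (d : ℕ) :
    ∀ z ∈ Z, eval z (homogeneousComponent d p) = 0 := by
  classical
  intro z hz
  let q : Polynomial k :=
    ∑ i ∈ Finset.range (p.totalDegree + 1), Polynomial.monomial i (eval z (homogeneousComponent i p))
  have hq : q = 0 := by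
    refine Polynomial.funext fun c => ?_
    rw [Polynomial.eval_zero, ← hp _ (hZ c z hz)]
    conv_rhs => rw [← sum_homogeneousComponent p, map_sum]
    simp only [q, Polynomial.eval_finsetSum, Polynomial.eval_monomial]
    refine Finset.sum_congr rfl fun i _ => ?_
    have h : ∀ (φ : MvPolynomial σ k), φ.IsHomogeneous i → eval (c • z) φ = eval z φ * c ^ i := by
      intro φ hφ
      rw [eval_eq', eval_eq', Finset.sum_mul]
      refine Finset.sum_congr rfl fun m hm => ?_
      have hdeg : ∑ j, m j = i := by
        have := hφ (mem_support_iff.mp hm)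
        simp [Finsupp.weight_apply, Finsupp.sum_fintype] at this
        exact this
      simp only [Pi.smul_apply, smul_eq_mul, mul_pow, Finset.prod_mul_distrib, Finset.prod_pow_eq_pow_sum, hdeg]
      ring
    rw [h _ (homogeneousComponent_isHomogeneous i p)]
  by_cases hd : d < p.totalDegree + 1
  · have := congrArg (fun r => Polynomial.coeff r d) hq
    simpa [q, Polynomial.finsetSum_coeff, Polynomial.coeff_monomial, Finset.mem_range.mpr hd] using this
  · rw [homogeneousComponent_eq_zero d p (by omega), map_zero]

/-- If every coordinate power is congruent to a polynomial of lower degree, there are finitely many points. -/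
theorem finite_of_pow_eq (S : Set (σ → k)) (N : ℕ)
    (h : ∀ i, ∃ q : MvPolynomial σ k, q.totalDegree < N ∧ ∀ z ∈ S, z i ^ N = eval z q) : S.Finite := by
  classical
  choose q hqd hqe using h
  let J : Ideal (MvPolynomial σ k) := vanishingIdeal k S
  let π := Ideal.Quotient.mkₐ k J
  let D := Fintype.card σ * N
  let M : Submodule k (MvPolynomial σ k ⧸ J) :=
    Submodule.span k (π '' ((fun m : σ →₀ ℕ => monomial m (1 : k)) '' {m | m.sum (fun _ e => e) ≤ D}))
  have hfin : {m : σ →₀ ℕ | m.sum (fun _ e => e) ≤ D}.Finite := by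
    refine ((Finsupp.finite_of_degree_le D).subset fun m hm => ?_)
    simpa [Finsupp.degree_apply, Finsupp.sum] using hm
  have hmon : ∀ d, ∀ m : σ →₀ ℕ, m.sum (fun _ e => e) = d → π (monomial m 1) ∈ M := by
    intro d
    induction d using Nat.strong_induction_on with
    | _ d ih =>
      intro m hm
      by_cases hd : d ≤ D
      · exact Submodule.subset_span ⟨_, ⟨m, show _ ≤ D by omega, rfl⟩, rfl⟩
      obtain ⟨i, hi⟩ : ∃ i, N ≤ m i := by
        by_contra hcon
        push Not at hcon
        have : m.sum (fun _ e => e) ≤ Fintype.card σ * N := by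
          rw [Finsupp.sum_fintype _ _ (fun _ => rfl)]
          exact (Finset.sum_le_sum fun i _ => (hcon i).le).trans (by simp)
        omega
      have hmsplit : m = Finsupp.single i N + (m - Finsupp.single i N) := by
        rw [add_tsub_cancel_of_le]
        exact Finsupp.single_le_iff.mpr hi
      have hd' : (m - Finsupp.single i N).sum (fun _ e => e) + N = d := by
        conv_rhs => rw [← hm, hmsplit, Finsupp.sum_add_index' (fun _ => rfl) (fun _ _ _ => rfl),
          Finsupp.sum_single_index rfl, add_comm]
      have hrep : π (monomial m 1) = π (q i * monomial (m - Finsupp.single i N) 1) := by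
        rw [Ideal.Quotient.mkₐ_eq_mk, Ideal.Quotient.eq, mem_vanishingIdeal_iff]
        intro z hz
        have hpt : monomial m (1 : k) = monomial (m - Finsupp.single i N) 1 * X i ^ N := by
          rw [X_pow_eq_monomial, monomial_mul, mul_one, add_comm, ← hmsplit]
        simp [hpt, hqe i z hz, mul_comm]
      rw [hrep]
      conv => arg 2; rw [← support_sum_monomial_coeff (q i), Finset.sum_mul, map_sum]
      refine Submodule.sum_mem _ fun t ht => ?_
      rw [monomial_mul, mul_one,
        show monomial (t + (m - Finsupp.single i N)) (coeff t (q i)) =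
          coeff t (q i) • monomial (t + (m - Finsupp.single i N)) (1 : k) by simp [smul_monomial],
        map_smul]
      refine Submodule.smul_mem _ _ (ih _ ?_ _ rfl)
      rw [Finsupp.sum_add_index' (fun _ => rfl) (fun _ _ _ => rfl)]
      have : t.sum (fun _ e => e) ≤ (q i).totalDegree := le_totalDegree ht
      have := hqd i
      omega
  have htop : (⊤ : Submodule k (MvPolynomial σ k ⧸ J)) ≤ M := by
    intro x _
    obtain ⟨p, rfl⟩ := Ideal.Quotient.mk_surjective x
    rw [← support_sum_monomial_coeff p, map_sum]
    refine Submodule.sum_mem _ fun t _ => ?_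
    rw [show monomial t (coeff t p) = coeff t p • monomial t (1 : k) by simp [smul_monomial]]
    exact (map_smul π _ _) ▸ M.smul_mem _ (hmon _ t rfl)
  haveI : Module.Finite k (MvPolynomial σ k ⧸ J) :=
    ⟨⟨((hfin.image _).image _).toFinset, by rw [Set.Finite.coe_toFinset]; exact top_le_iff.mp htop⟩⟩
  let emb : S → (MvPolynomial σ k ⧸ J →ₐ[k] k) := fun z =>
    Ideal.Quotient.liftₐ J (aeval (z : σ → k)) fun p hp => (mem_vanishingIdeal_iff.mp hp) z z.2
  have hinj : Function.Injective emb := by
    intro a b hab
    refine Subtype.ext (funext fun i => ?_)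
    have := AlgHom.congr_fun hab (π (X i))
    simpa [emb, π] using this
  haveI : Finite S := Finite.of_injective emb hinj
  exact Set.toFinite S

end Groth.Agent.H1.Classical.Cone
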