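import Groth.Agent.H1.Classical.Cone
import Mathlib.RingTheory.Nullstellensatz
import Mathlib.LinearAlgebra.Matrix.Nondegenerate
import Mathlib.RingTheory.MvPolynomial.Homogeneous

/-!
# Elimination: a closed cone in `k^n × k^m` has closed projection
-/

universe u v

namespace Groth.Agent.H1.Classical.Elim

set_option linter.style.haveILetI false
set_option linter.unusedSectionVars false

open MvPolynomial Matrix

variable {k : Type u} [Field k] {n : ℕ} {ι : Type}

/-- Evaluation of a polynomial in `n + m` variables. -/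
noncomputable def ev2 (w : Fin n → k) (y : ι → k) :
    MvPolynomial (Fin n) (MvPolynomial ι k) →+* k :=
  (eval w).comp (map (eval y))

theorem ev2_def (w : Fin n → k) (y : ι → k) (G : MvPolynomial (Fin n) (MvPolynomial ι k)) :
    ev2 w y G = eval w (map (eval y) G) := rfl

theorem homogeneousComponent_map {R S : Type*} [CommSemiring R] [CommSemiring S] (f : R →+* S) (d : ℕ)
    (p : MvPolynomial (Fin n) R) :
    homogeneousComponent d (map f p) = map f (homogeneousComponent d p) := by
  classical
  ext e
  simp only [coeff_homogeneousComponent, coeff_map]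
  split_ifs <;> simp

/-- Closed subsets of `k^m`. -/
def PCl (Y : Set (ι → k)) : Prop :=
  ∀ y, (∀ p : MvPolynomial ι k, (∀ z ∈ Y, eval z p = 0) → eval y p = 0) → y ∈ Y

variable [IsAlgClosed k]

/-- Projection along a cone is closed. -/
theorem pcl_proj (C : Set ((Fin n → k) × (ι → k)))
    (hC : ∀ q, (∀ G, (∀ c ∈ C, ev2 c.1 c.2 G = 0) → ev2 q.1 q.2 G = 0) → q ∈ C)
    (hcone : ∀ (t : k) (w : Fin n → k) (y : ι → k), (w, y) ∈ C → (t • w, y) ∈ C) :
    PCl {y : ι → k | ∃ w, w ≠ 0 ∧ (w, y) ∈ C} := by
  classical
  intro y hy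
  by_contra hny
  rcases Nat.eq_zero_or_pos n with rfl | hn
  · refine one_ne_zero (α := k) ?_
    rw [← map_one (eval y)]
    exact hy 1 fun z ⟨w, hw, _⟩ => absurd (Subsingleton.elim w 0) hw
  let J : Ideal (MvPolynomial (Fin n) (MvPolynomial ι k)) :=
    { carrier := {G | ∀ c ∈ C, ev2 c.1 c.2 G = 0}
      add_mem' := fun {a b} ha hb c hc => by rw [map_add, ha c hc, hb c hc, add_zero]
      zero_mem' := fun c _ => map_zero _
      smul_mem' := fun r G hG c hc => by rw [smul_eq_mul, map_mul, hG c hc, mul_zero] }
  let J0 : Ideal (MvPolynomial (Fin n) k) := J.map (map (eval y))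
  have hsurj : Function.Surjective (map (σ := Fin n) (eval y)) :=
    map_surjective _ fun c => ⟨MvPolynomial.C c, eval_C _⟩
  have hzero : zeroLocus k J0 ⊆ {0} := by
    intro w hw
    by_contra hw0
    refine hny ⟨w, hw0, hC (w, y) fun G hG => ?_⟩
    exact mem_zeroLocus_iff.mp hw _ (Ideal.mem_map_of_mem _ hG)
  have hrad : ∀ i, ∃ e, (X i : MvPolynomial (Fin n) k) ^ e ∈ J0 := by
    intro i
    have : X i ∈ J0.radical := by
      rw [← vanishingIdeal_zeroLocus_eq_radical (K := k) J0, mem_vanishingIdeal_iff]
      intro x hx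
      simp [show x = 0 from hzero hx]
    exact this
  choose e he using hrad
  let N := ∑ i, e i + 1
  let D := n * N
  -- monomials of degree `D`
  haveI : Finite {s : Fin n →₀ ℕ // s.degree = D} :=
    ((Finsupp.finite_of_degree_le D).subset fun s (hs : s.degree = D) => hs.le).to_subtype
  haveI := Fintype.ofFinite {s : Fin n →₀ ℕ // s.degree = D}
  have hgen : ∀ s : {s : Fin n →₀ ℕ // s.degree = D}, ∃ G ∈ J, (∀ a, a.degree ≠ D → coeff a G = 0) ∧
      map (eval y) G = monomial s.1 1 := by
    intro s
    obtain ⟨i, hi⟩ : ∃ i, N ≤ s.1 i := by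
      by_contra hcon
      push Not at hcon
      have h1 : s.1.degree < n * N := by
        rw [Finsupp.degree_eq_sum]
        calc ∑ i, s.1 i < ∑ _i : Fin n, N := Finset.sum_lt_sum_of_nonempty ⟨⟨0, hn⟩, Finset.mem_univ _⟩
              fun i _ => hcon i
          _ = n * N := by simp
      exact absurd s.2 (ne_of_lt h1)
    have hmem : monomial s.1 (1 : k) ∈ J0 := by
      have hle : e i ≤ s.1 i := le_trans (le_trans (Finset.single_le_sum (f := e) (fun _ _ => Nat.zero_le _)
        (Finset.mem_univ i)) (Nat.le_succ _)) hi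
      have : monomial s.1 (1 : k) = monomial (s.1 - Finsupp.single i (e i)) 1 * X i ^ e i := by
        rw [X_pow_eq_monomial, monomial_mul, mul_one, tsub_add_cancel_of_le (Finsupp.single_le_iff.mpr hle)]
      rw [this]
      exact Ideal.mul_mem_left _ _ (he i)
    obtain ⟨G, hG, hGe⟩ := (Ideal.mem_map_iff_of_surjective _ hsurj).mp hmem
    refine ⟨homogeneousComponent D G, fun c hc => ?_, fun a ha => by rw [coeff_homogeneousComponent, if_neg ha], ?_⟩
    · rw [ev2_def, ← homogeneousComponent_map]
      refine Cone.homogeneousComponent_vanish {w | (w, c.2) ∈ C} (fun t w hw => hcone t w _ hw)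
        (fun w hw => ?_) D c.1 hc
      exact hG (w, c.2) hw
    · rw [← homogeneousComponent_map, hGe,
        homogeneousComponent_of_mem ((mem_homogeneousSubmodule D _).mpr (isHomogeneous_monomial _ s.2)), if_pos rfl]
  choose G hGJ hGdeg hGy using hgen
  let M : Matrix {s : Fin n →₀ ℕ // s.degree = D} {s : Fin n →₀ ℕ // s.degree = D} (MvPolynomial ι k) :=
    fun s t => coeff t.1 (G s)
  have hdet : eval y M.det = 1 := by
    rw [RingHom.map_det]
    suffices h : (eval y).mapMatrix M = 1 by rw [h, det_one]
    ext s t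
    show eval y (coeff t.1 (G s)) = _
    rw [← coeff_map, hGy, coeff_monomial, Matrix.one_apply]
    simp [Subtype.ext_iff]
  have h0 : eval y M.det = 0 := by
    refine hy M.det ?_
    rintro y' ⟨w, hw, hwC⟩
    by_contra hd
    obtain ⟨i, hi⟩ : ∃ i, w i ≠ 0 := by
      by_contra hcon; push Not at hcon; exact hw (funext hcon)
    let v : {s : Fin n →₀ ℕ // s.degree = D} → k := fun t => ∏ j, w j ^ (t.1 j)
    have hMv : ((eval y').mapMatrix M) *ᵥ v = 0 := by
      funext s
      have h := hGJ s (w, y') hwC
      rw [ev2_def, eval_eq'] at h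
      rw [Matrix.mulVec, dotProduct, Pi.zero_apply, ← h]
      symm
      refine Finset.sum_bij_ne_zero (fun a _ h1 => ⟨a, ?_⟩) (fun _ _ _ => Finset.mem_univ _) ?_ ?_ ?_
      · by_contra ha
        exact h1 (by rw [coeff_map, hGdeg s a ha, map_zero, zero_mul])
      · intro a₁ _ _ a₂ _ _ h
        exact congrArg Subtype.val h
      · intro t _ ht
        refine ⟨t.1, ?_, ?_, rfl⟩
        · rw [mem_support_iff, coeff_map]
          exact fun h0 => ht (by
            show eval y' (coeff t.1 (G s)) * _ = 0
            rw [h0, zero_mul])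
        · rw [coeff_map]; exact ht
      · intro a _ _
        simp only [coeff_map]; rfl
    have hv := Matrix.eq_zero_of_mulVec_eq_zero (by rwa [← RingHom.map_det]) hMv
    let s : {s : Fin n →₀ ℕ // s.degree = D} := ⟨Finsupp.single i D, Finsupp.degree_single i D⟩
    have := congrFun hv s
    simp [v, s, Finsupp.single_apply] at this
    exact hi this.1
  rw [hdet] at h0
  exact one_ne_zero h0

end Groth.Agent.H1.Classical.Elim
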