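import Groth.Agent.H1.Classical.CentralTorusRed
import Mathlib.FieldTheory.Minpoly.Field

/-!
# Semisimplicity and finiteness of the centre
-/

universe u

open TensorProduct CategoryTheory MonoidalCategory CartesianMonoidalCategory MonObj GrpObj AlgebraicGeometry WithConv

namespace Groth.Agent.H1.Classical.FiniteCentre

set_option linter.style.haveILetI false
set_option linter.unusedSectionVars false

open Groth.Agent.Lib.RedPts Groth.Agent.Lib.RedPts.Points Groth.Agent.Lib.RedPts.BC Groth.Agent.Lib.GrpSch Scheme'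
  Torus Torus.Centraliser Groth.Agent.H60.RedLR

attribute [local instance] baseAlgebra

section AlgClosed

variable {K : Type u} [Field K] [IsAlgClosed K] {B : Type u} [CommRing B] [HopfAlgebra K B] [Algebra.FiniteType K B]

/-- A central closed subgroup of a semisimple group has finitely many points. -/
theorem finite_central (h : Red.IsSemisimpleOver K (GA K B)) {P : Subgroup (HopfPts.Pt K B)}
    (hcl : (HopfPts.D K B).IsCl P) (hc : ∀ s ∈ P, ∀ g, g * s = s * g) : (P : Set (HopfPts.Pt K B)).Finite := by
  haveI := h.1.2.1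
  haveI := h.1.2.2.1
  haveI : IsDomain B := isDomain_of_iso (Iso.refl (GA K B))
  obtain ⟨C, hCP, hCcl, hCirr, -, Q, -, hQ⟩ :=
    Torus.Cartan.exists_component_in (D := HopfPts.D K B) P hcl
  have hCc : ∀ a ∈ C, ∀ b ∈ C, a * b = b * a := fun a _ b hb => hc b (hCP hb) a
  haveI := isSolvable_of_comm hCc
  obtain ⟨C', _, c, hc1, hc2, hc3, hc4, hc5, hfac, hpt⟩ := exists_subgroup C hCcl hCirr
  haveI := hc1
  haveI := hc2
  haveI := hc3
  haveI := hc4
  have hn : RadU.IsNormalPts c := fun g w => by
    obtain ⟨a, rfl⟩ := ptHom_surjective g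
    obtain ⟨s, hs, hws⟩ := hpt w
    exact ⟨w, by rw [hws, ← map_inv, ← map_mul, ← map_mul, hc s (hCP hs) a, mul_inv_cancel_right]⟩
  haveI : IsIso C'.hom := RadU.trivial_of_normal_solvable h c (RadU.isNormalHom_of_pts _ hn) hc5
  have hC1 : ∀ s ∈ C, s = 1 := fun s hs => by
    obtain ⟨w, hw⟩ := hfac (𝟙_ _) (ptHom _ s) fun b hb => by rw [algHomOf_ptHom, hb s hs, map_zero]
    have h1 : w = 1 := Over.OverMorphism.ext (by rw [← cancel_mono C'.hom, Over.w, Over.w])
    exact ptHom_injective (by rw [map_one, ← hw, h1, MonObj.one_comp])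
  refine Q.finite_toSet.subset fun g hg => ?_
  obtain ⟨q, hq, hqg⟩ := hQ g hg
  rwa [← eq_of_inv_mul_eq_one (hC1 _ hqg)]

end AlgClosed

variable {k : Type u} [Field k] {A : Type u} [CommRing A] [HopfAlgebra k A]

theorem ker_isMaximal {K : Type u} [Field K] [Algebra k K] [Algebra.IsAlgebraic k K] (x : A →ₐ[k] K) :
    (RingHom.ker x).IsMaximal := by
  letI := (Subalgebra.isField_of_algebraic x.range).toField
  have h := RingHom.ker_isMaximal_of_surjective x.rangeRestrict x.rangeRestrict_surjective
  rwa [show RingHom.ker x.rangeRestrict = RingHom.ker x from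
    Ideal.ext fun a => by simp [RingHom.mem_ker, Subtype.ext_iff]] at h

/-- A rational point in the kernel of a point defines a point of the closed subscheme with that ideal. -/
theorem exists_point_of_ker {K : Type u} [Field K] [Algebra k K] [Algebra.IsAlgebraic k K]
    {Z : Over (Spec (CommRingCat.of k))} (z : Z ⟶ GA k A) [IsClosedImmersion z.left] (x : A →ₐ[k] K)
    (hx : RingHom.ker (algHomOf z) ≤ RingHom.ker x) :
    ∃ q : Z.left, (z.left.base q : PrimeSpectrum A).asIdeal = RingHom.ker x := by
  let w : (Over.map (extBase k K)).obj (𝟙_ (Over (Spec (CommRingCat.of K)))) ⟶ GA k A :=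
    (Over.map (extBase k K)).map (ptHom (A := K ⊗[k] A) _ (CharDescent.ext (toConv x))) ≫ bcDown k A K
  have hw : ∀ a, algHomOf w a = 0 ↔ x a = 0 := fun a => by
    rw [CentralTorus.algHomOf_bcDown, algHomOf_ptHom, show (CharDescent.ext (toConv x)).ofConv ((1 : K) ⊗ₜ[k] a) = x a by
      simp [CharDescent.ext]]
    exact map_eq_zero_iff _ (baseHom_bijective (k := K)).1
  obtain ⟨y, hy⟩ := CentralTorus.exists_lift z w fun a ha => (hw a).mpr (hx ha)
  have hmax := ker_isMaximal x
  let p : ((Over.map (extBase k K)).obj (𝟙_ (Over (Spec (CommRingCat.of K))))).left := IsLocalRing.closedPoint K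
  refine ⟨y.left.base p, ?_⟩
  rw [show z.left.base (y.left.base p) = w.left.base p by rw [← hy]; rfl]
  exact (hmax.eq_of_le (PrimeSpectrum.isPrime _).ne_top fun a ha =>
    CentralTorus.mem_zeroLocus w p ((hw a).mpr (RingHom.mem_ker.mp ha))).symm

/-- Only finitely many geometric points have a given kernel. -/
theorem finite_fibre {K : Type u} [Field K] [Algebra k K] [Algebra.IsAlgebraic k K] [Algebra.FiniteType k A]
    (m : Ideal A) : {x : A →ₐ[k] K | RingHom.ker x = m}.Finite := by
  by_cases hm : m.IsMaximal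
  · letI := Ideal.Quotient.field m
    haveI : Module.Finite k (A ⧸ m) := finite_of_finite_type_of_isJacobsonRing k _
    haveI : Finite ((A ⧸ m) →ₐ[k] K) := Finite.of_fintype _
    refine (Set.finite_range fun f : (A ⧸ m) →ₐ[k] K => f.comp (Ideal.Quotient.mkₐ k m)).subset fun x hx => ?_
    exact ⟨Ideal.Quotient.liftₐ m x fun a ha => RingHom.mem_ker.mp (hx.symm ▸ ha), AlgHom.ext fun a => rfl⟩
  · convert Set.finite_empty
    exact Set.eq_empty_of_forall_notMem fun x (hx : RingHom.ker x = m) => hm (hx ▸ ker_isMaximal x)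

/-- A finite closed subscheme has finitely many geometric points. -/
theorem finite_points_of_finite {K : Type u} [Field K] [Algebra k K] [Algebra.IsAlgebraic k K] [Algebra.FiniteType k A]
    {Z : Over (Spec (CommRingCat.of k))} (z : Z ⟶ GA k A) [IsClosedImmersion z.left] [Finite Z.left] :
    {x : A →ₐ[k] K | RingHom.ker (algHomOf z) ≤ RingHom.ker x}.Finite := by
  refine (Set.finite_iUnion fun q : Z.left => finite_fibre (K := K) (z.left.base q : PrimeSpectrum A).asIdeal).subset
    fun x hx => ?_
  obtain ⟨q, hq⟩ := exists_point_of_ker z x hx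
  exact Set.mem_iUnion.mpr ⟨q, hq.symm⟩

/-- The centre is finite if it has finitely many geometric points. -/
theorem finite_of_finite_points {K : Type u} [Field K] [Algebra k K] [Algebra.IsAlgebraic k K] [IsAlgClosed K]
    [Algebra.FiniteType k A] {Z : Over (Spec (CommRingCat.of k))} (z : Z ⟶ GA k A) [IsClosedImmersion z.left]
    (h : {x : A →ₐ[k] K | RingHom.ker (algHomOf z) ≤ RingHom.ker x}.Finite) : Finite Z.left := by
  haveI := (CentralTorus.finite_zeroLocus (K := K) (RingHom.ker (algHomOf z)) h).to_subtype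
  refine Finite.of_injective (β := PrimeSpectrum.zeroLocus ((RingHom.ker (algHomOf z) : Ideal A) : Set A))
    (fun p => ⟨z.left.base p, fun a ha => CentralTorus.mem_zeroLocus z p (RingHom.mem_ker.mp ha)⟩) fun p q hpq => ?_
  exact z.left.isClosedEmbedding.injective (congrArg Subtype.val hpq)

variable {K : Type u} [Field K] [IsAlgClosed K] [Algebra k K] [Algebra.IsAlgebraic k K]

/-- A central geometric point lies in the centre. -/
theorem res_mem_centre {Z : Over (Spec (CommRingCat.of k))} [GrpObj Z] (z : Z ⟶ GA k A) (hz : Red.IsCentre z)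
    [Smooth (GA k A).hom] [ConnectedSpace (GA k A).left] [Algebra.FiniteType k A]
    (X : HopfPts.Pt K (K ⊗[k] A)) (hX : ∀ g, g * X = X * g) :
    RingHom.ker (algHomOf z) ≤ RingHom.ker (CharDescent.res X).ofConv := by
  obtain ⟨hdom, hsm, hconn⟩ := CentralTorus.bc_ga_props (k := k) (A := A) (K := K)
  haveI := hdom
  haveI := hsm
  haveI := hconn
  haveI : IsMonHom (asIso (bcComp k A K)).hom := isMonHom_bcComp K
  haveI : IsMonHom (bcComp k A K) := isMonHom_bcComp K
  let p : 𝟙_ (Over (Spec (CommRingCat.of K))) ⟶ GA K (K ⊗[k] A) := ptHom _ X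
  have huniv : (toUnit (GA K (K ⊗[k] A)) ≫ p) * 𝟙 _ = 𝟙 _ * (toUnit (GA K (K ⊗[k] A)) ≫ p) :=
    MaxTorusExists.hom_ext_of_points _ _ fun g => by
      obtain ⟨g', rfl⟩ := ptHom_surjective g
      rw [MonObj.comp_mul, MonObj.comp_mul, Category.comp_id, ← Category.assoc, toUnit_unique (_ ≫ toUnit _) (toUnit _),
        toUnit_unique (toUnit (𝟙_ (Over (Spec (CommRingCat.of K))))) (𝟙 _), Category.id_comp]
      show ptHom _ X * ptHom _ g' = ptHom _ g' * ptHom _ X
      rw [← map_mul, ← map_mul, hX]
  obtain ⟨y, hy⟩ := ((FieldDescent.isCentralizerOf_bc (extBase k K) hz).2.2 _ (p ≫ bcComp k A K)).mpr fun X' x h => by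
    rw [CategoryTheory.Functor.map_id, Category.comp_id]
    have h1 := congrArg (fun m => (h ≫ inv (bcComp k A K)) ≫ m ≫ bcComp k A K) huniv
    simp only [MonObj.mul_comp, MonObj.comp_mul, Category.id_comp, Category.comp_id, Category.assoc,
      IsIso.inv_hom_id] at h1
    rw [← reassoc_of% (toUnit_unique ((h ≫ inv (bcComp k A K)) ≫ toUnit _) x)] at *
    simpa only [Category.assoc] using h1
  intro a ha
  have h1 := CentralTorus.down_ptHom_apply X z y hy
  have h2 := congrArg (fun f => algHomOf f a) h1
  rw [CentralTorus.algHomOf_bcDown, algHomOf_ptHom, show algHomOf (BC.down (extBase k K) y ≫ z) a =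
    (BC.down (extBase k K) y).left.appTop (algHomOf z a) from ringHomOf_comp _ _ a, RingHom.mem_ker.mp ha, map_zero] at h2
  rw [RingHom.mem_ker, CharDescent.res_apply]
  exact (map_eq_zero_iff _ (baseHom_bijective (k := K)).1).mp h2.symm

/-- The centre is carried along by isomorphisms. -/
theorem isCentre_congr {G G' Z : Over (Spec (CommRingCat.of k))} [GrpObj G] [GrpObj G'] [GrpObj Z] (e : G ≅ G')
    [IsMonHom e.hom] {z : Z ⟶ G} (hz : Red.IsCentre z) : Red.IsCentre (z ≫ e.hom) := by
  haveI := hz.1
  haveI := hz.2.1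
  refine ⟨inferInstance, mono_comp _ _, fun X g => ⟨?_, fun hg => ?_⟩⟩
  · rintro ⟨w, rfl⟩ X' x h
    have h1 := congrArg (· ≫ e.hom) ((hz.2.2 X (w ≫ z)).mp ⟨w, rfl⟩ X' x (h ≫ e.inv))
    simpa only [MonObj.mul_comp, Category.assoc, Category.comp_id, e.inv_hom_id] using h1
  · obtain ⟨w, hw⟩ := (hz.2.2 X (g ≫ e.inv)).mpr fun X' x h => by
      rw [← cancel_mono e.hom]
      simpa only [MonObj.mul_comp, Category.assoc, Category.comp_id, e.inv_hom_id] using hg X' x (h ≫ e.hom)
    exact ⟨w, by rw [reassoc_of% hw, e.inv_hom_id, Category.comp_id]⟩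

/-- A reductive group is semisimple exactly when its centre is finite. -/
theorem isSemisimple_iff {G : Over (Spec (CommRingCat.of k))} [GrpObj G] (hG : Red.IsReductive G)
    {Z : Over (Spec (CommRingCat.of k))} [GrpObj Z] (z₀ : Z ⟶ G) (hz₀ : Red.IsCentre z₀) [IsClosedImmersion z₀.left] :
    Red.IsSemisimple G ↔ Finite ↥Z.left := by
  obtain ⟨haff, hsm, hconn⟩ := CentralTorusRed.reductive_props hG
  haveI := haff
  haveI := hsm
  haveI := hconn
  obtain ⟨A', _, _, e, he⟩ := Hopf.exists_iso G
  haveI := he
  haveI : IsMonHom e.inv := inferInstance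
  haveI : IsMonHom e.symm.hom := inferInstanceAs (IsMonHom e.inv)
  haveI : IsIso e.inv.left := ((Over.forget _).mapIso e).isIso_inv
  haveI : IsIso e.hom.left := ((Over.forget _).mapIso e).isIso_hom
  haveI : Smooth (GA k A').hom := by rw [← Over.w e.inv]; infer_instance
  haveI : Algebra.FiniteType k A' :=
    Hopf.finiteType_of_locallyOfFiniteType (show LocallyOfFiniteType (GA k A').hom from inferInstance)
  haveI : ConnectedSpace (GA k A').left := e.hom.left.surjective.connectedSpace e.hom.left.continuous
  haveI : IsClosedImmersion (z₀ ≫ e.hom).left := by rw [Over.comp_left]; infer_instance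
  let z := z₀ ≫ e.hom
  have hz : Red.IsCentre z := isCentre_congr e hz₀
  haveI := hz.1
  constructor
  · intro hss
    have hss' := CentralTorusRed.isSemisimple_congr e hss
    let s : Spec (CommRingCat.of k) := IsLocalRing.closedPoint k
    have h : Red.IsSemisimpleOver _ (Red.bc (Red.geomPt s) (GA k A')) := hss'.2.2 s
    obtain ⟨alg, halg, hσ⟩ := exists_geomPt_eq s
    rw [hσ] at h
    let L := AlgebraicClosure ((Spec (CommRingCat.of k)).residueField s)
    haveI : IsMonHom (asIso (bcComp k A' L)).hom := isMonHom_bcComp L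
    haveI : IsMonHom (asIso (bcComp k A' L)).symm.hom := inferInstanceAs (IsMonHom (asIso (bcComp k A' L)).inv)
    have h' := CentralTorusRed.isSemisimpleOver_congr (asIso (bcComp k A' L)).symm h
    haveI : IsIso (asIso (bcComp k A' L)).inv.left := ((Over.forget _).mapIso (asIso (bcComp k A' L))).isIso_inv
    haveI : IsClosedImmersion ((Over.pullback (extBase k L)).map z).left :=
      bc_map_left_of (P := @IsClosedImmersion) _ z inferInstance
    let zK : Red.bc (extBase k L) Z ⟶ GA L (L ⊗[k] A') :=
      (Over.pullback (extBase k L)).map z ≫ (asIso (bcComp k A' L)).inv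
    haveI : IsClosedImmersion zK.left := by
      rw [show zK.left = ((Over.pullback (extBase k L)).map z).left ≫ (asIso (bcComp k A' L)).inv.left from rfl]
      infer_instance
    haveI := (CentralTorus.bc_ga_props (k := k) (A := A') (K := L)).1
    have hfin := finite_central h' (isCl_ptsOf zK) fun s hs g => by
      obtain ⟨y, hy⟩ := hs
      refine CentralTorus.mul_comm_pts z (fun X g t => ?_) g y ?_
      · have h := (hz.2.2 X (t ≫ z)).mp ⟨t, rfl⟩ X (𝟙 X) g
        simp only [Category.id_comp, Category.comp_id] at h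
        exact h.symm
      · rw [← show y ≫ zK = ptHom _ s from hy]
        simp [zK]
    exact finite_of_finite_points (K := L) z ((hfin.image fun X => (CharDescent.res X).ofConv).subset fun x hx =>
      ⟨CharDescent.ext (toConv x), CentralTorus.ext_mem_ptsOf z x hx,
        congrArg WithConv.ofConv (CharDescent.res_ext (toConv x))⟩)
  · intro hZ
    refine CentralTorusRed.isSemisimple_congr e.symm (CentralTorusRed.isSemisimple_of_finite
      (CentralTorusRed.isReductive_congr e hG) fun K' _ _ _ _ _ S _ hS hc => ?_)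
    exact ((finite_points_of_finite (K := K') z).image fun x => CharDescent.ext (toConv x)).subset fun X hX =>
      ⟨(CharDescent.res X).ofConv, res_mem_centre z hz X (hc X hX), CharDescent.ext_res X⟩

end Groth.Agent.H1.Classical.FiniteCentre
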