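import Groth.Agent.H1.Classical.ParabolicImage
import Groth.Agent.H1.LangTorsor
import Groth.Agent.H52.FBase.GeomRedSch
import Groth.Agent.Lib.GrpQ.InfSub
import Mathlib.FieldTheory.Finite.Basic
import Mathlib.FieldTheory.Galois.Basic
import Mathlib.FieldTheory.Finite.GaloisField

/-!
# Descent of Frobenius stable closed subgroups over a finite field
-/

universe u

open CategoryTheory MonoidalCategory CartesianMonoidalCategory MonObj GrpObj AlgebraicGeometry Limits

namespace Groth.Agent.H1.Classical.FrobDescent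

set_option linter.style.haveILetI false
set_option linter.unusedSectionVars false

open Groth.Agent.Lib.RedPts Groth.Agent.Lib.RedPts.Points Scheme' Groth.Agent.Lib.GrpSch FieldDescent
  Groth.Agent.Lib.RedPts.BC

attribute [local instance] baseAlgebra

variable {k : Type u} [Field k] [Finite k]

/-- Power endomorphisms commute with all morphisms. -/
theorem frob_comm {X Y : Over (Spec (CommRingCat.of k))} [IsAffine Y.left] {FX : X ⟶ X} {FY : Y ⟶ Y}
    (hX : ∀ s : Γ(X.left, ⊤), FX.left.appTop s = s ^ Nat.card k)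
    (hY : ∀ s : Γ(Y.left, ⊤), FY.left.appTop s = s ^ Nat.card k) (f : X ⟶ Y) : FX ≫ f = f ≫ FY := by
  refine Over.OverMorphism.ext (ext_of_isAffine (CommRingCat.hom_ext (RingHom.ext fun s => ?_)))
  simp only [Over.comp_left, Scheme.Hom.comp_appTop, CommRingCat.hom_comp, RingHom.comp_apply]
  exact (hX _).trans ((map_pow _ _ _).symm.trans (congrArg _ (hY s).symm))

/-- The Frobenius endomorphism is a homomorphism. -/
theorem isMonHom_frob {G : Over (Spec (CommRingCat.of k))} [GrpObj G] [IsAffine G.left] (F : G ⟶ G)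
    (hF : ∀ s : Γ(G.left, ⊤), F.left.appTop s = s ^ Nat.card k) : IsMonHom F := by
  haveI : IsAffine (G ⊗ G).left := inferInstanceAs (IsAffine (pullback G.hom G.hom))
  obtain ⟨F₂, hF₂⟩ := LangTorsor.exists_frobenius (G ⊗ G)
  obtain ⟨F₁, hF₁⟩ : ∃ F₁ : 𝟙_ (Over (Spec (CommRingCat.of k))) ⟶ 𝟙_ _,
      ∀ s, F₁.left.appTop s = s ^ Nat.card k := by
    haveI : IsAffine (𝟙_ (Over (Spec (CommRingCat.of k)))).left := inferInstanceAs (IsAffine (Spec (CommRingCat.of k)))
    exact LangTorsor.exists_frobenius _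
  have h : F ⊗ₘ F = F₂ := CartesianMonoidalCategory.hom_ext _ _
    (by rw [tensorHom_fst, frob_comm hF₂ hF (fst G G)]) (by rw [tensorHom_snd, frob_comm hF₂ hF (snd G G)])
  refine ⟨?_, ?_⟩
  · rw [← frob_comm hF₁ hF η[G], toUnit_unique F₁ (𝟙 _), Category.id_comp]
  · rw [h, frob_comm hF₂ hF μ[G]]

variable {K : Type u} [Field K] [Algebra k K] [Algebra.IsAlgebraic k K]

/-- Points with the same kernel differ by a power of Frobenius. -/
theorem exists_frob_pow {A : Type*} [CommRing A] [Algebra k A] [Algebra.FiniteType k A] [Fintype k]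
    (χ χ' : A →ₐ[k] K) (h : RingHom.ker χ = RingHom.ker χ') : ∃ n : ℕ, ∀ a, χ' a = χ a ^ (Fintype.card k) ^ n := by
  haveI : Algebra.IsAlgebraic k χ.range := Algebra.IsAlgebraic.of_injective χ.range.val Subtype.val_injective
  haveI : Algebra.IsIntegral k χ.range := Algebra.IsAlgebraic.isIntegral
  haveI : Algebra.FiniteType k χ.range := Algebra.FiniteType.of_surjective χ.rangeRestrict χ.rangeRestrict_surjective
  let L : IntermediateField k K :=
    χ.range.toIntermediateField' (isField_of_isIntegral_of_isField' (Field.toIsField k))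
  have hmem : ∀ a, χ a ∈ L := fun a => ⟨a, rfl⟩
  let χL : A →ₐ[k] L :=
    { toFun := fun a => ⟨χ a, hmem a⟩
      map_one' := Subtype.ext (map_one χ)
      map_mul' := fun a b => Subtype.ext (map_mul χ a b)
      map_zero' := Subtype.ext (map_zero χ)
      map_add' := fun a b => Subtype.ext (map_add χ a b)
      commutes' := fun c => Subtype.ext (χ.commutes c) }
  have hsurj : Function.Surjective χL := fun ⟨x, hx⟩ => by
    obtain ⟨a, ha⟩ := hx
    exact ⟨a, Subtype.ext ha⟩
  haveI : Algebra.FiniteType k L := Algebra.FiniteType.of_surjective χL hsurj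
  haveI : Algebra.IsIntegral k L := Algebra.IsAlgebraic.isIntegral
  haveI : Module.Finite k L := Algebra.IsIntegral.finite
  haveI : Finite L := Module.finite_of_finite k
  have hker : RingHom.ker χL = RingHom.ker χ := by
    ext a
    rw [RingHom.mem_ker, RingHom.mem_ker]
    exact ⟨fun ha => congrArg Subtype.val ha, fun ha => Subtype.ext ha⟩
  have hle : ∀ a ∈ RingHom.ker χL, χ' a = 0 := fun a ha => RingHom.mem_ker.mp (h ▸ hker ▸ ha)
  let ψ : L →ₐ[k] K := (Ideal.Quotient.liftₐ (RingHom.ker χL) χ' hle).comp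
    (Ideal.quotientKerAlgEquivOfSurjective hsurj).symm.toAlgHom
  have hψ : ∀ a, ψ (χL a) = χ' a := fun a => by
    show Ideal.Quotient.liftₐ _ χ' hle ((Ideal.quotientKerAlgEquivOfSurjective hsurj).symm (χL a)) = _
    rw [show (Ideal.quotientKerAlgEquivOfSurjective hsurj).symm (χL a) = Ideal.Quotient.mk _ a from
      (AlgEquiv.symm_apply_eq _).mpr rfl]
    rfl
  let ρ : L →ₐ[k] L :=
    { toFun := fun x => ⟨ψ x, by
        have hx : ψ x ∈ ψ.fieldRange := ⟨x, rfl⟩
        rwa [ψ.fieldRange_of_normal] at hx⟩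
      map_one' := Subtype.ext (map_one ψ)
      map_mul' := fun x y => Subtype.ext (map_mul ψ x y)
      map_zero' := Subtype.ext (map_zero ψ)
      map_add' := fun x y => Subtype.ext (map_add ψ x y)
      commutes' := fun c => Subtype.ext (ψ.commutes c) }
  obtain ⟨n, hn⟩ := (FiniteField.bijective_frobeniusAlgHom_pow k L).2 ρ
  have key : ∀ (m : ℕ) (x : L), (FiniteField.frobeniusAlgHom k L ^ m) x = x ^ (Fintype.card k) ^ m := by
    intro m
    induction m with
    | zero => intro x; rw [pow_zero, pow_zero, pow_one]; rfl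
    | succ m ih =>
      intro x
      rw [pow_succ' (FiniteField.frobeniusAlgHom k L) m, AlgHom.mul_apply, ih, map_pow, pow_succ' (Fintype.card k) m, pow_mul]
      rfl
  refine ⟨n.1, fun a => ?_⟩
  have h1 : (FiniteField.frobeniusAlgHom k L ^ n.1) (χL a) = ρ (χL a) := congrArg (fun f : L →ₐ[k] L => f (χL a)) hn
  rw [key] at h1
  have h2 := congrArg Subtype.val h1
  rw [SubmonoidClass.coe_pow] at h2
  exact (hψ a).symm.trans h2.symm

variable [IsAlgClosed K]

/-- The geometric point. -/
noncomputable abbrev geo : Over (Spec (CommRingCat.of k)) := Over.mk (extBase k K)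

/-- A rational point over the closure, as a geometric point. -/
noncomputable def flat' {X : Over (Spec (CommRingCat.of k))}
    (x : 𝟙_ (Over (Spec (CommRingCat.of K))) ⟶ Red.bc (extBase k K) X) : geo (k := k) (K := K) ⟶ X :=
  Over.homMk (x.left ≫ bcProj (extBase k K) X) (by
    show (x.left ≫ bcProj (extBase k K) X) ≫ X.hom = extBase k K
    rw [Category.assoc, (isPullback_bc (extBase k K) X).w, ← Category.assoc, Over.w x]
    exact Category.id_comp _)

theorem flat_eq {X : Over (Spec (CommRingCat.of k))} (x : 𝟙_ (Over (Spec (CommRingCat.of K))) ⟶ Red.bc (extBase k K) X) :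
    flat' x = (Over.isoMk (Iso.refl _) (by show 𝟙 _ ≫ extBase k K = 𝟙 _ ≫ extBase k K; rfl) :
      (Over.map (extBase k K)).obj (𝟙_ (Over (Spec (CommRingCat.of K)))) ≅ geo (k := k) (K := K)).inv ≫
        down (extBase k K) x := by
  refine Over.OverMorphism.ext ?_
  rw [Over.comp_left, down_left]
  exact (Category.id_comp _).symm

theorem flat_bijective (X : Over (Spec (CommRingCat.of k))) :
    Function.Bijective (flat' (K := K) (X := X)) := by
  constructor
  · intro a b h
    rw [flat_eq, flat_eq, cancel_epi] at h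
    exact down_injective h
  · intro p
    refine ⟨up (extBase k K) ((Over.isoMk (Iso.refl _) (by show 𝟙 _ ≫ extBase k K = 𝟙 _ ≫ extBase k K; rfl) :
      (Over.map (extBase k K)).obj (𝟙_ (Over (Spec (CommRingCat.of K)))) ≅ geo (k := k) (K := K)).hom ≫ p), ?_⟩
    rw [flat_eq, down_up, Iso.inv_hom_id_assoc]

theorem flat_map {X Y : Over (Spec (CommRingCat.of k))} (x : 𝟙_ (Over (Spec (CommRingCat.of K))) ⟶ Red.bc (extBase k K) X)
    (φ : X ⟶ Y) : flat' (x ≫ (Over.pullback (extBase k K)).map φ) = flat' x ≫ φ := by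
  rw [flat_eq, flat_eq, down_map, Category.assoc]

theorem flat_mul {G : Over (Spec (CommRingCat.of k))} [GrpObj G]
    (x y : 𝟙_ (Over (Spec (CommRingCat.of K))) ⟶ Red.bc (extBase k K) G) : flat' (x * y) = flat' x * flat' y := by
  rw [flat_eq, flat_eq, flat_eq, down_mul, MonObj.comp_mul]

theorem flat_inv {G : Over (Spec (CommRingCat.of k))} [GrpObj G]
    (x : 𝟙_ (Over (Spec (CommRingCat.of K))) ⟶ Red.bc (extBase k K) G) : flat' x⁻¹ = (flat' x)⁻¹ := by
  rw [flat_eq, flat_eq, down_inv, GrpObj.comp_inv]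

variable {G : Over (Spec (CommRingCat.of k))} [GrpObj G] [IsAffine G.left] [LocallyOfFiniteType G.hom]

/-- Geometric points with the same image differ by a power of Frobenius. -/
theorem mem_of_same_image (F : G ⟶ G) (hF : ∀ s : Γ(G.left, ⊤), F.left.appTop s = s ^ Nat.card k)
    (M : (geo (k := k) (K := K) ⟶ G) → Prop) (hM : ∀ a, M a → M (a ≫ F)) {a b : geo (k := k) (K := K) ⟶ G}
    (hab : a.left (IsLocalRing.closedPoint K) = b.left (IsLocalRing.closedPoint K)) (ha : M a) : M b := by
  haveI := Fintype.ofFinite k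
  let e := (Scheme.ΓSpecIso (CommRingCat.of K)).commRingCatIsoToRingEquiv
  let φ : (geo (k := k) (K := K) ⟶ G) → (Γ(G.left, ⊤) →+* K) := fun p =>
    (p.left.appTop ≫ (Scheme.ΓSpecIso (CommRingCat.of K)).hom).hom
  have hcomm : ∀ (p : geo (k := k) (K := K) ⟶ G) c, φ p (baseHom G c) = algebraMap k K c := fun p c => by
    have h := congrArg (fun f => (Scheme.Hom.appTop f ≫ (Scheme.ΓSpecIso (CommRingCat.of K)).hom).hom
      ((Scheme.ΓSpecIso (CommRingCat.of k)).inv c)) (Over.w p)
    have hnat := congrArg (fun f => f.hom ((Scheme.ΓSpecIso (CommRingCat.of k)).inv c))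
      (Scheme.ΓSpecIso_naturality (CommRingCat.ofHom (algebraMap k K)))
    simp only [CommRingCat.hom_comp, RingHom.comp_apply, Scheme.Hom.comp_appTop] at h hnat
    refine h.trans (hnat.trans ?_)
    simp
  let χ : (geo (k := k) (K := K) ⟶ G) → (Γ(G.left, ⊤) →ₐ[k] K) := fun p => { φ p with commutes' := hcomm p }
  haveI : Algebra.FiniteType k Γ(G.left, ⊤) := by
    have h : LocallyOfFiniteType G.hom := inferInstance
    rw [HasRingHomProperty.iff_of_isAffine (P := @LocallyOfFiniteType)] at h
    show (baseHom G).FiniteType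
    exact h.comp (RingHom.FiniteType.of_surjective _
      (Scheme.ΓSpecIso (CommRingCat.of k)).symm.commRingCatIsoToRingEquiv.surjective)
  have hker : ∀ p, RingHom.ker (χ p) = ((G.left.toSpecΓ (p.left (IsLocalRing.closedPoint K))) :
      PrimeSpectrum Γ(G.left, ⊤)).asIdeal := by
    intro p
    have h1 : G.left.toSpecΓ (p.left (IsLocalRing.closedPoint K)) =
        Spec.map p.left.appTop ((Spec (CommRingCat.of K)).toSpecΓ (IsLocalRing.closedPoint K)) := by
      show (p.left ≫ G.left.toSpecΓ) (IsLocalRing.closedPoint K) =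
        ((Spec (CommRingCat.of K)).toSpecΓ ≫ Spec.map p.left.appTop) (IsLocalRing.closedPoint K)
      rw [Scheme.toSpecΓ_naturality]
      rfl
    rw [h1]
    show _ = Ideal.comap p.left.appTop.hom ((Spec (CommRingCat.of K)).toSpecΓ (IsLocalRing.closedPoint K)).asIdeal
    set P := ((Spec (CommRingCat.of K)).toSpecΓ (IsLocalRing.closedPoint K)).asIdeal with hP
    haveI : P.IsPrime := ((Spec (CommRingCat.of K)).toSpecΓ (IsLocalRing.closedPoint K)).isPrime
    ext s
    rw [RingHom.mem_ker, Ideal.mem_comap]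
    constructor
    · intro h
      have h0 : p.left.appTop.hom s = 0 := e.injective (h.trans (map_zero e).symm)
      rw [h0]
      exact zero_mem _
    · intro hs
      by_contra hne
      exact Ideal.IsPrime.ne_top inferInstance (Ideal.eq_top_of_isUnit_mem P hs
        ((isUnit_iff_ne_zero.mpr hne).map e.symm |> fun hu => by
          rwa [show e.symm ((χ p) s) = p.left.appTop.hom s from e.symm_apply_apply _] at hu))
  obtain ⟨n, hn⟩ := exists_frob_pow (χ a) (χ b) (by rw [hker, hker, hab])
  have hit : ∀ m : ℕ, ∃ c, M c ∧ ∀ s, φ c s = φ a s ^ (Fintype.card k) ^ m := by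
    intro m
    induction m with
    | zero => exact ⟨a, ha, fun s => by rw [pow_zero, pow_one]⟩
    | succ m ih =>
      obtain ⟨c, hc, hcs⟩ := ih
      refine ⟨c ≫ F, hM c hc, fun s => ?_⟩
      show e ((c ≫ F).left.appTop s) = _
      rw [Over.comp_left, Scheme.Hom.comp_appTop]
      show φ c (F.left.appTop s) = _
      rw [hF, map_pow, hcs, Nat.card_eq_fintype_card, ← pow_mul, ← pow_succ]
  obtain ⟨c, hc, hcs⟩ := hit n
  have : b = c := Over.OverMorphism.ext (ext_of_isAffine (CommRingCat.hom_ext (RingHom.ext fun s =>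
    e.injective ((hn s).trans (hcs s).symm))))
  rwa [this]

/-- The range of a morphism lies in a closed set containing the images of the geometric points. -/
theorem range_subset_of_points {X : Over (Spec (CommRingCat.of k))} [LocallyOfFiniteType X.hom] (g : X ⟶ G)
    {Z : Set G.left} (hZ : IsClosed Z)
    (h : ∀ p : geo (k := k) (K := K) ⟶ X, (p ≫ g).left (IsLocalRing.closedPoint K) ∈ Z) : Set.range g.left ⊆ Z := by
  haveI : JacobsonSpace X.left := LocallyOfFiniteType.jacobsonSpace X.hom
  have hsub : closedPoints X.left ⊆ g.left ⁻¹' Z := by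
    intro w hw
    haveI : LocallyOfFiniteType (Red.bc (extBase k K) X).hom := bc_hom_of (P := @LocallyOfFiniteType) _ X inferInstance
    haveI : JacobsonSpace (Red.bc (extBase k K) X).left := LocallyOfFiniteType.jacobsonSpace (Red.bc (extBase k K) X).hom
    obtain ⟨⟨hsurj, -⟩, -⟩ := bcProj_surjective_flat_qc k K X
    obtain ⟨v, hv, hvc⟩ := nonempty_inter_closedPoints (Z := (bcProj (extBase k K) X) ⁻¹' {w})
      ⟨_, (hsurj.surj w).choose_spec⟩ (IsClosed.preimage (bcProj (extBase k K) X).continuous hw).isLocallyClosed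
    obtain ⟨q, hq⟩ := exists_point (Y := Red.bc (extBase k K) X) hvc
    have hw' : (flat' q).left (IsLocalRing.closedPoint K) = w := by
      exact (congrArg (bcProj (extBase k K) X) (hq _)).trans hv
    have : g.left ((flat' q).left (IsLocalRing.closedPoint K)) ∈ Z := h (flat' q)
    rwa [hw'] at this
  rintro _ ⟨w, rfl⟩
  have hcl := closure_minimal hsub (hZ.preimage g.left.continuous)
  rw [closure_closedPoints] at hcl
  exact hcl trivial

theorem range_subset_closed {X Y : Over (Spec (CommRingCat.of K))} [LocallyOfFiniteType X.hom] (g : X ⟶ Y)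
    {Z : Set Y.left} (hZ : IsClosed Z)
    (h : ∀ p : 𝟙_ (Over (Spec (CommRingCat.of K))) ⟶ X, (p ≫ g).left (IsLocalRing.closedPoint K) ∈ Z) :
    Set.range g.left ⊆ Z := by
  haveI : JacobsonSpace X.left := LocallyOfFiniteType.jacobsonSpace X.hom
  have hsub : closedPoints X.left ⊆ g.left ⁻¹' Z := by
    intro w hw
    obtain ⟨q, hq⟩ := exists_point (Y := X) hw
    have : g.left (q.left (IsLocalRing.closedPoint K)) ∈ Z := h q
    exact Eq.subst (motive := fun z => g.left z ∈ Z) (hq _) this
  rintro _ ⟨w, rfl⟩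
  have hcl := closure_minimal hsub (hZ.preimage g.left.continuous)
  rw [closure_closedPoints] at hcl
  exact hcl trivial

/-- A Frobenius stable smooth closed subgroup is defined over the finite field. -/
theorem exists_descent (F : G ⟶ G) (hF : ∀ s : Γ(G.left, ⊤), F.left.appTop s = s ^ Nat.card k)
    {H : Over (Spec (CommRingCat.of K))} [GrpObj H] (iH : H ⟶ Red.bc (extBase k K) G) [IsMonHom iH]
    [IsClosedImmersion iH.left] [Smooth H.hom]
    (hst : ∀ y : 𝟙_ (Over (Spec (CommRingCat.of K))) ⟶ H,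
      ∃ y', y' ≫ iH = (y ≫ iH) ≫ (Over.pullback (extBase k K)).map F) :
    ∃ (H₀ : Over (Spec (CommRingCat.of k))) (_ : GrpObj H₀) (i₀ : H₀ ⟶ G) (e : Red.bc (extBase k K) H₀ ≅ H),
      IsMonHom i₀ ∧ IsClosedImmersion i₀.left ∧ IsMonHom e.hom ∧
        e.hom ≫ iH = (Over.pullback (extBase k K)).map i₀ ∧ Smooth H₀.hom := by
  haveI : LocallyOfFiniteType (Red.bc (extBase k K) G).hom := bc_hom_of (P := @LocallyOfFiniteType) _ G inferInstance
  haveI : LocallyOfFiniteType H.hom := inferInstance
  haveI : IsReduced H.left := isReduced_of_smooth_field H.hom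
  haveI : IsIntegralHom (extBase k K) := IsIntegralHom.SpecMap_iff.2 (Algebra.IsIntegral.isIntegral (R := k) (A := K))
  haveI : IsIntegralHom (bcProj (extBase k K) G) := inferInstanceAs (IsIntegralHom (pullback.fst G.hom (extBase k K)))
  let M : (geo (k := k) (K := K) ⟶ G) → Prop := fun p => ∃ y : 𝟙_ (Over (Spec (CommRingCat.of K))) ⟶ H, flat' (y ≫ iH) = p
  have hM : ∀ a, M a → M (a ≫ F) := by
    rintro a ⟨y, rfl⟩
    obtain ⟨y', hy'⟩ := hst y
    exact ⟨y', by rw [hy', flat_map]⟩
  let Z : TopologicalSpace.Closeds G.left :=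
    ⟨Set.range (iH.left ≫ bcProj (extBase k K) G), by
      rw [Scheme.Hom.comp_base, TopCat.coe_comp, Set.range_comp]
      exact (bcProj (extBase k K) G).isClosedMap _ iH.left.isClosedEmbedding.isClosed_range⟩
  have hZ : ∀ p : geo (k := k) (K := K) ⟶ G, p.left (IsLocalRing.closedPoint K) ∈ (Z : Set G.left) ↔ M p := by
    intro p
    constructor
    · intro hp
      obtain ⟨x, rfl⟩ := (flat_bijective G).2 p
      have hc : IsClosed ({(flat' x).left (IsLocalRing.closedPoint K)} : Set G.left) := by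
        have := (bcProj (extBase k K) G).isClosedMap _ (isClosed_point x)
        rwa [Set.image_singleton] at this
      haveI : JacobsonSpace H.left := LocallyOfFiniteType.jacobsonSpace H.hom
      obtain ⟨w, hw, hwc⟩ := nonempty_inter_closedPoints
        (Z := (iH.left ≫ bcProj (extBase k K) G) ⁻¹' {(flat' x).left (IsLocalRing.closedPoint K)})
        (by obtain ⟨w, hw⟩ := hp; exact ⟨w, hw⟩)
        (hc.preimage (iH.left ≫ bcProj (extBase k K) G).continuous).isLocallyClosed
      obtain ⟨y, hy⟩ := exists_point (Y := H) hwc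
      refine mem_of_same_image F hF M hM (a := flat' (y ≫ iH)) ?_ ⟨y, rfl⟩
      show ((y ≫ iH).left ≫ bcProj (extBase k K) G) (IsLocalRing.closedPoint K) = _
      rw [Over.comp_left, Category.assoc]
      exact (congrArg (iH.left ≫ bcProj (extBase k K) G) (hy _)).trans hw
    · rintro ⟨y, rfl⟩
      refine ⟨y.left (IsLocalRing.closedPoint K), ?_⟩
      show _ = ((y ≫ iH).left ≫ bcProj (extBase k K) G) (IsLocalRing.closedPoint K)
      rw [Over.comp_left, Category.assoc]
      exact (Scheme.Hom.comp_apply _ _ _).symm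
  let I := Scheme.IdealSheafData.vanishingIdeal Z
  let H₀ : Over (Spec (CommRingCat.of k)) := Over.mk (I.subschemeι ≫ G.hom)
  let i₀ : H₀ ⟶ G := Over.homMk I.subschemeι rfl
  haveI : IsClosedImmersion i₀.left := inferInstanceAs (IsClosedImmersion I.subschemeι)
  haveI : IsReduced H₀.left := Groth.Agent.H75.RedSub.isReduced_vanishingIdeal _
  have hrange : Set.range i₀.left = (Z : Set G.left) := by
    show Set.range I.subschemeι = _
    rw [Scheme.IdealSheafData.range_subschemeι, Scheme.IdealSheafData.coe_support_vanishingIdeal]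
  haveI : LocallyOfFiniteType H₀.hom := inferInstanceAs (LocallyOfFiniteType (I.subschemeι ≫ G.hom))
  haveI : Mono i₀ := Over.mono_of_mono_left i₀
  haveI : PerfectField k := inferInstance
  haveI : GeometricallyReduced H₀.hom := Groth.Agent.H52.FBase.GeomRedSch.geometricallyReduced_of_perfectField _
  haveI : IsReduced (H₀ ⊗ H₀).left := by
    haveI := Groth.Agent.H52.FBase.GeomRedSch.geometricallyReduced_prod H₀.hom H₀.hom
    have h := GeometricallyReduced.geometrically_isReduced (f := pullback.fst H₀.hom H₀.hom ≫ H₀.hom) (𝟙 _)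
      (𝟙 _) (pullback.fst H₀.hom H₀.hom ≫ H₀.hom) (IsPullback.of_horiz_isIso ⟨by simp⟩)
    exact h
  haveI : LocallyOfFiniteType (H₀ ⊗ H₀).hom :=
    inferInstanceAs (LocallyOfFiniteType (pullback.fst H₀.hom H₀.hom ≫ H₀.hom))
  have hin : ∀ p : geo (k := k) (K := K) ⟶ H₀, M (p ≫ i₀) := fun p => (hZ _).mp (hrange ▸ ⟨p.left (IsLocalRing.closedPoint K), rfl⟩)
  haveI : IsReduced (𝟙_ (Over (Spec (CommRingCat.of k)))).left := inferInstanceAs (IsReduced (Spec (CommRingCat.of k)))
  haveI : LocallyOfFiniteType (𝟙_ (Over (Spec (CommRingCat.of k)))).hom :=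
    inferInstanceAs (LocallyOfFiniteType (𝟙 (Spec (CommRingCat.of k))))
  obtain ⟨_, hmon⟩ := Groth.Agent.Lib.GrpQ.InfSub.exists_grpObj_of_mono i₀
    (Groth.Agent.H4.HomImage.exists_factor i₀ η[G] (by
      rw [hrange]
      refine range_subset_of_points (K := K) η[G] Z.isClosed fun p => (hZ _).mpr ⟨1, ?_⟩
      rw [MonObj.one_comp, toUnit_unique p (toUnit _), ← Hom.one_def]
      obtain ⟨x, hx⟩ := (flat_bijective (K := K) G).2 1
      rw [← hx]
      have : x * x = x := (flat_bijective (K := K) G).1 (by rw [flat_mul, hx, _root_.one_mul])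
      rw [mul_eq_left.mp this]))
    (Groth.Agent.H4.HomImage.exists_factor i₀ _ (by
      rw [hrange]
      refine range_subset_of_points (K := K) ((fst H₀ H₀ ≫ i₀) * (snd H₀ H₀ ≫ i₀)) Z.isClosed fun p => (hZ _).mpr ?_
      obtain ⟨y₁, hy₁⟩ := hin (p ≫ fst H₀ H₀)
      obtain ⟨y₂, hy₂⟩ := hin (p ≫ snd H₀ H₀)
      exact ⟨y₁ * y₂, by rw [MonObj.mul_comp, flat_mul, hy₁, hy₂, MonObj.comp_mul, Category.assoc, Category.assoc]⟩))
    (Groth.Agent.H4.HomImage.exists_factor i₀ i₀⁻¹ (by
      rw [hrange]
      refine range_subset_of_points (K := K) i₀⁻¹ Z.isClosed fun p => (hZ _).mpr ?_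
      obtain ⟨y, hy⟩ := hin p
      exact ⟨y⁻¹, by rw [GrpObj.inv_comp, flat_inv, hy, GrpObj.comp_inv]⟩))
  haveI := hmon
  let σ := extBase k K
  haveI : IsClosedImmersion ((Over.pullback σ).map i₀).left := bc_map_left_of (P := @IsClosedImmersion) σ i₀ inferInstance
  haveI : IsReduced (Red.bc σ H₀).left :=
    GeometricallyReduced.geometrically_isReduced _ _ _ (.of_hasPullback H₀.hom (extBase k K))
  haveI : LocallyOfFiniteType (Red.bc σ H₀).hom := bc_hom_of (P := @LocallyOfFiniteType) σ H₀ inferInstance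
  obtain ⟨a, ha⟩ := Groth.Agent.H4.HomImage.exists_factor iH ((Over.pullback σ).map i₀)
    (range_subset_closed _ iH.left.isClosedEmbedding.isClosed_range fun p => by
      obtain ⟨y, hy⟩ := hin (flat' p)
      rw [← flat_map] at hy
      rw [← (flat_bijective (K := K) G).1 hy]
      exact ⟨y.left (IsLocalRing.closedPoint K), rfl⟩)
  obtain ⟨b, hb⟩ := Groth.Agent.H4.HomImage.exists_factor ((Over.pullback σ).map i₀) iH
    (range_subset_closed _ ((Over.pullback σ).map i₀).left.isClosedEmbedding.isClosed_range fun p => by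
      haveI : IsReduced (geo (k := k) (K := K)).left := inferInstanceAs (IsReduced (Spec (CommRingCat.of K)))
      obtain ⟨q, hq⟩ := Groth.Agent.H4.HomImage.exists_factor i₀ (flat' (p ≫ iH)) (by
        rw [hrange]
        rintro _ ⟨w, rfl⟩
        rw [Subsingleton.elim (α := PrimeSpectrum K) w (IsLocalRing.closedPoint K)]
        exact (hZ _).mpr ⟨p, rfl⟩)
      obtain ⟨x, rfl⟩ := (flat_bijective (K := K) H₀).2 q
      rw [← flat_map] at hq
      rw [← (flat_bijective (K := K) G).1 hq]
      exact ⟨x.left (IsLocalRing.closedPoint K), rfl⟩)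
  haveI : Mono iH := Over.mono_of_mono_left iH
  haveI : Mono ((Over.pullback σ).map i₀) := Over.mono_of_mono_left _
  let e : Red.bc σ H₀ ≅ H := ⟨a, b, by rw [← cancel_mono ((Over.pullback σ).map i₀), Category.assoc, hb, ha, Category.id_comp],
    by rw [← cancel_mono iH, Category.assoc, ha, hb, Category.id_comp]⟩
  haveI : IsMonHom (e.hom ≫ iH) := ha.symm ▸ inferInstance
  haveI : IsMonHom e.hom := CentralizerBorel.isMonHom_of_mono_comp e.hom iH
  haveI : IsIso e.hom.left := ((Over.forget _).mapIso e).isIso_hom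
  haveI : Smooth (Red.bc σ H₀).hom := by rw [← Over.w e.hom]; infer_instance
  exact ⟨H₀, inferInstance, i₀, e, hmon, inferInstance, inferInstance, ha, FieldDescent.smooth_of_bc (K := K) H₀⟩

end Groth.Agent.H1.Classical.FrobDescent
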