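import Groth.Agent.H1.Classical.FiniteCentre
import Groth.Agent.H1.Classical.Image
import Groth.Agent.H1.Classical.Apply
import Groth.Agent.H1.Classical.Torus.ImageTorus

/-!
# Groups isogenous to reductive and semisimple groups
-/

universe u

open TensorProduct CategoryTheory MonoidalCategory CartesianMonoidalCategory MonObj GrpObj AlgebraicGeometry WithConv

namespace Groth.Agent.H1.Classical.Isogeny

set_option linter.style.haveILetI false
set_option linter.unusedSectionVars false

open Groth.Agent.Lib.RedPts Groth.Agent.Lib.RedPts.Points Groth.Agent.Lib.RedPts.BC Groth.Agent.Lib.GrpSch Scheme'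
  Torus Torus.Centraliser Groth.Agent.H60.RedLR Kolchin

attribute [local instance] baseAlgebra

section AlgClosed

variable {K : Type u} [Field K] [IsAlgClosed K] {B : Type u} [CommRing B] [HopfAlgebra K B] [Algebra.FiniteType K B]
  [IsDomain B]

/-- In a reductive group, a normal closed solvable group of unipotent points is trivial. -/
theorem eq_bot_of_unipotent (hG : Red.IsReductiveOver K (GA K B)) {V : Type u} [AddCommGroup V] [Module K V]
    [FiniteDimensional K V] (ρ : Representation K (HopfPts.Pt K B) V) (hf : Function.Injective ρ)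
    (C : Subgroup (HopfPts.Pt K B)) [Group.IsSolvable C] (hcl : (HopfPts.D K B).IsCl C)
    (hirr : (HopfPts.D K B).SIrr C) (hnor : C.Normal) (hnil : ∀ g ∈ C, IsNilpotent (ρ g - 1)) : C = ⊥ := by
  obtain ⟨Z, _, c, hc1, hc2, hc3, hc4, -, hfac, hpt⟩ := exists_subgroup C hcl hirr
  haveI := hc1
  haveI := hc2
  haveI := hc3
  haveI := hc4
  haveI := hG.2.1
  haveI := hG.2.2.1
  haveI : Mono c := Over.mono_of_mono_left c
  haveI : IsAffine Z.left := isAffine_of_isAffineHom c.left
  have hno : Unipotent.NoTorsion Z := fun x m hm hx => by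
    obtain ⟨s, hsC, hxs⟩ := hpt x
    have hsm : s ^ m = 1 :=
      ptHom_injective (by rw [map_pow, ← hxs, ← Unipotent.pow_comp, hx, MonObj.one_comp, map_one])
    rw [← cancel_mono c, MonObj.one_comp, hxs, Torus.Cartan.eq_one_of_nilp hf hm hsm (hnil s hsC), map_one]
  have hn : RadU.IsNormalPts c := fun g w => by
    obtain ⟨a, rfl⟩ := ptHom_surjective g
    obtain ⟨s, hs, hws⟩ := hpt w
    obtain ⟨w', hw'⟩ := hfac (𝟙_ _) (ptHom _ (a * s * a⁻¹)) fun b hb => by
      rw [algHomOf_ptHom, hb _ (hnor.conj_mem s hs a), map_zero]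
    exact ⟨w', by rw [hw', hws, map_mul, map_mul, map_inv]⟩
  haveI : IsIso Z.hom :=
    hG.2.2.2 Z c hc2 hc3 hc4 (RadU.isNormalHom_of_pts _ hn) (Unipotent.hasNoSubtorus_of_noTorsion hno)
  refine (Subgroup.eq_bot_iff_forall _).mpr fun s hsC => ?_
  obtain ⟨x, hx⟩ := hfac (𝟙_ (Over (Spec (CommRingCat.of K)))) (ptHom _ s)
    fun a ha => by rw [algHomOf_ptHom, ha s hsC, map_zero]
  have h1 : x = 1 := Over.OverMorphism.ext (by rw [← cancel_mono Z.hom, Over.w, Over.w])
  refine ptHom_injective ?_
  rw [map_one, ← hx, h1, MonObj.one_comp]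

/-- A closed irreducible solvable normal subgroup of the points of a semisimple group is trivial. -/
theorem eq_bot_of_semisimple (hG : Red.IsSemisimpleOver K (GA K B))
    (C : Subgroup (HopfPts.Pt K B)) [Group.IsSolvable C] (hcl : (HopfPts.D K B).IsCl C)
    (hirr : (HopfPts.D K B).SIrr C) (hnor : C.Normal) : C = ⊥ := by
  obtain ⟨Z, _, c, hc1, hc2, hc3, hc4, hc5, hfac, hpt⟩ := exists_subgroup C hcl hirr
  haveI := hc1
  haveI := hc2
  haveI := hc3
  haveI := hc4
  haveI := hG.1.2.1
  haveI := hG.1.2.2.1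
  have hn : RadU.IsNormalPts c := fun g w => by
    obtain ⟨a, rfl⟩ := ptHom_surjective g
    obtain ⟨s, hs, hws⟩ := hpt w
    obtain ⟨w', hw'⟩ := hfac (𝟙_ _) (ptHom _ (a * s * a⁻¹)) fun b hb => by
      rw [algHomOf_ptHom, hb _ (hnor.conj_mem s hs a), map_zero]
    exact ⟨w', by rw [hw', hws, map_mul, map_mul, map_inv]⟩
  haveI : IsIso Z.hom := RadU.trivial_of_normal_solvable hG c (RadU.isNormalHom_of_pts _ hn) hc5
  refine (Subgroup.eq_bot_iff_forall _).mpr fun s hsC => ?_
  obtain ⟨x, hx⟩ := hfac (𝟙_ (Over (Spec (CommRingCat.of K)))) (ptHom _ s)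
    fun a ha => by rw [algHomOf_ptHom, ha s hsC, map_zero]
  have h1 : x = 1 := Over.OverMorphism.ext (by rw [← cancel_mono Z.hom, Over.w, Over.w])
  refine ptHom_injective ?_
  rw [map_one, ← hx, h1, MonObj.one_comp]

variable {B' : Type u} [CommRing B'] [HopfAlgebra K B'] [Algebra.FiniteType K B'] [IsDomain B']

/-- Normal connected subgroups killed up to finite groups are trivial. -/
theorem isTrivial_of_image {U : Over (Spec (CommRingCat.of K))} [GrpObj U] (i : U ⟶ GA K B') [IsMonHom i]
    [IsClosedImmersion i.left] [Smooth U.hom] [ConnectedSpace U.left] (r : HopfPts.Pt K B' →* HopfPts.Pt K B)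
    (hker : {χ | r χ = 1}.Finite) (h : ∀ s ∈ ptsOf i, r s = 1) : Red.IsTrivialGrp U := by
  haveI : IsAffine U.left := isAffine_of_isAffineHom i.left
  obtain ⟨W, _, σ, hσ⟩ := GenRep.exists_gen (HopfPts.D K B') hasMul_pts pts_ext
  have hone := CentralTorusRed.eq_one_of_finite hσ (sirr_ptsOf i) (hker.subset fun s hs => h s hs)
  haveI : Mono i := Over.mono_of_mono_left i
  have hid : toUnit U ≫ η[U] = 𝟙 U := MaxTorusExists.hom_ext_of_points _ _ fun x => by
    obtain ⟨s, hs'⟩ := ptHom_surjective (x ≫ i)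
    rw [Category.comp_id, ← Category.assoc, toUnit_unique (x ≫ toUnit U) (toUnit _), ← Hom.one_def,
      ← cancel_mono i, MonObj.one_comp, ← hs', hone s ⟨x, hs'.symm⟩, map_one]
  haveI : IsIso (toUnit U) := ⟨η[U], hid, toUnit_unique _ _⟩
  haveI : IsIso (toUnit U).left := inferInstanceAs (IsIso ((Over.forget _).map (toUnit U)))
  show IsIso U.hom
  rw [← Over.w (toUnit U)]
  haveI : IsIso (𝟙_ (Over (Spec (CommRingCat.of K)))).hom := inferInstanceAs (IsIso (𝟙 _))
  infer_instance

theorem normal_ptsOf {U : Over (Spec (CommRingCat.of K))} [GrpObj U] (i : U ⟶ GA K B') [IsMonHom i]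
    (hn : AlgGrp.IsNormalHom i) : (ptsOf i).Normal := ⟨fun t ht g => by
  obtain ⟨y, hy⟩ := ht
  obtain ⟨y', hy'⟩ := hn _ (ptHom (A := B') _ g) y
  refine ⟨y', ?_⟩
  show y' ≫ i = ptHom _ (g * t * g⁻¹)
  rw [← hy', map_mul, map_mul, map_inv, show y ≫ i = ptHom _ t from hy]⟩

theorem surjective_ptMap (q : GA K B' ⟶ GA K B) [Surjective q.left] (r : HopfPts.Pt K B' →* HopfPts.Pt K B)
    (hr : ∀ χ, ptHom (𝟙_ (Over (Spec (CommRingCat.of K)))) χ ≫ q = ptHom _ (r χ)) : Function.Surjective r := fun χ' => by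
  haveI := locallyOfFiniteType_GA (k := K) (A := B)
  haveI := locallyOfFiniteType_GA (k := K) (A := B')
  obtain ⟨x, hx⟩ := Scheme'.exists_lift_point q (ptHom _ χ')
  obtain ⟨χ, rfl⟩ := ptHom_surjective x
  exact ⟨χ, ptHom_injective ((hr χ).symm.trans hx)⟩

/-- Reductivity passes to isogenous groups. -/
theorem isReductiveOver_of_hom (q : GA K B' ⟶ GA K B) [IsMonHom q] [Surjective q.left] [Smooth (GA K B').hom]
    (hker : {χ : HopfPts.Pt K B' | ptHom (𝟙_ _) χ ≫ q = 1}.Finite) (hred : Red.IsReductiveOver K (GA K B)) :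
    Red.IsReductiveOver K (GA K B') := by
  haveI : AlgebraicGeometry.IsIntegral (GA K B').left :=
    inferInstanceAs (AlgebraicGeometry.IsIntegral (Spec (CommRingCat.of B')))
  refine ⟨inferInstanceAs (IsAffine (Spec (CommRingCat.of B'))), inferInstance, inferInstance,
    fun U _ i _ hc hs hconn hn hU => ?_⟩
  haveI := hc
  haveI := hs
  haveI := hconn
  haveI : IsAffine U.left := isAffine_of_isAffineHom i.left
  obtain ⟨r, hr, hrreg⟩ := exists_ptMap q
  have hker' : {χ | r χ = 1}.Finite := hker.subset fun χ (hχ : r χ = 1) => by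
    show ptHom (𝟙_ _) χ ≫ q = 1
    rw [hr, hχ, map_one]
  refine isTrivial_of_image i r hker' fun s hs' => ?_
  obtain ⟨hirr, hsol, -⟩ := ptsOf_props i (Unipotent.isSolvableGrp_of_noTorsion (Unipotent.noTorsion_of_hasNoSubtorus hU))
  obtain ⟨V, _, ρ, hρ, hρf⟩ := HopfPts.exists_faithful (k := K) (A := B)
  obtain ⟨A'', _, _, _, _, e, he⟩ := MaxTorusApply.exists_GA U
  haveI := he
  haveI : IsMonHom e.inv := inferInstance
  obtain ⟨j, hj, hjreg⟩ := exists_ptMap (e.inv ≫ i)
  obtain ⟨W', _, σ', hσ'⟩ := Torus.GenRep.exists_gen (HopfPts.D K A'') hasMul_pts pts_ext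
  have h' : Red.HasNoSubtorus K (GA K A'') := fun T _ t _ _ hT => hU T (t ≫ e.inv) hT
  haveI : Group.IsSolvable ((ptsOf i).map r) := Image.solvable_map r hsol
  haveI := normal_ptsOf i hn
  have hbot := eq_bot_of_unipotent hred ρ hρf ((ptsOf i).map r)
    (Image.isCl_map r hrreg pts_ext (isCl_ptsOf i) hirr) (Image.sirr_map r hrreg hirr)
    (Subgroup.Normal.map inferInstance r (surjective_ptMap q r hr)) fun g hg => by
      obtain ⟨t, ⟨y, hy⟩, rfl⟩ := hg
      obtain ⟨χ, hχ⟩ := ptHom_surjective (y ≫ e.hom)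
      have ht : j χ = t := ptHom_injective (by
        rw [← hj, hχ, Category.assoc, e.hom_inv_id_assoc]
        exact hy)
      rw [← ht]
      exact Torus.ImageTorus.nilp_of_gen hσ' (Unipotent.nilp_GA h' hσ' χ) (ρ := (ρ.comp r).comp j)
        fun w l => hjreg _ (hrreg _ (hρ w l))
  exact Subgroup.mem_bot.mp (hbot ▸ Subgroup.mem_map_of_mem r hs')

/-- Semisimplicity passes to isogenous groups. -/
theorem isSemisimpleOver_of_hom (q : GA K B' ⟶ GA K B) [IsMonHom q] [Surjective q.left] [Smooth (GA K B').hom]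
    (hker : {χ : HopfPts.Pt K B' | ptHom (𝟙_ _) χ ≫ q = 1}.Finite) (hss : Red.IsSemisimpleOver K (GA K B)) :
    Red.IsSemisimpleOver K (GA K B') := by
  refine ⟨isReductiveOver_of_hom q hker hss.1, fun T _ i _ hc hn hT => ?_⟩
  haveI := hc
  haveI : AlgebraicGeometry.IsIntegral (GA K B').left :=
    inferInstanceAs (AlgebraicGeometry.IsIntegral (Spec (CommRingCat.of B')))
  haveI := locallyOfFiniteType_GA (k := K) (A := B')
  haveI : Mono i := Over.mono_of_mono_left i
  haveI : IsAffine (GA K B').left := inferInstanceAs (IsAffine (Spec (CommRingCat.of B')))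
  obtain ⟨-, hs, hconn, -⟩ := TorusPts.torus_props i hT
  haveI := hs
  haveI := hconn
  obtain ⟨r, hr, hrreg⟩ := exists_ptMap q
  have hker' : {χ | r χ = 1}.Finite := hker.subset fun χ (hχ : r χ = 1) => by
    show ptHom (𝟙_ _) χ ≫ q = 1
    rw [hr, hχ, map_one]
  refine isTrivial_of_image i r hker' fun s hs' => ?_
  have hTor := TorusPts.isTor_ptsOf i hT
  haveI : Group.IsSolvable ((ptsOf i).map r) := Image.solvable_map r (isSolvable_of_comm hTor.comm)
  haveI := normal_ptsOf i hn
  have hbot := eq_bot_of_semisimple hss ((ptsOf i).map r) (Image.isCl_map r hrreg pts_ext hTor.cl hTor.irr)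
    (Image.sirr_map r hrreg hTor.irr) (Subgroup.Normal.map inferInstance r (surjective_ptMap q r hr))
  exact Subgroup.mem_bot.mp (hbot ▸ Subgroup.mem_map_of_mem r hs')

end AlgClosed

section Field

variable {k : Type u} [Field k]

theorem asIdeal_base_eq_ker {A : Type u} [CommRing A] [HopfAlgebra k A] {K : Type u} [Field K] [Algebra k K]
    [Algebra.IsAlgebraic k K] (X : HopfPts.Pt K (K ⊗[k] A)) :
    (((Over.map (extBase k K)).map (ptHom (A := K ⊗[k] A) (𝟙_ (Over (Spec (CommRingCat.of K)))) X) ≫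
      bcDown k A K).left.base (IsLocalRing.closedPoint K) : PrimeSpectrum A).asIdeal =
      RingHom.ker (CharDescent.res X).ofConv := by
  refine ((FiniteCentre.ker_isMaximal (CharDescent.res X).ofConv).eq_of_le
    (PrimeSpectrum.isPrime _).ne_top fun a ha => CentralTorus.mem_zeroLocus _ _ ?_).symm
  rw [CentralTorus.algHomOf_bcDown, algHomOf_ptHom, show X.ofConv ((1 : K) ⊗ₜ[k] a) = 0 from RingHom.mem_ker.mp ha,
    map_zero]

/-- A finite kernel has finitely many geometric points. -/
theorem finite_ker {A A' : Type u} [CommRing A] [HopfAlgebra k A] [CommRing A'] [HopfAlgebra k A']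
    [Algebra.FiniteType k A'] {K : Type u} [Field K] [Algebra k K] [Algebra.IsAlgebraic k K] (q : GA k A' ⟶ GA k A)
    [IsMonHom q] (hker : Finite ↥(Limits.pullback q.left (η[GA k A] : 𝟙_ (Over (Spec (CommRingCat.of k))) ⟶ _).left)) :
    {X : HopfPts.Pt K (K ⊗[k] A') |
      (ptHom (𝟙_ _) X ≫ bcComp k A' K) ≫ (Over.pullback (extBase k K)).map q = 1}.Finite := by
  refine Set.Finite.of_finite_image (f := fun X => (CharDescent.res X).ofConv) ?_ fun X _ Y _ h => by
    rw [← CharDescent.ext_res X, ← CharDescent.ext_res Y, WithConv.ofConv_injective h]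
  refine (Set.finite_iUnion fun p : ↥(Limits.pullback q.left (η[GA k A] : 𝟙_ (Over (Spec (CommRingCat.of k))) ⟶ _).left) =>
    FiniteCentre.finite_fibre (K := K)
      ((Limits.pullback.fst q.left (η[GA k A] : 𝟙_ (Over (Spec (CommRingCat.of k))) ⟶ _).left).base p :
        PrimeSpectrum A').asIdeal).subset ?_
  rintro _ ⟨X, hX, rfl⟩
  let w := (Over.map (extBase k K)).map (ptHom (A := K ⊗[k] A') (𝟙_ (Over (Spec (CommRingCat.of K)))) X) ≫ bcDown k A' K
  have hw : w ≫ q = toUnit _ ≫ η[GA k A] := by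
    have h := congrArg (BC.down (extBase k K)) hX
    rw [BC.down_map, BC.down_comp, bcComp, BC.down_up, BC.down_one] at h
    rw [← Hom.one_def]
    exact h
  refine Set.mem_iUnion.mpr ⟨(Limits.pullback.lift w.left (toUnit ((Over.map (extBase k K)).obj (𝟙_ (Over (Spec (CommRingCat.of K)))))).left (congrArg CommaMorphism.left hw)).base
    (IsLocalRing.closedPoint K), ?_⟩
  show RingHom.ker _ = _
  rw [← asIdeal_base_eq_ker X]
  exact congrArg (fun g : ((Over.map (extBase k K)).obj (𝟙_ (Over (Spec (CommRingCat.of K))))).left ⟶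
      Spec (CommRingCat.of A') => (g.base (IsLocalRing.closedPoint K) : PrimeSpectrum A').asIdeal)
    (Limits.pullback.lift_fst w.left
      (toUnit ((Over.map (extBase k K)).obj (𝟙_ (Over (Spec (CommRingCat.of K)))))).left
      (congrArg CommaMorphism.left hw)).symm

/-- The isogeny over the geometric fibre, in coordinates. -/
theorem exists_fibre_hom {A A' : Type u} [CommRing A] [HopfAlgebra k A] [CommRing A'] [HopfAlgebra k A']
    [Algebra.FiniteType k A] [Algebra.FiniteType k A'] [Smooth (GA k A).hom] [ConnectedSpace (GA k A).left]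
    [Smooth (GA k A').hom] [ConnectedSpace (GA k A').left] {K : Type u} [Field K] [IsAlgClosed K] [Algebra k K]
    [Algebra.IsAlgebraic k K] (q : GA k A' ⟶ GA k A) [IsMonHom q] [Surjective q.left]
    (hker : Finite ↥(Limits.pullback q.left (η[GA k A] : 𝟙_ (Over (Spec (CommRingCat.of k))) ⟶ _).left)) :
    IsDomain (K ⊗[k] A) ∧ IsDomain (K ⊗[k] A') ∧ Smooth (GA K (K ⊗[k] A')).hom ∧
    ∃ (qK : GA K (K ⊗[k] A') ⟶ GA K (K ⊗[k] A)) (_ : IsMonHom qK), Surjective qK.left ∧
      {χ : HopfPts.Pt K (K ⊗[k] A') | ptHom (𝟙_ _) χ ≫ qK = 1}.Finite := by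
  refine ⟨(CentralTorus.bc_ga_props (k := k) (A := A) (K := K)).1,
    (CentralTorus.bc_ga_props (k := k) (A := A') (K := K)).1, (CentralTorus.bc_ga_props (k := k) (A := A') (K := K)).2.1, ?_⟩
  haveI : IsMonHom (bcComp k A' K) := isMonHom_bcComp K
  haveI : IsMonHom (bcComp k A K) := isMonHom_bcComp K
  haveI : IsMonHom (asIso (bcComp k A K)).hom := isMonHom_bcComp K
  haveI : IsMonHom (inv (bcComp k A K)) := inferInstanceAs (IsMonHom (asIso (bcComp k A K)).inv)
  haveI : IsIso (bcComp k A' K).left := inferInstanceAs (IsIso ((Over.forget _).map (bcComp k A' K)))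
  haveI : IsIso (inv (bcComp k A K)).left := inferInstanceAs (IsIso ((Over.forget _).map (inv (bcComp k A K))))
  haveI : Surjective ((Over.pullback (extBase k K)).map q).left :=
    bc_map_left_of (P := @Surjective) _ q inferInstance
  refine ⟨bcComp k A' K ≫ (Over.pullback (extBase k K)).map q ≫ inv (bcComp k A K), inferInstance, ?_, ?_⟩
  · rw [Over.comp_left, Over.comp_left]; infer_instance
  · refine (finite_ker (K := K) q hker).subset fun χ hχ => ?_
    show (ptHom _ χ ≫ bcComp k A' K) ≫ (Over.pullback (extBase k K)).map q = 1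
    have h := congrArg (· ≫ bcComp k A K) (show ptHom _ χ ≫ _ = _ from hχ)
    simpa only [Category.assoc, IsIso.inv_hom_id, Category.comp_id, MonObj.one_comp] using h

theorem exists_coords {G G' : Over (Spec (CommRingCat.of k))} [GrpObj G] [GrpObj G'] [IsAffine G.left]
    [IsAffine G'.left] [Smooth G.hom] [Smooth G'.hom] [ConnectedSpace G.left] [ConnectedSpace G'.left]
    (φ : G' ⟶ G) [IsMonHom φ] [Surjective φ.left]
    (hker : Finite ↥(Limits.pullback φ.left (η[G] : 𝟙_ (Over (Spec (CommRingCat.of k))) ⟶ G).left)) :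
    ∃ (A : Type u) (_ : CommRing A) (_ : HopfAlgebra k A) (A' : Type u) (_ : CommRing A') (_ : HopfAlgebra k A')
      (_ : Algebra.FiniteType k A) (_ : Algebra.FiniteType k A') (e : G ≅ GA k A) (e' : G' ≅ GA k A')
      (q : GA k A' ⟶ GA k A) (_ : IsMonHom e.hom) (_ : IsMonHom e'.hom) (_ : IsMonHom q),
      Surjective q.left ∧ Smooth (GA k A).hom ∧ ConnectedSpace (GA k A).left ∧ Smooth (GA k A').hom ∧
      ConnectedSpace (GA k A').left ∧
      Finite ↥(Limits.pullback q.left (η[GA k A] : 𝟙_ (Over (Spec (CommRingCat.of k))) ⟶ _).left) := by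
  obtain ⟨A, _, _, e, he⟩ := Hopf.exists_iso G
  obtain ⟨A', _, _, e', he'⟩ := Hopf.exists_iso G'
  haveI := he
  haveI := he'
  haveI : IsMonHom e'.inv := inferInstance
  haveI : IsIso e.inv.left := ((Over.forget _).mapIso e).isIso_inv
  haveI : IsIso e.hom.left := ((Over.forget _).mapIso e).isIso_hom
  haveI : IsIso e'.inv.left := ((Over.forget _).mapIso e').isIso_inv
  haveI : IsIso e'.hom.left := ((Over.forget _).mapIso e').isIso_hom
  haveI : Smooth (GA k A).hom := by rw [← Over.w e.inv]; infer_instance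
  haveI : Smooth (GA k A').hom := by rw [← Over.w e'.inv]; infer_instance
  haveI : Algebra.FiniteType k A :=
    Hopf.finiteType_of_locallyOfFiniteType (show LocallyOfFiniteType (GA k A).hom from inferInstance)
  haveI : Algebra.FiniteType k A' :=
    Hopf.finiteType_of_locallyOfFiniteType (show LocallyOfFiniteType (GA k A').hom from inferInstance)
  refine ⟨A, inferInstance, inferInstance, A', inferInstance, inferInstance, inferInstance, inferInstance, e, e',
    e'.inv ≫ φ ≫ e.hom, he, he', inferInstance, by rw [Over.comp_left, Over.comp_left]; infer_instance, inferInstance,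
    e.hom.left.surjective.connectedSpace e.hom.left.continuous, inferInstance,
    e'.hom.left.surjective.connectedSpace e'.hom.left.continuous, ?_⟩
  haveI := hker
  have hη : (η[G] : 𝟙_ (Over (Spec (CommRingCat.of k))) ⟶ G) ≫ e.hom = η[GA k A] := IsMonHom.one_hom e.hom
  let g : Limits.pullback (e'.inv ≫ φ ≫ e.hom).left (η[GA k A] : 𝟙_ (Over (Spec (CommRingCat.of k))) ⟶ _).left ⟶
      Limits.pullback φ.left (η[G] : 𝟙_ (Over (Spec (CommRingCat.of k))) ⟶ G).left :=
    Limits.pullback.lift (Limits.pullback.fst _ _ ≫ e'.inv.left) (Limits.pullback.snd _ _) (by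
      rw [← cancel_mono e.hom.left, Category.assoc, Category.assoc, Category.assoc, ← Over.comp_left, ← Over.comp_left,
        ← Over.comp_left, hη]
      exact Limits.pullback.condition)
  haveI : IsSeparated G.hom := inferInstance
  haveI : IsClosedImmersion (η[GA k A] : 𝟙_ (Over (Spec (CommRingCat.of k))) ⟶ _).left := by
    haveI : IsAffine (GA k A).left := inferInstanceAs (IsAffine (Spec (CommRingCat.of A)))
    haveI : IsClosedImmersion ((η[GA k A] : 𝟙_ (Over (Spec (CommRingCat.of k))) ⟶ _).left ≫ (GA k A).hom) := by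
      rw [Over.w]
      exact inferInstanceAs (IsClosedImmersion (𝟙 (Spec (CommRingCat.of k))))
    exact IsClosedImmersion.of_comp _ (GA k A).hom
  refine Finite.of_injective g.base (Function.Injective.of_comp
    (f := (Limits.pullback.fst φ.left (η[G] : 𝟙_ (Over (Spec (CommRingCat.of k))) ⟶ G).left).base) ?_)
  rw [← TopCat.coe_comp, ← Scheme.Hom.comp_base, Limits.pullback.lift_fst]
  exact (Limits.pullback.fst _ _ ≫ e'.inv.left).isClosedEmbedding.injective

/-- A group isogenous to a reductive group is reductive. -/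
theorem isReductive_of_isogeny {G G' : Over (Spec (CommRingCat.of k))} [GrpObj G] [GrpObj G'] [IsAffine G.left]
    [IsAffine G'.left] [Smooth G.hom] [Smooth G'.hom] [ConnectedSpace G.left] [ConnectedSpace G'.left]
    (φ : G' ⟶ G) [IsMonHom φ] [Surjective φ.left]
    (hker : Finite ↥(Limits.pullback φ.left (η[G] : 𝟙_ (Over (Spec (CommRingCat.of k))) ⟶ G).left))
    (hG : Red.IsReductive G) : Red.IsReductive G' := by
  obtain ⟨A, _, _, A', _, _, _, _, e, e', q, he, he', hq, h1, h2, h3, h4, h5, h6⟩ := exists_coords φ hker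
  haveI := he'
  haveI : IsMonHom e'.symm.hom := inferInstanceAs (IsMonHom e'.inv)
  haveI : IsAffine (GA k A').left := inferInstanceAs (IsAffine (Spec (CommRingCat.of A')))
  refine CentralTorusRed.isReductive_congr e'.symm ⟨inferInstance, h4, fun s => ?_⟩
  have hr := (CentralTorusRed.isReductive_congr e hG).2.2 s
  revert hr
  show Red.IsReductiveOver _ (Red.bc (Red.geomPt s) (GA k A)) → Red.IsReductiveOver _ (Red.bc (Red.geomPt s) (GA k A'))
  obtain ⟨alg, halg, hσ⟩ := exists_geomPt_eq s
  rw [hσ]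
  intro hr
  let K := AlgebraicClosure ((Spec (CommRingCat.of k)).residueField s)
  obtain ⟨d1, d2, d3, qK, hqK, hs, hfin⟩ := exists_fibre_hom (K := K) q h6
  haveI : IsMonHom (asIso (bcComp k A K)).hom := isMonHom_bcComp K
  haveI : IsMonHom (asIso (bcComp k A K)).symm.hom := inferInstanceAs (IsMonHom (asIso (bcComp k A K)).inv)
  haveI : IsMonHom (asIso (bcComp k A' K)).hom := isMonHom_bcComp K
  exact isReductiveOver_congr (asIso (bcComp k A' K))
    (isReductiveOver_of_hom qK hfin (isReductiveOver_congr (asIso (bcComp k A K)).symm hr))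

/-- A group isogenous to a semisimple group is semisimple. -/
theorem isSemisimple_of_isogeny {G G' : Over (Spec (CommRingCat.of k))} [GrpObj G] [GrpObj G'] [IsAffine G.left]
    [IsAffine G'.left] [Smooth G.hom] [Smooth G'.hom] [ConnectedSpace G.left] [ConnectedSpace G'.left]
    (φ : G' ⟶ G) [IsMonHom φ] [Surjective φ.left]
    (hker : Finite ↥(Limits.pullback φ.left (η[G] : 𝟙_ (Over (Spec (CommRingCat.of k))) ⟶ G).left))
    (hG : Red.IsSemisimple G) : Red.IsSemisimple G' := by
  obtain ⟨A, _, _, A', _, _, _, _, e, e', q, he, he', hq, h1, h2, h3, h4, h5, h6⟩ := exists_coords φ hker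
  haveI := he'
  haveI : IsMonHom e'.symm.hom := inferInstanceAs (IsMonHom e'.inv)
  haveI : IsAffine (GA k A').left := inferInstanceAs (IsAffine (Spec (CommRingCat.of A')))
  refine CentralTorusRed.isSemisimple_congr e'.symm ⟨inferInstance, h4, fun s => ?_⟩
  have hr := (CentralTorusRed.isSemisimple_congr e hG).2.2 s
  revert hr
  show Red.IsSemisimpleOver _ (Red.bc (Red.geomPt s) (GA k A)) → Red.IsSemisimpleOver _ (Red.bc (Red.geomPt s) (GA k A'))
  obtain ⟨alg, halg, hσ⟩ := exists_geomPt_eq s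
  rw [hσ]
  intro hr
  let K := AlgebraicClosure ((Spec (CommRingCat.of k)).residueField s)
  obtain ⟨d1, d2, d3, qK, hqK, hs, hfin⟩ := exists_fibre_hom (K := K) q h6
  haveI : IsMonHom (asIso (bcComp k A K)).hom := isMonHom_bcComp K
  haveI : IsMonHom (asIso (bcComp k A K)).symm.hom := inferInstanceAs (IsMonHom (asIso (bcComp k A K)).inv)
  haveI : IsMonHom (asIso (bcComp k A' K)).hom := isMonHom_bcComp K
  exact CentralTorusRed.isSemisimpleOver_congr (asIso (bcComp k A' K))
    (isSemisimpleOver_of_hom qK hfin (CentralTorusRed.isSemisimpleOver_congr (asIso (bcComp k A K)).symm hr))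

end Field

end Groth.Agent.H1.Classical.Isogeny
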