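import Groth.Agent.H1.Classical.CentralizerRed
import Groth.Agent.H1.Classical.TorusImage
import Groth.Agent.H1.Classical.ConjIso
import Groth.Agent.H1.Classical.RadUApply
import Groth.Agent.Lib.GrpQ.FlatHom
import Mathlib.AlgebraicGeometry.Morphisms.FlatDescent

/-!
# Maximal tori and central isogenies
-/

universe u

open CategoryTheory MonoidalCategory CartesianMonoidalCategory MonObj GrpObj AlgebraicGeometry Limits

namespace Groth.Agent.H1.Classical.IsogenyTorus

set_option linter.style.haveILetI false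
set_option linter.unusedSectionVars false

open Groth.Agent.Lib.RedPts Groth.Agent.Lib.RedPts.Points Scheme' WithConv Torus Torus.Centraliser Complete
  MaxTorusScheme MaxTorusApply CentralizerRed

attribute [local instance] baseAlgebra

/-- A closed immersion through which a faithfully flat finitely presented map factors is an isomorphism. -/
theorem isIso_of_factor {Z T T' : Scheme.{u}} (i : Z ⟶ T) [IsClosedImmersion i] (s : T' ⟶ T)
    [Surjective s] [Flat s] [LocallyOfFinitePresentation s] (k : T' ⟶ Z) (hk : k ≫ i = s) :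
    IsIso i := by
  have h1 : IsIso (pullback.fst s i) := by
    let l : T' ⟶ pullback s i := pullback.lift (𝟙 T') k (by rw [hk, Category.id_comp])
    refine ⟨l, ?_, pullback.lift_fst _ _ _⟩
    rw [← cancel_mono (pullback.fst s i), Category.assoc, pullback.lift_fst, Category.comp_id, Category.id_comp]
  exact MorphismProperty.of_isPullback_of_descendsAlong
    (P := MorphismProperty.isomorphisms Scheme.{u}) (Q := @Surjective ⊓ @Flat ⊓ @LocallyOfFinitePresentation)
    (IsPullback.of_hasPullback s i) ⟨⟨inferInstance, inferInstance⟩, inferInstance⟩ h1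

section Closed

variable {k : Type u} [Field k] [IsAlgClosed k]

/-- Every surjective homomorphism maps some maximal torus onto a maximal torus. -/
theorem exists_image {G Q : Over (Spec (CommRingCat.of k))} [GrpObj G] [GrpObj Q] [IsAffine G.left] [IsAffine Q.left]
    [Smooth G.hom] [Smooth Q.hom] [ConnectedSpace G.left] [ConnectedSpace Q.left] (q : G ⟶ Q) [IsMonHom q]
    [Surjective q.left] {S : Over (Spec (CommRingCat.of k))} [GrpObj S] (iS : S ⟶ G) (hS : AGF.IsMaxTorus iS) :
    ∃ (T : Over (Spec (CommRingCat.of k))) (_ : GrpObj T) (iT : T ⟶ Q) (p : S ⟶ T),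
      AGF.IsMaxTorus iT ∧ p ≫ iT = iS ≫ q ∧ Surjective p.left := by
  obtain ⟨A, _, _, _, _, e, he⟩ := exists_GA G
  obtain ⟨A', _, _, _, _, e', he'⟩ := exists_GA Q
  haveI := he
  haveI := he'
  haveI := hS.1
  haveI := hS.2.1
  haveI := locallyOfFiniteType (k := k) (A := A)
  haveI := locallyOfFiniteType (k := k) (A := A')
  haveI : IsIso e.inv.left := ((Over.forget _).mapIso e).isIso_inv
  haveI : IsIso e'.hom.left := ((Over.forget _).mapIso e').isIso_hom
  haveI : Surjective (e.inv ≫ q ≫ e'.hom).left := by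
    rw [Over.comp_left, Over.comp_left]; infer_instance
  have hS' := isMaxTorus_comp e hS
  obtain ⟨r, hr, hrreg⟩ := exists_ptMap (e.inv ≫ q ≫ e'.hom)
  have hsurj : Function.Surjective r := fun χ' => by
    obtain ⟨x, hx⟩ := exists_lift_point (e.inv ≫ q ≫ e'.hom) (ptHom _ χ')
    obtain ⟨χ, rfl⟩ := ptHom_surjective x
    exact ⟨χ, ptHom_injective ((hr χ).symm.trans hx)⟩
  obtain ⟨B₀, hB₀⟩ := exists_bor (k := k) (A := A)
  obtain ⟨B₁, hB₁⟩ := exists_bor (k := k) (A := A')
  obtain ⟨V, _, ρ, hρ, hf⟩ := HopfPts.exists_faithful (k := k) (A := A)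
  obtain ⟨W, _, σ, hσ⟩ := Torus.GenRep.exists_gen (HopfPts.D k A) hasMul_pts pts_ext
  obtain ⟨W', _, σ', hσ'⟩ := Torus.GenRep.exists_gen (HopfPts.D k A') hasMul_pts pts_ext
  have hmax := Image.isMax_map r hrreg pts_ext ρ hρ hf hasMul_pts hasMul_pts hsurj HopfPts.sirr_univ exists_isMax
    (Image.isMax_of_absorbing hB₀.cl hB₀.irr hB₀.solv hB₀.abs)
  have hM := Torus.ImageTorus.isMax_map r hrreg pts_ext hasMul_pts hasMul_pts hσ hσ' hB₀ hB₁ hmax
    (isMax_ptsOf_torus (iS ≫ e.hom) hS')
  obtain ⟨C, _, c, hc, hci, hCt, hp⟩ := exists_torus hM.tor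
  haveI := hc
  haveI := hci
  obtain ⟨hcS, hsS, -, haS⟩ := TorusPts.torus_props (iS ≫ e.hom) hS.2.2.1
  haveI := hcS
  haveI := hsS
  haveI := haS
  obtain ⟨p, hpc⟩ := exists_factor c (iS ≫ q ≫ e'.hom) fun x => by
    obtain ⟨s, hs⟩ := ptHom_surjective (x ≫ iS ≫ e.hom)
    refine ⟨r s, hp.ge ⟨s, ⟨x, hs.symm⟩, rfl⟩, ?_⟩
    rw [← hr, hs]
    simp
  haveI : Mono c := Over.mono_of_mono_left c
  haveI : IsAffine C.left := isAffine_of_isAffineHom c.left
  haveI : LocallyOfFiniteType C.hom := by rw [← Over.w c]; infer_instance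
  haveI : IsMonHom e'.symm.hom := inferInstanceAs (IsMonHom e'.inv)
  refine ⟨C, inferInstance, c ≫ e'.inv, p,
    isMaxTorus_comp e'.symm (MaxTorusExists.isMaxTorus_of_isMax c hCt (hp.symm ▸ hM)),
    by rw [← cancel_mono e'.hom]; simp [hpc], surjective_of_points p fun y => ?_⟩
  obtain ⟨t, ht⟩ := ptHom_surjective (y ≫ c)
  obtain ⟨s, ⟨x, hx⟩, hst⟩ : t ∈ (ptsOf (iS ≫ e.hom)).map r := hp.le ⟨y, ht.symm⟩
  refine ⟨x, ?_⟩
  rw [← cancel_mono c, Category.assoc, hpc, ← ht, ← hst, ← hr]
  rw [← show x ≫ iS ≫ e.hom = ptHom (𝟙_ _) s from hx]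
  simp

/-- The preimage of a maximal torus under a surjection with central kernel is a maximal torus. -/
theorem isMaxTorus_preimage {G Q : Over (Spec (CommRingCat.of k))} [GrpObj G] [GrpObj Q] (hG : Red.IsReductiveOver k G)
    [IsAffine G.left] [IsAffine Q.left] [Smooth G.hom] [Smooth Q.hom] [ConnectedSpace G.left] [ConnectedSpace Q.left]
    (f : G ⟶ Q) [IsMonHom f] [Surjective f.left]
    (hcen : ∀ (X : Over (Spec (CommRingCat.of k))) (g : X ⟶ G), g ≫ f = 1 →
      ∀ (X' : Over (Spec (CommRingCat.of k))) (x : X' ⟶ X) (h : X' ⟶ G), (x ≫ g) * h = h * (x ≫ g))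
    {T : Over (Spec (CommRingCat.of k))} [GrpObj T] (i : T ⟶ Q) (hT : AGF.IsMaxTorus i)
    {T' : Over (Spec (CommRingCat.of k))} [GrpObj T'] (i' : T' ⟶ G) [IsMonHom i'] (p : T' ⟶ T)
    (hsq : IsPullback i' p f i) : AGF.IsMaxTorus i' := by
  obtain ⟨S, _, iS₀, hS₀⟩ := MaxTorusExists.exists_maxTorus G
  obtain ⟨T₀, _, iT₀, p₀, hT₀, hp₀, hp₀s⟩ := exists_image f iS₀ hS₀
  haveI := hp₀s
  obtain ⟨g, φ, hφ⟩ := maxTorus_conj hT₀ hT
  obtain ⟨g', rfl⟩ := exists_lift_point f g
  have hS := isMaxTorus_comp (ConjIso.conjIso g') hS₀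
  rw [ConjIso.comp_conjIso] at hS
  set iS := AGF.conjBy g' iS₀ with hiS
  have hp₁ : (p₀ ≫ φ.hom) ≫ i = iS ≫ f := by
    rw [Category.assoc, hφ, conj_comp, hp₀, hiS, conjBy_map]
  haveI : IsIso φ.hom.left := ((Over.forget _).mapIso φ).isIso_hom
  haveI : Surjective (p₀ ≫ φ.hom).left := by rw [Over.comp_left]; infer_instance
  haveI := hS.1
  haveI := hS.2.1
  haveI := hT.1
  haveI := hT.2.1
  haveI : IsMonHom ((p₀ ≫ φ.hom) ≫ i) := hp₁.symm ▸ inferInstance
  haveI : IsMonHom (p₀ ≫ φ.hom) := CentralizerBorel.isMonHom_of_mono_comp _ i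
  obtain ⟨hcS, hsS, -, haS⟩ := TorusPts.torus_props iS hS.2.2.1
  obtain ⟨hcT, hsT, -, haT⟩ := TorusPts.torus_props i hT.2.2.1
  haveI := hcS
  haveI := hsS
  haveI := haS
  haveI := hcT
  haveI := hsT
  haveI := haT
  haveI : Flat (p₀ ≫ φ.hom).left := Groth.Agent.Lib.GrpQ.flat_of_surjective_of_smooth _
  haveI : IsLocallyNoetherian T.left := LocallyOfFiniteType.isLocallyNoetherian T.hom
  haveI : LocallyOfFiniteType ((p₀ ≫ φ.hom).left ≫ T.hom) := by rw [Over.w]; infer_instance
  haveI : LocallyOfFiniteType (p₀ ≫ φ.hom).left := locallyOfFiniteType_of_comp _ T.hom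
  haveI : LocallyOfFinitePresentation (p₀ ≫ φ.hom).left :=
    LocallyOfFinitePresentation.iff_locallyOfFiniteType.mpr inferInstance
  haveI : Mono i' := ⟨fun a b h => hsq.hom_ext h (by
    rw [← cancel_mono i, Category.assoc, Category.assoc, ← hsq.w, reassoc_of% h])⟩
  let u := hsq.lift iS (p₀ ≫ φ.hom) hp₁.symm
  have hu : u ≫ i' = iS := hsq.lift_fst _ _ _
  let P := pullback p (p₀ ≫ φ.hom)
  let a : P ⟶ T' := pullback.fst _ _
  let b : P ⟶ S := pullback.snd _ _
  have hab : IsPullback a b p (p₀ ≫ φ.hom) := IsPullback.of_hasPullback _ _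
  have hab' := hab.map (Over.forget _)
  haveI : Surjective a.left := MorphismProperty.of_isPullback (P := @Surjective) hab'.flip ‹_›
  haveI : Flat a.left := MorphismProperty.of_isPullback (P := @Flat) hab'.flip ‹_›
  haveI : LocallyOfFinitePresentation a.left :=
    MorphismProperty.of_isPullback (P := @LocallyOfFinitePresentation) hab'.flip ‹_›
  have hker : ((b ≫ iS)⁻¹ * (a ≫ i')) ≫ f = 1 := by
    rw [MonObj.mul_comp, GrpObj.inv_comp, Category.assoc, Category.assoc, hsq.w, reassoc_of% hab.w, ← hp₁,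
      Category.assoc, inv_mul_cancel]
  obtain ⟨t, ht⟩ := ((isCentralizerOf_self hG hS).2.2 P _).mpr fun X' x h => hcen P _ hker X' x (h ≫ iS)
  have hat : (b * t) ≫ u = a := by
    rw [← cancel_mono i', Category.assoc, hu, MonObj.mul_comp, ht, mul_inv_cancel_left]
  haveI : IsClosedImmersion (u.left ≫ i'.left) := by rw [← Over.comp_left, hu]; infer_instance
  haveI : IsClosedImmersion i'.left :=
    MorphismProperty.of_isPullback (P := @IsClosedImmersion) (hsq.map (Over.forget _)).flip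
      (inferInstanceAs (IsClosedImmersion i.left))
  haveI : IsClosedImmersion u.left := IsClosedImmersion.of_comp u.left i'.left
  haveI : IsIso ((Over.forget _).map u) :=
    isIso_of_factor u.left a.left (b * t).left
      (by rw [← Over.comp_left, hat])
  haveI : IsIso u := isIso_of_reflects_iso u (Over.forget _)
  haveI : IsMonHom (u ≫ i') := hu.symm ▸ inferInstance
  haveI : IsMonHom (asIso u).hom := CentralizerBorel.isMonHom_of_mono_comp u i'
  refine ⟨inferInstance, inferInstance,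
    Groth.Agent.Lib.Tori.Basic.isTorus_congr (Grp.mkIso' (asIso u)).symm hS.2.2.1, fun T'' _ j _ _ v hT'' hv => ?_⟩
  haveI := hS.2.2.2 T'' j (u ≫ v) hT'' (by rw [Category.assoc, hv, hu])
  exact IsIso.of_isIso_comp_left u v

/-- The centraliser of the image of a maximal torus is a maximal torus. -/
theorem isMaxTorus_centralizer_image {G Q : Over (Spec (CommRingCat.of k))} [GrpObj G] [GrpObj Q]
    (hQ : Red.IsReductiveOver k Q) [IsAffine G.left] [IsAffine Q.left] [Smooth G.hom] [Smooth Q.hom]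
    [ConnectedSpace G.left] [ConnectedSpace Q.left] (f : G ⟶ Q) [IsMonHom f] [Surjective f.left]
    {S : Over (Spec (CommRingCat.of k))} [GrpObj S] {iS : S ⟶ G} (hS : AGF.IsMaxTorus iS)
    {C : Over (Spec (CommRingCat.of k))} [GrpObj C] [IsAffine C.left] [Smooth C.hom] (c : C ⟶ Q)
    (hc : Red.IsCentralizerOf (iS ≫ f) c) : AGF.IsMaxTorus c := by
  haveI := hc.1
  haveI := hc.2.1
  haveI := hS.1
  haveI := hS.2.1
  obtain ⟨T, _, iT, p, hT, hp, hps⟩ := exists_image f iS hS
  haveI := hps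
  haveI := hT.1
  haveI := hT.2.1
  obtain ⟨hcS, hsS, -, haS⟩ := TorusPts.torus_props iS hS.2.2.1
  obtain ⟨hcT, hsT, -, haT⟩ := TorusPts.torus_props iT hT.2.2.1
  haveI := hsS
  haveI := haS
  haveI := hsT
  haveI := haT
  obtain ⟨v, hv⟩ := (hc.2.2 T iT).mpr fun X' x h => by
    rw [← hp, ← Category.assoc h, ← MonObj.mul_comp, ← MonObj.mul_comp,
      Groth.Agent.Lib.Tori.Comm.mul_comm_of_isTorus hT.2.2.1]
  haveI : IsAffine (C ⊗ T).left := inferInstanceAs (IsAffine (pullback C.hom T.hom))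
  haveI : Smooth (C ⊗ T).hom := inferInstanceAs (Smooth (pullback.fst C.hom T.hom ≫ C.hom))
  have huniv : (fst C T ≫ c) * (snd C T ≫ iT) = (snd C T ≫ iT) * (fst C T ≫ c) :=
    MaxTorusExists.hom_ext_of_points _ _ fun z => by
      obtain ⟨w, hw⟩ := exists_lift_point p (z ≫ snd C T)
      have := (hc.2.2 _ (z ≫ fst C T ≫ c)).mp ⟨z ≫ fst C T, Category.assoc _ _ _⟩ _ (𝟙 _) w
      rw [Category.id_comp, ← hp, reassoc_of% hw] at this
      simp only [MonObj.comp_mul, this]
  obtain ⟨w, hw⟩ := ((isCentralizerOf_self hQ hT).2.2 C c).mpr fun X' x h => by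
    have := congrArg (CartesianMonoidalCategory.lift x h ≫ ·) huniv
    simpa only [MonObj.comp_mul, lift_fst_assoc, lift_snd_assoc] using this
  haveI : IsIso v := ⟨w, by rw [← cancel_mono iT, Category.assoc, hw, hv, Category.id_comp],
    by rw [← cancel_mono c, Category.assoc, hv, hw, Category.id_comp]⟩
  haveI : IsMonHom (v ≫ c) := hv.symm ▸ inferInstance
  haveI : IsMonHom (asIso v).hom := CentralizerBorel.isMonHom_of_mono_comp v c
  refine ⟨inferInstance, inferInstance,
    Groth.Agent.Lib.Tori.Basic.isTorus_congr (Grp.mkIso' (asIso v)).symm hT.2.2.1, fun T'' _ j _ _ u hT'' hu => ?_⟩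
  haveI := hT.2.2.2 T'' j (v ≫ u) hT'' (by rw [Category.assoc, hu, hv])
  exact IsIso.of_isIso_comp_left v u

end Closed

section AnyField

open Groth.Agent.Lib.RedPts.BC Groth.Agent.Lib.GrpSch FieldDescent

/-- The preimage of a maximal torus under a central isogeny is a maximal torus. -/
theorem isMaximalTorus_preimage {k : Type u} [Field k] {H' H : Over (Spec (CommRingCat.of k))} [GrpObj H'] [GrpObj H]
    (hH' : Red.IsReductive H') (hH : Red.IsReductive H) (f : H' ⟶ H) [IsMonHom f] (hf : Surjective f.left)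
    {K : Over (Spec (CommRingCat.of k))} [GrpObj K] (iK : K ⟶ H') (hK : AlgGrp.IsKernel iK f)
    (hKc : ∀ (X : Over (Spec (CommRingCat.of k))) (x : X ⟶ K) (X' : Over (Spec (CommRingCat.of k))) (y : X' ⟶ X)
      (h : X' ⟶ H'), (y ≫ x ≫ iK) * h = h * (y ≫ x ≫ iK))
    {T : Over (Spec (CommRingCat.of k))} [GrpObj T] (i : T ⟶ H) (hT : Red.IsMaximalTorus i)
    {T' : Over (Spec (CommRingCat.of k))} [GrpObj T'] (i' : T' ⟶ H') [IsMonHom i'] (p : T' ⟶ T)
    (hsq : IsPullback i' p f i) : Red.IsMaximalTorus i' := by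
  haveI := hT.1
  haveI := hT.2.1
  haveI : Mono i' := ⟨fun a b h => hsq.hom_ext h (by
    rw [← cancel_mono i, Category.assoc, Category.assoc, ← hsq.w, reassoc_of% h])⟩
  have key : ∀ s, AGF.IsMaxTorus ((Over.pullback (Red.geomPt s)).map i') := by
    intro s
    obtain ⟨h1, h2, h3, -⟩ := id (hH'.2.2 s)
    haveI : IsAffine (Red.bc (Red.geomPt s) H').left := h1
    haveI : Smooth (Red.bc (Red.geomPt s) H').hom := h2
    haveI : ConnectedSpace (Red.bc (Red.geomPt s) H').left := h3
    obtain ⟨k1, k2, k3, -⟩ := id (hH.2.2 s)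
    haveI : IsAffine (Red.bc (Red.geomPt s) H).left := k1
    haveI : Smooth (Red.bc (Red.geomPt s) H).hom := k2
    haveI : ConnectedSpace (Red.bc (Red.geomPt s) H).left := k3
    haveI : Surjective ((Over.pullback (Red.geomPt s)).map f).left := bc_map_left_of (P := @Surjective) _ f hf
    refine isMaxTorus_preimage (hH'.2.2 s) ((Over.pullback (Red.geomPt s)).map f) (fun X g hg X' x h => ?_)
      ((Over.pullback (Red.geomPt s)).map i) (isMaxTorus_fibre hT s) _ ((Over.pullback (Red.geomPt s)).map p)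
      (hsq.map _)
    have h0 : down (Red.geomPt s) g ≫ f = toUnit _ ≫ η[H] := by
      rw [← down_map, hg, down_one]
      rfl
    apply down_injective
    simp only [down_mul]
    rw [down_comp x g, ← hK.lift_fst _ _ h0]
    exact hKc _ (hK.lift _ _ h0) _ ((Over.map (Red.geomPt s)).map x) (down (Red.geomPt s) h)
  refine ⟨inferInstance, inferInstance, ?_, fun s T'' _ j _ _ v hT'' hv => (key s).2.2.2 T'' j v hT'' hv⟩
  let s : Spec (CommRingCat.of k) := IsLocalRing.closedPoint k
  obtain ⟨h1, h2, -, -⟩ := id (hH'.2.2 s)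
  haveI : IsAffine (Red.bc (Red.geomPt s) H').left := h1
  haveI : Smooth (Red.bc (Red.geomPt s) H').hom := h2
  obtain ⟨alg, halg, hσ⟩ := exists_geomPt_eq s
  have h := key s
  revert h
  rw [hσ]
  intro h
  haveI := h.1
  haveI := h.2.1
  haveI : IsAffine (Red.bc (extBase k (AlgebraicClosure ((Spec (CommRingCat.of k)).residueField s))) H').left :=
    hσ ▸ h1
  haveI : Smooth (Red.bc (extBase k (AlgebraicClosure ((Spec (CommRingCat.of k)).residueField s))) H').hom :=
    hσ ▸ h2
  exact RadU.isTorus_of_bc' ((Over.pullback _).map i') h.2.2.1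

/-- A maximal torus is the preimage of a maximal torus under a central isogeny. -/
theorem exists_maximalTorus_isPullback {k : Type u} [Field k] {H' H : Over (Spec (CommRingCat.of k))} [GrpObj H']
    [GrpObj H] (hH' : Red.IsReductive H') (hH : Red.IsReductive H) (f : H' ⟶ H) [IsMonHom f] (hf : Surjective f.left)
    {K : Over (Spec (CommRingCat.of k))} [GrpObj K] (iK : K ⟶ H') (hK : AlgGrp.IsKernel iK f)
    (hKc : ∀ (X : Over (Spec (CommRingCat.of k))) (x : X ⟶ K) (X' : Over (Spec (CommRingCat.of k))) (y : X' ⟶ X)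
      (h : X' ⟶ H'), (y ≫ x ≫ iK) * h = h * (y ≫ x ≫ iK))
    {S' : Over (Spec (CommRingCat.of k))} [GrpObj S'] (j : S' ⟶ H') (hS' : Red.IsMaximalTorus j) :
    ∃ (T : Over (Spec (CommRingCat.of k))) (_ : GrpObj T) (i : T ⟶ H) (p : S' ⟶ T),
      Red.IsMaximalTorus i ∧ IsPullback j p f i := by
  haveI := hS'.1
  haveI := hS'.2.1
  haveI := hH.1
  haveI := hH.2.1
  obtain ⟨C, _, c, hc, hcc, hcs⟩ :=
    Groth.Agent.Lib.MultSmooth.exists_centralizer_smooth (CentralizerScheme.isMultTypeFT_of_isTorus hS'.2.2.1) (j ≫ f)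
  haveI := hcc
  haveI := hcs
  haveI := hc.1
  haveI := hc.2.1
  have hk : ∀ s, AGF.IsMaxTorus ((Over.pullback (Red.geomPt s)).map c) := by
    intro s
    obtain ⟨h1, h2, h3, -⟩ := id (hH'.2.2 s)
    haveI : IsAffine (Red.bc (Red.geomPt s) H').left := h1
    haveI : Smooth (Red.bc (Red.geomPt s) H').hom := h2
    haveI : ConnectedSpace (Red.bc (Red.geomPt s) H').left := h3
    obtain ⟨k1, k2, k3, -⟩ := id (hH.2.2 s)
    haveI : IsAffine (Red.bc (Red.geomPt s) H).left := k1
    haveI : Smooth (Red.bc (Red.geomPt s) H).hom := k2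
    haveI : ConnectedSpace (Red.bc (Red.geomPt s) H).left := k3
    haveI : Surjective ((Over.pullback (Red.geomPt s)).map f).left := bc_map_left_of (P := @Surjective) _ f hf
    haveI : IsClosedImmersion ((Over.pullback (Red.geomPt s)).map c).left :=
      bc_map_left_of (P := @IsClosedImmersion) _ c hcc
    haveI : IsAffine (Red.bc (Red.geomPt s) C).left := isAffine_of_isAffineHom ((Over.pullback (Red.geomPt s)).map c).left
    haveI : Smooth (Red.bc (Red.geomPt s) C).hom := bc_hom_of (P := @Smooth) _ C hcs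
    refine isMaxTorus_centralizer_image (hH.2.2 s) ((Over.pullback (Red.geomPt s)).map f) (isMaxTorus_fibre hS' s) _ ?_
    rw [← Functor.map_comp]
    exact isCentralizerOf_bc _ hc
  have hC : Red.IsMaximalTorus c := by
    refine ⟨inferInstance, inferInstance, ?_, fun s T'' _ j' _ _ v hT'' hv => (hk s).2.2.2 T'' j' v hT'' hv⟩
    let s : Spec (CommRingCat.of k) := IsLocalRing.closedPoint k
    obtain ⟨k1, k2, -, -⟩ := id (hH.2.2 s)
    haveI : IsAffine (Red.bc (Red.geomPt s) H).left := k1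
    haveI : Smooth (Red.bc (Red.geomPt s) H).hom := k2
    obtain ⟨alg, halg, hσ⟩ := exists_geomPt_eq s
    have h := hk s
    revert h
    rw [hσ]
    intro h
    haveI := h.1
    haveI := h.2.1
    haveI : IsAffine (Red.bc (extBase k (AlgebraicClosure ((Spec (CommRingCat.of k)).residueField s))) H).left :=
      hσ ▸ k1
    haveI : Smooth (Red.bc (extBase k (AlgebraicClosure ((Spec (CommRingCat.of k)).residueField s))) H).hom :=
      hσ ▸ k2
    exact RadU.isTorus_of_bc' ((Over.pullback _).map c) h.2.2.1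
  obtain ⟨p, hp⟩ := (hc.2.2 S' (j ≫ f)).mpr fun X' x h => by
    rw [← MonObj.mul_comp, ← MonObj.mul_comp, Groth.Agent.Lib.Tori.Comm.mul_comm_of_isTorus hS'.2.2.1]
  let T' := pullback f c
  let i' : T' ⟶ H' := pullback.fst f c
  have hsq : IsPullback i' (pullback.snd f c) f c := IsPullback.of_hasPullback f c
  haveI : Mono i' := inferInstanceAs (Mono (pullback.fst f c))
  have hmem : ∀ {X : Over (Spec (CommRingCat.of k))} (g : X ⟶ H') (z : X ⟶ C), g ≫ f = z ≫ c →
      ∃ t : X ⟶ T', t ≫ i' = g := fun g z h => ⟨hsq.lift g z h, hsq.lift_fst _ _ _⟩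
  obtain ⟨M, hM⟩ := Groth.Agent.Lib.FreeRes.exists_grpObj_of_mono i'
    (fun X => hmem 1 1 (by rw [MonObj.one_comp, MonObj.one_comp]))
    (fun a b => hmem _ ((a ≫ pullback.snd f c) * (b ≫ pullback.snd f c)) (by
      simp only [MonObj.mul_comp, Category.assoc, hsq.w]))
    (fun a => hmem _ (a ≫ pullback.snd f c)⁻¹ (by simp only [GrpObj.inv_comp, Category.assoc, hsq.w]))
  letI := M
  haveI := hM
  have hT' := isMaximalTorus_preimage hH' hH f hf iK hK hKc c hC i' (pullback.snd f c) hsq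
  let u := hsq.lift j p hp.symm
  have hu : u ≫ i' = j := hsq.lift_fst _ _ _
  haveI : IsIso u := by
    let s : Spec (CommRingCat.of k) := IsLocalRing.closedPoint k
    have h := isMaxTorus_fibre hT' s
    haveI := h.1
    haveI := h.2.1
    have hiso : IsIso ((Over.pullback (Red.geomPt s)).map u) :=
      hS'.2.2.2 s _ ((Over.pullback (Red.geomPt s)).map i') _ h.2.2.1 (by rw [← Functor.map_comp, hu])
    obtain ⟨alg, halg, hσ⟩ := exists_geomPt_eq s
    revert hiso
    rw [hσ]
    intro hiso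
    haveI := hiso
    exact isIso_of_isIso_bc_map k (AlgebraicClosure ((Spec (CommRingCat.of k)).residueField s)) u
  exact ⟨C, inferInstance, c, p, hC, IsPullback.of_iso hsq (asIso u).symm (Iso.refl _) (Iso.refl _) (Iso.refl _)
    (by simp [hu]) (by simp [u]) (by simp) (by simp)⟩

end AnyField

end Groth.Agent.H1.Classical.IsogenyTorus
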