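import Groth.Agent.H1.Classical.Alg
import Mathlib.RepresentationTheory.Basic
import Mathlib.GroupTheory.Solvable
import Mathlib.LinearAlgebra.Eigenspace.Triangularizable
import Mathlib.LinearAlgebra.Dual.Lemmas
import Mathlib.LinearAlgebra.Eigenspace.Minpoly

/-!
# Lie–Kolchin
-/

universe u v w

namespace Groth.Agent.H1.Classical.Kolchin

set_option linter.unusedSectionVars false
open commutatorElement

set_option linter.style.haveILetI false

open Module

variable {k : Type u} [Field k] {Γ : Type v} [Group Γ] {V : Type w} [AddCommGroup V] [Module k V]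
  (R : Subalgebra k (Γ → k))

/-- A family of endomorphisms with regular matrix coefficients. -/
def EndFn (F : Γ → End k V) : Prop := ∀ (v : V) (l : Dual k V), (fun g => l (F g v)) ∈ R

variable {R}

theorem EndFn.const (T : End k V) : EndFn R (fun _ => T) :=
  fun v l => R.algebraMap_mem (l (T v))

theorem EndFn.sub {F G : Γ → End k V} (hF : EndFn R F) (hG : EndFn R G) : EndFn R (fun g => F g - G g) := by
  intro v l
  have : (fun g => l ((F g - G g) v)) = (fun g => l (F g v)) - fun g => l (G g v) := by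
    funext g; simp
  rw [this]; exact R.sub_mem (hF v l) (hG v l)

theorem EndFn.smul {F : Γ → End k V} (c : k) (hF : EndFn R F) : EndFn R (fun g => c • F g) := by
  intro v l
  have : (fun g => l ((c • F g) v)) = c • fun g => l (F g v) := by
    funext g; simp
  rw [this]; exact R.smul_mem (hF v l) c

theorem EndFn.mul [FiniteDimensional k V] {F G : Γ → End k V} (hF : EndFn R F) (hG : EndFn R G) :
    EndFn R (fun g => F g * G g) := by
  intro v l
  let b := Module.finBasis k V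
  have : (fun g => l ((F g * G g) v)) = ∑ i, (fun g => b.coord i (G g v)) * fun g => l (F g (b i)) := by
    funext g
    rw [End.mul_apply]
    conv_lhs => rw [← b.sum_repr (G g v), map_sum, map_sum]
    simp [Finset.sum_apply]
  rw [this]
  exact R.sum_mem fun i _ => R.mul_mem (hG v _) (hF (b i) l)

variable [NoZeroDivisors R]

/-- If finitely many equations cover the group, one of them holds identically. -/
theorem exists_eq_zero {ι : Type*} (J : Finset ι) (F : ι → Γ → End k V) (hF : ∀ j ∈ J, EndFn R (F j))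
    (h : ∀ g, ∃ j ∈ J, F j g = 0) : ∃ j ∈ J, ∀ g, F j g = 0 := by
  classical
  by_contra hcon
  push Not at hcon
  choose! g hg using hcon
  have hne : ∀ j ∈ J, ∃ f : R, f ≠ 0 ∧ ∀ x, F j x = 0 → (f : Γ → k) x = 0 := by
    intro j hj
    obtain ⟨v, hv⟩ : ∃ v, F j (g j) v ≠ 0 := by
      by_contra hcon; push Not at hcon; exact hg j hj (LinearMap.ext hcon)
    obtain ⟨l, hl⟩ : ∃ l : Dual k V, l (F j (g j) v) ≠ 0 := by
      by_contra hcon; push Not at hcon
      exact hv ((Module.forall_dual_apply_eq_zero_iff k _).mp hcon)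
    exact ⟨⟨_, hF j hj v l⟩, fun h0 => hl (congrFun (congrArg Subtype.val h0) (g j)), fun x hx => by
      show l (F j x v) = 0
      simp [hx]⟩
  choose! f hf hfx using hne
  have hP : ∏ j ∈ J, f j = 0 := Subtype.ext (funext fun x => by
    obtain ⟨j, hj, hjx⟩ := h x
    rw [SubmonoidClass.coe_finsetProd, Finset.prod_apply]
    exact Finset.prod_eq_zero hj (hfx j hj x hjx))
  obtain ⟨j, hj, hj0⟩ := Finset.prod_eq_zero_iff.mp hP
  exact hf j hj hj0

/-- The possible factors by which a conjugation can scale an invertible endomorphism form a finite set. -/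
theorem exists_ratios [IsAlgClosed k] [FiniteDimensional k V] [Nontrivial V] (T : End k V) (hT : IsUnit T) :
    ∃ Λ : Finset k, ∀ (ζ : k) (x y : End k V), x * y = 1 → x * T * y = ζ • T → ζ ∈ Λ := by
  classical
  obtain ⟨μ, hμ⟩ := End.exists_eigenvalue T
  obtain ⟨v, hv⟩ := hμ.exists_hasEigenvector
  have hTinj : Function.Injective T := (End.isUnit_iff T).mp hT |>.1
  have hμ0 : μ ≠ 0 := by
    rintro rfl
    exact hv.2 (hTinj (by rw [hv.apply_eq_smul, zero_smul, map_zero]))
  refine ⟨(End.finite_hasEigenvalue T).toFinset.image fun μ' => μ' / μ, fun ζ x y hxy h => ?_⟩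
  have hyx : y * x = 1 := by
    rwa [← mul_eq_one_comm]
  have key : T * y = ζ • (y * T) := by
    calc T * y = y * x * (T * y) := by rw [hyx, one_mul]
      _ = y * (x * T * y) := by simp only [mul_assoc]
      _ = ζ • (y * T) := by rw [h, mul_smul_comm]
  have hy : Function.Injective y := fun a b hab => by
    have := congrArg x hab
    rwa [← End.mul_apply, ← End.mul_apply, hxy, End.one_apply, End.one_apply] at this
  refine Finset.mem_image.mpr ⟨ζ * μ, ?_, by field_simp⟩
  rw [Set.Finite.mem_toFinset]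
  refine End.hasEigenvalue_of_hasEigenvector (x := y v) ⟨End.mem_eigenspace_iff.mpr ?_, ?_⟩
  · rw [← End.mul_apply, key, LinearMap.smul_apply, End.mul_apply, hv.apply_eq_smul, map_smul, smul_smul]
  · exact fun h0 => hv.2 (hy (by rw [h0, map_zero]))

/-- A commuting set of endomorphisms has a common eigenvector. -/
theorem exists_common_eigvec [IsAlgClosed k] [FiniteDimensional k V] [Nontrivial V] (N : Set (End k V))
    (hN : ∀ a ∈ N, ∀ b ∈ N, a * b = b * a) : ∃ v : V, v ≠ 0 ∧ ∀ a ∈ N, ∃ c : k, a v = c • v := by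
  let 𝒮 : Set (Submodule k V) := {W | W ≠ ⊥ ∧ ∀ a ∈ N, ∀ w ∈ W, a w ∈ W}
  obtain ⟨W, ⟨hW, hWN⟩, hmin⟩ := WellFounded.has_min (r := (· < ·)) wellFounded_lt 𝒮
    ⟨⊤, top_ne_bot, fun a _ w _ => trivial⟩
  obtain ⟨v, hvW, hv⟩ := Submodule.exists_mem_ne_zero_of_ne_bot hW
  refine ⟨v, hv, fun a ha => ?_⟩
  have : Nontrivial W := Submodule.nontrivial_iff_ne_bot.mpr hW
  obtain ⟨c, hc⟩ := End.exists_eigenvalue (a.restrict (hWN a ha))
  obtain ⟨w, hw⟩ := hc.exists_hasEigenvector
  let E : Submodule k V := W ⊓ End.eigenspace a c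
  have hE : E ∈ 𝒮 := by
    refine ⟨?_, fun b hb x hx => ⟨hWN b hb x hx.1, End.mem_eigenspace_iff.mpr ?_⟩⟩
    · intro hbot
      have h1 : (w : V) ∈ E := ⟨w.2, End.mem_eigenspace_iff.mpr (congrArg Subtype.val hw.apply_eq_smul)⟩
      rw [hbot, Submodule.mem_bot] at h1
      exact hw.2 (Subtype.ext h1)
    · rw [← End.mul_apply, hN a ha b hb, End.mul_apply, End.mem_eigenspace_iff.mp hx.2, map_smul]
  have hEW : E = W := by
    by_contra hne
    exact hmin E hE (lt_of_le_of_ne inf_le_left hne)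
  exact ⟨c, End.mem_eigenspace_iff.mp (hEW ▸ hvW : v ∈ E).2⟩

section Irreducible

variable [IsAlgClosed k] [FiniteDimensional k V] [Nontrivial V] (ρ : Representation k Γ V)
  (hρ : EndFn R (fun g => ρ g)) (hρ' : EndFn R (fun g => ρ g⁻¹))
  (hirr : ∀ W : Submodule k V, (∀ g, ∀ w ∈ W, ρ g w ∈ W) → W = ⊥ ∨ W = ⊤)

theorem rho_mul_inv (g : Γ) : ρ g * ρ g⁻¹ = 1 := by rw [← map_mul, mul_inv_cancel, map_one]

theorem rho_inv_mul (g : Γ) : ρ g⁻¹ * ρ g = 1 := by rw [← map_mul, inv_mul_cancel, map_one]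

include hirr in
omit [NoZeroDivisors R] in
theorem schur (T : End k V) (hT : ∀ g, ρ g * T = T * ρ g) : ∃ c : k, T = c • 1 := by
  obtain ⟨c, hc⟩ := End.exists_eigenvalue T
  refine ⟨c, LinearMap.ext fun v => ?_⟩
  rcases hirr (End.eigenspace T c) (fun g w hw => End.mem_eigenspace_iff.mpr (by
      rw [← End.mul_apply, ← hT g, End.mul_apply, End.mem_eigenspace_iff.mp hw, map_smul])) with h | h
  · exact absurd h hc
  · exact End.mem_eigenspace_iff.mp (h ▸ Submodule.mem_top : v ∈ End.eigenspace T c)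

include hρ hρ' hirr in
theorem scalar_of_comm (N : Subgroup Γ) [N.Normal] (hN : ∀ a ∈ N, ∀ b ∈ N, ρ a * ρ b = ρ b * ρ a) :
    ∀ a ∈ N, ∃ c : k, ρ a = c • 1 := by
  classical
  obtain ⟨v, hv, hvN⟩ := exists_common_eigvec ((fun a => ρ a) '' (N : Set Γ))
    (by rintro _ ⟨a, ha, rfl⟩ _ ⟨b, hb, rfl⟩; exact hN a ha b hb)
  intro a ha
  have hpt : ∀ g : Γ, ∃ μ : k, ρ a (ρ g v) = μ • ρ g v := by
    intro g
    obtain ⟨c, hc⟩ := hvN _ ⟨g⁻¹ * a * g, by simpa using Subgroup.Normal.conj_mem ‹_› a ha g⁻¹, rfl⟩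
    refine ⟨c, ?_⟩
    have h := congrArg (ρ g) hc
    rw [map_smul, ← End.mul_apply, ← map_mul] at h
    rw [← h, ← End.mul_apply, ← map_mul]
    congr 2
    group
  obtain ⟨μ, -, hμ⟩ := exists_eq_zero (R := R) (V := V) (End.finite_hasEigenvalue (ρ a)).toFinset
    (fun (μ : k) (g : Γ) => (ρ a - μ • (1 : End k V)) * ρ g *
      (LinearMap.smulRight ((Module.finBasis k V).coord ⟨0, Module.finrank_pos⟩) v : End k V))
    (fun μ _ => ((EndFn.const _).mul hρ).mul (EndFn.const _))
    (fun g => by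
      obtain ⟨μ, hμ⟩ := hpt g
      refine ⟨μ, (Set.Finite.mem_toFinset _).mpr (End.hasEigenvalue_of_hasEigenvector
        (x := ρ g v) ⟨End.mem_eigenspace_iff.mpr hμ, fun h0 => hv ?_⟩), ?_⟩
      · have := congrArg (ρ g⁻¹) h0
        rwa [← End.mul_apply, rho_inv_mul, End.one_apply, map_zero] at this
      · ext x
        simp [End.mul_apply, hμ])
  refine ⟨μ, LinearMap.ext fun x => ?_⟩
  let W : Submodule k V := Submodule.span k (Set.range fun g => ρ g v)
  have hW : W = ⊤ := by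
    refine (hirr W fun g w hw => ?_).resolve_left ?_
    · induction hw using Submodule.span_induction with
      | mem y hy =>
        obtain ⟨g', rfl⟩ := hy
        exact Submodule.subset_span ⟨g * g', by simp⟩
      | zero => simp
      | add y z _ _ hy hz => rw [map_add]; exact add_mem hy hz
      | smul r y _ hy => rw [map_smul]; exact W.smul_mem r hy
    · intro hbot
      have h1 : v ∈ W := Submodule.subset_span ⟨1, by simp⟩
      rw [hbot, Submodule.mem_bot] at h1
      exact hv h1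
  have hx : x ∈ W := hW ▸ Submodule.mem_top
  induction hx using Submodule.span_induction with
  | mem y hy =>
    obtain ⟨g, rfl⟩ := hy
    have h := LinearMap.congr_fun (hμ g) ((Module.finBasis k V) ⟨0, Module.finrank_pos⟩)
    simp [End.mul_apply, sub_eq_zero] at h
    simpa using h
  | zero => simp
  | add y z _ _ hy hz => rw [map_add, hy, hz, ← map_add]
  | smul r y _ hy => rw [map_smul, hy, ← map_smul]

include hρ hρ' hirr in
theorem scalar_of_comm_scalar (N : Subgroup Γ) [hn : N.Normal]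
    (hN : ∀ a ∈ N, ∀ b ∈ N, ∃ ζ : k, ρ a * ρ b = ζ • (ρ b * ρ a)) :
    ∀ a ∈ N, ∃ c : k, ρ a = c • 1 := by
  classical
  let Z : Subgroup Γ :=
    { carrier := {c | c ∈ N ∧ ∀ b ∈ N, ρ c * ρ b = ρ b * ρ c}
      one_mem' := ⟨N.one_mem, fun b _ => by simp⟩
      mul_mem' := fun {c d} hc hd => ⟨N.mul_mem hc.1 hd.1, fun b hb => by
        rw [map_mul, mul_assoc, hd.2 b hb, ← mul_assoc, hc.2 b hb, mul_assoc]⟩
      inv_mem' := fun {c} hc => ⟨N.inv_mem hc.1, fun b hb => by
        calc ρ c⁻¹ * ρ b = ρ c⁻¹ * (ρ b * ρ c) * ρ c⁻¹ := by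
              simp only [mul_assoc, rho_mul_inv, mul_one]
          _ = ρ c⁻¹ * (ρ c * ρ b) * ρ c⁻¹ := by rw [hc.2 b hb]
          _ = ρ b * ρ c⁻¹ := by rw [← mul_assoc (ρ c⁻¹) (ρ c), rho_inv_mul, one_mul]⟩ }
  have : Z.Normal := ⟨fun c hc g => ⟨hn.conj_mem c hc.1 g, fun b hb => by
    have h := congrArg (fun T => ρ g * T * ρ g⁻¹) (hc.2 (g⁻¹ * b * g) (by simpa using hn.conj_mem b hb g⁻¹))
    simp only [← map_mul] at h ⊢
    convert h using 2 <;> group⟩⟩
  have hZ := scalar_of_comm (R := R) ρ hρ hρ' hirr Z fun a ha b hb => ha.2 b hb.1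
  intro a ha
  have hunit : ∀ x, IsUnit (ρ x) := fun x => ⟨⟨ρ x, ρ x⁻¹, rho_mul_inv ρ x, rho_inv_mul ρ x⟩, rfl⟩
  have hcancel : ∀ (ζ ζ' : k) (x : Γ), ζ • ρ x = ζ' • ρ x → ζ = ζ' := by
    intro ζ ζ' x h
    have h' := congrArg (fun T => T * ρ x⁻¹) h
    simp only [smul_mul_assoc, rho_mul_inv] at h'
    obtain ⟨v, hv⟩ := exists_ne (0 : V)
    have := LinearMap.congr_fun h' v
    simp only [LinearMap.smul_apply, End.one_apply] at this
    exact (smul_left_injective k hv) this
  -- the commutator with a fixed element is constant along the conjugacy class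
  have hconst : ∀ g : Γ, a⁻¹ * (g * a * g⁻¹) ∈ Z := by
    intro g
    refine ⟨N.mul_mem (N.inv_mem ha) (hn.conj_mem a ha g), fun b hb => ?_⟩
    obtain ⟨Λ, hΛ⟩ := exists_ratios (ρ b) (hunit b)
    obtain ⟨ζ, -, hζ⟩ := exists_eq_zero (R := R) Λ
      (fun ζ x => ρ x * ρ a * ρ x⁻¹ * ρ b - ζ • (ρ b * (ρ x * ρ a * ρ x⁻¹)))
      (fun ζ _ => (((hρ.mul (EndFn.const _)).mul hρ').mul (EndFn.const _)).sub
        (((EndFn.const _).mul ((hρ.mul (EndFn.const _)).mul hρ')).smul ζ))
      (fun x => by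
        have hxa : x * a * x⁻¹ ∈ N := hn.conj_mem a ha x
        obtain ⟨ζ, hζ⟩ := hN _ hxa b hb
        refine ⟨ζ, hΛ ζ (ρ (x * a * x⁻¹)) (ρ (x * a * x⁻¹)⁻¹) (rho_mul_inv ρ _) ?_, ?_⟩
        · rw [hζ, smul_mul_assoc, mul_assoc, rho_mul_inv, mul_one]
        · rw [sub_eq_zero]
          simpa only [map_mul] using hζ)
    simp only [sub_eq_zero, ← map_mul] at hζ
    have h1 := hζ 1
    have hg := hζ g
    simp only [one_mul, inv_one, mul_one] at h1
    show ρ (a⁻¹ * (g * a * g⁻¹)) * ρ b = ρ b * ρ (a⁻¹ * (g * a * g⁻¹))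
    rw [← map_mul, ← map_mul]
    have e1 : ρ (a⁻¹ * (g * a * g⁻¹ * b)) = ζ • ρ (a⁻¹ * (b * (g * a * g⁻¹))) := by
      rw [map_mul, hg, mul_smul_comm, ← map_mul]
    have e2 : ζ • ρ (a⁻¹ * b * a) = ρ b := by
      have h := congrArg (fun T => ρ a⁻¹ * T) h1.symm
      simp only [mul_smul_comm, ← map_mul] at h
      convert h using 2 <;> group
    calc ρ (a⁻¹ * (g * a * g⁻¹) * b) = ρ (a⁻¹ * (g * a * g⁻¹ * b)) := by rw [mul_assoc]
      _ = ζ • ρ (a⁻¹ * (b * (g * a * g⁻¹))) := e1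
      _ = (ζ • ρ (a⁻¹ * b * a)) * ρ (a⁻¹ * (g * a * g⁻¹)) := by
          rw [smul_mul_assoc, ← map_mul]; congr 2; group
      _ = ρ (b * (a⁻¹ * (g * a * g⁻¹))) := by rw [e2, ← map_mul]
  obtain ⟨Λ, hΛ⟩ := exists_ratios (ρ a) (hunit a)
  obtain ⟨c, -, hc⟩ := exists_eq_zero (R := R) Λ (fun c x => ρ x * ρ a * ρ x⁻¹ - c • ρ a)
    (fun c _ => ((hρ.mul (EndFn.const _)).mul hρ').sub ((EndFn.const _).smul c))
    (fun x => by
      obtain ⟨c, hc⟩ := hZ _ (hconst x)
      have h : ρ x * ρ a * ρ x⁻¹ = c • ρ a := by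
        have h := congrArg (fun T => ρ a * T) hc
        simp only [mul_smul_comm, mul_one, ← map_mul] at h
        rw [← map_mul, ← map_mul, ← h]
        congr 1; group
      exact ⟨c, hΛ c (ρ x) (ρ x⁻¹) (rho_mul_inv ρ x) h, sub_eq_zero.mpr h⟩)
  simp only [sub_eq_zero] at hc
  have h1 : c = 1 := by
    refine hcancel c 1 a ?_
    rw [← hc 1]; simp
  refine schur ρ hirr (ρ a) fun g => ?_
  have h := congrArg (fun T => T * ρ g) (hc g)
  rw [h1, one_smul] at h
  simpa [mul_assoc, rho_inv_mul] using h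

include hρ hρ' hirr in
theorem finrank_eq_one [Group.IsSolvable Γ] : Module.finrank k V = 1 := by
  have key : ∀ n, (∀ a ∈ derivedSeries Γ (n + 1), ∃ c : k, ρ a = c • 1) →
      ∀ a ∈ derivedSeries Γ n, ∃ c : k, ρ a = c • 1 := by
    intro n hn
    have := derivedSeries_normal (G := Γ) n
    refine scalar_of_comm_scalar (R := R) ρ hρ hρ' hirr _ fun a ha b hb => ?_
    obtain ⟨c, hc⟩ := hn ⁅a, b⁆ (Subgroup.commutator_mem_commutator ha hb)
    refine ⟨c, ?_⟩
    rw [← map_mul, ← map_mul, show a * b = ⁅a, b⁆ * (b * a) by simp [commutatorElement_def, mul_assoc],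
      map_mul, hc, smul_mul_assoc, one_mul]
  obtain ⟨m, hm⟩ := (Group.isSolvable_def Γ).mp ‹_›
  have hall : ∀ j n, n + j = m → ∀ a ∈ derivedSeries Γ n, ∃ c : k, ρ a = c • 1 := by
    intro j
    induction j with
    | zero =>
      rintro n rfl a ha
      rw [add_zero] at hm
      rw [hm, Subgroup.mem_bot] at ha
      exact ⟨1, by rw [ha, map_one, one_smul]⟩
    | succ j ih => intro n hnj; exact key n (ih (n + 1) (by omega))
  have h0 : ∀ a : Γ, ∃ c : k, ρ a = c • 1 := fun a => hall m 0 (zero_add m) a (by simp)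
  obtain ⟨v, hv⟩ := exists_ne (0 : V)
  have hspan : Submodule.span k {v} = ⊤ := by
    refine (hirr _ fun g w hw => ?_).resolve_left (by simpa using hv)
    obtain ⟨c, hc⟩ := h0 g
    rw [hc, LinearMap.smul_apply, End.one_apply]
    exact Submodule.smul_mem _ c hw
  rw [← finrank_top k V, ← hspan, finrank_span_singleton hv]

end Irreducible

end Groth.Agent.H1.Classical.Kolchin
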