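import Groth.Agent.H1.Classical.MaxTorusScheme

/-!
# Conjugacy of maximal tori; normalising elements
-/

universe u

open CategoryTheory MonoidalCategory CartesianMonoidalCategory MonObj GrpObj AlgebraicGeometry

namespace Groth.Agent.H1.Classical.MaxTorusApply

set_option linter.style.haveILetI false
set_option linter.unusedSectionVars false

open Groth.Agent.Lib.RedPts Groth.Agent.Lib.RedPts.Points Scheme' WithConv Torus Torus.Centraliser Complete
  MaxTorusScheme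

attribute [local instance] baseAlgebra

variable {k : Type u} [Field k] [IsAlgClosed k]

section Transport

variable {G G' : Over (Spec (CommRingCat.of k))} [GrpObj G] [GrpObj G'] (e : G ≅ G') [IsMonHom e.hom]

theorem isMaxTorus_comp {T : Over (Spec (CommRingCat.of k))} [GrpObj T] {iT : T ⟶ G} (hT : AGF.IsMaxTorus iT) :
    AGF.IsMaxTorus (iT ≫ e.hom) := by
  obtain ⟨hm, hmono, ht, hmax⟩ := hT
  haveI := hm
  haveI := hmono
  refine ⟨inferInstance, inferInstance, ht, fun T' _ j _ _ f hT' hf => ?_⟩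
  haveI : IsMonHom e.inv := inferInstance
  exact hmax T' (j ≫ e.inv) f hT' (by rw [← Category.assoc, hf, Category.assoc, e.hom_inv_id, Category.comp_id])

theorem conjBy_comp_eq {H H' : Over (Spec (CommRingCat.of k))} {i : H ⟶ G} {i' : H' ⟶ G} {f : H ⟶ H'}
    (γ : 𝟙_ (Over (Spec (CommRingCat.of k))) ⟶ G') (h : f ≫ i' ≫ e.hom = AGF.conjBy γ (i ≫ e.hom)) :
    f ≫ i' = AGF.conjBy (γ ≫ e.inv) i := by
  rw [← cancel_mono e.hom, conjBy_map, Category.assoc, h, Category.assoc, e.inv_hom_id, Category.comp_id]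

end Transport

/-- The isomorphism with the spectrum of the coordinate ring. -/
theorem exists_GA (G : Over (Spec (CommRingCat.of k))) [GrpObj G] [IsAffine G.left] [Smooth G.hom]
    [ConnectedSpace G.left] :
    ∃ (A : Type u) (_ : CommRing A) (_ : HopfAlgebra k A) (_ : Algebra.FiniteType k A) (_ : IsDomain A)
      (e : G ≅ GA k A), IsMonHom e.hom := by
  obtain ⟨A, _, _, e, he⟩ := Hopf.exists_iso G
  haveI := he
  haveI : Algebra.FiniteType k A := finiteType_of_iso e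
  exact ⟨A, inferInstance, inferInstance, inferInstance, isDomain_of_iso e, e, he⟩

/-- Maximal tori are conjugate. -/
theorem maxTorus_conj {G : Over (Spec (CommRingCat.of k))} [GrpObj G] [IsAffine G.left] [Smooth G.hom]
    [ConnectedSpace G.left] {T T' : Over (Spec (CommRingCat.of k))} [GrpObj T] [GrpObj T'] {iT : T ⟶ G} {iT' : T' ⟶ G}
    (hT : AGF.IsMaxTorus iT) (hT' : AGF.IsMaxTorus iT') :
    ∃ (g : 𝟙_ (Over (Spec (CommRingCat.of k))) ⟶ G) (f : T ≅ T'), f.hom ≫ iT' = AGF.conjBy g iT := by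
  obtain ⟨A, _, _, _, _, e, he⟩ := exists_GA G
  haveI := he
  haveI := locallyOfFiniteType (k := k) (A := A)
  haveI := hT.1
  haveI := hT'.1
  haveI := hT.2.1
  haveI := hT'.2.1
  have h1 := isMaxTorus_comp e hT
  have h2 := isMaxTorus_comp e hT'
  obtain ⟨W, _, σ, hσ⟩ := Torus.GenRep.exists_gen (HopfPts.D k A) hasMul_pts pts_ext
  obtain ⟨B, hB⟩ := exists_bor (k := k) (A := A)
  obtain ⟨g, hg⟩ := MaxTorus.conj hasMul_pts hσ hB (isMax_ptsOf_torus _ h1) (isMax_ptsOf_torus _ h2)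
  obtain ⟨hc, hs, -, ha⟩ := TorusPts.torus_props (iT ≫ e.hom) hT.2.2.1
  obtain ⟨hc', hs', -, ha'⟩ := TorusPts.torus_props (iT' ≫ e.hom) hT'.2.2.1
  haveI := hc
  haveI := hs
  haveI := ha
  haveI := hc'
  haveI := hs'
  haveI := ha'
  obtain ⟨f, hf⟩ := exists_iso_conj _ _ g hg
  exact ⟨_, f, conjBy_comp_eq e _ hf⟩

theorem conj_point {H G : Over (Spec (CommRingCat.of k))} [GrpObj G] (i : H ⟶ G)
    (g : 𝟙_ (Over (Spec (CommRingCat.of k))) ⟶ G) (x : 𝟙_ (Over (Spec (CommRingCat.of k))) ⟶ H) :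
    x ≫ AGF.conjBy g i = g * (x ≫ i) * g⁻¹ := by
  rw [conj_comp, AGF.conjBy]
  rw [show toUnit (𝟙_ (Over (Spec (CommRingCat.of k)))) = 𝟙 _ from toUnit_unique _ _, Category.id_comp]

/-- An element normalising a Borel pair centralises the torus. -/
theorem normalizer_pair {G : Over (Spec (CommRingCat.of k))} [GrpObj G] [IsAffine G.left] [Smooth G.hom]
    [ConnectedSpace G.left] {T B : Over (Spec (CommRingCat.of k))} [GrpObj T] [GrpObj B] {iT : T ⟶ G} {iB : B ⟶ G}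
    (hT : AGF.IsMaxTorus iT) (hB : Red.IsBorelOver k iB) (t : T ⟶ B) (ht : t ≫ iB = iT)
    (n : 𝟙_ (Over (Spec (CommRingCat.of k))) ⟶ G) (τ : T ⟶ T) (hτ : τ ≫ iT = AGF.conjBy n iT)
    (σ : B ⟶ B) (hσ : σ ≫ iB = AGF.conjBy n iB) : AGF.conjBy n iT = iT := by
  obtain ⟨A, _, _, _, _, e, he⟩ := exists_GA G
  haveI := he
  haveI := locallyOfFiniteType (k := k) (A := A)
  haveI := hT.1
  haveI := hT.2.1
  haveI := hB.1
  obtain ⟨W, _, ρ, hρ⟩ := Torus.GenRep.exists_gen (HopfPts.D k A) hasMul_pts pts_ext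
  have hBor := isBor_ptsOf (iB ≫ e.hom) (isBorelOver_comp hB e)
  have hMax := isMax_ptsOf_torus _ (isMaxTorus_comp e hT)
  obtain ⟨ν, hν⟩ := ptHom_surjective (n ≫ e.hom)
  have hTB : ptsOf (iT ≫ e.hom) ≤ ptsOf (iB ≫ e.hom) := fun χ ⟨x, hx⟩ => ⟨x ≫ t, by
    have hx' : x ≫ iT ≫ e.hom = ptHom (𝟙_ _) χ := hx
    show (x ≫ t) ≫ iB ≫ e.hom = _
    rw [Category.assoc, ← Category.assoc t, ht]
    exact hx'⟩
  have hnorm : ∀ (H : Over (Spec (CommRingCat.of k))) [GrpObj H] (i : H ⟶ G) [IsMonHom i] (φ : H ⟶ H),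
      φ ≫ i = AGF.conjBy n i → ∀ χ ∈ ptsOf (i ≫ e.hom), ν * χ * ν⁻¹ ∈ ptsOf (i ≫ e.hom) := by
    intro H _ i _ φ hφ χ hχ
    obtain ⟨x, hx⟩ := hχ
    refine ⟨x ≫ φ, ?_⟩
    show (x ≫ φ) ≫ i ≫ e.hom = ptHom (𝟙_ _) _
    rw [Category.assoc, ← Category.assoc φ, hφ, ← Category.assoc, conj_point, MonObj.mul_comp, MonObj.mul_comp,
      GrpObj.inv_comp, Category.assoc, show x ≫ i ≫ e.hom = ptHom (𝟙_ _) χ from hx, ← hν, map_mul, map_mul, map_inv]
  have hnB := Torus.Normalizer.mem_of_normalizes _ hρ HopfPts.sirr_univ hasMul_pts rfl hBor ν (hnorm B iB σ hσ)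
  have hc := MaxTorus.centralizes_of_mem hρ hasMul_pts hBor hMax hTB hnB (hnorm T iT τ hτ)
  obtain ⟨-, hs, -, ha⟩ := TorusPts.torus_props (iT ≫ e.hom) hT.2.2.1
  haveI := hs
  haveI := ha
  rw [← cancel_mono e.hom, conjBy_map, ← hν]
  refine algHomOf_injective (AlgHom.ext fun a => sub_eq_zero.mp (eq_zero_of_points _ fun x => ?_))
  obtain ⟨χ, hχ⟩ := ptHom_surjective (x ≫ iT ≫ e.hom)
  rw [map_sub, ← algHomOf_comp, ← algHomOf_comp, point_conj ν χ _ x hχ.symm, hc χ ⟨x, hχ.symm⟩, mul_inv_cancel_right,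
    hχ, sub_self]

end Groth.Agent.H1.Classical.MaxTorusApply
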