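import Groth.Agent.H1.Classical.Apply

/-!
# Rigidity: morphisms agreeing on a Borel subgroup
-/

universe u

open CategoryTheory MonoidalCategory CartesianMonoidalCategory AlgebraicGeometry

namespace Groth.Agent.H1.Classical.Scheme'

set_option linter.style.haveILetI false
set_option linter.unusedSectionVars false

open Groth.Agent.Lib.RedPts.Points WithConv TensorProduct

attribute [local instance] baseAlgebra

variable {k : Type u} [Field k] [IsAlgClosed k] {A : Type u} [CommRing A] [HopfAlgebra k A] [Algebra.FiniteType k A]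
  [IsDomain A]

/-- The points of a Borel subgroup have complete quotient. -/
theorem complete_of_isMax {S : Subgroup (HopfPts.Pt k A)} (hS : Image.IsMax (HopfPts.D k A) S) :
    Complete.Complete (HopfPts.D k A) S := by
  obtain ⟨V, _, ρ, hρ, hf⟩ := HopfPts.exists_faithful (k := k) (A := A)
  obtain ⟨B, hcl, hirr, ⟨m, hm⟩, habs, hcomp⟩ :=
    Borel.exists_borel_complete _ (HopfPts.D k A) HopfPts.sirr_univ ρ hρ rfl
  have hsol : Group.IsSolvable B := (Group.isSolvable_def _).mpr ⟨m, (Subgroup.eq_bot_iff_forall _).mpr fun a ha =>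
    Subtype.ext (hf ((hm a ha).trans (map_one ρ).symm))⟩
  obtain ⟨c, rfl⟩ := Image.exists_eq_conj hirr hsol habs hS
  intro ι _ Cs hCs hinv
  have h := hcomp hasMul_pts ι {q | (q.1 * c⁻¹, q.2) ∈ Cs} (Complete.pairCl_translate _ hCs c⁻¹)
    fun g y hgy b hb => by
      show (g * b * c⁻¹, y) ∈ Cs
      have h2 := hinv (g * c⁻¹) y hgy (c * b * c⁻¹) ((Image.mem_map_conj c B _).mpr (by
        rwa [show c⁻¹ * (c * b * c⁻¹) * c = b by group]))
      rwa [show g * c⁻¹ * (c * b * c⁻¹) = g * b * c⁻¹ by group] at h2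
  have hset : {y : ι → k | ∃ g, (g, y) ∈ Cs} = {y | ∃ g, (g * c⁻¹, y) ∈ Cs} := by
    ext y
    exact ⟨fun ⟨g, hg⟩ => ⟨g * c, by rwa [mul_inv_cancel_right]⟩, fun ⟨g, hg⟩ => ⟨_, hg⟩⟩
  rw [hset]
  exact h

variable {A' : Type u} [CommRing A'] [HopfAlgebra k A'] [Algebra.FiniteType k A']

theorem hom_eq_GA (φ₁ φ₂ : GA k A ⟶ GA k A') [IsMonHom φ₁] [IsMonHom φ₂] {B : Over (Spec (CommRingCat.of k))}
    [GrpObj B] (iB : B ⟶ GA k A) (hB : Red.IsBorelOver k iB) (h : iB ≫ φ₁ = iB ≫ φ₂) : φ₁ = φ₂ := by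
  haveI := hB.1
  haveI : Smooth (GA k A).hom := smooth_GA
  obtain ⟨r₁, hr₁, hreg₁⟩ := exists_ptMap φ₁
  obtain ⟨r₂, hr₂, hreg₂⟩ := exists_ptMap φ₂
  obtain ⟨hS, -⟩ := isMax_ptsOf iB hB
  have heq : ∀ χ, r₁ χ = r₂ χ := by
    intro χ
    have key : r₁ χ * (r₂ χ)⁻¹ = 1 := by
      refine pts_ext _ _ fun f hf => ?_
      obtain ⟨n, a, b, hab⟩ := hasMul_pts (k := k) (A := A') ⟨f, hf⟩
      let F : (HopfPts.D k A).R := ∑ i, ⟨_, hreg₁ _ (a i).2⟩ * ⟨_, (hreg₂ _ ((HopfPts.D k A').inv _ (b i).2))⟩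
      have hF : ∀ g, (F : HopfPts.Pt k A → k) g = f (r₁ g * (r₂ g)⁻¹) := fun g => by
        refine Eq.trans ?_ (hab (r₁ g) (r₂ g)⁻¹).symm
        show Open.evalR (HopfPts.D k A) g F = _
        rw [map_sum]
        rfl
      have hinv : ∀ g, ∀ s ∈ ptsOf iB, (F : HopfPts.Pt k A → k) (g * s) = (F : HopfPts.Pt k A → k) g := by
        rintro g s ⟨x, hx⟩
        have hx' : x ≫ iB = ptHom (𝟙_ _) s := hx
        have hs : r₁ s = r₂ s := ptHom_injective (by rw [← hr₁, ← hr₂, ← hx', Category.assoc, Category.assoc, h])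
        rw [hF, hF, map_mul, map_mul, hs, mul_inv_rev, mul_assoc (r₁ g), mul_inv_cancel_left]
      have h1 := Invariant.const_of_complete (HopfPts.D k A) HopfPts.sirr_univ (complete_of_isMax hS) F hinv χ
      rw [hF, hF, map_one, map_one, inv_one, mul_one] at h1
      exact h1
    exact mul_inv_eq_one.mp key
  refine algHomOf_injective (AlgHom.ext fun a => sub_eq_zero.mp (eq_zero_of_points _ fun x => ?_))
  obtain ⟨χ, rfl⟩ := ptHom_surjective x
  rw [map_sub, ← algHomOf_comp, ← algHomOf_comp, hr₁, hr₂, heq, sub_self]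

/-- Homomorphisms agreeing on a Borel subgroup are equal. -/
theorem hom_eq {G G' : Over (Spec (CommRingCat.of k))} [GrpObj G] [GrpObj G'] [IsAffine G.left] [Smooth G.hom]
    [ConnectedSpace G.left] [IsAffine G'.left] [LocallyOfFiniteType G'.hom] {B : Over (Spec (CommRingCat.of k))}
    [GrpObj B] (iB : B ⟶ G) (hB : Red.IsBorelOver k iB) (φ₁ φ₂ : G ⟶ G') [IsMonHom φ₁] [IsMonHom φ₂]
    (h : iB ≫ φ₁ = iB ≫ φ₂) : φ₁ = φ₂ := by
  obtain ⟨A₁, _, _, e, he⟩ := Hopf.exists_iso G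
  obtain ⟨A₂, _, _, e', he'⟩ := Hopf.exists_iso G'
  haveI := he
  haveI := he'
  haveI : Algebra.FiniteType k A₁ := finiteType_of_iso e
  haveI : Algebra.FiniteType k A₂ := finiteType_of_iso e'
  haveI := isDomain_of_iso e
  have h2 := hom_eq_GA (e.inv ≫ φ₁ ≫ e'.hom) (e.inv ≫ φ₂ ≫ e'.hom) (iB ≫ e.hom) (isBorelOver_comp hB e)
    (by simp only [Category.assoc, Iso.hom_inv_id_assoc]; rw [reassoc_of% h])
  rwa [cancel_epi, cancel_mono] at h2

end Groth.Agent.H1.Classical.Scheme'
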