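import Groth.Agent.H1.Classical.TorusPts
import Groth.Agent.H1.Classical.Torus.MaxTorus
import Groth.Agent.H1.Classical.Apply
import Groth.Agent.H1.Classical.Rigid
import Groth.Agent.H1.Classical.BorelConj

/-!
# Maximal tori and Borel subgroups as schemes
-/

universe u

open CategoryTheory MonoidalCategory CartesianMonoidalCategory MonObj GrpObj AlgebraicGeometry

namespace Groth.Agent.H1.Classical.MaxTorusScheme

set_option linter.style.haveILetI false
set_option linter.unusedSectionVars false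

open Groth.Agent.Lib.RedPts Groth.Agent.Lib.RedPts.Points Scheme' WithConv Torus Torus.Centraliser Complete

attribute [local instance] baseAlgebra

variable {k : Type u} [Field k] [IsAlgClosed k] {A : Type u} [CommRing A] [HopfAlgebra k A] [Algebra.FiniteType k A]
  [IsDomain A]

/-- A Borel subgroup on points. -/
theorem exists_bor : ∃ B : Subgroup (HopfPts.Pt k A), IsBor (HopfPts.D k A) B := by
  obtain ⟨B0, hcl, hirr, hsol, habs⟩ := HopfPts.exists_borel (k := k) (A := A)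
  exact ⟨B0, hcl, hirr, hsol, habs, complete_of_isMax (Image.isMax_of_absorbing hcl hirr hsol habs)⟩

/-- The points of a Borel subgroup. -/
theorem isBor_ptsOf {B : Over (Spec (CommRingCat.of k))} [GrpObj B] (iB : B ⟶ GA k A) [IsMonHom iB]
    (hB : Red.IsBorelOver k iB) : IsBor (HopfPts.D k A) (ptsOf iB) := by
  obtain ⟨B0, hcl, hirr, hsol, habs⟩ := HopfPts.exists_borel (k := k) (A := A)
  have hS := (isMax_ptsOf iB hB).1
  obtain ⟨a, ha⟩ := Image.exists_eq_conj hirr hsol habs hS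
  refine ⟨hS.cl, hS.irr, hS.solv, fun S hS' hSi => ?_, complete_of_isMax hS⟩
  obtain ⟨b, hb⟩ := habs S hS' hSi
  refine ⟨b * a⁻¹, fun s hs => ?_⟩
  rw [ha, Image.mem_map_conj, show a⁻¹ * ((b * a⁻¹)⁻¹ * s * (b * a⁻¹)) * a = b⁻¹ * s * b by group]
  exact hb s hs

theorem locallyOfFiniteType : LocallyOfFiniteType (GA k A).hom := locallyOfFiniteType_GA

/-- A smooth subgroup factors through a closed subgroup containing its points. -/
theorem exists_factor {H P : Over (Spec (CommRingCat.of k))} [GrpObj P] (j : P ⟶ GA k A) [IsMonHom j]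
    [IsClosedImmersion j.left] [GrpObj H] [IsAffine H.left] [Smooth H.hom] (i : H ⟶ GA k A)
    (h : ∀ x : 𝟙_ (Over (Spec (CommRingCat.of k))) ⟶ H, ∃ s ∈ ptsOf j, x ≫ i = ptHom _ s) :
    ∃ f : H ⟶ P, f ≫ j = i :=
  exists_factor_of_ideal j i (algHomOf_eq_zero (T := (ptsOf j : Set (HopfPts.Pt k A))) i h)

/-- The subtorus with a given torus of points. -/
theorem exists_torus {S : Subgroup (HopfPts.Pt k A)} (hS : IsTor (HopfPts.D k A) S) :
    ∃ (C : Over (Spec (CommRingCat.of k))) (_ : GrpObj C) (c : C ⟶ GA k A) (_ : IsMonHom c),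
      IsClosedImmersion c.left ∧ Red.IsTorus C ∧ ptsOf c = S := by
  haveI := isSolvable_of_comm hS.comm
  obtain ⟨C, _, c, hc1, hc2, hc3, hc4, -, hfac, hpt⟩ := exists_subgroup S hS.cl hS.irr
  haveI := hc1
  haveI := hc2
  haveI := hc3
  haveI := hc4
  have hp : ptsOf c = S := by
    refine le_antisymm ?_ fun s hs => ?_
    · rintro χ ⟨x, hx⟩
      obtain ⟨s, hs, hxs⟩ := hpt x
      rwa [ptHom_injective ((show x ≫ c = ptHom (𝟙_ _) χ from hx).symm.trans hxs)]
    · obtain ⟨x, hx⟩ := hfac (𝟙_ _) (ptHom _ s) fun a ha => by rw [algHomOf_ptHom, ha s hs, map_zero]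
      exact ⟨x, hx⟩
  exact ⟨C, inferInstance, c, hc1, hc2, TorusPts.isTorus_of_isTor c (hp.symm ▸ hS), hp⟩

/-- The points of a maximal torus. -/
theorem isMax_ptsOf_torus {T : Over (Spec (CommRingCat.of k))} [GrpObj T] (iT : T ⟶ GA k A) [IsMonHom iT]
    (hT : AGF.IsMaxTorus iT) : MaxTorus.IsMax (HopfPts.D k A) (ptsOf iT) := by
  haveI := locallyOfFiniteType (k := k) (A := A)
  haveI := hT.2.1
  refine ⟨TorusPts.isTor_ptsOf iT hT.2.2.1, fun S hS hle => ?_⟩
  obtain ⟨-, hsm, -, haff⟩ := TorusPts.torus_props iT hT.2.2.1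
  haveI := hsm
  haveI := haff
  obtain ⟨C, _, c, hc, hci, hCt, hp⟩ := exists_torus hS
  haveI := hci
  haveI : Mono c := Over.mono_of_mono_left c
  obtain ⟨f, hf⟩ := exists_factor c iT fun x => by
    obtain ⟨s, hs⟩ := ptHom_surjective (x ≫ iT)
    exact ⟨s, hp ▸ hle ⟨x, hs.symm⟩, hs.symm⟩
  haveI : IsIso f := hT.2.2.2 C c f hCt hf
  intro s hs
  rw [← hp] at hs
  obtain ⟨x, hx⟩ := hs
  refine ⟨x ≫ CategoryTheory.inv f, ?_⟩
  show (x ≫ CategoryTheory.inv f) ≫ iT = ptHom (𝟙_ _) s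
  rw [← show x ≫ c = ptHom (𝟙_ _) s from hx, Category.assoc]
  exact congrArg (x ≫ ·) ((IsIso.inv_comp_eq f).mpr hf.symm)

/-- Conjugation of subgroups on points gives conjugation of schemes. -/
theorem exists_iso_conj {H H' : Over (Spec (CommRingCat.of k))} [GrpObj H] [GrpObj H'] [IsAffine H.left] [Smooth H.hom]
    [IsAffine H'.left] [Smooth H'.hom] (i : H ⟶ GA k A) [IsMonHom i] [IsClosedImmersion i.left] (i' : H' ⟶ GA k A)
    [IsMonHom i'] [IsClosedImmersion i'.left] (g : HopfPts.Pt k A)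
    (h : (ptsOf i).map (MulAut.conj g).toMonoidHom = ptsOf i') :
    ∃ f : H ≅ H', f.hom ≫ i' = AGF.conjBy (ptHom _ g) i := by
  haveI : Mono i := Over.mono_of_mono_left i
  haveI : Mono i' := Over.mono_of_mono_left i'
  obtain ⟨p, hp⟩ := exists_factor i' (AGF.conjBy (ptHom _ g) i) fun x => by
    obtain ⟨s, hs⟩ := ptHom_surjective (x ≫ i)
    exact ⟨g * s * g⁻¹, h ▸ ⟨s, ⟨x, hs.symm⟩, rfl⟩, point_conj g s i x hs.symm⟩
  obtain ⟨p', hp'⟩ := exists_factor i (AGF.conjBy (ptHom _ g⁻¹) i') fun x => by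
    obtain ⟨s, hs⟩ := ptHom_surjective (x ≫ i')
    refine ⟨g⁻¹ * s * g⁻¹⁻¹, ?_, point_conj g⁻¹ s i' x hs.symm⟩
    have hmem : s ∈ (ptsOf i).map (MulAut.conj g).toMonoidHom := h.symm ▸ ⟨x, hs.symm⟩
    rw [Image.mem_map_conj] at hmem
    rwa [_root_.inv_inv]
  exact ⟨⟨p, p', eq_id_of_conj i i' p p' g g⁻¹ hp hp' (inv_mul_cancel g),
    eq_id_of_conj i' i p' p g⁻¹ g hp' hp (mul_inv_cancel g)⟩, hp⟩

end Groth.Agent.H1.Classical.MaxTorusScheme
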