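import Groth.Agent.H1.Classical.Fixed
import Groth.Agent.H1.Classical.Elim
import Groth.Agent.H47.GenericFree
import Mathlib.RingTheory.Spectrum.Prime.Chevalley
import Mathlib.RingTheory.Localization.Away.AdjoinRoot
import Mathlib.RingTheory.FiniteStability
import Mathlib.LinearAlgebra.TensorProduct.Basis
import Mathlib.RingTheory.Flat.Basic

/-!
# The orbit map is open: projections of invariant closed sets along a closed orbit are closed
-/

universe u v w

namespace Groth.Agent.H1.Classical.Open

set_option linter.style.haveILetI false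
set_option linter.unusedSectionVars false

open MvPolynomial Module Kolchin Elim

/-- A flat map of finitely generated algebras is open on points. -/
theorem open_lift {k : Type u} [Field k] [IsAlgClosed k] {R : Type v} {S : Type w} [CommRing R] [CommRing S]
    [Algebra k R] [Algebra R S] [Algebra k S] [IsScalarTower k R S] [Algebra.FiniteType k R]
    [Algebra.FiniteType R S] [Module.Flat R S] (χ' : S →ₐ[k] k) (F : S) (hF : χ' F ≠ 0) :
    ∃ a : R, χ' (algebraMap R S a) ≠ 0 ∧ ∀ χ : R →ₐ[k] k, χ a ≠ 0 →
      ∃ χ'' : S →ₐ[k] k, (∀ r, χ'' (algebraMap R S r) = χ r) ∧ χ'' F ≠ 0 := by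
  haveI : IsNoetherianRing R := Algebra.FiniteType.isNoetherianRing k R
  haveI : Algebra.FinitePresentation R S := Algebra.FinitePresentation.of_finiteType.mp ‹_›
  haveI : Algebra.FiniteType k S := Algebra.FiniteType.trans (R := k) (S := R) (A := S) inferInstance inferInstance
  have ho := PrimeSpectrum.isOpenMap_comap_of_hasGoingDown_of_finitePresentation (R := R) (S := S) _
    (PrimeSpectrum.basicOpen F).isOpen
  let x' : PrimeSpectrum S := ⟨RingHom.ker χ', RingHom.ker_isPrime χ'⟩
  obtain ⟨_, ⟨_, ⟨a, rfl⟩, rfl⟩, hxa, hsub⟩ :=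
    PrimeSpectrum.isBasis_basic_opens.exists_subset_of_mem_open
      (Set.mem_image_of_mem _ (show x' ∈ PrimeSpectrum.basicOpen F from fun h => hF h)) ho
  refine ⟨a, fun h => hxa h, fun χ hχ => ?_⟩
  obtain ⟨q, hqF, hq⟩ := hsub (show (⟨RingHom.ker χ, RingHom.ker_isPrime χ⟩ : PrimeSpectrum R) ∈
    PrimeSpectrum.basicOpen a from fun h => hχ h)
  haveI : IsJacobsonRing S := isJacobsonRing_of_finiteType (A := k)
  have hF' : F ∉ (q.asIdeal).jacobson := by
    rw [IsJacobsonRing.out' q.asIdeal q.2.isRadical]
    exact hqF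
  rw [Ideal.jacobson, Ideal.mem_sInf] at hF'
  push Not at hF'
  obtain ⟨n, ⟨hqn, hn⟩, hFn⟩ := hF'
  letI := Ideal.Quotient.field n
  have : Module.Finite k (S ⧸ n) := finite_of_finite_type_of_isJacobsonRing k _
  have : Algebra.IsIntegral k (S ⧸ n) := Algebra.IsIntegral.of_finite k _
  let e := AlgEquiv.ofBijective (Algebra.ofId k (S ⧸ n))
    (IsAlgClosed.algebraMap_bijective_of_isIntegral (k := k) (K := S ⧸ n))
  let χ'' : S →ₐ[k] k := e.symm.toAlgHom.comp (Ideal.Quotient.mkₐ k n)
  refine ⟨χ'', fun r => ?_, fun h => hFn ?_⟩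
  · have h1 : algebraMap R S (r - algebraMap k R (χ r)) ∈ n :=
      hqn ((SetLike.ext_iff.mp (congrArg PrimeSpectrum.asIdeal hq) _).mpr
        (show r - algebraMap k R (χ r) ∈ RingHom.ker χ by simp [RingHom.mem_ker]))
    have h2 : χ'' (algebraMap R S (r - algebraMap k R (χ r))) = 0 := by
      simp only [χ'', AlgHom.comp_apply, Ideal.Quotient.mkₐ_eq_mk, Ideal.Quotient.eq_zero_iff_mem.mpr h1,
        map_zero]
    rw [map_sub, map_sub, ← IsScalarTower.algebraMap_apply, AlgHom.commutes, Algebra.algebraMap_self,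
      RingHom.id_apply, sub_eq_zero] at h2
    exact h2
  · simpa [χ'', Ideal.Quotient.eq_zero_iff_mem] using h

section Base

open TensorProduct

variable {k : Type u} [Field k] [IsAlgClosed k] {A B : Type v} [CommRing A] [CommRing B] [IsDomain A]
  [Algebra k A] [Algebra k B] [Algebra A B] [IsScalarTower k A B] [Algebra.FiniteType k A]
  [Algebra.FiniteType A B] {ι : Type} [Finite ι]

theorem map_eval₂Hom' {ι : Type} {R S : Type v} [CommRing R] [CommRing S] (g : R →+* S) (x : ι → S) (t : S →+* k)
    (P : MvPolynomial ι R) : t (eval₂Hom g x P) = eval (fun i => t (x i)) (map (t.comp g) P) := by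
  rw [eval_map]
  exact map_eval₂Hom g x t P

theorem tmul_one_eq {R : Type u} {S : Type v} {T : Type w} [CommRing R] [CommRing S] [CommRing T] [Algebra R S]
    [Algebra R T] (x : S) : x ⊗ₜ[R] (1 : T) = algebraMap S (S ⊗[R] T) x := rfl

theorem exists_clear (f : A) (a : MvPolynomial ι (Localization.Away f)) :
    ∃ (G : MvPolynomial ι A) (N : ℕ),
      map (algebraMap A (Localization.Away f)) G = C (algebraMap A (Localization.Away f) f) ^ N * a := by
  induction a using MvPolynomial.induction_on with
  | C r =>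
    obtain ⟨N, c, hc⟩ := IsLocalization.Away.surj f r
    refine ⟨C c, N, ?_⟩
    rw [map_C, ← map_pow, ← map_mul, ← hc, mul_comm]
  | add p q hp hq =>
    obtain ⟨G, N, h⟩ := hp
    obtain ⟨G', N', h'⟩ := hq
    refine ⟨C f ^ N' * G + C f ^ N * G', N + N', ?_⟩
    simp only [map_add, map_mul, map_pow, map_C, h, h', pow_add]
    ring
  | mul_X p i hp =>
    obtain ⟨G, N, h⟩ := hp
    exact ⟨G * X i, N, by rw [map_mul, map_X, h, mul_assoc]⟩

set_option maxHeartbeats 1600000 in
/-- Openness on points of a generically free map, with parameters. -/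
theorem open_lift_base (f : A) [Module.Free (Localization.Away f) (Localization.Away f ⊗[A] B)]
    (χ₀ : B →ₐ[k] k) (hf : χ₀ (algebraMap A B f) ≠ 0) (y₀ : ι → k) (F : MvPolynomial ι B)
    (hF : eval y₀ (map χ₀.toRingHom F) ≠ 0) :
    ∃ G : MvPolynomial ι A, eval y₀ (map (χ₀.toRingHom.comp (algebraMap A B)) G) ≠ 0 ∧
      ∀ (χ : A →ₐ[k] k) (y : ι → k), eval y (map χ.toRingHom G) ≠ 0 →
        ∃ χ₁ : B →ₐ[k] k, (∀ a, χ₁ (algebraMap A B a) = χ a) ∧ eval y (map χ₁.toRingHom F) ≠ 0 := by
  haveI : Algebra.FiniteType k (Localization.Away f) := Algebra.FiniteType.trans (R := k) (S := A) (A := (Localization.Away f)) inferInstance inferInstance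
  haveI : Algebra.FiniteType k (MvPolynomial ι (Localization.Away f)) := Algebra.FiniteType.trans (R := k) (S := (Localization.Away f)) (A := (MvPolynomial ι (Localization.Away f))) inferInstance inferInstance
  haveI : Module.Flat (MvPolynomial ι (Localization.Away f)) ((MvPolynomial ι (Localization.Away f)) ⊗[(Localization.Away f)] ((Localization.Away f) ⊗[A] B)) := Module.Flat.of_free
  let inB : B →+* ((MvPolynomial ι (Localization.Away f)) ⊗[(Localization.Away f)] ((Localization.Away f) ⊗[A] B)) := (Algebra.TensorProduct.includeRight (R := (Localization.Away f)) (A := (MvPolynomial ι (Localization.Away f))) (B := ((Localization.Away f) ⊗[A] B))).toRingHom.comp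
    (Algebra.TensorProduct.includeRight (R := A) (A := (Localization.Away f)) (B := B)).toRingHom
  have hinB : ∀ a : A, inB (algebraMap A B a) = algebraMap (MvPolynomial ι (Localization.Away f)) ((MvPolynomial ι (Localization.Away f)) ⊗[(Localization.Away f)] ((Localization.Away f) ⊗[A] B)) (C (algebraMap A (Localization.Away f) a)) := fun a => by
    show Algebra.TensorProduct.includeRight (Algebra.TensorProduct.includeRight (algebraMap A B a)) = _
    rw [AlgHom.commutes, IsScalarTower.algebraMap_apply A (Localization.Away f) ((Localization.Away f) ⊗[A] B), AlgHom.commutes,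
      IsScalarTower.algebraMap_apply (Localization.Away f) (MvPolynomial ι (Localization.Away f)) ((MvPolynomial ι (Localization.Away f)) ⊗[(Localization.Away f)] ((Localization.Away f) ⊗[A] B))]
    rfl
  have hink : ∀ r : k, inB (algebraMap k B r) = algebraMap k ((MvPolynomial ι (Localization.Away f)) ⊗[(Localization.Away f)] ((Localization.Away f) ⊗[A] B)) r := fun r => by
    rw [IsScalarTower.algebraMap_apply k A B, hinB, IsScalarTower.algebraMap_apply k (MvPolynomial ι (Localization.Away f)) ((MvPolynomial ι (Localization.Away f)) ⊗[(Localization.Away f)] ((Localization.Away f) ⊗[A] B)),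
      IsScalarTower.algebraMap_apply k (Localization.Away f) (MvPolynomial ι (Localization.Away f)), IsScalarTower.algebraMap_apply k A (Localization.Away f)]
    rfl
  let xT := fun i : ι => Algebra.TensorProduct.includeLeftRingHom (R := (Localization.Away f)) (A := MvPolynomial ι (Localization.Away f)) (B := (Localization.Away f) ⊗[A] B) (X i)
  let Φ : MvPolynomial ι B →+* ((MvPolynomial ι (Localization.Away f)) ⊗[(Localization.Away f)] ((Localization.Away f) ⊗[A] B)) := eval₂Hom inB xT
  have hxT : ∀ i : ι, algebraMap (MvPolynomial ι (Localization.Away f)) ((MvPolynomial ι (Localization.Away f)) ⊗[(Localization.Away f)] ((Localization.Away f) ⊗[A] B)) (X i) = xT i := fun i => by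
    rw [Algebra.TensorProduct.algebraMap_apply]
    rfl
  have hΦ : ∀ t : ((MvPolynomial ι (Localization.Away f)) ⊗[(Localization.Away f)] ((Localization.Away f) ⊗[A] B)) →+* k, ∀ P : MvPolynomial ι B, t (Φ P) = eval (fun i : ι => t (algebraMap (MvPolynomial ι (Localization.Away f)) ((MvPolynomial ι (Localization.Away f)) ⊗[(Localization.Away f)] ((Localization.Away f) ⊗[A] B)) (X i))) (map (t.comp inB) P) :=
    fun t P => by
      rw [funext fun i => congrArg t (hxT i)]
      exact map_eval₂Hom' inB xT t P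
  -- the given point
  letI : Algebra A k := (χ₀.toRingHom.comp (algebraMap A B)).toAlgebra
  have hfu : ∀ z : Submonoid.powers f, IsUnit (algebraMap A k z) := by
    rintro ⟨_, m, rfl⟩
    rw [map_pow]
    exact (Ne.isUnit hf).pow m
  letI : Algebra (Localization.Away f) k := (IsLocalization.lift hfu : (Localization.Away f) →+* k).toAlgebra
  haveI : IsScalarTower A (Localization.Away f) k := IsScalarTower.of_algebraMap_eq fun a => (IsLocalization.lift_eq hfu a).symm
  let χA : B →ₐ[A] k := { χ₀.toRingHom with commutes' := fun a => rfl }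
  let t0 : ((Localization.Away f) ⊗[A] B) →ₐ[(Localization.Away f)] k := Algebra.TensorProduct.lift (Algebra.ofId (Localization.Away f) k) χA fun _ _ => Commute.all _ _
  let t : ((MvPolynomial ι (Localization.Away f)) ⊗[(Localization.Away f)] ((Localization.Away f) ⊗[A] B)) →ₐ[(Localization.Away f)] k := Algebra.TensorProduct.lift (MvPolynomial.aeval y₀) t0 fun _ _ => Commute.all _ _
  have htB : ∀ x, t (inB x) = χ₀ x := fun x => by
    show t (1 ⊗ₜ (1 ⊗ₜ x)) = _
    simp [t, t0, χA]
  have htX : ∀ i, t (algebraMap (MvPolynomial ι (Localization.Away f)) ((MvPolynomial ι (Localization.Away f)) ⊗[(Localization.Away f)] ((Localization.Away f) ⊗[A] B)) (X i)) = y₀ i := fun i => by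
    rw [Algebra.TensorProduct.algebraMap_apply]
    simp [t, t0]
  let tk : ((MvPolynomial ι (Localization.Away f)) ⊗[(Localization.Away f)] ((Localization.Away f) ⊗[A] B)) →ₐ[k] k :=
    { t.toRingHom with
      commutes' := fun r => by
        show t (algebraMap k ((MvPolynomial ι (Localization.Away f)) ⊗[(Localization.Away f)] ((Localization.Away f) ⊗[A] B)) r) = r
        rw [← hink, htB, AlgHom.commutes]
        rfl }
  have htF : tk (Φ F) ≠ 0 := by
    rw [show tk (Φ F) = t.toRingHom (Φ F) from rfl, hΦ,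
      show (t.toRingHom.comp inB) = χ₀.toRingHom from RingHom.ext htB]
    simp only [RingHom.coe_coe, AlgHom.toRingHom_eq_coe, htX]
    exact hF
  obtain ⟨a, ha, hlift⟩ := open_lift (k := k) (R := (MvPolynomial ι (Localization.Away f))) (S := ((MvPolynomial ι (Localization.Away f)) ⊗[(Localization.Away f)] ((Localization.Away f) ⊗[A] B))) tk (Φ F) htF
  obtain ⟨G, N, hG⟩ := exists_clear f a
  refine ⟨C f * G, ?_, fun χ y hne => ?_⟩
  · have h1 : ∀ P : MvPolynomial ι A, eval y₀ (map (χ₀.toRingHom.comp (algebraMap A B)) P) =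
        tk (Algebra.TensorProduct.includeLeftRingHom (R := (Localization.Away f)) (A := (MvPolynomial ι (Localization.Away f))) (B := (Localization.Away f) ⊗[A] B)
          (map (algebraMap A (Localization.Away f)) P)) := by
      intro P
      induction P using MvPolynomial.induction_on with
      | C c =>
        rw [map_C, eval_C, map_C]
        show _ = t _
        rw [Algebra.TensorProduct.includeLeftRingHom_apply, tmul_one_eq, ← hinB, htB]
        rfl
      | add p q hp hq => simp only [map_add, hp, hq]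
      | mul_X p i hp =>
        simp only [map_mul, map_X, eval_X, hp]
        exact congrArg _ ((congrArg t (hxT i)).symm.trans (htX i)).symm
    rw [h1, map_mul, map_C, hG, ← mul_assoc, ← pow_succ', RingHom.map_mul, RingHom.map_pow]
    refine fun h0 => ha ?_
    rw [Algebra.TensorProduct.includeLeftRingHom_apply a, tmul_one_eq a] at h0
    refine (mul_eq_zero.mp ((RingHom.map_mul tk.toRingHom _ _).symm.trans h0)).resolve_left ?_
    refine fun h2 => pow_ne_zero _ ?_ ((RingHom.map_pow tk.toRingHom _ _).symm.trans h2)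
    show t _ ≠ 0
    rw [Algebra.TensorProduct.includeLeftRingHom_apply, tmul_one_eq, ← hinB, htB]
    exact hf
  · rw [map_mul, map_mul, map_C, eval_C] at hne
    obtain ⟨hfne, hGne⟩ := mul_ne_zero_iff.mp hne
    have hfu' : ∀ z : Submonoid.powers f, IsUnit (χ z) := by
      rintro ⟨_, m, rfl⟩
      rw [map_pow]
      exact (Ne.isUnit hfne).pow m
    let χf : (Localization.Away f) →ₐ[k] k :=
      { (IsLocalization.lift (g := χ.toRingHom) hfu' : (Localization.Away f) →+* k) with
        commutes' := fun r => by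
          show IsLocalization.lift (g := χ.toRingHom) hfu' (algebraMap k (Localization.Away f) r) = r
          rw [IsScalarTower.algebraMap_apply k A (Localization.Away f), IsLocalization.lift_eq]
          exact χ.commutes r }
    let χS : (MvPolynomial ι (Localization.Away f)) →ₐ[k] k := MvPolynomial.aevalTower χf y
    have hχS : ∀ P : MvPolynomial ι A, χS (map (algebraMap A (Localization.Away f)) P) = eval y (map χ.toRingHom P) := by
      intro P
      rw [show χS (map (algebraMap A (Localization.Away f)) P) = ((χS : (MvPolynomial ι (Localization.Away f)) →+* k).comp (map (algebraMap A (Localization.Away f)))) P from rfl,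
        show eval y (map χ.toRingHom P) = ((eval y).comp (map χ.toRingHom)) P from rfl]
      congr 1
      refine MvPolynomial.ringHom_ext (fun c => ?_) (fun i => ?_)
      · simp only [RingHom.comp_apply, map_C, eval_C, RingHom.coe_coe]
        show aevalTower χf y (C (algebraMap A (Localization.Away f) c)) = _
        rw [aevalTower_C]
        exact IsLocalization.lift_eq _ c
      · simp [χS]
    have haS : χS a ≠ 0 := by
      intro h0
      refine hGne ?_
      rw [← hχS, hG, map_mul, h0, mul_zero]
    obtain ⟨χ'', hχ'', hχF⟩ := hlift χS haS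
    let χ₁ : B →ₐ[k] k :=
      { χ''.toRingHom.comp inB with
        commutes' := fun r => by
          show χ'' (inB (algebraMap k B r)) = r
          rw [hink]
          exact χ''.commutes r }
    refine ⟨χ₁, fun c => ?_, ?_⟩
    · show χ'' (inB (algebraMap A B c)) = _
      rw [hinB, hχ'']
      show aevalTower χf y (C (algebraMap A (Localization.Away f) c)) = _
      rw [aevalTower_C]
      exact IsLocalization.lift_eq _ c
    · rw [show χ'' (Φ F) = χ''.toRingHom (Φ F) from rfl, hΦ] at hχF
      simp only [RingHom.coe_coe, AlgHom.toRingHom_eq_coe, hχ''] at hχF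
      simp [χS] at hχF
      rw [eval_map]
      exact hχF

end Base

section Orbit

variable {k : Type u} [Field k] {Γ : Type v} [Group Γ] (D : Alg k Γ)

/-- The regular functions form a commutative ring (short-cut for instance search). -/
instance commRingR {k : Type u} [Field k] {Γ : Type v} [Group Γ] (D : Alg k Γ) : CommRing D.R :=
  D.R.toCommRing

/-- Evaluation of a regular function. -/
def evalR (g : Γ) : D.R →ₐ[k] k := (Pi.evalAlgHom k (fun _ : Γ => k) g).comp D.R.val

/-- Evaluation of a regular function on `Γ × k^ι`. -/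
noncomputable def pev {ι : Type} (g : Γ) (y : ι → k) : MvPolynomial ι D.R →+* k :=
  (eval y).comp (map (evalR D g).toRingHom)

/-- Closed subsets of `Γ × k^ι`. -/
def PairCl {ι : Type} (C : Set (Γ × (ι → k))) : Prop :=
  ∀ q, (∀ F : MvPolynomial ι D.R, (∀ c ∈ C, pev D c.1 c.2 F = 0) → pev D q.1 q.2 F = 0) → q ∈ C

theorem pev_map {ι : Type} (σ : D.R →ₐ[k] D.R) (φ : Γ → Γ)
    (hσ : ∀ f g, (σ f : Γ → k) g = (f : Γ → k) (φ g)) (g : Γ) (y : ι → k) (F : MvPolynomial ι D.R) :
    pev D g y (map σ.toRingHom F) = pev D (φ g) y F := by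
  show eval y (map _ (map _ F)) = eval y (map _ F)
  rw [map_map]
  exact congrArg (fun ψ => eval y (map ψ F)) (RingHom.ext fun f => hσ f g)

theorem isDomain {D : Alg k Γ} (hirr : D.SIrr Set.univ) : IsDomain D.R := by
  haveI : Nontrivial D.R := ⟨⟨1, 0, fun h => one_ne_zero (α := k) (congrArg (fun f : D.R => (f : Γ → k) 1) h)⟩⟩
  haveI : NoZeroDivisors D.R :=
    ⟨fun {a b} h => (hirr a b fun g _ => by rw [h]; rfl).imp
      (fun h1 => Subtype.ext (funext fun g => h1 g trivial)) (fun h1 => Subtype.ext (funext fun g => h1 g trivial))⟩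
  exact NoZeroDivisors.to_isDomain _

variable [IsAlgClosed k] {V : Type w} [AddCommGroup V] [Module k V] {n : ℕ} (b : Basis (Fin n) k V)
  (ρ : Representation k Γ V) (hρ : EndFn D.R (fun g => ρ g))

include hρ in
set_option maxHeartbeats 1000000 in
/-- The projection of a closed set invariant under the stabiliser of a line with closed orbit. -/
theorem pcl_of_orbit (hirr : D.SIrr Set.univ) {v : V} (hv : v ≠ 0) {Z : Set V} (hZ : Fixed.IsCone b ρ Z)
    (hvZ : v ∈ Z) (horb : ∀ z ∈ Z, z ≠ 0 → ∃ (c : k) (g : Γ), z = c • ρ g v)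
    {ι : Type} [Finite ι] (Cs : Set (Γ × (ι → k))) (hC : PairCl D Cs)
    (hinv : ∀ g g' y, (g, y) ∈ Cs → (∃ c : k, ρ g' v = c • ρ g v) → (g', y) ∈ Cs) :
    PCl {y : ι → k | ∃ g, (g, y) ∈ Cs} := by
  classical
  haveI := D.finiteType
  haveI : IsDomain D.R := isDomain hirr
  let A : Subalgebra k (Polynomial D.R) := (Fixed.orbMap b ρ hρ v).range
  haveI : Algebra.FiniteType k A := by
    refine ⟨(Subalgebra.fg_top _).mpr ?_⟩
    show (Fixed.orbMap b ρ hρ v).range.FG
    rw [← Algebra.map_top]
    exact (Algebra.FiniteType.out).map _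
  haveI : Algebra.FiniteType k (Polynomial D.R) := Algebra.FiniteType.trans (R := k) (S := D.R) (A := (Polynomial D.R)) inferInstance inferInstance
  haveI : Algebra.FiniteType A (Polynomial D.R) := Algebra.FiniteType.of_restrictScalars_finiteType k A _
  obtain ⟨f, hf, hfree⟩ := Groth.Agent.H47.GenericFree.gf_of_finiteType (R := A) (Polynomial D.R) (Polynomial D.R)
  let vec : (Fin n → k) → V := b.equivFun.symm
  have hvec : ∀ w, vec w = 0 ↔ w = 0 := fun w => LinearEquiv.map_eq_zero_iff _
  let Ct : Set ((Fin n → k) × (ι → k)) :=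
    {q | vec q.1 ∈ Z ∧ (q.1 = 0 ∨ ∃ (g : Γ) (c : k), vec q.1 = c • ρ g v ∧ (g, q.2) ∈ Cs)}
  have hzero : (0 : V) ∈ Z := by simpa using hZ.smul 0 v hvZ
  have hcone : ∀ (t : k) w y, (w, y) ∈ Ct → (t • w, y) ∈ Ct := by
    rintro t w y ⟨hwZ, hw⟩
    refine ⟨by simpa [vec] using hZ.smul t _ hwZ, ?_⟩
    rcases hw with hw | ⟨g, c, hw, hg⟩
    · left
      show t • w = 0
      rw [show w = 0 from hw, smul_zero]
    · exact Or.inr ⟨g, t * c, by rw [mul_smul, ← hw]; exact map_smul b.equivFun.symm t w, hg⟩
  have hcl : ∀ q, (∀ G, (∀ c ∈ Ct, ev2 c.1 c.2 G = 0) → ev2 q.1 q.2 G = 0) → q ∈ Ct := by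
    rintro ⟨w₀, y₀⟩ hq
    have hpz : ∀ (p : MvPolynomial (Fin n) k) w, ev2 w y₀ (map (MvPolynomial.C : k →+* MvPolynomial ι k) p) =
        Fixed.pf b p (vec w) := by
      intro p w
      show eval w (map _ (map _ p)) = eval (b.equivFun (b.equivFun.symm w)) p
      rw [LinearEquiv.apply_symm_apply, map_map,
        show (eval y₀).comp (MvPolynomial.C : k →+* MvPolynomial ι k) = RingHom.id k from
          RingHom.ext fun r => eval_C _, MvPolynomial.map_id]
    have hwZ : vec w₀ ∈ Z := hZ.closed _ fun p hp => by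
      rw [← hpz]
      refine hq _ fun c hc => ?_
      have := hp _ hc.1
      show eval c.1 (map _ (map _ p)) = 0
      rw [map_map, show (eval c.2).comp (MvPolynomial.C : k →+* MvPolynomial ι k) = RingHom.id k from
          RingHom.ext fun r => eval_C _, MvPolynomial.map_id]
      rw [Fixed.pf, LinearEquiv.apply_symm_apply] at this
      exact this
    refine ⟨hwZ, ?_⟩
    by_cases hw0 : w₀ = 0
    · exact Or.inl hw0
    right
    obtain ⟨c₀, g₀, hcg⟩ := horb _ hwZ (fun h => hw0 ((hvec _).mp h))
    have hc0 : c₀ ≠ 0 := fun h => hw0 ((hvec _).mp (by rw [hcg, h, zero_smul]))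
    refine ⟨g₀, c₀, hcg, hC (g₀, y₀) fun F hF => ?_⟩
    by_contra hne
    -- move the point to the good open set
    obtain ⟨g, c, hfc, hc⟩ : ∃ g c, Fixed.point (D := D) g c (f : Polynomial D.R) ≠ 0 ∧ c ≠ 0 := by
      have hfX : (f : Polynomial D.R) * Polynomial.X ≠ 0 :=
        mul_ne_zero (fun h => hf (Subtype.ext h)) Polynomial.X_ne_zero
      obtain ⟨i, hi⟩ := Polynomial.ext_iff.not.mp hfX |> not_forall.mp
      obtain ⟨g, hg⟩ : ∃ g, ((Polynomial.coeff ((f : Polynomial D.R) * Polynomial.X) i : D.R) : Γ → k) g ≠ 0 := by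
        by_contra hcon
        push Not at hcon
        exact hi (Subtype.ext (funext fun g => by rw [hcon g]; rfl))
      obtain ⟨c, hc⟩ : ∃ c, Fixed.point (D := D) g c ((f : Polynomial D.R) * Polynomial.X) ≠ 0 := by
        by_contra hcon
        push Not at hcon
        have h0 : ((f : Polynomial D.R) * Polynomial.X).map (evalR D g).toRingHom = 0 :=
          Polynomial.funext fun c => by
            rw [Polynomial.eval_map, Polynomial.eval_zero]
            exact hcon c
        have := congrArg (fun q => Polynomial.coeff q i) h0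
        rw [Polynomial.coeff_map, Polynomial.coeff_zero] at this
        exact hg this
      rw [map_mul] at hc
      refine ⟨g, c, left_ne_zero_of_mul hc, ?_⟩
      simpa [Fixed.point] using right_ne_zero_of_mul hc
    let F' : MvPolynomial ι (Polynomial D.R) :=
      MvPolynomial.C Polynomial.X * map Polynomial.C (map (D.lTrans (g₀ * g⁻¹)).toRingHom F)
    have hF' : ∀ (h : Γ) (χ : Polynomial D.R →ₐ[k] k) (y : ι → k), (∀ r : D.R, χ (Polynomial.C r) = (r : Γ → k) h) →
        eval y (map χ.toRingHom F') = χ Polynomial.X * pev D (g₀ * g⁻¹ * h) y F := by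
      intro h χ y hχ
      rw [map_mul, map_mul, map_C, eval_C, map_map]
      refine congrArg _ ?_
      rw [show χ.toRingHom.comp Polynomial.C = (evalR D h).toRingHom from RingHom.ext hχ]
      exact pev_map D (D.lTrans (g₀ * g⁻¹)) (fun x => g₀ * g⁻¹ * x) (fun _ _ => rfl) h y F
    have hpt : ∀ r : D.R, Fixed.point (D := D) g c (Polynomial.C r) = (r : Γ → k) g := fun r =>
      Polynomial.eval₂_C _ _
    have hptX : Fixed.point (D := D) g c Polynomial.X = c := Polynomial.eval₂_X _ _
    obtain ⟨G, hG, hGlift⟩ := open_lift_base (k := k) f (Fixed.point (D := D) g c) hfc y₀ F' (by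
      rw [hF' g _ y₀ hpt, hptX]
      refine mul_ne_zero hc ?_
      simpa using hne)
    obtain ⟨G', hG'⟩ := MvPolynomial.map_surjective _ (Fixed.orbMap b ρ hρ v).rangeRestrict_surjective G
    -- `w ↦ (c/c₀) ρ(g g₀⁻¹) w`
    let T : End k V := (c / c₀) • ρ (g * g₀⁻¹)
    let sub : MvPolynomial (Fin n) k →ₐ[k] MvPolynomial (Fin n) k :=
      bind₁ fun i => Fixed.lin b ((b.coord i).comp T)
    let flip : MvPolynomial ι (MvPolynomial (Fin n) k) →+* MvPolynomial (Fin n) (MvPolynomial ι k) :=
      eval₂Hom (map (MvPolynomial.C : k →+* MvPolynomial ι k)) fun i => MvPolynomial.C (X i)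
    have hflip : ∀ w y P, ev2 w y (flip P) = eval y (map (eval w) P) := by
      intro w y P
      rw [show ev2 w y (flip P) = ((ev2 w y).comp flip) P from rfl,
        show eval y (map (eval w) P) = ((eval y).comp (map (eval w))) P from rfl]
      congr 1
      refine MvPolynomial.ringHom_ext (fun r => ?_) (fun i => ?_)
      · simp only [RingHom.comp_apply, flip, eval₂Hom_C, ev2_def, map_map, map_C, eval_C]
        rw [show (eval y).comp (MvPolynomial.C : k →+* MvPolynomial ι k) = RingHom.id k from
          RingHom.ext fun r => eval_C _, MvPolynomial.map_id]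
      · simp [flip, ev2_def]
    have hkey : ∀ w y, vec w ∈ Z → ∀ χ : Polynomial D.R →ₐ[k] k, ∀ h : Γ,
        (∀ r : D.R, χ (Polynomial.C r) = (r : Γ → k) h) → T (vec w) = χ Polynomial.X • ρ h v →
        ev2 w y (flip (map sub.toRingHom G')) = eval y (map (χ.toRingHom.comp (algebraMap A _)) G) := by
      intro w y _ χ h hχ hT
      rw [hflip, map_map, ← hG', map_map]
      refine congrArg (fun φ => eval y (map φ G')) (RingHom.ext fun p => ?_)
      show eval w (sub p) = χ (Fixed.orbMap b ρ hρ v p)
      rw [Fixed.apply_orbMap b ρ hρ v χ h hχ, ← hT, Fixed.pf_bind]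
      show eval w (sub p) = eval (b.equivFun (b.equivFun.symm w)) _
      rw [LinearEquiv.apply_symm_apply]
    have hTw : T (vec w₀) = Fixed.point (D := D) g c Polynomial.X • ρ g v := by
      rw [hptX]
      show (c / c₀) • ρ (g * g₀⁻¹) (vec w₀) = c • ρ g v
      rw [hcg, map_smul, smul_smul, ← Module.End.mul_apply, ← map_mul, inv_mul_cancel_right, div_mul_cancel₀ c hc0]
    refine hG ?_
    rw [← hkey w₀ y₀ hwZ _ g hpt hTw]
    refine hq _ fun q hq' => ?_
    obtain ⟨w, y⟩ := q
    by_contra hne'
    -- the point has a lift outside `Cs`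
    obtain ⟨hwZ', hw'⟩ := hq'
    have hTZ : T (vec w) ∈ Z := hZ.smul _ _ (hZ.stable _ _ hwZ')
    obtain ⟨c₁, g₁, hc₁⟩ : ∃ (c₁ : k) (g₁ : Γ), T (vec w) = c₁ • ρ g₁ v := by
      by_cases h : T (vec w) = 0
      · exact ⟨0, 1, by rw [h, zero_smul]⟩
      · exact horb _ hTZ h
    let χA : A →ₐ[k] k := (Fixed.point (D := D) g₁ c₁).comp A.val
    have h1 : ev2 w y (flip (map sub.toRingHom G')) = eval y (map χA.toRingHom G) :=
      hkey w y hwZ' (Fixed.point (D := D) g₁ c₁) g₁ (fun r => Polynomial.eval₂_C _ _) (by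
        rw [hc₁, show Fixed.point (D := D) g₁ c₁ Polynomial.X = c₁ from Polynomial.eval₂_X _ _])
    obtain ⟨χ, hχA, hχF⟩ := hGlift χA y (h1 ▸ hne')
    obtain ⟨h, hh⟩ := D.pts (χ.comp Polynomial.CAlgHom)
    rw [hF' h χ y hh] at hχF
    obtain ⟨hX, hFne⟩ := mul_ne_zero_iff.mp hχF
    -- both points have the same image
    have hsame : χ Polynomial.X • ρ h v = c₁ • ρ g₁ v := by
      refine b.equivFun.injective (funext fun i => ?_)
      have h2 := hχA ⟨Fixed.orbMap b ρ hρ v (X i), ⟨X i, rfl⟩⟩
      change χ (Fixed.orbMap b ρ hρ v (X i)) = Fixed.point (D := D) g₁ c₁ (Fixed.orbMap b ρ hρ v (X i)) at h2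
      rw [Fixed.apply_orbMap b ρ hρ v χ h hh, Fixed.apply_orbMap b ρ hρ v _ g₁ (fun r => Polynomial.eval₂_C _ _),
        show Fixed.point (D := D) g₁ c₁ Polynomial.X = c₁ from Polynomial.eval₂_X _ _] at h2
      simpa [Fixed.pf] using h2
    rcases hw' with hw' | ⟨g', c', hw', hg'⟩
    · have hT0 : T (vec w) = 0 := by rw [(hvec w).mpr hw']; exact LinearMap.map_zero T
      rw [← hc₁, hT0] at hsame
      refine (smul_eq_zero.mp hsame).elim hX fun h0 => hv ?_
      have := congrArg (ρ h⁻¹) h0
      rwa [map_zero, ← Module.End.mul_apply, ← map_mul, inv_mul_cancel, map_one, Module.End.one_apply] at this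
    · refine hFne (hF (g₀ * g⁻¹ * h, y) (hinv g' (g₀ * g⁻¹ * h) y hg' ?_))
      rw [← hc₁, hw'] at hsame
      have h3 := congrArg (fun x => (χ Polynomial.X)⁻¹ • ρ (g₀ * g⁻¹) x) hsame
      simp only [T, LinearMap.smul_apply, map_smul, smul_smul, inv_mul_cancel₀ hX, one_smul] at h3
      rw [← Module.End.mul_apply, ← map_mul, ← Module.End.mul_apply, ← map_mul, ← Module.End.mul_apply,
        ← map_mul, show g₀ * g⁻¹ * (g * g₀⁻¹) = 1 by group, one_mul] at h3
      exact ⟨_, h3⟩
  have hp := pcl_proj Ct hcl hcone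
  have hset : {y : ι → k | ∃ g, (g, y) ∈ Cs} = {y | ∃ w, w ≠ 0 ∧ (w, y) ∈ Ct} := by
    ext y
    constructor
    · rintro ⟨g, hg⟩
      have hne : ρ g v ≠ 0 := fun h0 => hv (by
        have := congrArg (ρ g⁻¹) h0
        rwa [map_zero, ← Module.End.mul_apply, ← map_mul, inv_mul_cancel, map_one, Module.End.one_apply] at this)
      refine ⟨b.equivFun (ρ g v), fun h => hne (b.equivFun.injective (by rw [h, map_zero])), ?_, Or.inr ⟨g, 1, ?_, hg⟩⟩
      · simpa [vec] using hZ.stable g v hvZ
      · simp [vec]
    · rintro ⟨w, hw, -, h | ⟨g, c, -, hg⟩⟩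
      · exact absurd h hw
      · exact ⟨g, hg⟩
  rw [hset]
  exact hp

end Orbit

end Groth.Agent.H1.Classical.Open
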