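import Groth.Agent.S3941
import Groth.Agent.H1.Classical.ImageField
import Groth.Agent.H1.Classical.BorelExists
import Groth.Agent.H1.Classical.FieldDescent
import Groth.Agent.Lib.GrpQ.RedSubgroup
import Groth.Agent.H4.HomImage

/-!
# Images and lifts of parabolic subgroups
-/

universe u

open CategoryTheory MonoidalCategory CartesianMonoidalCategory MonObj GrpObj AlgebraicGeometry Limits

namespace Groth.Agent.H1.Classical.ParabolicImage

set_option linter.style.haveILetI false
set_option linter.unusedSectionVars false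

open Groth.Agent.Lib.RedPts Groth.Agent.Lib.RedPts.Points Scheme' Groth.Agent.Lib.GrpSch FieldDescent

attribute [local instance] baseAlgebra

section Closed

variable {k : Type u} [Field k] [IsAlgClosed k]
variable {G Q : Over (Spec (CommRingCat.of k))} [GrpObj G] [GrpObj Q] [IsAffine G.left] [IsAffine Q.left]
  [Smooth G.hom] [Smooth Q.hom] [ConnectedSpace G.left] [ConnectedSpace Q.left] (q : G ⟶ Q) [IsMonHom q]
  [Surjective q.left]

/-- The image of a Borel subgroup exists. -/
theorem exists_image {B : Over (Spec (CommRingCat.of k))} [GrpObj B] (iB : B ⟶ G) (hB : Red.IsBorelOver k iB) :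
    ∃ (B' : Over (Spec (CommRingCat.of k))) (_ : GrpObj B') (iB' : B' ⟶ Q) (p : B ⟶ B'),
      Red.IsBorelOver k iB' ∧ Surjective p.left ∧ p ≫ iB' = iB ≫ q := by
  obtain ⟨B₁, _, i₁, hB₁⟩ := BorelExists.exists_borel Q
  obtain ⟨B₂, _, i₂, p, hB₂, hp, hcomp⟩ := Groth.Agent.S3941.result k G Q q B₁ i₁ hB₁
  obtain ⟨g, f, hf⟩ := borel_conj i₂ iB hB₂ hB
  haveI := hp
  haveI : IsIso f.inv.left := ((Over.forget _).mapIso f).isIso_inv
  haveI : Surjective (f.inv ≫ p).left := by rw [Over.comp_left]; infer_instance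
  refine ⟨B₁, inferInstance, i₁ ≫ (ConjIso.conjIso (g ≫ q)).hom, f.inv ≫ p, isBorelOver_comp hB₁ _, inferInstance, ?_⟩
  rw [ConjIso.comp_conjIso, Category.assoc, Scheme'.conj_comp, hcomp, ← conjBy_map q g i₂, ← hf]
  simp

/-- The image of a parabolic subgroup. -/
theorem isParabolicOver_image {P P' : Over (Spec (CommRingCat.of k))} [GrpObj P] [GrpObj P'] {iP : P ⟶ G}
    (hP : Red.IsParabolicOver k iP) (iP' : P' ⟶ Q) [IsMonHom iP'] [IsClosedImmersion iP'.left] [Smooth P'.hom]
    (p : P ⟶ P') (hp : p ≫ iP' = iP ≫ q) : Red.IsParabolicOver k iP' := by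
  obtain ⟨-, -, -, B, _, b, hB⟩ := hP
  obtain ⟨B', _, iB', r, hB', hr, hr'⟩ := exists_image q (b ≫ iP) hB
  haveI := hB'.2.2.1
  haveI := isReduced_of_smooth_field B'.hom
  obtain ⟨b', hb'⟩ := Groth.Agent.H4.HomImage.exists_factor iP' iB' (by
    rintro _ ⟨y, rfl⟩
    obtain ⟨x, rfl⟩ := hr.surj y
    refine ⟨(b ≫ p).left x, ?_⟩
    show ((b ≫ p).left ≫ iP'.left) x = (r.left ≫ iB'.left) x
    rw [← Over.comp_left, ← Over.comp_left, hr', Category.assoc, hp, Category.assoc])
  exact ⟨inferInstance, inferInstance, inferInstance, B', inferInstance, b', by rw [hb']; exact hB'⟩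

/-- Parabolic subgroups lift. -/
theorem exists_parabolic_lift {P' : Over (Spec (CommRingCat.of k))} [GrpObj P'] {iP' : P' ⟶ Q}
    (hP' : Red.IsParabolicOver k iP') :
    ∃ (P : Over (Spec (CommRingCat.of k))) (_ : GrpObj P) (iP : P ⟶ G) (p : P ⟶ P'),
      Red.IsParabolicOver k iP ∧ Surjective p.left ∧ p ≫ iP' = iP ≫ q := by
  obtain ⟨hm, hc, hs, B', _, b', hB'⟩ := hP'
  haveI := hm
  haveI := hc
  haveI := hs
  haveI : Mono iP' := Over.mono_of_mono_left iP'
  let i₀ : pullback q iP' ⟶ G := pullback.fst q iP'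
  let p₀ : pullback q iP' ⟶ P' := pullback.snd q iP'
  have hsq : IsPullback i₀ p₀ q iP' := .of_hasPullback q iP'
  have hw : i₀ ≫ q = p₀ ≫ iP' := hsq.w
  haveI : Mono i₀ := inferInstanceAs (Mono (pullback.fst q iP'))
  have hl : IsPullback i₀.left p₀.left q.left iP'.left := hsq.map (Over.forget _)
  haveI : IsClosedImmersion i₀.left := MorphismProperty.of_isPullback hl.flip inferInstance
  haveI : Surjective p₀.left := MorphismProperty.of_isPullback hl inferInstance
  obtain ⟨_, hmon⟩ := Groth.Agent.Lib.GrpQ.InfSub.exists_grpObj_of_mono i₀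
    ⟨hsq.lift η[G] η[P'] (by rw [IsMonHom.one_hom, IsMonHom.one_hom]), hsq.lift_fst _ _ _⟩
    ⟨hsq.lift _ ((fst _ _ ≫ p₀) * (snd _ _ ≫ p₀)) (by
      simp only [MonObj.mul_comp, Category.assoc, hw]), hsq.lift_fst _ _ _⟩
    ⟨hsq.lift _ p₀⁻¹ (by simp only [GrpObj.inv_comp, hw]), hsq.lift_fst _ _ _⟩
  haveI : LocallyOfFiniteType (pullback q iP').hom := by rw [← Over.w i₀]; infer_instance
  haveI : QuasiCompact (pullback q iP').hom := by rw [← Over.w i₀]; infer_instance
  obtain ⟨R, _, i, hi, hic, his, hR⟩ := Groth.Agent.Lib.GrpQ.RedSubgroup.exists_reduced_subgroup (pullback q iP')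
  haveI := hi
  haveI := hmon
  haveI := hic
  haveI := his
  haveI := hR
  haveI : IsClosedImmersion (i ≫ i₀).left := by rw [Over.comp_left]; infer_instance
  haveI : LocallyOfFiniteType R.hom := by rw [← Over.w (i ≫ i₀)]; infer_instance
  haveI : GrpObj (Over.mk R.hom) := inferInstanceAs (GrpObj R)
  haveI : Smooth R.hom := Smooth.smooth_of_isReduced R.hom
  haveI : Surjective (i ≫ p₀).left := by rw [Over.comp_left]; infer_instance
  obtain ⟨B, _, iB, r, hB, hr, hr'⟩ := Groth.Agent.S3941.result k G Q q B' (b' ≫ iP') hB'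
  haveI := hB.2.2.1
  haveI := isReduced_of_smooth_field B.hom
  let β : B ⟶ pullback q iP' := hsq.lift iB (r ≫ b') (by rw [Category.assoc, hr'])
  obtain ⟨b, hb⟩ := Groth.Agent.H4.HomImage.exists_factor i β (by
    rintro y -
    exact his.surj y)
  refine ⟨R, inferInstance, i ≫ i₀, i ≫ p₀, ⟨inferInstance, inferInstance, inferInstance, B, inferInstance, b, ?_⟩,
    inferInstance, by rw [Category.assoc, Category.assoc, hw]⟩
  rw [← Category.assoc, hb, hsq.lift_fst]
  exact hB

end Closed

/-- Parabolic subgroups map onto parabolic subgroups. -/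
theorem isParabolic_image {k : Type u} [Field k] {G Q : Over (Spec (CommRingCat.of k))} [GrpObj G] [GrpObj Q]
    [IsAffine G.left] [IsAffine Q.left] [Smooth G.hom] [Smooth Q.hom] [ConnectedSpace G.left] [ConnectedSpace Q.left]
    (q : G ⟶ Q) [IsMonHom q] [Surjective q.left] {P P' : Over (Spec (CommRingCat.of k))} [GrpObj P] [GrpObj P']
    (iP : P ⟶ G) (hP : Red.IsParabolic iP) (iP' : P' ⟶ Q) [IsMonHom iP'] [IsClosedImmersion iP'.left]
    [IsReduced P'.left] (p : P ⟶ P') [Surjective p.left] (hp : p ≫ iP' = iP ≫ q) : Red.IsParabolic iP' := by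
  obtain ⟨h1, h2, h3, h4⟩ := hP
  haveI := h1
  haveI := h2
  haveI := h3
  haveI : IsAffine P.left := isAffine_of_isAffineHom iP.left
  haveI : IsAffine P'.left := isAffine_of_isAffineHom iP'.left
  haveI := geometricallyReduced_of_surjective p
  haveI : LocallyOfFiniteType P'.hom := by rw [← Over.w iP']; infer_instance
  haveI : MorphismProperty.RespectsIso @Smooth := MorphismProperty.IsStableUnderBaseChange.respectsIso
  haveI hs' : Smooth P'.hom := of_bc_hom k (AlgebraicClosure k) (P := @Smooth) P' (smooth_bc (AlgebraicClosure k))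
  refine ⟨inferInstance, inferInstance, hs', fun s => ?_⟩
  have hs := h4 s
  obtain ⟨alg, halg, hσ⟩ := exists_geomPt_eq s
  obtain ⟨g1, g2, g3⟩ := bc_props (K := AlgebraicClosure ((Spec (CommRingCat.of k)).residueField s)) G
  obtain ⟨q1, q2, q3⟩ := bc_props (K := AlgebraicClosure ((Spec (CommRingCat.of k)).residueField s)) Q
  revert hs
  show Red.IsParabolicOver _ ((Over.pullback (Red.geomPt s)).map iP) →
    Red.IsParabolicOver _ ((Over.pullback (Red.geomPt s)).map iP')
  rw [hσ]
  intro hs
  haveI := g1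
  haveI := g2
  haveI := g3
  haveI := q1
  haveI := q2
  haveI := q3
  let σ := extBase k (AlgebraicClosure ((Spec (CommRingCat.of k)).residueField s))
  haveI : Surjective ((Over.pullback σ).map q).left := bc_map_left_of (P := @Surjective) σ q inferInstance
  haveI : IsClosedImmersion ((Over.pullback σ).map iP').left :=
    bc_map_left_of (P := @IsClosedImmersion) σ iP' inferInstance
  haveI : Smooth (Red.bc σ P').hom := bc_hom_of (P := @Smooth) σ P' inferInstance
  exact isParabolicOver_image ((Over.pullback σ).map q) hs _ ((Over.pullback σ).map p)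
    (by rw [← Functor.map_comp, ← Functor.map_comp, hp])

end Groth.Agent.H1.Classical.ParabolicImage
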