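import Groth.Agent.H1.Classical.Rigid
import Groth.Agent.Lib.Lim.AffineSpaceClosed
import Groth.Agent.Lib.GrpSch.Translate

/-!
# The quotient by a Borel subgroup is proper
-/

universe u

open CategoryTheory MonoidalCategory CartesianMonoidalCategory MonObj AlgebraicGeometry

namespace Groth.Agent.H1.Classical.Scheme'

set_option linter.style.haveILetI false
set_option linter.unusedSectionVars false

open Groth.Agent.Lib.RedPts.Points WithConv TensorProduct Groth.Agent.Lib.GrpSch

attribute [local instance] baseAlgebra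

variable {k : Type u} [Field k]

section Separated

variable {G B X : Over (Spec (CommRingCat.of k))} [GrpObj G]

/-- The pullback of the diagonal of a quotient. -/
theorem isPullback_diagonal (i : B ⟶ G) (π : G ⟶ X)
    (h : IsPullback (fst G B) ((G ◁ i) ≫ μ[G]) π π) :
    IsPullback ((G ◁ i) ≫ (shear (regularAction G)).hom) (fst G B ≫ π) (π ⊗ₘ π) (lift (𝟙 X) (𝟙 X)) := by
  have hw : ((G ◁ i) ≫ (shear (regularAction G)).hom) ≫ (π ⊗ₘ π) = (fst G B ≫ π) ≫ lift (𝟙 X) (𝟙 X) := by
    apply CartesianMonoidalCategory.hom_ext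
    · simp [regularAction]
    · simp only [Category.assoc, tensorHom_snd, lift_snd, Category.comp_id]
      rw [shear_hom_snd_assoc]
      exact (Category.assoc _ _ _).symm.trans h.w.symm
  refine IsPullback.of_isLimit (Limits.PullbackCone.IsLimit.mk hw
    (fun s => h.lift (s.fst ≫ fst G G) (s.fst ≫ snd G G) ?_) ?_ ?_ ?_)
  · have h1 := congrArg (· ≫ fst X X) s.condition
    have h2 := congrArg (· ≫ snd X X) s.condition
    simp only [Category.assoc, tensorHom_fst, tensorHom_snd, lift_fst, lift_snd, Category.comp_id] at h1 h2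
    simp only [Category.assoc, h1, h2]
  · intro s
    apply CartesianMonoidalCategory.hom_ext
    · simp
    · simp only [Category.assoc, shear_hom_snd]
      exact h.lift_snd _ _ _
  · intro s
    have h1 := congrArg (· ≫ fst X X) s.condition
    simp only [Category.assoc, tensorHom_fst, lift_fst, Category.comp_id] at h1
    rw [IsPullback.lift_fst_assoc, Category.assoc, h1]
  · intro s m hm1 _
    apply h.hom_ext
    · rw [IsPullback.lift_fst, ← hm1]
      simp
    · rw [IsPullback.lift_snd, ← hm1]
      simp only [Category.assoc, shear_hom_snd]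
      rfl

theorem isSeparated_quotient [IsAffine G.left] [LocallyOfFiniteType G.hom] [LocallyOfFiniteType X.hom]
    (i : B ⟶ G) [IsClosedImmersion i.left] (π : G ⟶ X) [Surjective π.left] [Flat π.left]
    (h : IsPullback (fst G B) ((G ◁ i) ≫ μ[G]) π π) : IsSeparated X.hom := by
  have hsq : IsPullback ((G ◁ i) ≫ (shear (regularAction G)).hom).left (fst G B ≫ π).left (π ⊗ₘ π).left
      (lift (𝟙 X) (𝟙 X)).left := (isPullback_diagonal i π h).map (Over.forget _)
  haveI : IsClosedImmersion (G ◁ i).left := whiskerLeft_left_of (P := @IsClosedImmersion) G i ‹_›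
  haveI : IsIso (shear (regularAction G)).hom.left := ((Over.forget _).mapIso (shear (regularAction G))).isIso_hom
  have hj : UniversallyClosed ((G ◁ i) ≫ (shear (regularAction G)).hom).left := by
    haveI : IsClosedImmersion ((G ◁ i) ≫ (shear (regularAction G)).hom).left := by
      rw [Over.comp_left]; infer_instance
    infer_instance
  haveI : CompactSpace G.left := inferInstance
  haveI : QuasiCompact G.hom := inferInstance
  haveI : LocallyOfFiniteType (G ⊗ G).hom := by
    rw [← Over.w (fst G G)]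
    haveI : LocallyOfFiniteType (fst G G).left := fst_left_of (P := @LocallyOfFiniteType) G ‹_›
    infer_instance
  haveI : LocallyOfFiniteType (X ⊗ X).hom := by
    rw [← Over.w (fst X X)]
    haveI : LocallyOfFiniteType (fst X X).left := fst_left_of (P := @LocallyOfFiniteType) X ‹_›
    infer_instance
  haveI : IsLocallyNoetherian (X ⊗ X).left := LocallyOfFiniteType.isLocallyNoetherian (X ⊗ X).hom
  haveI : QuasiCompact (G ⊗ G).hom := by
    rw [← Over.w (fst G G)]
    haveI : QuasiCompact (fst G G).left := fst_left_of (P := @QuasiCompact) G ‹_›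
    infer_instance
  haveI : QuasiCompact (π ⊗ₘ π).left := by
    haveI : QuasiCompact ((π ⊗ₘ π).left ≫ (X ⊗ X).hom) := by rw [Over.w]; infer_instance
    exact QuasiCompact.of_comp (π ⊗ₘ π).left (X ⊗ X).hom
  haveI : MorphismProperty.IsStableUnderComposition @Surjective := ⟨fun f g _ _ => inferInstance⟩
  have hs : (@Surjective ⊓ @Flat ⊓ @QuasiCompact : MorphismProperty Scheme.{u}) (π ⊗ₘ π).left :=
    ⟨⟨tensorHom_left_of (P := @Surjective) π π ‹_› ‹_›, tensorHom_left_of (P := @Flat) π π ‹_› ‹_›⟩, ‹_›⟩
  have hu : UniversallyClosed (lift (𝟙 X) (𝟙 X)).left :=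
    MorphismProperty.DescendsAlong.of_isPullback (P := @UniversallyClosed) (Q := @Surjective ⊓ @Flat ⊓ @QuasiCompact)
      hsq hs hj
  exact ⟨IsClosedImmersion.of_isPreimmersion (Limits.pullback.diagonal X.hom)
    (Scheme.Hom.isClosedMap (lift (𝟙 X) (𝟙 X)).left).isClosed_range⟩

end Separated

variable [IsAlgClosed k]

section Closed

variable {A : Type u} [CommRing A] [HopfAlgebra k A] [Algebra.FiniteType k A] [IsDomain A]

theorem ptHom_left (χ : HopfPts.Pt k A) :
    (ptHom (A := A) (𝟙_ (Over (Spec (CommRingCat.of k)))) χ).left =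
      Spec.map (CommRingCat.ofHom χ.ofConv.toRingHom) := by
  refine (eq_toSpecΓ _).trans ?_
  show (Spec (CommRingCat.of k)).toSpecΓ ≫ _ = _
  rw [← SpecMap_ΓSpecIso_hom, ← Spec.map_comp]
  refine congrArg Spec.map (CommRingCat.hom_ext (RingHom.ext fun a => ?_))
  show (Scheme.ΓSpecIso (CommRingCat.of k)).hom (algHomOf (ptHom (𝟙_ (Over (Spec (CommRingCat.of k)))) χ) a) = χ.ofConv a
  rw [algHomOf_ptHom]
  show (Scheme.ΓSpecIso (CommRingCat.of k)).hom
    (((Scheme.ΓSpecIso (CommRingCat.of k)).inv ≫ (𝟙 (Spec (CommRingCat.of k)) : _ ⟶ _).appTop) (χ.ofConv a)) = _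
  simp

variable {X : Over (Spec (CommRingCat.of k))}

open MvPolynomial in
/-- The projections from the quotient are closed, on affine parameter spaces. -/
theorem isClosedMap_quotient [LocallyOfFiniteType X.hom] [QuasiCompact X.hom] (π : GA k A ⟶ X) [Surjective π.left]
    (S : Subgroup (HopfPts.Pt k A)) (hS : Image.IsMax (HopfPts.D k A) S)
    (hπ : ∀ g, ∀ s ∈ S, ptHom (𝟙_ (Over (Spec (CommRingCat.of k)))) (g * s) ≫ π = ptHom _ g ≫ π) (n : ℕ) :
    IsClosedMap (Limits.pullback.snd X.hom
      (Spec.map (CommRingCat.ofHom (algebraMap k (MvPolynomial (ULift.{u} (Fin n)) k))))) := by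
  intro Z hZ
  let R0 := MvPolynomial (ULift.{u} (Fin n)) k
  let R1 := MvPolynomial (ULift.{u} (Fin n)) A
  let t : Spec (CommRingCat.of R0) ⟶ Spec (CommRingCat.of k) := Spec.map (CommRingCat.ofHom (algebraMap k R0))
  let cA : Spec (CommRingCat.of R1) ⟶ Spec (CommRingCat.of A) :=
    Spec.map (CommRingCat.ofHom (MvPolynomial.C : A →+* R1))
  let c0 : Spec (CommRingCat.of R1) ⟶ Spec (CommRingCat.of R0) :=
    Spec.map (CommRingCat.ofHom (MvPolynomial.map (algebraMap k A)))
  let πl : Spec (CommRingCat.of A) ⟶ X.left := π.left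
  have hπl : πl ≫ X.hom = Spec.map (CommRingCat.ofHom (algebraMap k A)) := Over.w π
  have hw : (cA ≫ πl) ≫ X.hom = c0 ≫ t := by
    rw [Category.assoc, hπl]
    show cA ≫ Spec.map _ = c0 ≫ Spec.map _
    rw [← Spec.map_comp, ← Spec.map_comp]
    refine congrArg Spec.map (CommRingCat.hom_ext (RingHom.ext fun r => ?_))
    show MvPolynomial.C (algebraMap k A r) = MvPolynomial.map (algebraMap k A) (algebraMap k R0 r)
    rw [MvPolynomial.algebraMap_eq, map_C]
  let m : Spec (CommRingCat.of R1) ⟶ Limits.pullback X.hom t := Limits.pullback.lift (cA ≫ πl) c0 hw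
  obtain ⟨I, hI⟩ := (PrimeSpectrum.isClosed_iff_zeroLocus_ideal _).mp (hZ.preimage m.continuous)
  -- points
  let θ : HopfPts.Pt k A → (ULift.{u} (Fin n) → k) → (R1 →+* k) := fun χ y =>
    eval₂Hom χ.ofConv.toRingHom y
  let pnt : HopfPts.Pt k A → (ULift.{u} (Fin n) → k) → Spec (CommRingCat.of R1) := fun χ y =>
    Spec.map (CommRingCat.ofHom (θ χ y)) (IsLocalRing.closedPoint k)
  have hpnt : ∀ χ y, pnt χ y ∈ m ⁻¹' Z ↔ ∀ F ∈ I, θ χ y F = 0 := by
    intro χ y
    rw [hI]
    show (I : Set R1) ⊆ (Ideal.comap (θ χ y) (IsLocalRing.maximalIdeal k)) ↔ _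
    rw [IsLocalRing.maximalIdeal_eq_bot, Set.subset_def]
    simp only [SetLike.mem_coe, Ideal.mem_comap, Ideal.mem_bot]
  have hsnd : ∀ χ y, Limits.pullback.snd X.hom t (m (pnt χ y)) =
      Spec.map (CommRingCat.ofHom (eval y : R0 →+* k)) (IsLocalRing.closedPoint k) := by
    intro χ y
    show (m ≫ Limits.pullback.snd X.hom t) (Spec.map _ _) = _
    rw [Limits.pullback.lift_snd]
    change (Spec.map (CommRingCat.ofHom (θ χ y)) ≫ c0) _ = _
    rw [← Spec.map_comp]
    refine congrArg (fun f : CommRingCat.of R0 ⟶ CommRingCat.of k => Spec.map f (IsLocalRing.closedPoint k)) (CommRingCat.hom_ext ?_)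
    refine MvPolynomial.ringHom_ext (fun c => ?_) fun i => ?_
    · show θ χ y (MvPolynomial.map (algebraMap k A) (C c)) = eval y (C c)
      rw [map_C, eval_C]
      exact (eval₂Hom_C _ _ _).trans (χ.ofConv.commutes c)
    · show θ χ y (MvPolynomial.map (algebraMap k A) (MvPolynomial.X i)) = eval y (MvPolynomial.X i)
      rw [map_X, eval_X]
      exact eval₂Hom_X' _ _ _
  let Cs : Set (HopfPts.Pt k A × (Fin n → k)) := {q | ∀ F ∈ I, θ q.1 (q.2 ∘ ULift.down) F = 0}
  have hCs : Open.PairCl (HopfPts.D k A) Cs := by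
    intro q hq F hF
    let rr : A →+* (HopfPts.D k A).R := (HopfPts.ev k A).rangeRestrict.toRingHom
    have key : ∀ c : HopfPts.Pt k A × (Fin n → k),
        Open.pev (HopfPts.D k A) c.1 c.2 (rename ULift.down (map rr F)) =
          θ c.1 (c.2 ∘ ULift.down) F := by
      intro c
      show eval c.2 (map _ (rename _ (map _ F))) = _
      rw [map_rename, eval_rename, MvPolynomial.map_map, eval_map]
      rfl
    rw [← key]
    exact hq _ fun c hc => (key c).trans (hc F hF)
  have hCinv : ∀ g y, (g, y) ∈ Cs → ∀ b ∈ S, (g * b, y) ∈ Cs := by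
    intro g y hg b hb
    show ∀ F ∈ I, θ (g * b) (y ∘ ULift.down) F = 0
    rw [← hpnt, Set.mem_preimage]
    have h1 : m (pnt g (y ∘ ULift.down)) ∈ Z := (hpnt g _).mpr hg
    have h2 : Spec.map (CommRingCat.ofHom (θ (g * b) (y ∘ ULift.down))) ≫ m =
        Spec.map (CommRingCat.ofHom (θ g (y ∘ ULift.down))) ≫ m := by
      have hA : ∀ χ : HopfPts.Pt k A, Spec.map (CommRingCat.ofHom (θ χ (y ∘ ULift.down))) ≫ cA =
          (ptHom (A := A) (𝟙_ (Over (Spec (CommRingCat.of k)))) χ).left := fun χ => by
        rw [ptHom_left, ← Spec.map_comp]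
        exact congrArg Spec.map (CommRingCat.hom_ext (RingHom.ext fun a => eval₂Hom_C _ _ _))
      apply Limits.pullback.hom_ext
      · simp only [Category.assoc, m, Limits.pullback.lift_fst]
        rw [← Category.assoc, hA, ← Category.assoc, hA]
        exact congrArg CommaMorphism.left (hπ g b hb)
      · simp only [Category.assoc, m, Limits.pullback.lift_snd, c0, ← Spec.map_comp]
        refine congrArg Spec.map (CommRingCat.hom_ext (MvPolynomial.ringHom_ext (fun c => ?_) fun i => ?_))
        · show θ (g * b) _ (MvPolynomial.map (algebraMap k A) (C c)) = θ g _ (MvPolynomial.map (algebraMap k A) (C c))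
          rw [map_C]
          exact (eval₂Hom_C _ _ _).trans (((g * b).ofConv.commutes c).trans
            ((g.ofConv.commutes c).symm.trans (eval₂Hom_C _ _ _).symm))
        · show θ (g * b) _ (MvPolynomial.map (algebraMap k A) (MvPolynomial.X i)) =
            θ g _ (MvPolynomial.map (algebraMap k A) (MvPolynomial.X i))
          rw [map_X]
          exact (eval₂Hom_X' _ _ _).trans (eval₂Hom_X' _ _ _).symm
    show (Spec.map (CommRingCat.ofHom (θ (g * b) (y ∘ ULift.down))) ≫ m) (IsLocalRing.closedPoint k) ∈ Z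
    rw [h2]
    exact h1
  have hY0 := complete_of_isMax hS (Fin n) Cs hCs hCinv
  let J : Set R0 := {p | ∀ y ∈ {y | ∃ g, (g, y) ∈ Cs}, eval (y ∘ ULift.down) p = 0}
  -- closed points of the image
  have hclosed : ∀ c : Spec (CommRingCat.of R0), IsClosed ({c} : Set (Spec (CommRingCat.of R0))) →
      (c ∈ Limits.pullback.snd X.hom t '' Z ↔ c ∈ PrimeSpectrum.zeroLocus J) := by
    intro c hc
    obtain ⟨y, hy⟩ := MvPolynomial.isMaximal_iff_eq_vanishingIdeal_singleton.mp
      ((PrimeSpectrum.isClosed_singleton_iff_isMaximal c).mp hc)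
    have hcy : c = Spec.map (CommRingCat.ofHom (eval y : R0 →+* k)) (IsLocalRing.closedPoint k) := by
      refine PrimeSpectrum.ext (hy.trans ?_)
      show _ = Ideal.comap (eval y : R0 →+* k) (IsLocalRing.maximalIdeal k)
      ext p
      rw [mem_vanishingIdeal_singleton_iff, IsLocalRing.maximalIdeal_eq_bot, Ideal.mem_comap, Ideal.mem_bot]
      rfl
    constructor
    · rintro ⟨z, hz, hzc⟩
      haveI : LocallyOfFiniteType (Spec.map (CommRingCat.ofHom (algebraMap k R0))) :=
        (HasRingHomProperty.Spec_iff (P := @LocallyOfFiniteType)).mpr (RingHom.finiteType_algebraMap.mpr inferInstance)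
      haveI : LocallyOfFiniteType t := this
      haveI : JacobsonSpace ↥(Limits.pullback X.hom t) :=
        LocallyOfFiniteType.jacobsonSpace (Limits.pullback.snd X.hom t ≫ t)
      obtain ⟨z', ⟨hz'Z, hz'c⟩, hz'cl⟩ := nonempty_inter_closedPoints
        (Z := Z ∩ Limits.pullback.snd X.hom t ⁻¹' {c}) ⟨z, hz, hzc⟩
        (hZ.inter (hc.preimage (Limits.pullback.snd X.hom t).continuous)).isLocallyClosed
      let r := pointOfClosedPoint (Limits.pullback.snd X.hom t ≫ t) z' hz'cl
      have hr : r ≫ Limits.pullback.snd X.hom t ≫ t = 𝟙 _ := pointOfClosedPoint_comp _ z' hz'cl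
      let x : 𝟙_ (Over (Spec (CommRingCat.of k))) ⟶ X :=
        Over.homMk (r ≫ Limits.pullback.fst X.hom t) (by rw [Category.assoc, Limits.pullback.condition]; exact hr)
      haveI := locallyOfFiniteType_GA (k := k) (A := A)
      obtain ⟨g', hg'⟩ := Scheme'.exists_lift_point π x
      obtain ⟨g, rfl⟩ := ptHom_surjective g'
      obtain ⟨ψ, hψ⟩ : ∃ ψ : CommRingCat.of R0 ⟶ CommRingCat.of k, Spec.map ψ = r ≫ Limits.pullback.snd X.hom t :=
        ⟨Spec.preimage _, Spec.map_preimage _⟩
      have hψk : ∀ a : k, ψ.hom (algebraMap k R0 a) = a := by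
        intro a
        have h1 : Spec.map (CommRingCat.ofHom (algebraMap k R0) ≫ ψ) = Spec.map (𝟙 _) := by
          rw [Spec.map_comp, hψ, Spec.map_id, Category.assoc]; exact hr
        exact RingHom.congr_fun (congrArg CommRingCat.Hom.hom (Spec.map_injective h1)) a
      have hψe : ψ = CommRingCat.ofHom (eval fun i => ψ.hom (MvPolynomial.X i) : R0 →+* k) := by
        refine CommRingCat.hom_ext (MvPolynomial.ringHom_ext (fun a => ?_) fun i => ?_)
        · show ψ.hom (C a) = eval _ (C a)
          rw [eval_C, ← MvPolynomial.algebraMap_eq, hψk]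
        · exact (eval_X (f := fun i => ψ.hom (MvPolynomial.X i)) i).symm
      set y' : ULift.{u} (Fin n) → k := fun i => ψ.hom (MvPolynomial.X i) with hy'
      have hrm : r = Spec.map (CommRingCat.ofHom (θ g y')) ≫ m := by
        apply Limits.pullback.hom_ext
        · simp only [Category.assoc, m, Limits.pullback.lift_fst]
          rw [← Category.assoc, ← Spec.map_comp,
            show CommRingCat.ofHom (MvPolynomial.C : A →+* R1) ≫ CommRingCat.ofHom (θ g y') =
              CommRingCat.ofHom g.ofConv.toRingHom from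
              CommRingCat.hom_ext (RingHom.ext fun a => eval₂Hom_C _ _ _), ← ptHom_left]
          exact (congrArg CommaMorphism.left hg').symm
        · simp only [Category.assoc, m, Limits.pullback.lift_snd, c0, ← Spec.map_comp]
          rw [← hψ, hψe]
          refine congrArg Spec.map (CommRingCat.hom_ext (MvPolynomial.ringHom_ext (fun a => ?_) fun i => ?_))
          · show eval y' (C a) = θ g y' (MvPolynomial.map (algebraMap k A) (C a))
            rw [map_C, eval_C]
            exact ((eval₂Hom_C _ _ _).trans (g.ofConv.commutes a)).symm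
          · show eval y' (MvPolynomial.X i) = θ g y' (MvPolynomial.map (algebraMap k A) (MvPolynomial.X i))
            rw [map_X, eval_X]
            exact (eval₂Hom_X' _ _ _).symm
      have hrz : r (IsLocalRing.closedPoint k) = z' := pointOfClosedPoint_apply _ z' hz'cl _
      have hzm : m (pnt g y') ∈ Z := by
        show (Spec.map (CommRingCat.ofHom (θ g y')) ≫ m) (IsLocalRing.closedPoint k) ∈ Z
        rw [← hrm, hrz]; exact hz'Z
      have hcy' : c = Spec.map (CommRingCat.ofHom (eval y' : R0 →+* k)) (IsLocalRing.closedPoint k) := by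
        rw [← hsnd g y']
        show c = Limits.pullback.snd X.hom t ((Spec.map (CommRingCat.ofHom (θ g y')) ≫ m) (IsLocalRing.closedPoint k))
        rw [← hrm, hrz]; exact hz'c.symm
      intro p hp
      rw [hcy']
      show p ∈ Ideal.comap (eval y' : R0 →+* k) (IsLocalRing.maximalIdeal k)
      rw [IsLocalRing.maximalIdeal_eq_bot, Ideal.mem_comap, Ideal.mem_bot]
      exact hp (y' ∘ ULift.up) ⟨g, (hpnt g y').mp hzm⟩
    · intro hcJ
      have hy' : (y ∘ ULift.up) ∈ {y | ∃ g, (g, y) ∈ Cs} := hY0 _ fun p hp => by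
        have h1 : rename ULift.up p ∈ c.asIdeal := hcJ fun y hy => by
          rw [eval_rename]; exact hp y hy
        rw [hy, mem_vanishingIdeal_singleton_iff] at h1
        have h2 : eval y (rename ULift.up p) = 0 := h1
        rwa [eval_rename] at h2
      obtain ⟨g, hg⟩ := hy'
      exact ⟨m (pnt g y), (hpnt g y).mpr hg, by rw [hsnd, hcy]⟩
  -- the image is constructible, hence closed
  haveI : LocallyOfFiniteType t :=
    (HasRingHomProperty.Spec_iff (P := @LocallyOfFiniteType)).mpr (RingHom.finiteType_algebraMap.mpr inferInstance)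
  haveI : IsLocallyNoetherian (Spec (CommRingCat.of R0)) := LocallyOfFiniteType.isLocallyNoetherian t
  haveI : JacobsonSpace ↥(Spec (CommRingCat.of R0)) := LocallyOfFiniteType.jacobsonSpace t
  haveI : QuasiCompact (Limits.pullback.snd X.hom t) := inferInstance
  haveI : LocallyOfFiniteType (Limits.pullback.snd X.hom t) := inferInstance
  haveI : IsLocallyNoetherian (Limits.pullback X.hom t) :=
    LocallyOfFiniteType.isLocallyNoetherian (Limits.pullback.snd X.hom t)
  haveI : CompactSpace ↥(Limits.pullback X.hom t) :=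
    QuasiCompact.compactSpace_of_compactSpace (Limits.pullback.snd X.hom t)
  haveI : AlgebraicGeometry.IsNoetherian (Limits.pullback X.hom t) := { }
  have hZc : Topology.IsConstructible Z :=
    ((TopologicalSpace.NoetherianSpace.isCompact Zᶜ).isConstructible hZ.isOpen_compl).of_compl
  have hYc : Topology.IsConstructible (Limits.pullback.snd X.hom t '' Z) :=
    (Limits.pullback.snd X.hom t).isConstructible_image hZc
  have hWcl : IsClosed (PrimeSpectrum.zeroLocus J : Set (Spec (CommRingCat.of R0))) :=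
    PrimeSpectrum.isClosed_zeroLocus _
  haveI : AlgebraicGeometry.IsNoetherian (Spec (CommRingCat.of R0)) := { }
  have hWc : Topology.IsConstructible (PrimeSpectrum.zeroLocus J : Set (Spec (CommRingCat.of R0))) :=
    ((TopologicalSpace.NoetherianSpace.isCompact _).isConstructible hWcl.isOpen_compl).of_compl
  have heq : Limits.pullback.snd X.hom t '' Z = PrimeSpectrum.zeroLocus J := by
    refine Set.Subset.antisymm (fun y hy => ?_) fun y hy => ?_
    · by_contra h
      obtain ⟨W, hW, hyW, hWsub⟩ := exists_isLocallyClosed_subset (hYc.inter hWc.compl) y ⟨hy, h⟩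
      obtain ⟨c, hcW, hc⟩ := nonempty_inter_closedPoints ⟨y, hyW⟩ hW
      exact (hWsub hcW).2 ((hclosed c hc).mp (hWsub hcW).1)
    · by_contra h
      obtain ⟨W, hW, hyW, hWsub⟩ := exists_isLocallyClosed_subset (hYc.compl.inter hWc) y ⟨h, hy⟩
      obtain ⟨c, hcW, hc⟩ := nonempty_inter_closedPoints ⟨y, hyW⟩ hW
      exact (hWsub hcW).1 ((hclosed c hc).mpr (hWsub hcW).2)
  show IsClosed (Limits.pullback.snd X.hom t '' Z)
  rw [heq]
  exact hWcl

end Closed

/-- The quotient by a Borel subgroup is proper. -/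
theorem isProper_quotient {G B X : Over (Spec (CommRingCat.of k))} [GrpObj G] [IsAffine G.left] [Smooth G.hom]
    [ConnectedSpace G.left] [GrpObj B] (iB : B ⟶ G) (hB : Red.IsBorelOver k iB) (a : AlgGrp.Action G X)
    (o : 𝟙_ (Over (Spec (CommRingCat.of k))) ⟶ X) (hX : AGF.IsQuotient iB X a o) : IsProper X.hom := by
  obtain ⟨hlft, hflat, hsurj, hsq⟩ := hX
  haveI := hlft
  haveI := hflat
  haveI := hsurj
  haveI := hB.2.1
  haveI : CompactSpace X.left :=
    ⟨by rw [← (a.orbitMap o).left.surjective.range_eq]; exact isCompact_range (a.orbitMap o).left.continuous⟩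
  haveI : QuasiCompact X.hom := (quasiCompact_iff_compactSpace X.hom).mpr inferInstance
  haveI := isSeparated_quotient iB (a.orbitMap o) hsq
  obtain ⟨A₁, _, _, e, he⟩ := Hopf.exists_iso G
  haveI := he
  haveI : Algebra.FiniteType k A₁ := finiteType_of_iso e
  haveI := isDomain_of_iso e
  haveI : IsIso e.inv.left := ((Over.forget _).mapIso e).isIso_inv
  haveI : Surjective (e.inv ≫ a.orbitMap o).left := by rw [Over.comp_left]; infer_instance
  haveI := hB.1
  obtain ⟨hS, -⟩ := isMax_ptsOf (iB ≫ e.hom) (isBorelOver_comp hB e)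
  have hπ : ∀ g, ∀ s ∈ ptsOf (iB ≫ e.hom),
      ptHom (𝟙_ (Over (Spec (CommRingCat.of k)))) (g * s) ≫ e.inv ≫ a.orbitMap o = ptHom _ g ≫ e.inv ≫ a.orbitMap o := by
    rintro g s ⟨x, hx⟩
    have hx' : x ≫ iB ≫ e.hom = ptHom (𝟙_ _) s := hx
    have h1 := congrArg (fun z => lift (ptHom (𝟙_ _) g ≫ e.inv) x ≫ z) hsq.w
    simp only [lift_fst_assoc, Category.assoc, lift_whiskerLeft_assoc] at h1
    rw [h1, map_mul, ← Category.assoc (ptHom _ g * ptHom _ s), MonObj.mul_comp, ← hx']
    simp only [Category.assoc, Iso.hom_inv_id, Category.comp_id]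
    rw [Hom.mul_def, Category.assoc]
  haveI : UniversallyClosed X.hom :=
    Groth.Agent.Lib.Lim.AffineSpaceClosed.universallyClosed_of_affineSpace X.hom fun n =>
      Groth.Agent.Lib.Lim.AffineSpaceClosed.isClosedMap_of_isOpenImmersion X.hom _ _
        (AffineSpace.SpecIso (ULift.{u} (Fin n)) (CommRingCat.of k)).hom
        (by rw [← Iso.eq_inv_comp]; exact (AffineSpace.SpecIso_inv_over (CommRingCat.of k)).symm)
        (isClosedMap_quotient (e.inv ≫ a.orbitMap o) _ hS hπ n)
  exact { }

end Groth.Agent.H1.Classical.Scheme'
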