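import Groth.Agent.H1.Classical.ChevalleyScheme
import Groth.Agent.H1.Classical.Torus.CartanDense
import Groth.Agent.H1.Classical.Image

/-!
# The image of the unipotent radical is the unipotent radical, on points
-/

universe u v w v' w'

namespace Groth.Agent.H1.Classical.RadImage

set_option linter.style.haveILetI false
set_option linter.unusedSectionVars false

open Module Kolchin Open Complete Torus Torus.Centraliser Torus.MaxTorus

variable {k : Type u} [Field k] [IsAlgClosed k] {Γ : Type v} [Group Γ] {D : Alg k Γ}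
  {W : Type w} [AddCommGroup W] [Module k W] [FiniteDimensional k W] {σ : Representation k Γ W}

/-- The identity component of a closed subgroup. -/
theorem exists_component_le (P : Subgroup Γ) (hP : D.IsCl P) :
    ∃ C : Subgroup Γ, C ≤ P ∧ D.IsCl C ∧ D.SIrr C ∧
      (∀ X : Set Γ, D.SIrr X → (1 : Γ) ∈ X → (∀ x ∈ X, x ∈ P) → X ⊆ C) ∧
      ∃ Q : Finset Γ, ∀ g ∈ P, ∃ q ∈ Q, q ∈ P ∧ q⁻¹ * g ∈ C := by
  classical
  obtain ⟨C0, hC0cl, hC0irr, hC0max⟩ := (D.restrict P hP).exists_component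
  obtain ⟨Q, hQ⟩ := finite_cover (D.restrict P hP) C0 hC0max
  have hCset : ((C0.map P.subtype : Subgroup Γ) : Set Γ) = Subtype.val '' (C0 : Set P) := Subgroup.coe_map _ _
  refine ⟨C0.map P.subtype, fun x hx => by obtain ⟨p, -, rfl⟩ := hx; exact p.2,
    by rw [hCset]; exact D.isCl_image hC0cl, by rw [hCset]; exact D.sirr_restrict.mp hC0irr,
    fun X hX h1 hXP x hx => ⟨⟨x, hXP x hx⟩, hC0max (Subtype.val ⁻¹' X) (D.sirr_restrict.mpr ?_) h1 hx, rfl⟩,
    Q.image Subtype.val, fun g hg => ?_⟩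
  · rwa [show Subtype.val '' (Subtype.val ⁻¹' X : Set P) = X from
      Set.Subset.antisymm (Set.image_preimage_subset _ _) fun y hy => ⟨⟨y, hXP y hy⟩, hy, rfl⟩]
  · obtain ⟨q, hq, hqg⟩ := hQ ⟨g, hg⟩
    exact ⟨q, Finset.mem_image_of_mem _ hq, q.2, _, hqg, rfl⟩

variable {Γ' : Type v'} [Group Γ'] {D' : Alg k Γ'} (r : Γ →* Γ') (hr : ∀ f ∈ D'.R, (fun g => f (r g)) ∈ D.R)
  (hsep' : ∀ x y : Γ', (∀ f ∈ D'.R, f x = f y) → x = y)
  {W' : Type w'} [AddCommGroup W'] [Module k W'] [FiniteDimensional k W'] {σ' : Representation k Γ' W'}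

include hr hsep' in
/-- A torus goes to the identity under a homomorphism with unipotent image. -/
theorem map_tor_eq_one (hσ' : GenRep.Gen D' σ') {T : Subgroup Γ} (hT : IsTor D T)
    (hnil : ∀ t ∈ T, IsNilpotent (σ' (r t) - 1)) : ∀ t ∈ T, r t = 1 := fun t ht =>
  hsep' _ _ fun f hf => sub_eq_zero.mp <| hT.dense (fun g => f (r g) - f 1)
    (sub_mem (hr f hf) (D.R.algebraMap_mem (f 1)))
    (fun s hs ⟨m, hm, hsm⟩ => by
      show f (r s) - f 1 = 0
      rw [Cartan.eq_one_of_nilp hσ'.faith hm (by rw [← map_pow, hsm, map_one]) (hnil s hs), sub_self]) t ht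

include hr hsep' in
/-- A normal connected unipotent subgroup downstairs is covered by one upstairs, inside the given preimage. -/
theorem exists_cover (hmul : HasMul D) (hmul' : HasMul D') (hσ : GenRep.Gen D σ) (hσ' : GenRep.Gen D' σ')
    (hirr : D.SIrr Set.univ) (hsurj : Function.Surjective r)
    {V' : Subgroup Γ'} (hVcl : D'.IsCl V') (hVirr : D'.SIrr V') (hVn : V'.Normal) (hVsol : Group.IsSolvable V')
    (hnil : ∀ v ∈ V', IsNilpotent (σ' v - 1)) :
    ∃ C : Subgroup Γ, D.IsCl C ∧ D.SIrr C ∧ C.Normal ∧ Group.IsSolvable C ∧ (∀ c ∈ C, IsNilpotent (σ c - 1)) ∧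
      ∀ v ∈ V', ∃ c ∈ C, r c = v := by
  classical
  -- the identity component of the preimage
  obtain ⟨N, hNP, hNcl, hNirr, hNmax, Q, hQ⟩ := exists_component_le (D := D) (V'.comap r)
    (fun g hg => hVcl fun f hf => hg ⟨_, hr _ f.2⟩ fun c hc => hf _ hc)
  have hNn : ∀ g : Γ, ∀ x ∈ N, g * x * g⁻¹ ∈ N := fun g x hx =>
    hNmax ((fun x => g * x * g⁻¹) '' N) (Alg.SIrr.image D hNirr _ _ (D.cTrans_apply g)) ⟨1, N.one_mem, by simp⟩
      (by
        rintro _ ⟨y, hy, rfl⟩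
        show r (g * y * g⁻¹) ∈ V'
        rw [map_mul, map_mul, map_inv]
        exact hVn.conj_mem _ (hNP hy) (r g)) ⟨x, hx, rfl⟩
  have hNV : ∀ v ∈ V', ∃ x ∈ N, r x = v := by
    have hTcl : D'.IsCl (N.map r) := Image.isCl_map r hr hsep' hNcl hNirr
    obtain ⟨q, -, hq⟩ := Alg.SIrr.exists_forall D' hVirr ⟨1, V'.one_mem⟩ Q
      (fun q => (fun f : D'.R => fun y => (f : Γ' → k) ((r q)⁻¹ * y)) '' (D'.vI (N.map r : Set Γ') : Set D'.R))
      (fun q _ => by rintro _ ⟨f, -, rfl⟩; exact D'.lmul _ _ f.2)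
      (fun c hc => by
        obtain ⟨g, rfl⟩ := hsurj c
        obtain ⟨q, hq, -, hqg⟩ := hQ g hc
        refine ⟨q, hq, ?_⟩
        rintro _ ⟨f, hf, rfl⟩
        exact hf _ ⟨q⁻¹ * g, hqg, by rw [map_mul, map_inv]⟩)
    have hmem : ∀ c ∈ V', (r q)⁻¹ * c ∈ N.map r := fun c hc => hTcl fun f hf => hq c hc _ ⟨f, hf, rfl⟩
    intro c hc
    have h1 : (r q)⁻¹ ∈ N.map r := by simpa using hmem 1 V'.one_mem
    have h2 := (N.map r).mul_mem ((N.map r).inv_mem h1) (hmem c hc)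
    rwa [_root_.inv_inv, mul_inv_cancel_left] at h2
  let DN := D.restrict N hNcl
  have hDN : DN.SIrr Set.univ :=
    D.sirr_restrict.mpr (by rw [Set.image_univ, Subtype.range_coe_subtype]; exact hNirr)
  let σN : Representation k N W := σ.comp N.subtype
  have hσN : GenRep.Gen DN σN := GenRep.Gen.restrict D hσ N hNcl
  have hmN : HasMul DN := hasMul_restrict D hmul N hNcl
  obtain ⟨B, hBcl, hBirr, ⟨m, hm⟩, hBabs, hBcomp⟩ := Borel.exists_borel_complete _ DN hDN σN hσN.reg rfl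
  have hBsol : Group.IsSolvable B := (Group.isSolvable_def _).mpr
    ⟨m, (Subgroup.eq_bot_iff_forall _).mpr fun a ha => Subtype.ext (hσN.faith ((hm a ha).trans (map_one σN).symm))⟩
  have hB : IsBor DN B := ⟨hBcl, hBirr, hBsol, hBabs, hBcomp hmN⟩
  -- the Borel subgroup covers
  let DV := D'.restrict V' hVcl
  have hDV : DV.SIrr Set.univ :=
    D'.sirr_restrict.mpr (by rw [Set.image_univ, Subtype.range_coe_subtype]; exact hVirr)
  let r₀ : N →* V' := (r.comp N.subtype).codRestrict V' fun x => hNP x.2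
  have hr₀ : ∀ f ∈ DV.R, (fun g => f (r₀ g)) ∈ DN.R := by
    rintro _ ⟨f, hf, rfl⟩
    exact ⟨_, hr f hf, rfl⟩
  have hsepV : ∀ x y : V', (∀ f ∈ DV.R, f x = f y) → x = y := fun x y h =>
    Subtype.ext (hsep' _ _ fun f hf => h _ ⟨f, hf, rfl⟩)
  haveI := hVsol
  have htop : Image.IsMax DV ⊤ := ⟨fun _ _ => Subgroup.mem_top _, by rwa [Subgroup.coe_top],
    Group.isSolvable_of_isSolvable_injective (Subgroup.subtype_injective (⊤ : Subgroup V')), fun _ _ _ _ => le_top⟩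
  have hBmap := Image.isMax_map r₀ hr₀ hsepV σN hσN.reg hσN.faith hmN (hasMul_restrict D' hmul' V' hVcl)
    (fun v => by obtain ⟨x, hx, hxv⟩ := hNV v v.2; exact ⟨⟨x, hx⟩, Subtype.ext hxv⟩) hDN ⟨⊤, htop⟩
    (Image.isMax_of_absorbing hBcl hBirr hBsol hBabs)
  have hBV : ∀ v ∈ V', ∃ b : N, b ∈ B ∧ r b = v := fun v hv => by
    obtain ⟨b, hb, hbv⟩ := hBmap.max ⊤ htop.solv htop.irr le_top (Subgroup.mem_top ⟨v, hv⟩)
    exact ⟨b, hb, congrArg Subtype.val hbv⟩
  obtain ⟨T, hTB, hT, -, -⟩ := exists_max hmN hσN hB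
  have hr1 : ∀ t ∈ T, r (t : Γ) = 1 :=
    map_tor_eq_one (D := DN) (r.comp N.subtype) (fun f hf => ⟨_, hr f hf, rfl⟩) hsep' hσ' hT.tor
      fun t _ => hnil _ (hNP t.2)
  -- the centraliser of a maximal torus covers
  have hCV : ∀ v ∈ V', ∃ c : N, c ∈ Subgroup.centralizer (T : Set N) ∧ r c = v := by
    let K : Subgroup N := (r.comp N.subtype).ker ⊓ B
    have hKcl : DN.IsCl K := by
      have h1 : DN.IsCl ((r.comp N.subtype).ker : Set N) := fun g hg => hsep' _ _ fun f hf => by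
        refine sub_eq_zero.mp (hg ⟨fun x => f (r (x : Γ)) - f 1,
          sub_mem ⟨_, hr f hf, rfl⟩ (DN.R.algebraMap_mem (f 1))⟩ fun c hc => ?_)
        show f (r (c : Γ)) - f 1 = 0
        rw [show r (c : Γ) = 1 from hc, sub_self]
      exact DN.isCl_inter h1 hBcl
    obtain ⟨M, hMK, hMcl, hMirr, hMmax, -⟩ := exists_component_le (D := DN) K hKcl
    haveI := hBsol
    haveI : Group.IsSolvable M :=
      Group.isSolvable_of_isSolvable_injective (Subgroup.inclusion_injective (hMK.trans inf_le_right))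
    obtain ⟨T₁, U₁, τ, hs⟩ := Split.exists_split (DN.restrict M hMcl)
      (DN.sirr_restrict.mpr (by rw [Set.image_univ, Subtype.range_coe_subtype]; exact hMirr))
      (σN.comp M.subtype) (GenRep.Gen.restrict DN hσN M hMcl)
    have hT₁ := CartanDense.isTor_split hs
    have hTM : T ≤ M := hMmax T hT.tor.irr T.one_mem fun t ht => ⟨hr1 t ht, hTB ht⟩
    obtain ⟨p, hpM, hp⟩ := conj_into_borel hmN hσN hMcl hs hT.tor hTM
    have heq : T₁.map M.subtype ≤ T.map (MulAut.conj p).toMonoidHom := (hT.map_conj p).max _ hT₁ (by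
      rintro _ ⟨t, ht, rfl⟩
      exact hp t ht)
    intro v hv
    obtain ⟨b, hb, rfl⟩ := hBV v hv
    have hbM : T.map (MulAut.conj b).toMonoidHom ≤ M := hMmax _ (IsTor.map_conj hT.tor b).irr (one_mem _) (by
      rintro _ ⟨t, ht, rfl⟩
      refine ⟨?_, B.mul_mem (B.mul_mem hb (hTB ht)) (B.inv_mem hb)⟩
      show r ((b : Γ) * t * (b : Γ)⁻¹) = 1
      rw [map_mul, map_mul, hr1 t ht, _root_.mul_one, map_inv, mul_inv_cancel])
    obtain ⟨q, hqM, hq⟩ := conj_into_borel hmN hσN hMcl hs (IsTor.map_conj hT.tor b) hbM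
    have hc : ∀ t ∈ T, p⁻¹ * q * b * t * (p⁻¹ * q * b)⁻¹ ∈ T := fun t ht => by
      have := mem_map.mp (heq (hq _ ⟨t, ht, rfl⟩))
      rw [show p⁻¹ * q * b * t * (p⁻¹ * q * b)⁻¹ = p⁻¹ * (q * (b * t * b⁻¹) * q⁻¹) * p by group]
      exact this
    have hcB : p⁻¹ * q * b ∈ B := B.mul_mem (B.mul_mem (B.inv_mem (hMK hpM).2) (hMK hqM).2) hb
    refine ⟨p⁻¹ * q * b, Subgroup.mem_centralizer_iff.mpr fun t ht =>
      (centralizes_of_mem hσN hmN hB hT hTB hcB hc t ht).symm, ?_⟩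
    have hp1 : r (p : Γ) = 1 := (hMK hpM).1
    have hq1 : r (q : Γ) = 1 := (hMK hqM).1
    simp only [Subgroup.coe_mul, Subgroup.coe_inv, map_mul, map_inv, hp1, hq1, inv_one, _root_.one_mul]
  -- its unipotent part covers
  obtain ⟨htor, -⟩ := CartanDense.subset_torus hDN hmN hσN hB hT hTB
  obtain ⟨hZcl, hZirr⟩ := sirr_centralizer hDN hmN hσN hB hT.tor
  have hZB := centralizer_le hDN hmN hσN hB hT hTB
  haveI := hBsol
  haveI : Group.IsSolvable (Subgroup.centralizer (T : Set N)) :=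
    Group.isSolvable_of_isSolvable_injective (Subgroup.inclusion_injective hZB)
  obtain ⟨T₁, U₁, τ, hs⟩ := Split.exists_split (DN.restrict _ hZcl)
    (DN.sirr_restrict.mpr (by rw [Set.image_univ, Subtype.range_coe_subtype]; exact hZirr))
    (σN.comp (Subgroup.centralizer (T : Set N)).subtype) (GenRep.Gen.restrict DN hσN _ hZcl)
  have hT₁T : T₁.map (Subgroup.centralizer (T : Set N)).subtype ≤ T :=
    htor _ (CartanDense.isTor_split hs) fun x hx => by obtain ⟨z, -, rfl⟩ := hx; exact z.2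
  let H : Subgroup N := U₁.map (Subgroup.centralizer (T : Set N)).subtype
  have hHset : (H : Set N) = Subtype.val '' (U₁ : Set (Subgroup.centralizer (T : Set N))) := Subgroup.coe_map _ _
  have hHV : ∀ v ∈ V', ∃ h : N, h ∈ H ∧ r h = v := fun v hv => by
    obtain ⟨c, hc, rfl⟩ := hCV v hv
    let z : Subgroup.centralizer (T : Set N) := ⟨c, hc⟩
    refine ⟨((τ z)⁻¹ * z : Subgroup.centralizer (T : Set N)), ⟨(τ z)⁻¹ * z, (hs.tau_ker _).mp (by
      rw [map_mul, map_inv, hs.tau_fix _ (hs.tau_mem _), inv_mul_cancel]), rfl⟩, ?_⟩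
    simp only [Subgroup.coe_mul, Subgroup.coe_inv, map_mul, map_inv]
    rw [show r (((τ z : Subgroup.centralizer (T : Set N)) : N) : Γ) = 1 from hr1 _ (hT₁T ⟨τ z, hs.tau_mem z, rfl⟩)]
    simp [z]
  obtain ⟨C₀, hC₀cl, hC₀irr, hC₀n, hC₀sol, hC₀nil, hHC⟩ := Chevalley.exists_normal_unipotent hmN hσN hB hT hTB
    (H := H) (by rw [hHset]; exact DN.sirr_restrict.mp hs.irrU)
    (fun s hs' => by obtain ⟨z, hz, rfl⟩ := hs'; exact (hs.nilp z).mpr hz)
    (fun g hg s hs' => by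
      obtain ⟨z, -, rfl⟩ := hs'
      have hTg := hT.map_conj g⁻¹
      refine centralizer_le hDN hmN hσN hB hTg (fun x hx => ?_) (Subgroup.mem_centralizer_iff.mpr fun x hx => ?_)
      · have := hg _ (mem_map.mp hx)
        simpa [_root_.mul_assoc] using this
      · have h := mem_map.mp hx
        rw [_root_.inv_inv] at h
        have hzc := Subgroup.mem_centralizer_iff.mp z.2 _ h
        show x * (g⁻¹ * (z : N) * g) = g⁻¹ * (z : N) * g * x
        calc x * (g⁻¹ * (z : N) * g) = g⁻¹ * ((g * x * g⁻¹) * (z : N)) * g := by group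
          _ = g⁻¹ * ((z : N) * (g * x * g⁻¹)) * g := by rw [hzc]
          _ = g⁻¹ * (z : N) * g * x := by group)
  -- push it to the big group
  have hC₀B : ∀ S : Subgroup N, Group.IsSolvable S → DN.SIrr S → (∀ (a : N), ∀ s ∈ S, a * s * a⁻¹ ∈ S) → S ≤ B := by
    intro S h1 h2 h3 s hs'
    obtain ⟨a, ha⟩ := hBabs S h1 h2
    have := ha (a * s * a⁻¹) (h3 a s hs')
    rwa [show a⁻¹ * (a * s * a⁻¹) * a = s by group] at this
  let C₁ : Subgroup Γ := C₀.map N.subtype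
  have hC₁set : (C₁ : Set Γ) = Subtype.val '' (C₀ : Set N) := Subgroup.coe_map _ _
  have hC₁irr : D.SIrr C₁ := by rw [hC₁set]; exact D.sirr_restrict.mp hC₀irr
  haveI := hC₀sol
  have hC₁sol : Group.IsSolvable C₁ := Group.isSolvable_of_surjective (N.subtype.subgroupMap_surjective C₀)
  haveI := hC₁sol
  have hconjB : ∀ g : Γ, ∀ x ∈ C₁, g⁻¹ * x * g ∈ B.map N.subtype := by
    intro g x hx
    let S : Subgroup Γ := C₁.map (MulAut.conj g⁻¹).toMonoidHom
    have hSN : S ≤ N := by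
      rintro _ ⟨y, ⟨z, -, rfl⟩, rfl⟩
      exact hNn g⁻¹ _ z.2
    haveI : Group.IsSolvable S := Image.solvable_conj hC₁sol g⁻¹
    have hsub : S.subgroupOf N ≤ B := hC₀B _
      (Group.isSolvable_of_isSolvable_injective (f := (Subgroup.subgroupOfEquivOfLe hSN).toMonoidHom)
        (Subgroup.subgroupOfEquivOfLe hSN).injective)
      (D.sirr_restrict.mpr (by
        rw [show Subtype.val '' ((S.subgroupOf N : Subgroup N) : Set N) = (S : Set Γ) from Set.ext fun y =>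
          ⟨fun ⟨p, hp, hpy⟩ => hpy ▸ hp, fun hy => ⟨⟨y, hSN hy⟩, hy, rfl⟩⟩]
        exact Image.sirr_conj hC₁irr g⁻¹))
      fun a s hs' => by
        obtain ⟨y, ⟨z, hz, rfl⟩, hys⟩ := hs'
        let a' : N := ⟨g * a * g⁻¹, hNn g _ a.2⟩
        refine ⟨((a' * z * a'⁻¹ : N) : Γ), ⟨_, hC₀n.conj_mem z hz a', rfl⟩, ?_⟩
        change g⁻¹ * (z : Γ) * g⁻¹⁻¹ = (s : Γ) at hys
        show g⁻¹ * ((a' * z * a'⁻¹ : N) : Γ) * g⁻¹⁻¹ = ((a * s * a⁻¹ : N) : Γ)
        simp only [Subgroup.coe_mul, Subgroup.coe_inv, ← hys, a']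
        group
    have hxS : g⁻¹ * x * g ∈ S := ⟨x, hx, by simp⟩
    exact ⟨⟨_, hSN hxS⟩, hsub hxS, rfl⟩
  obtain ⟨B₂, hB₂cl, hB₂irr, ⟨m₂, hm₂⟩, hB₂abs, hB₂comp⟩ := Borel.exists_borel_complete _ D hirr σ hσ.reg rfl
  have hB₂ : IsBor D B₂ := ⟨hB₂cl, hB₂irr, (Group.isSolvable_def _).mpr
    ⟨m₂, (Subgroup.eq_bot_iff_forall _).mpr fun a ha => Subtype.ext (hσ.faith ((hm₂ a ha).trans (map_one σ).symm))⟩,
    hB₂abs, hB₂comp hmul⟩
  haveI : Group.IsSolvable (B.map N.subtype) := Group.isSolvable_of_surjective (N.subtype.subgroupMap_surjective B)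
  obtain ⟨a, ha⟩ := hB₂abs (B.map N.subtype) inferInstance (by
    rw [Subgroup.coe_map]; exact D.sirr_restrict.mp hBirr)
  obtain ⟨T₂, hTB₂, hT₂, -, -⟩ := exists_max hmul hσ hB₂
  obtain ⟨C, hCcl, hCirr, hCn, hCsol, hCnil, hC⟩ := Chevalley.exists_normal_unipotent hmul hσ hB₂ hT₂ hTB₂
    hC₁irr (fun s hs' => by obtain ⟨z, hz, rfl⟩ := hs'; exact hC₀nil z hz)
    fun g _ s hs' => by
      have := ha _ (hconjB (g * a⁻¹) s hs')
      rwa [show a⁻¹ * ((g * a⁻¹)⁻¹ * s * (g * a⁻¹)) * a = g⁻¹ * s * g by group] at this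
  refine ⟨C, hCcl, hCirr, hCn, hCsol, hCnil, fun v hv => ?_⟩
  obtain ⟨h, hh, rfl⟩ := hHV v hv
  exact ⟨h, hC ⟨h, hHC hh, rfl⟩, rfl⟩

end Groth.Agent.H1.Classical.RadImage
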