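import Groth.Agent.H1.Classical.RadU
import Groth.Agent.H1.Obs.Solvable
import Groth.Agent.H69.NormalDescend
import Mathlib.Topology.JacobsonSpace

/-!
# Characteristic subgroups of normal subgroups
-/

universe u

open CategoryTheory MonoidalCategory CartesianMonoidalCategory MonObj GrpObj AlgebraicGeometry Limits

namespace Groth.Agent.H1.Classical.RadU

set_option linter.style.haveILetI false
set_option linter.unusedSectionVars false

open Groth.Agent.Lib.RedPts Groth.Agent.Lib.RedPts.Points Scheme' Unipotent MaxTorusApply Groth.Agent.Lib.GrpSch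
  ConjIso

attribute [local instance] baseAlgebra

variable {k : Type u} [Field k]

/-- A connected subgroup lies in an open and closed subgroup. -/
theorem exists_lift_open {G G₀ W : Over (Spec (CommRingCat.of k))} [GrpObj G] [GrpObj G₀] [GrpObj W]
    (j : G₀ ⟶ G) [IsMonHom j] [IsOpenImmersion j.left] [IsClosedImmersion j.left] (f : W ⟶ G) [IsMonHom f]
    [ConnectedSpace W.left] : ∃ f₀, f₀ ≫ j = f := by
  have hr : Set.range f.left ⊆ Set.range j.left := by
    refine (isPreconnected_range f.left.continuous).subset_isClopen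
      ⟨j.left.isClosedEmbedding.isClosed_range, j.left.isOpenEmbedding.isOpen_range⟩
      ⟨η[G].left (IsLocalRing.closedPoint k), ⟨η[W].left (IsLocalRing.closedPoint k), ?_⟩,
        η[G₀].left (IsLocalRing.closedPoint k), ?_⟩
    · rw [← Scheme.Hom.comp_apply, ← Over.comp_left, IsMonHom.one_hom]
    · rw [← Scheme.Hom.comp_apply, ← Over.comp_left, IsMonHom.one_hom]
  exact ⟨Over.homMk (IsOpenImmersion.lift j.left f.left hr) (by rw [← Over.w j, IsOpenImmersion.lift_fac_assoc, Over.w]),
    Over.OverMorphism.ext (IsOpenImmersion.lift_fac _ _ _)⟩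

variable [IsAlgClosed k]

/-- A smooth affine scheme factors through a closed subscheme containing its rational points. -/
theorem exists_factor_points {W U G : Over (Spec (CommRingCat.of k))} [Smooth W.hom] (i : U ⟶ G)
    [IsClosedImmersion i.left] (φ : W ⟶ G)
    (h : ∀ x : 𝟙_ (Over (Spec (CommRingCat.of k))) ⟶ W, ∃ y, y ≫ i = x ≫ φ) : ∃ ψ, ψ ≫ i = φ := by
  let p := pullback.fst φ i
  haveI : IsClosedImmersion p.left :=
    MorphismProperty.of_isPullback (P := @IsClosedImmersion)
      ((IsPullback.of_hasPullback φ i).map (Over.forget _)).flip ‹_›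
  haveI : JacobsonSpace W.left := LocallyOfFiniteType.jacobsonSpace W.hom
  haveI := isReduced_of_smooth_field W.hom
  haveI : Surjective p.left := by
    refine ⟨fun w => ?_⟩
    have hsub : closedPoints W.left ⊆ Set.range p.left := by
      intro z hz
      obtain ⟨x, hx⟩ := exists_point (mem_closedPoints_iff.mp hz)
      obtain ⟨y, hy⟩ := h x
      refine ⟨(pullback.lift x y hy.symm).left (IsLocalRing.closedPoint k), ?_⟩
      rw [← Scheme.Hom.comp_apply, ← Over.comp_left, pullback.lift_fst]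
      exact hx _
    have := closure_minimal hsub p.left.isClosedEmbedding.isClosed_range
    rw [closure_closedPoints] at this
    exact this (Set.mem_univ w)
  haveI : IsIso p.left := isIso_of_isClosedImmersion_of_surjective p.left
  haveI : IsIso p := by
    haveI : IsIso ((Over.forget _).map p) := ‹IsIso p.left›
    exact isIso_of_reflects_iso p (Over.forget _)
  exact ⟨CategoryTheory.inv p ≫ pullback.snd φ i, by rw [Category.assoc, ← pullback.condition, IsIso.inv_hom_id_assoc]⟩

variable {G : Over (Spec (CommRingCat.of k))} [GrpObj G] [Smooth G.hom]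

/-- Normality may be tested on rational points. -/
theorem isNormalHom_of_pts {U : Over (Spec (CommRingCat.of k))} [GrpObj U] [Smooth U.hom] (i : U ⟶ G)
    [IsClosedImmersion i.left] (h : IsNormalPts i) : AlgGrp.IsNormalHom i := by
  haveI : Smooth (G ⊗ U).hom := inferInstanceAs (Smooth (Limits.pullback.fst G.hom U.hom ≫ G.hom))
  let Φ : G ⊗ U ⟶ G := fst G U * (snd G U ≫ i) * (fst G U)⁻¹
  obtain ⟨Φ', hΦ'⟩ := exists_factor_points i Φ fun x => by
    obtain ⟨y, hy⟩ := h (x ≫ fst G U) (x ≫ snd G U)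
    refine ⟨y, ?_⟩
    rw [← hy]
    simp [Φ, MonObj.comp_mul, GrpObj.comp_inv]
  intro X g n
  refine ⟨lift g n ≫ Φ', ?_⟩
  rw [Category.assoc, hΦ']
  simp [Φ, MonObj.comp_mul, GrpObj.comp_inv]

variable {N N₀ R : Over (Spec (CommRingCat.of k))} [GrpObj N] [GrpObj N₀] [GrpObj R]

/-- A largest subgroup of a connected normal subgroup is normal in the whole group. -/
theorem normalPts_char (j : N ⟶ G) [IsMonHom j] [IsClosedImmersion j.left] (hN : AlgGrp.IsNormalHom j)
    (ε : N₀ ⟶ N) [IsMonHom ε] [IsOpenImmersion ε.left] [IsClosedImmersion ε.left] [ConnectedSpace N₀.left]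
    (r : R ⟶ N₀) [IsMonHom r] [IsClosedImmersion r.left] (hr : IsNormalPts r)
    (hmax : ∀ (f : R ⟶ N₀) [IsMonHom f] [IsClosedImmersion f.left], IsNormalPts f → ∃ f', f' ≫ r = f) :
    IsNormalPts (r ≫ ε ≫ j) := by
  haveI : IsClosedImmersion (ε ≫ j).left := by rw [Over.comp_left]; infer_instance
  haveI : Mono (ε ≫ j) := Over.mono_of_mono_left _
  haveI : Mono j := Over.mono_of_mono_left _
  have hσ : ∀ g : 𝟙_ (Over (Spec (CommRingCat.of k))) ⟶ G, ∃ σ : N₀ ⟶ N₀, IsMonHom σ ∧
      σ ≫ ε ≫ j = AGF.conjBy g (ε ≫ j) := fun g => by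
    obtain ⟨n, hn⟩ := hN N₀ (toUnit N₀ ≫ g) ε
    have hn' : n ≫ j = (ε ≫ j) ≫ (conjIso g).hom := by rw [comp_conjIso, ← hn]
    haveI : IsMonHom (n ≫ j) := hn'.symm ▸ inferInstance
    haveI : IsMonHom n := CentralizerBorel.isMonHom_of_mono_comp n j
    obtain ⟨σ, hσ⟩ := exists_lift_open ε n
    have hσ' : σ ≫ ε ≫ j = (ε ≫ j) ≫ (conjIso g).hom := by rw [← Category.assoc, hσ, hn']
    haveI : IsMonHom (σ ≫ ε ≫ j) := hσ'.symm ▸ inferInstance
    exact ⟨σ, CentralizerBorel.isMonHom_of_mono_comp σ (ε ≫ j), hσ'.trans (comp_conjIso _ _)⟩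
  intro g w
  obtain ⟨σ, hσm, hσe⟩ := hσ g
  obtain ⟨τ, hτm, hτe⟩ := hσ g⁻¹
  haveI := hσm
  haveI := hτm
  have hστ : ∀ x : 𝟙_ (Over (Spec (CommRingCat.of k))) ⟶ N₀, (x ≫ τ) ≫ σ = x := fun x => by
    rw [← cancel_mono (ε ≫ j), Category.assoc, hσe, conj_point, Category.assoc, hτe, conj_point]
    group
  haveI : IsClosedImmersion (σ.left ≫ (ε ≫ j).left) := by
    haveI : IsIso (conjIso g).hom.left := ((Over.forget _).mapIso (conjIso g)).isIso_hom
    rw [← Over.comp_left, hσe, ← comp_conjIso, Over.comp_left]; infer_instance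
  haveI : IsClosedImmersion σ.left := IsClosedImmersion.of_comp σ.left (ε ≫ j).left
  haveI : IsClosedImmersion (r ≫ σ).left := by rw [Over.comp_left]; infer_instance
  obtain ⟨f', hf'⟩ := hmax (r ≫ σ) fun x v => by
    obtain ⟨v', hv'⟩ := hr (x ≫ τ) v
    refine ⟨v', ?_⟩
    rw [← Category.assoc v', ← hv', MonObj.mul_comp, MonObj.mul_comp, GrpObj.inv_comp, hστ, Category.assoc]
  refine ⟨w ≫ f', ?_⟩
  rw [Category.assoc, reassoc_of% hf', hσe, ← Category.assoc w r (AGF.conjBy g (ε ≫ j)), conj_point]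
  simp only [Category.assoc]

end Groth.Agent.H1.Classical.RadU
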