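import Groth.Agent.H1.Classical.Words
import Groth.Agent.H1.Classical.Smooth
import Groth.Agent.H1.RInv
import Groth.Agent.H1.Hopf
import Groth.Agent.H1.GrpIrred
import Groth.Agent.Lib.RedPts.Points
import Groth.Prelude.Def_AGF
import Mathlib.RingTheory.HopfAlgebra.Quotient

/-!
# Closed subgroups of points and subgroup schemes; Borel subgroups of affine group schemes
-/

universe u

open CategoryTheory MonoidalCategory CartesianMonoidalCategory MonObj GrpObj AlgebraicGeometry

namespace Groth.Agent.H1.Classical.Scheme'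

set_option linter.style.haveILetI false
set_option linter.unusedSectionVars false

open Groth.Agent.Lib.RedPts.Points WithConv TensorProduct

attribute [local instance] baseAlgebra

variable {k : Type u} [Field k] {A : Type u} [CommRing A] [HopfAlgebra k A]

variable (k A) in
/-- The group scheme. -/
noncomputable abbrev GA : Over (Spec (CommRingCat.of k)) := (Spec (CommRingCat.of A)).asOver (Spec (CommRingCat.of k))

instance : IsAffine (GA k A).left := inferInstanceAs (IsAffine (Spec (CommRingCat.of A)))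

/-- Constant points with values in any scheme. -/
noncomputable def ptHom (W : Over (Spec (CommRingCat.of k))) : HopfPts.Pt k A →* (W ⟶ GA k A) :=
  MonoidHom.mk' (fun χ => pointOf ((Algebra.ofId k Γ(W.left, ⊤)).comp χ.ofConv)) fun χ χ' => by
    rw [pointOf_mul, AlgHom.comp_convMul_distrib]

theorem algHomOf_ptHom {W : Over (Spec (CommRingCat.of k))} (χ : HopfPts.Pt k A) (a : A) :
    algHomOf (ptHom W χ) a = algebraMap k Γ(W.left, ⊤) (χ.ofConv a) := by
  show algHomOf (pointOf _) a = _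
  rw [algHomOf_pointOf]
  rfl

theorem baseHom_bijective : Function.Bijective (baseHom (𝟙_ (Over (Spec (CommRingCat.of k))))) := by
  have : baseHom (𝟙_ (Over (Spec (CommRingCat.of k)))) =
      (Scheme.ΓSpecIso (CommRingCat.of k)).inv.hom := by
    show ((Scheme.ΓSpecIso (CommRingCat.of k)).inv ≫ (𝟙 (Spec (CommRingCat.of k)) : _ ⟶ _).appTop).hom = _
    simp
  rw [this]
  exact ConcreteCategory.bijective_of_isIso (Scheme.ΓSpecIso (CommRingCat.of k)).inv

theorem ptHom_injective :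
    Function.Injective (ptHom (A := A) (𝟙_ (Over (Spec (CommRingCat.of k))))) := fun χ χ' h =>
  ofConv_injective (AlgHom.ext fun a => baseHom_bijective.1 (by
    have := congrArg (fun g => algHomOf g a) h
    simp only [algHomOf_ptHom] at this
    exact this))

theorem ptHom_surjective :
    Function.Surjective (ptHom (A := A) (𝟙_ (Over (Spec (CommRingCat.of k))))) := fun x => by
  let e := AlgEquiv.ofBijective (Algebra.ofId k Γ((𝟙_ (Over (Spec (CommRingCat.of k)))).left, ⊤))
    baseHom_bijective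
  refine ⟨toConv (e.symm.toAlgHom.comp (algHomOf x)), algHomOf_injective (AlgHom.ext fun a => ?_)⟩
  rw [algHomOf_ptHom]
  exact e.apply_symm_apply _

/-- Composition with a homomorphism, on points. -/
noncomputable def postcomp {H G : Over (Spec (CommRingCat.of k))} [GrpObj H] [GrpObj G] (i : H ⟶ G) [IsMonHom i]
    (W : Over (Spec (CommRingCat.of k))) : (W ⟶ H) →* (W ⟶ G) :=
  MonoidHom.mk' (fun x => x ≫ i) fun _ _ => MonObj.mul_comp _ _ i

section SpecHom

variable {A' : Type u} [CommRing A'] [HopfAlgebra k A'] (f : A →ₐc[k] A')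

/-- The homomorphism of group schemes of a map of Hopf algebras. -/
noncomputable def specHom : GA k A' ⟶ GA k A :=
  ((hopfSpec (CommRingCat.of k)).map (CommHopfAlgCat.ofHom f).op).hom.hom

instance isMonHom_specHom : IsMonHom (specHom f) :=
  ((hopfSpec (CommRingCat.of k)).map (CommHopfAlgCat.ofHom f).op).hom.isMonHom_hom

theorem specHom_left : (specHom f).left = Spec.map (CommRingCat.ofHom (f : A →+* A')) := rfl

theorem isClosedImmersion_specHom (hf : Function.Surjective f) : IsClosedImmersion (specHom f).left := by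
  rw [specHom_left]
  exact IsClosedImmersion.spec_of_surjective _ hf

theorem algHomOf_specHom {W : Over (Spec (CommRingCat.of k))} (x : W ⟶ GA k A') (a : A) :
    algHomOf (x ≫ specHom f) a = algHomOf x (f a) := by
  show ((Scheme.ΓSpecIso (CommRingCat.of A)).inv ≫ (x ≫ specHom f).left.appTop).hom a =
    ((Scheme.ΓSpecIso (CommRingCat.of A')).inv ≫ x.left.appTop).hom (f a)
  have h : (Scheme.ΓSpecIso (CommRingCat.of A)).inv ≫ (x ≫ specHom f).left.appTop =
      CommRingCat.ofHom (f : A →+* A') ≫ (Scheme.ΓSpecIso (CommRingCat.of A')).inv ≫ x.left.appTop := by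
    rw [Over.comp_left, Scheme.Hom.comp_appTop, specHom_left]
    exact (Scheme.ΓSpecIso_inv_naturality_assoc (CommRingCat.ofHom (f : A →+* A')) _).symm
  rw [h]
  rfl

noncomputable instance grpObjMk : GrpObj (Over.mk (Spec.map (CommRingCat.ofHom (algebraMap k A')))) :=
  inferInstanceAs (GrpObj (GA k A'))

theorem smooth_GA [IsAlgClosed k] [Algebra.FiniteType k A'] [_root_.IsReduced A'] : Smooth (GA k A').hom := by
  haveI : LocallyOfFiniteType (Spec.map (CommRingCat.ofHom (algebraMap k A'))) :=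
    (HasRingHomProperty.Spec_iff (P := @LocallyOfFiniteType)).mpr
      (RingHom.finiteType_algebraMap.mpr inferInstance)
  exact Smooth.smooth_of_isReduced (Spec.map (CommRingCat.ofHom (algebraMap k A')))

/-- Solvability on points gives solvability of the group scheme. -/
theorem isSolvableGrp_GA (hsep : ∀ m : A', (∀ χ : A' →ₐ[k] k, χ m = 0) → m = 0)
    (hsol : Group.IsSolvable (HopfPts.Pt k A')) : Red.IsSolvableGrp (GA k A') := by
  obtain ⟨n, hn⟩ := (Group.isSolvable_def _).mp hsol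
  refine ⟨n, fun X => ?_⟩
  have h0 := Words.derivedSeries_eq_bot (A := A') hsep n hn Γ(X.left, ⊤)
  let p : WithConv (A' →ₐ[k] Γ(X.left, ⊤)) →* (X ⟶ GA k A') :=
    MonoidHom.mk' (fun φ => pointOf φ.ofConv) fun φ ψ => by rw [pointOf_mul, toConv_ofConv, toConv_ofConv]
  have hp : Function.Surjective p := fun x => ⟨toConv (algHomOf x), pointOf_algHomOf x⟩
  rw [← map_derivedSeries_eq hp n, h0, Subgroup.map_bot]

end SpecHom

variable [Algebra.FiniteType k A]

/-- The vanishing ideal in the coordinate ring. -/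
noncomputable def ideal (S : Set (HopfPts.Pt k A)) : Ideal A where
  carrier := {a | ∀ s ∈ S, s.ofConv a = 0}
  add_mem' := fun {a b} ha hb s hs => by rw [map_add, ha s hs, hb s hs, add_zero]
  zero_mem' := fun s _ => map_zero s.ofConv
  smul_mem' := fun c a ha s hs => by rw [smul_eq_mul, map_mul, ha s hs, mul_zero]

theorem mem_ideal {S : Set (HopfPts.Pt k A)} {a : A} : a ∈ ideal S ↔ ∀ s ∈ S, s.ofConv a = 0 := Iff.rfl

theorem mem_of_isCl {S : Set (HopfPts.Pt k A)} (hS : (HopfPts.D k A).IsCl S) {g : HopfPts.Pt k A}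
    (h : ∀ a ∈ ideal S, g.ofConv a = 0) : g ∈ S :=
  hS fun f hf => by
    obtain ⟨_, a, rfl⟩ := f
    exact h a fun s hs => hf s hs

variable [IsAlgClosed k]

/-- The subgroup scheme of a closed irreducible solvable group of points. -/
theorem exists_subgroup (S : Subgroup (HopfPts.Pt k A)) (hcl : (HopfPts.D k A).IsCl S)
    (hirr : (HopfPts.D k A).SIrr S) [Group.IsSolvable S] :
    ∃ (C : Over (Spec (CommRingCat.of k))) (_ : GrpObj C) (c : C ⟶ GA k A),
      IsMonHom c ∧ IsClosedImmersion c.left ∧ Smooth C.hom ∧ ConnectedSpace C.left ∧ Red.IsSolvableGrp C ∧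
      (∀ (W : Over (Spec (CommRingCat.of k))) (f : W ⟶ GA k A),
        (∀ a ∈ ideal (S : Set (HopfPts.Pt k A)), algHomOf f a = 0) → ∃ f' : W ⟶ C, f' ≫ c = f) ∧
      ∀ x : 𝟙_ (Over (Spec (CommRingCat.of k))) ⟶ C, ∃ s ∈ S, x ≫ c = ptHom _ s := by
  set J := ideal (S : Set (HopfPts.Pt k A)) with hJ
  have hkill : ∀ s : HopfPts.Pt k A, s ∈ S → ∀ a ∈ J, s.ofConv a = 0 := fun s hs a ha => ha s hs
  let lift : S → (A ⧸ J →ₐ[k] k) := fun s => Ideal.Quotient.liftₐ J (s : HopfPts.Pt k A).ofConv (hkill s s.2)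
  have hsep : ∀ m : A ⧸ J, (∀ s : S, lift s m = 0) → m = 0 := by
    intro m h
    obtain ⟨a, rfl⟩ := Ideal.Quotient.mk_surjective m
    exact Ideal.Quotient.eq_zero_iff_mem.mpr fun s hs => h ⟨s, hs⟩
  haveI : (J.restrictScalars k).IsCoideal :=
    { counit_eq_zero := fun a ha => by
        have := hkill 1 S.one_mem a ha
        simpa using this
      map_mkQ_comul_eq_zero := fun a ha => by
        refine Words.tensor_eq_zero (fun s : S => (lift s).toLinearMap) (fun s : S => (lift s).toLinearMap)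
          hsep hsep _ fun x y => ?_
        have h := hkill (x * y : S) (x * y).2 a ha
        rw [Subgroup.coe_mul] at h
        change ((x : HopfPts.Pt k A) * y) a = 0 at h
        rw [AlgHom.convMul_apply] at h
        rw [← h]
        exact LinearMap.congr_fun (f := (TensorProduct.lid k k).toLinearMap ∘ₗ
            TensorProduct.map (lift x).toLinearMap (lift y).toLinearMap ∘ₗ
              TensorProduct.map (J.restrictScalars k).mkQ (J.restrictScalars k).mkQ)
          (g := (Algebra.TensorProduct.lift (x : HopfPts.Pt k A).ofConv (y : HopfPts.Pt k A).ofConv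
            (fun _ _ => .all ..)).toLinearMap)
          (TensorProduct.ext' fun p q => rfl) _ }
  haveI : J.IsHopfIdeal k :=
    { antipode_mem := fun a ha s hs => by
        rw [HopfPts.apply_antipode]
        exact hkill _ (S.inv_mem hs) a ha }
  haveI : Algebra.FiniteType k (A ⧸ J) :=
    Algebra.FiniteType.of_surjective (Ideal.Quotient.mkₐ k J) Ideal.Quotient.mk_surjective
  haveI : IsDomain (A ⧸ J) := by
    haveI : J.IsPrime := by
      refine ⟨fun h => one_ne_zero ((hkill 1 S.one_mem 1 (by rw [h]; trivial)).symm.trans (map_one _)).symm, ?_⟩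
      intro a b hab
      exact hirr ⟨_, a, rfl⟩ ⟨_, b, rfl⟩ (fun s hs => by
        show s.ofConv a * s.ofConv b = 0
        rw [← map_mul]; exact hkill s hs _ hab)
    exact Ideal.Quotient.isDomain J
  have hsurj : Function.Surjective (Bialgebra.Quotient.mkBialgHom (R := k) J) := Ideal.Quotient.mk_surjective
  haveI : AlgebraicGeometry.IsIntegral (GA k (A ⧸ J)).left :=
    inferInstanceAs (AlgebraicGeometry.IsIntegral (Spec (CommRingCat.of (A ⧸ J))))
  refine ⟨GA k (A ⧸ J), inferInstance, specHom (Bialgebra.Quotient.mkBialgHom (R := k) J), inferInstance,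
    isClosedImmersion_specHom _ hsurj, smooth_GA, inferInstance, ?_, fun W f hf => ?_, fun x => ?_⟩
  · -- solvable
    let r : HopfPts.Pt k (A ⧸ J) →* HopfPts.Pt k A :=
      MonoidHom.mk' (fun χ => toConv (χ.ofConv.comp (Bialgebra.Quotient.mkBialgHom (R := k) J : A →ₐ[k] A ⧸ J)))
        fun χ χ' => ofConv_injective (AlgHom.convMul_comp_bialgHom_distrib χ χ' _)
    have hr : ∀ χ, r χ ∈ S := fun χ => mem_of_isCl hcl fun a ha => by
      show χ.ofConv (Ideal.Quotient.mk J a) = 0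
      rw [Ideal.Quotient.eq_zero_iff_mem.mpr ha, map_zero]
    have hrinj : Function.Injective (r.codRestrict S hr) := fun χ χ' h => by
      refine ofConv_injective (AlgHom.ext fun m => ?_)
      obtain ⟨a, rfl⟩ := Ideal.Quotient.mk_surjective m
      exact AlgHom.congr_fun (congrArg ofConv (congrArg Subtype.val h)) a
    exact isSolvableGrp_GA (fun m h => hsep m fun s => h (lift s))
      (Group.isSolvable_of_isSolvable_injective hrinj)
  · refine ⟨pointOf (Ideal.Quotient.liftₐ J (algHomOf f) hf), algHomOf_injective (AlgHom.ext fun a => ?_)⟩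
    rw [algHomOf_specHom, algHomOf_pointOf]
    rfl
  · obtain ⟨s, hs⟩ := ptHom_surjective (x ≫ specHom (Bialgebra.Quotient.mkBialgHom (R := k) J))
    refine ⟨s, mem_of_isCl hcl fun a ha => baseHom_bijective.1 ?_, hs.symm⟩
    have h := algHomOf_ptHom (W := 𝟙_ (Over (Spec (CommRingCat.of k)))) s a
    rw [hs, algHomOf_specHom] at h
    have h0 : (Bialgebra.Quotient.mkBialgHom (R := k) J) a = 0 := Ideal.Quotient.eq_zero_iff_mem.mpr ha
    rw [h0, map_zero] at h
    rw [map_zero]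
    exact h.symm

/-- The points of a smooth connected closed subgroup scheme. -/
noncomputable def ptsOf {H : Over (Spec (CommRingCat.of k))} [GrpObj H] (i : H ⟶ GA k A) [IsMonHom i] :
    Subgroup (HopfPts.Pt k A) :=
  (postcomp i (𝟙_ _)).range.comap (ptHom _)

theorem mem_ptsOf {H : Over (Spec (CommRingCat.of k))} [GrpObj H] {i : H ⟶ GA k A} [IsMonHom i]
    {χ : HopfPts.Pt k A} : χ ∈ ptsOf i ↔ ∃ x, x ≫ i = ptHom (𝟙_ _) χ := Iff.rfl

theorem eq_zero_of_points {H : Over (Spec (CommRingCat.of k))} [GrpObj H] [IsAffine H.left] [Smooth H.hom]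
    (b : Γ(H.left, ⊤)) (h : ∀ x : 𝟙_ (Over (Spec (CommRingCat.of k))) ⟶ H, x.left.appTop b = 0) : b = 0 := by
  have := Groth.Agent.Lib.GrpSch.isReduced_of_smooth_field H.hom
  haveI := RInv.isJacobsonRing_Γ (G := H)
  have hb : b ∈ Ideal.jacobson (⊥ : Ideal Γ(H.left, ⊤)) := by
    rw [Ideal.jacobson, Ideal.mem_sInf]
    rintro m ⟨-, hm⟩
    obtain ⟨x, rfl⟩ := RInv.exists_ev_ker m
    show (Scheme.ΓSpecIso (CommRingCat.of k)).hom (x.left.appTop b) = 0
    rw [h x, map_zero]
  rw [IsJacobsonRing.out' (⊥ : Ideal Γ(H.left, ⊤)) ((Ideal.isRadical_bot_iff).mpr inferInstance)] at hb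
  exact (Submodule.mem_bot _).mp hb

theorem algHomOf_comp {W W' : Over (Spec (CommRingCat.of k))} (h : W' ⟶ W) (g : W ⟶ GA k A) (a : A) :
    algHomOf (h ≫ g) a = h.left.appTop (algHomOf g a) :=
  ringHomOf_comp h.left g.left a

theorem algHomOf_eq_zero {H : Over (Spec (CommRingCat.of k))} [GrpObj H] [IsAffine H.left] [Smooth H.hom]
    (j : H ⟶ GA k A) {T : Set (HopfPts.Pt k A)}
    (hj : ∀ x : 𝟙_ (Over (Spec (CommRingCat.of k))) ⟶ H, ∃ t ∈ T, x ≫ j = ptHom _ t) :
    ∀ a ∈ ideal T, algHomOf j a = 0 := fun a ha => eq_zero_of_points _ fun x => by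
  obtain ⟨t, ht, hx⟩ := hj x
  rw [← algHomOf_comp, hx, algHomOf_ptHom, ha t ht, map_zero]

theorem ptsOf_props {H : Over (Spec (CommRingCat.of k))} [GrpObj H] (i : H ⟶ GA k A) [IsMonHom i]
    [IsClosedImmersion i.left] [Smooth H.hom] [ConnectedSpace H.left] (hsolv : Red.IsSolvableGrp H) :
    (HopfPts.D k A).SIrr (ptsOf i) ∧ Group.IsSolvable (ptsOf i) ∧
      ∀ x : 𝟙_ (Over (Spec (CommRingCat.of k))) ⟶ H, ∃ t ∈ ptsOf i, x ≫ i = ptHom _ t := by
  have hpt : ∀ x : 𝟙_ (Over (Spec (CommRingCat.of k))) ⟶ H, ∃ t ∈ ptsOf i, x ≫ i = ptHom _ t := fun x => by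
    obtain ⟨t, ht⟩ := ptHom_surjective (x ≫ i)
    exact ⟨t, ⟨x, ht.symm⟩, ht.symm⟩
  haveI : IsAffine H.left := isAffine_of_isAffineHom i.left
  haveI : QuasiCompact H.hom := inferInstance
  haveI := GrpIrred.isIntegral H
  refine ⟨?_, ?_, hpt⟩
  · rintro ⟨_, a, rfl⟩ ⟨_, b, rfl⟩ h
    have hab : algHomOf i (a * b) = 0 :=
      algHomOf_eq_zero i (T := (ptsOf i : Set (HopfPts.Pt k A))) hpt _ fun s hs => by
        rw [map_mul]; exact h s hs
    rw [map_mul] at hab
    have key : ∀ c : A, algHomOf i c = 0 → ∀ s ∈ (ptsOf i : Set (HopfPts.Pt k A)), s.ofConv c = 0 := by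
      rintro c hc s ⟨x, hx⟩
      apply baseHom_bijective.1
      have := algHomOf_comp x i c
      rw [hc, map_zero] at this
      have hx' : x ≫ i = ptHom (𝟙_ _) s := hx
      rw [hx', algHomOf_ptHom] at this
      rw [map_zero]
      exact this
    exact (mul_eq_zero.mp hab).imp (fun h s hs => key a h s hs) (fun h s hs => key b h s hs)
  · obtain ⟨n, hn⟩ := hsolv
    haveI : Group.IsSolvable (𝟙_ (Over (Spec (CommRingCat.of k))) ⟶ H) := (Group.isSolvable_def _).mpr ⟨n, hn _⟩
    haveI : Group.IsSolvable (postcomp i (𝟙_ (Over (Spec (CommRingCat.of k))))).range :=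
      Group.isSolvable_of_surjective (MonoidHom.rangeRestrict_surjective _)
    let f : ptsOf i →* (postcomp i (𝟙_ (Over (Spec (CommRingCat.of k))))).range :=
      ((ptHom _).comp (ptsOf i).subtype).codRestrict _ fun s => s.2
    exact Group.isSolvable_of_isSolvable_injective (f := f) fun a b h => Subtype.ext (ptHom_injective (congrArg Subtype.val h))

theorem isBorelOver_comp {G : Over (Spec (CommRingCat.of k))} [GrpObj G] {B : Over (Spec (CommRingCat.of k))}
    [GrpObj B] {iB : B ⟶ G} (hB : Red.IsBorelOver k iB) {G' : Over (Spec (CommRingCat.of k))} [GrpObj G']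
    (e : G ≅ G') [IsMonHom e.hom] : Red.IsBorelOver k (iB ≫ e.hom) := by
  obtain ⟨h1, h2, h3, h4, h5, h6⟩ := hB
  haveI : IsIso e.hom.left := ((Over.forget _).mapIso e).isIso_hom
  haveI : IsIso e.inv.left := ((Over.forget _).mapIso e).isIso_inv
  refine ⟨inferInstance, by rw [Over.comp_left]; infer_instance, h3, h4, h5, ?_⟩
  intro B' _ i' _ f hc hs hconn hsol hf
  haveI := hc
  exact h6 B' (i' ≫ e.inv) f (by rw [Over.comp_left]; infer_instance) hs hconn hsol
    (by rw [← Category.assoc, hf, Category.assoc, e.hom_inv_id, Category.comp_id])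

/-- Conjugate of a closed irreducible solvable subgroup. -/
theorem conj_subgroup {Γ : Type*} [Group Γ] (D : Alg k Γ) (B0 : Subgroup Γ) (hcl : D.IsCl B0)
    (hirr : D.SIrr B0) [Group.IsSolvable B0] (a : Γ) :
    ∃ B1 : Subgroup Γ, (∀ x, x ∈ B1 ↔ a⁻¹ * x * a ∈ B0) ∧ D.IsCl B1 ∧ D.SIrr B1 ∧ Group.IsSolvable B1 := by
  let B1 : Subgroup Γ := B0.map (MulAut.conj a).toMonoidHom
  have hmem : ∀ x, x ∈ B1 ↔ a⁻¹ * x * a ∈ B0 := by
    intro x
    constructor
    · rintro ⟨b, hb, rfl⟩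
      show a⁻¹ * (a * b * a⁻¹) * a ∈ B0
      convert SetLike.mem_coe.mp hb using 1
      group
    · intro hx
      exact ⟨_, hx, show a * (a⁻¹ * x * a) * a⁻¹ = x by group⟩
  refine ⟨B1, hmem, ?_, ?_, Group.isSolvable_of_surjective ((MulAut.conj a).toMonoidHom.subgroupMap_surjective B0)⟩
  · have hset : (B1 : Set Γ) = (fun g => a⁻¹ * g * a⁻¹⁻¹) ⁻¹' (B0 : Set Γ) := by
      ext x
      simp [hmem, _root_.inv_inv]
    rw [hset]
    exact Alg.IsCl.preimage D hcl _ _ (D.cTrans_apply a⁻¹)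
  · rw [Subgroup.coe_map]
    exact Alg.SIrr.image D hirr _ _ (D.cTrans_apply a)

/-- A Borel subgroup is, on points, a conjugate of the reference one. -/
theorem borel_points [IsDomain A] {B : Over (Spec (CommRingCat.of k))} [GrpObj B] (iB : B ⟶ GA k A)
    (hB : Red.IsBorelOver k iB) (B0 : Subgroup (HopfPts.Pt k A)) (hcl : (HopfPts.D k A).IsCl B0)
    (hirr : (HopfPts.D k A).SIrr B0) (hsol : Group.IsSolvable B0)
    (habs : ∀ S : Subgroup (HopfPts.Pt k A), Group.IsSolvable S → (HopfPts.D k A).SIrr S →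
      ∃ a, ∀ s ∈ S, a⁻¹ * s * a ∈ B0) :
    ∃ (a : HopfPts.Pt k A) (C : Over (Spec (CommRingCat.of k))) (_ : GrpObj C) (c : C ⟶ GA k A) (f : B ≅ C),
      f.hom ≫ c = iB ∧ IsClosedImmersion c.left ∧ Smooth C.hom ∧
      (∀ (W : Over (Spec (CommRingCat.of k))) (j : W ⟶ GA k A),
        (∀ b ∈ ideal {x | a⁻¹ * x * a ∈ B0}, algHomOf j b = 0) → ∃ j' : W ⟶ C, j' ≫ c = j) ∧
      ∀ x : 𝟙_ (Over (Spec (CommRingCat.of k))) ⟶ C, ∃ s ∈ {x | a⁻¹ * x * a ∈ B0}, x ≫ c = ptHom _ s := by
  obtain ⟨h1, h2, h3, h4, h5, h6⟩ := hB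
  obtain ⟨hSirr, hSsol, hpts⟩ := ptsOf_props iB h5
  obtain ⟨a, ha⟩ := habs _ hSsol hSirr
  obtain ⟨B1, hmem, hB1cl, hB1irr, hB1sol⟩ := conj_subgroup (HopfPts.D k A) B0 hcl hirr a
  have hB1 : (B1 : Set (HopfPts.Pt k A)) = {x | a⁻¹ * x * a ∈ B0} := Set.ext hmem
  haveI := hB1sol
  obtain ⟨C, _, c, hc1, hc2, hc3, hc4, hc5, hfac, hpt⟩ := exists_subgroup B1 hB1cl hB1irr
  haveI : IsAffine B.left := isAffine_of_isAffineHom iB.left
  obtain ⟨f, hf⟩ := hfac B iB (algHomOf_eq_zero iB fun x => by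
    obtain ⟨t, ht, hx⟩ := hpts x
    exact ⟨t, by rw [hB1]; exact ha t ht, hx⟩)
  haveI : IsIso f := h6 C c f hc2 hc3 hc4 hc5 hf
  refine ⟨a, C, inferInstance, c, asIso f, hf, hc2, hc3, fun W j hj => hfac W j ?_, fun x => ?_⟩
  · rw [hB1]; exact hj
  · obtain ⟨s, hs, hx⟩ := hpt x
    exact ⟨s, hB1 ▸ hs, hx⟩

theorem conj_comp {G W H : Over (Spec (CommRingCat.of k))} [GrpObj G] (g : 𝟙_ (Over (Spec (CommRingCat.of k))) ⟶ G)
    (i : H ⟶ G) (h : W ⟶ H) : h ≫ AGF.conjBy g i = AGF.conjBy g (h ≫ i) := by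
  show h ≫ ((toUnit H ≫ g) * i * (toUnit H ≫ g)⁻¹) = _
  simp only [MonObj.comp_mul, GrpObj.comp_inv, ← Category.assoc, comp_toUnit]

theorem conj_conj {G H : Over (Spec (CommRingCat.of k))} [GrpObj G] (g h : 𝟙_ (Over (Spec (CommRingCat.of k))) ⟶ G)
    (i : H ⟶ G) : AGF.conjBy g (AGF.conjBy h i) = AGF.conjBy (g * h) i := by
  show _ = (toUnit H ≫ (g * h)) * i * (toUnit H ≫ (g * h))⁻¹
  simp only [AGF.conjBy, MonObj.comp_mul, _root_.mul_inv_rev, _root_.mul_assoc]

theorem conjBy_one {G H : Over (Spec (CommRingCat.of k))} [GrpObj G] (d : H ⟶ G) :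
    AGF.conjBy (1 : 𝟙_ (Over (Spec (CommRingCat.of k))) ⟶ G) d = d := by
  show (toUnit H ≫ 1) * d * (toUnit H ≫ 1)⁻¹ = d
  simp [MonObj.comp_one]

theorem point_conj (g s : HopfPts.Pt k A) {D : Over (Spec (CommRingCat.of k))} (d : D ⟶ GA k A)
    (x : 𝟙_ (Over (Spec (CommRingCat.of k))) ⟶ D) (hx : x ≫ d = ptHom _ s) :
    x ≫ AGF.conjBy (ptHom _ g) d = ptHom _ (g * s * g⁻¹) := by
  rw [conj_comp, hx]
  show (toUnit _ ≫ ptHom _ g) * ptHom _ s * (toUnit _ ≫ ptHom _ g)⁻¹ = _
  rw [show toUnit (𝟙_ (Over (Spec (CommRingCat.of k)))) = 𝟙 _ from toUnit_unique _ _, Category.id_comp,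
    map_mul, map_mul, map_inv]

/-- Conjugation between two reference subgroups. -/
theorem exists_conj_map {C C' : Over (Spec (CommRingCat.of k))} [GrpObj C] [IsAffine C.left] [Smooth C.hom]
    (c : C ⟶ GA k A) (c' : C' ⟶ GA k A) (T T' : Set (HopfPts.Pt k A))
    (hpt : ∀ x : 𝟙_ (Over (Spec (CommRingCat.of k))) ⟶ C, ∃ s ∈ T, x ≫ c = ptHom _ s)
    (hfac' : ∀ (W : Over (Spec (CommRingCat.of k))) (j : W ⟶ GA k A),
      (∀ b ∈ ideal T', algHomOf j b = 0) → ∃ j' : W ⟶ C', j' ≫ c' = j)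
    (g : HopfPts.Pt k A) (h : ∀ s ∈ T, g * s * g⁻¹ ∈ T') :
    ∃ p : C ⟶ C', p ≫ c' = AGF.conjBy (ptHom _ g) c :=
  hfac' C _ (algHomOf_eq_zero _ fun x => by
    obtain ⟨s, hs, hx⟩ := hpt x
    exact ⟨_, h s hs, point_conj g s c x hx⟩)

theorem eq_id_of_conj {C C' : Over (Spec (CommRingCat.of k))} (c : C ⟶ GA k A) [Mono c] (c' : C' ⟶ GA k A)
    (p : C ⟶ C') (p' : C' ⟶ C) (g g' : HopfPts.Pt k A)
    (hp : p ≫ c' = AGF.conjBy (ptHom _ g) c) (hp' : p' ≫ c = AGF.conjBy (ptHom _ g') c') (hg : g' * g = 1) :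
    p ≫ p' = 𝟙 C := by
  rw [← cancel_mono c, Category.assoc, hp', conj_comp, hp, conj_conj, Category.id_comp, ← map_mul, hg, map_one,
    conjBy_one]

end Groth.Agent.H1.Classical.Scheme'
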