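import Groth.Agent.H1.Classical.CharRadScheme
import Groth.Agent.H60.MuTorus.Conj

/-!
# Weyl invariant characters of semisimple groups
-/

universe u

open CategoryTheory MonoidalCategory CartesianMonoidalCategory MonObj GrpObj AlgebraicGeometry

namespace Groth.Agent.H1.Classical.WeylInv

set_option linter.style.haveILetI false
set_option linter.unusedSectionVars false

open Groth.Agent.Lib.RedPts Groth.Agent.Lib.RedPts.Points Scheme' Unipotent MaxTorusScheme MaxTorusApply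
  Groth.Agent.Lib.GrpSch WithConv Torus Torus.Centraliser RadU Groth.Agent.H1.RInv CharRad Groth.Agent.H1.Obs

attribute [local instance] baseAlgebra

variable {k : Type u} [Field k]

/-- Normal connected solvable subgroups of a semisimple group are trivial. -/
theorem trivial_of_isSemisimple {G : Over (Spec (CommRingCat.of k))} [GrpObj G] (hG : Red.IsSemisimple G)
    {H : Over (Spec (CommRingCat.of k))} [GrpObj H] (i : H ⟶ G) [IsMonHom i] [IsClosedImmersion i.left]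
    [Smooth H.hom] [ConnectedSpace H.left] (hN : AlgGrp.IsNormalHom i) (hsol : Red.IsSolvableGrp H) :
    Red.IsTrivialGrp H := by
  haveI := hG.1
  let s : Spec (CommRingCat.of k) := IsLocalRing.closedPoint k
  obtain ⟨h1, h2, h3, h4⟩ := fibre_props i hN s
  have htriv := hG.2.2 s
  obtain ⟨alg, halg, hσ⟩ := exists_geomPt_eq s
  revert h1 h2 h3 h4 htriv
  show IsClosedImmersion ((Over.pullback (Red.geomPt s)).map i).left → Smooth (Red.bc (Red.geomPt s) H).hom →
    ConnectedSpace (Red.bc (Red.geomPt s) H).left → AlgGrp.IsNormalHom ((Over.pullback (Red.geomPt s)).map i) →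
    Red.IsSemisimpleOver _ (Red.bc (Red.geomPt s) G) → _
  rw [hσ]
  intro h1 h2 h3 h4 htriv
  haveI := h1
  haveI := h2
  haveI := h3
  refine isTrivial_of_bc (trivial_of_normal_solvable htriv _ h4 ?_)
  obtain ⟨n, hn⟩ := hsol
  refine ⟨n, fun X => (Subgroup.eq_bot_iff_forall _).mpr fun a ha => ?_⟩
  let ψ := BC.downMulEquiv (extBase k (AlgebraicClosure ((Spec (CommRingCat.of k)).residueField s))) X H
  have := map_derivedSeries_le_derivedSeries ψ.toMonoidHom n ⟨a, ha, rfl⟩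
  rw [hn, Subgroup.mem_bot] at this
  exact ψ.injective (this.trans (map_one ψ).symm)

/-- A Weyl invariant character of a maximal torus of a semisimple group is trivial. -/
theorem char_eq_one_of_weylInvariant [IsAlgClosed k] {G : Over (Spec (CommRingCat.of k))} [GrpObj G]
    (hG : Red.IsSemisimple G) {T : Over (Spec (CommRingCat.of k))} [GrpObj T] {iT : T ⟶ G}
    (hT : Red.IsMaximalTorus iT) (χ : T ⟶ Red.Gm (Spec (CommRingCat.of k))) [IsMonHom χ]
    (hχ : ∀ (n : 𝟙_ (Over (Spec (CommRingCat.of k))) ⟶ G) (φ : T ⟶ T), φ ≫ iT = AGF.conjBy n iT → φ ≫ χ = χ) :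
    χ = 1 := by
  obtain ⟨ha, hs, hc⟩ := Groth.Agent.H60.MuTorus.reductive_props (G := G) ⟨hG.1, hG.2.1, fun s => (hG.2.2 s).1⟩
  haveI := ha
  haveI := hs
  haveI := hc
  obtain ⟨A, _, _, _, _, e, he⟩ := exists_GA G
  haveI := he
  haveI : IsMonHom e.inv := inferInstance
  haveI : IsIso e.inv.left := ((Over.forget _).mapIso e).isIso_inv
  haveI := MaxTorusScheme.locallyOfFiniteType (k := k) (A := A)
  have hT' := Groth.Agent.H60.MuTorus.isMaxTorus_of_isMaximalTorus hT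
  haveI := hT'.1
  haveI := hT'.2.1
  obtain ⟨hTc, hTs, -, hTa⟩ := TorusPts.torus_props (iT ≫ e.hom) hT'.2.2.1
  haveI := hTc
  haveI := hTs
  haveI := hTa
  haveI : Mono (iT ≫ e.hom) := mono_comp _ _
  have hMax := isMax_ptsOf_torus (iT ≫ e.hom) (isMaxTorus_comp e hT')
  set T₀ := ptsOf (iT ≫ e.hom) with hT₀
  obtain ⟨W₀, _, σ, hσ⟩ := GenRep.exists_gen (HopfPts.D k A) hasMul_pts pts_ext
  obtain ⟨B₀, hB₀⟩ := exists_bor (k := k) (A := A)
  obtain ⟨a, ha⟩ := hB₀.abs T₀ (MaxTorus.solvable_tor hMax.tor) hMax.tor.irr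
  obtain ⟨B, hTB, hB⟩ : ∃ B : Subgroup (HopfPts.Pt k A), T₀ ≤ B ∧ IsBor (HopfPts.D k A) B := by
    haveI := hB₀.solv
    obtain ⟨B1, hmem, hB1cl, hB1irr, hB1sol⟩ := conj_subgroup (HopfPts.D k A) B₀ hB₀.cl hB₀.irr a
    exact ⟨B1, fun s hs => (hmem s).mpr (ha s hs), hB1cl, hB1irr, hB1sol, fun S hS hSi => by
      obtain ⟨b, hb⟩ := hB₀.abs S hS hSi
      refine ⟨b * a⁻¹, fun s hs => (hmem _).mpr ?_⟩
      rw [show a⁻¹ * ((b * a⁻¹)⁻¹ * s * (b * a⁻¹)) * a = b⁻¹ * s * b by group]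
      exact hb s hs, SubTorus.complete_conj hB₀.comp (a := a⁻¹) fun b hb => (hmem _).mpr (by
        convert hb using 1
        group)⟩
  obtain ⟨N, π, hN, hπ1, hπT, hπn, -, hπχ, hπreg⟩ := exists_norm hasMul_pts hσ hMax.tor
  obtain ⟨C, hCcl, hCirr, hCn, hCB, hπC⟩ := exists_normal_norm hasMul_pts hσ hB hMax hTB hπ1 hπT hπn hπreg
  have hC1 : ∀ x ∈ C, x = 1 := by
    haveI := hB.solv
    haveI : Group.IsSolvable C := Group.isSolvable_of_isSolvable_injective (Subgroup.inclusion_injective hCB)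
    obtain ⟨C', _, c, hc1, hc2, hc3, hc4, hc5, hfac, hpt⟩ := exists_subgroup C hCcl hCirr
    haveI := hc1
    haveI := hc2
    haveI := hc3
    haveI := hc4
    haveI : IsAffine C'.left := isAffine_of_isAffineHom c.left
    haveI : IsClosedImmersion (c ≫ e.inv).left := by rw [Over.comp_left]; infer_instance
    have hn' : IsNormalPts (c ≫ e.inv) := fun g w => by
      obtain ⟨b, hb⟩ := ptHom_surjective (g ≫ e.hom)
      obtain ⟨x, hx, hwx⟩ := hpt w
      obtain ⟨w', hw'⟩ := hfac (𝟙_ _) (ptHom _ (b * x * b⁻¹)) fun f hf => by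
        rw [algHomOf_ptHom, hf _ (hCn.conj_mem x hx b), map_zero]
      refine ⟨w', ?_⟩
      rw [← cancel_mono e.hom, MonObj.mul_comp, MonObj.mul_comp, GrpObj.inv_comp]
      simp only [Category.assoc, e.inv_hom_id, Category.comp_id]
      rw [hw', hwx, map_mul, map_mul, map_inv, hb]
    haveI : IsIso C'.hom := trivial_of_isSemisimple hG (c ≫ e.inv) (isNormalHom_of_pts _ hn') hc5
    intro x hx
    obtain ⟨w, hw⟩ := hfac (𝟙_ _) (ptHom _ x) fun f hf => by rw [algHomOf_ptHom, hf x hx, map_zero]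
    have h1 : w = 1 := Over.OverMorphism.ext (by rw [← cancel_mono C'.hom, Over.w, Over.w])
    exact ptHom_injective (by rw [map_one, ← hw, h1, MonObj.one_comp])
  -- the character on points
  have hlift : ∀ t : T₀, ∃ x : P T, x ≫ iT ≫ e.hom = ptHom _ (t : HopfPts.Pt k A) := fun t => t.2
  choose pre hpre using hlift
  have hpre' : ∀ (x : P T) (t : T₀), x ≫ iT ≫ e.hom = ptHom _ (t : HopfPts.Pt k A) → pre t = x := fun x t h => by
    rw [← cancel_mono (iT ≫ e.hom), hpre, h]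
  let χ0 : T₀ →* k :=
    { toFun := fun t => ev (pre t) (Red.gmFn χ)
      map_one' := by rw [hpre' 1 1 (by rw [MonObj.one_comp, ← map_one (ptHom _)]; rfl), Obs.ev_gmFn_one]
      map_mul' := fun a b => by
        rw [← Obs.ev_gmFn_mul, hpre' (pre a * pre b) (a * b) (by
          rw [MonObj.mul_comp, hpre, hpre, ← map_mul]; rfl)] }
  let χp : T₀ →* kˣ := χ0.toHomUnits
  have hinv : ∀ n (hn : ∀ t ∈ T₀, n * t * n⁻¹ ∈ T₀) (t : T₀), χp ⟨n * t * n⁻¹, hn t t.2⟩ = χp t := by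
    intro n hn t
    obtain ⟨φ, hφ⟩ := MaxTorusScheme.exists_factor (iT ≫ e.hom) (AGF.conjBy (ptHom _ n) (iT ≫ e.hom)) fun x => by
      obtain ⟨s, hs⟩ := ptHom_surjective (x ≫ iT ≫ e.hom)
      exact ⟨n * s * n⁻¹, hn s ⟨x, hs.symm⟩, point_conj n s _ x hs.symm⟩
    have hφ' : φ ≫ iT = AGF.conjBy (ptHom _ n ≫ e.inv) iT := conjBy_comp_eq e _ hφ
    refine Units.ext ?_
    show ev (pre ⟨_, _⟩) _ = ev (pre t) _
    rw [hpre' (pre t ≫ φ) ⟨_, hn t t.2⟩ (by rw [Category.assoc, hφ, point_conj n t _ _ (hpre t)]), Obs.ev_comp,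
      ← Lib.RedPts.Gm.gmFn_comp, hχ _ φ hφ']
  have hpow : ∀ t : T₀, χp t ^ N = 1 := fun t => by
    rw [← hπχ χp hinv t (hπT t t.2), show (⟨π t, hπT t t.2⟩ : T₀) = 1 from Subtype.ext (hC1 _ (hπC t t.2)), map_one]
  obtain ⟨F, hF⟩ : ∃ F : A, ∀ t : T₀, (t : HopfPts.Pt k A).ofConv F = (χp t : k) := by
    obtain ⟨F, hF⟩ := TorusPts.surjective_algHomOf (iT ≫ e.hom) (Red.gmFn χ)
    refine ⟨F, fun t => baseHom_bijective.1 ?_⟩
    have h := algHomOf_comp (pre t) (iT ≫ e.hom) F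
    rw [hpre, algHomOf_ptHom, hF] at h
    refine h.trans ?_
    exact (Iso.hom_inv_id_apply (Scheme.ΓSpecIso (CommRingCat.of k)) _).symm
  obtain ⟨ζ, -, hζ⟩ := Alg.SIrr.exists_forall (HopfPts.D k A) hMax.tor.irr ⟨1, T₀.one_mem⟩
    (Polynomial.nthRootsFinset N (1 : k))
    (fun ζ => {(HopfPts.ev k A F) - algebraMap k (HopfPts.Pt k A → k) ζ})
    (fun ζ _ => by rintro _ rfl; exact (HopfPts.D k A).R.sub_mem ⟨F, rfl⟩ ((HopfPts.D k A).R.algebraMap_mem _))
    (fun t ht => ⟨(χp ⟨t, ht⟩ : k), (Polynomial.mem_nthRootsFinset (Nat.pos_of_ne_zero hN) 1).mpr (by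
      rw [← Units.val_pow_eq_pow_val, hpow, Units.val_one]), by
      rintro _ rfl
      show t.ofConv F - _ = 0
      rw [hF ⟨t, ht⟩]
      exact sub_self _⟩)
  refine char_ext fun x => ?_
  obtain ⟨t, ht⟩ := ptHom_surjective (x ≫ iT ≫ e.hom)
  have htT : t ∈ T₀ := ⟨x, ht.symm⟩
  have h2 : t.ofConv F - ζ = 0 := hζ t htT _ rfl
  have h1 : (1 : HopfPts.Pt k A).ofConv F - ζ = 0 := hζ 1 T₀.one_mem _ rfl
  rw [← hpre' x ⟨t, htT⟩ ht.symm]
  have hone : (χp ⟨t, htT⟩ : k) = 1 := by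
    rw [← hF, sub_eq_zero.mp h2, ← sub_eq_zero.mp h1]
    exact (hF 1).trans (by rw [map_one, Units.val_one])
  exact hone

end Groth.Agent.H1.Classical.WeylInv
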