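import Groth.Agent.H1.Classical.CentralizerRed
import Groth.Agent.H1.Classical.WeylInv
import Groth.Agent.H1.Classical.RadicalTorus

/-!
# Homomorphisms from semisimple groups to commutative groups
-/

universe u v w

open CategoryTheory MonoidalCategory CartesianMonoidalCategory MonObj GrpObj AlgebraicGeometry Limits

namespace Groth.Agent.H1.Classical.SemisimpleComm

set_option linter.style.haveILetI false
set_option linter.unusedSectionVars false

section Points

open Module Kolchin Open Complete Torus Torus.Centraliser Torus.MaxTorus MvPolynomial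

variable {k : Type u} [Field k] [IsAlgClosed k] {Γ : Type v} [Group Γ] {D : Alg k Γ}
variable {W : Type w} [AddCommGroup W] [Module k W] [FiniteDimensional k W] {σ : Representation k Γ W}

/-- The Weyl norm of a torus and homomorphisms to commutative groups. -/
theorem exists_norm' (hmul : HasMul D) (hσ : GenRep.Gen D σ) {T : Subgroup Γ} (hT : IsTor D T) {α : Type*} [CommGroup α] :
    ∃ (N : ℕ) (π : Γ → Γ), N ≠ 0 ∧ π 1 = 1 ∧ (∀ t ∈ T, π t ∈ T) ∧
      (∀ n, (∀ t ∈ T, n * t * n⁻¹ ∈ T) → ∀ t ∈ T, n * π t = π t * n) ∧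
      (∀ χ : Γ →* α, ∀ t ∈ T, χ (π t) = χ t ^ N) ∧
      (∀ χ : T →* kˣ, (∀ n (hn : ∀ t ∈ T, n * t * n⁻¹ ∈ T) (t : T), χ ⟨n * t * n⁻¹, hn t t.2⟩ = χ t) →
        ∀ (t : T) (h : π t ∈ T), χ ⟨π t, h⟩ = χ t ^ N) ∧
      ∀ f ∈ D.R, ∃ F ∈ D.R, ∀ t ∈ T, f (π t) = F t := by
  classical
  letI : CommGroup T := { (inferInstance : Group T) with mul_comm := fun a b => Subtype.ext (hT.comm a a.2 b b.2) }
  let hfin := WeylFinite.finite_actions hσ hT
  let A := hfin.toFinset
  have hAmem : ∀ {φ}, φ ∈ A ↔ ∃ n : Γ, (∀ t ∈ T, n * t * n⁻¹ ∈ T) ∧ φ = fun t : T => n * t * n⁻¹ :=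
    fun {φ} => hfin.mem_toFinset
  let lift : (T → Γ) → T → T := fun φ t => if h : φ t ∈ T then ⟨φ t, h⟩ else 1
  have hlift : ∀ φ ∈ A, ∀ t, (lift φ t : Γ) = φ t := fun φ hφ t => by
    obtain ⟨n, hn, rfl⟩ := hAmem.mp hφ
    simp only [lift, dif_pos (hn t t.2)]
  let p : T → T := fun t => ∏ φ ∈ A, lift φ t
  have hval : ∀ (t : T) {α : Type _} [CommMonoid α] (χ : Γ →* α), χ (p t) = ∏ φ ∈ A, χ (φ t) := fun t α _ χ => by
    show (χ.comp T.subtype) (∏ φ ∈ A, lift φ t) = _
    rw [map_prod]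
    exact Finset.prod_congr rfl fun φ hφ => congrArg χ (hlift φ hφ t)
  have hp1 : p 1 = 1 := Finset.prod_eq_one fun φ hφ => Subtype.ext (by
    obtain ⟨n, hn, rfl⟩ := hAmem.mp hφ
    rw [hlift _ (hAmem.mpr ⟨n, hn, rfl⟩)]
    simp)
  refine ⟨A.card, fun g => if h : g ∈ T then (p ⟨g, h⟩ : Γ) else 1, ?_, ?_, ?_, ?_, ?_, ?_, ?_⟩
  · refine Finset.card_ne_zero.mpr ⟨fun t : T => (1 : Γ) * t * 1⁻¹, hAmem.mpr ⟨1, fun t ht => by simpa using ht, rfl⟩⟩
  · beta_reduce
    rw [dif_pos T.one_mem]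
    exact congrArg Subtype.val hp1
  · intro t ht
    beta_reduce
    rw [dif_pos ht]
    exact (p ⟨t, ht⟩).2
  · intro n hn t ht
    beta_reduce
    rw [dif_pos ht]
    let c : T →* T := MonoidHom.mk' (fun x => ⟨n * x * n⁻¹, hn x x.2⟩) fun a b => Subtype.ext (by
      show n * (a * b : Γ) * n⁻¹ = n * a * n⁻¹ * (n * b * n⁻¹)
      group)
    have hconj : c (p ⟨t, ht⟩) = p ⟨t, ht⟩ := by
      rw [map_prod]
      refine Finset.prod_bij (fun φ _ => fun x : T => n * φ x * n⁻¹) (fun φ hφ => ?_) ?_ ?_ ?_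
      · obtain ⟨m, hm, rfl⟩ := hAmem.mp hφ
        refine hAmem.mpr ⟨n * m, fun x hx => ?_, funext fun x => by group⟩
        rw [show n * m * x * (n * m)⁻¹ = n * (m * x * m⁻¹) * n⁻¹ by group]
        exact hn _ (hm x hx)
      · intro φ _ φ' _ h
        exact funext fun x => mul_left_cancel (mul_right_cancel (congrFun h x))
      · intro ψ hψ
        obtain ⟨φ, hφ, h⟩ := Finset.surj_on_of_inj_on_of_card_le (s := A) (t := A)
          (fun φ _ => fun x : T => n * φ x * n⁻¹) (fun φ hφ => by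
            obtain ⟨m, hm, rfl⟩ := hAmem.mp hφ
            refine hAmem.mpr ⟨n * m, fun x hx => ?_, funext fun x => by group⟩
            rw [show n * m * x * (n * m)⁻¹ = n * (m * x * m⁻¹) * n⁻¹ by group]
            exact hn _ (hm x hx))
          (fun φ φ' _ _ h => funext fun x => mul_left_cancel (mul_right_cancel (congrFun h x))) le_rfl ψ hψ
        exact ⟨φ, hφ, h.symm⟩
      · intro φ hφ
        refine Subtype.ext ?_
        show n * (lift φ ⟨t, ht⟩ : Γ) * n⁻¹ = (lift (fun x : T => n * φ x * n⁻¹) ⟨t, ht⟩ : Γ)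
        obtain ⟨m, hm, rfl⟩ := hAmem.mp hφ
        have hmem : (fun x : T => n * (m * x * m⁻¹) * n⁻¹) ∈ A := hAmem.mpr ⟨n * m, fun x hx => by
          rw [show n * m * x * (n * m)⁻¹ = n * (m * x * m⁻¹) * n⁻¹ by group]
          exact hn _ (hm x hx), funext fun x => by group⟩
        rw [hlift _ hφ]
        exact (hlift _ hmem ⟨t, ht⟩).symm
    have h := congrArg Subtype.val hconj
    change n * (p ⟨t, ht⟩ : Γ) * n⁻¹ = (p ⟨t, ht⟩ : Γ) at h
    calc n * (p ⟨t, ht⟩ : Γ) = n * (p ⟨t, ht⟩ : Γ) * n⁻¹ * n := by group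
      _ = _ := by rw [h]
  · intro χ t ht
    beta_reduce
    rw [dif_pos ht, hval _ χ]
    refine Finset.prod_eq_pow_card fun φ hφ => ?_
    obtain ⟨n, -, rfl⟩ := hAmem.mp hφ
    rw [map_mul, map_mul, map_inv, mul_comm (χ n), mul_inv_cancel_right]
  · intro χ hχ t h
    have heq : (⟨_, h⟩ : T) = p t := Subtype.ext (dif_pos t.2)
    rw [heq, map_prod]
    refine Finset.prod_eq_pow_card fun φ hφ => ?_
    obtain ⟨n, hn, rfl⟩ := hAmem.mp hφ
    rw [show lift (fun t : T => n * t * n⁻¹) t = ⟨n * t * n⁻¹, hn t t.2⟩ from Subtype.ext (hlift _ hφ t)]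
    exact hχ n hn t
  · have key : ∀ s : Finset (T → Γ), s ⊆ A → ∀ f ∈ D.R, ∃ F ∈ D.R, ∀ t : T, f (∏ φ ∈ s, lift φ t : T) = F t := by
      intro s
      induction s using Finset.induction_on with
      | empty => exact fun _ f _ => ⟨algebraMap k (Γ → k) (f 1), D.R.algebraMap_mem _, fun t => by simp⟩
      | insert φ s hφs ih =>
        intro hsub f hf
        obtain ⟨n, hn, hφ⟩ := hAmem.mp (hsub (Finset.mem_insert_self _ _))
        obtain ⟨l, a, b, hab⟩ := hmul ⟨f, hf⟩
        choose G hG hG' using fun i => ih (fun x hx => hsub (Finset.mem_insert_of_mem hx)) _ (b i).2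
        refine ⟨fun g => ∑ i, (D.cTrans n (a i) : Γ → k) g * G i g, ?_, fun t => ?_⟩
        · have : (fun g => ∑ i, (D.cTrans n (a i) : Γ → k) g * G i g) = ∑ i, (D.cTrans n (a i) : Γ → k) * G i := by
            funext g; simp
          rw [this]
          exact D.R.sum_mem fun i _ => D.R.mul_mem (D.cTrans n (a i)).2 (hG i)
        · rw [Finset.prod_insert hφs, Subgroup.coe_mul, hlift φ (hsub (Finset.mem_insert_self _ _))]
          refine (hab _ _).trans ?_
          refine Finset.sum_congr rfl fun i _ => ?_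
          rw [hG' i t, D.cTrans_apply, hφ]
    intro f hf
    obtain ⟨F, hF, hF'⟩ := key A subset_rfl f hf
    exact ⟨F, hF, fun t ht => by beta_reduce; rw [dif_pos ht]; exact hF' ⟨t, ht⟩⟩

/-- The points of a torus are divisible. -/
theorem exists_root (hσ : GenRep.Gen D σ) {T : Subgroup Γ} (hT : IsTor D T) {N : ℕ} (hN : N ≠ 0) :
    ∀ t ∈ T, ∃ s ∈ T, s ^ N = t := by
  classical
  intro t ht
  obtain ⟨e, he⟩ := Torus.Centraliser.exists_diag hT hσ.reg
  let c : Fin (finrank k W) → Γ → k := fun i g => e.coord i (σ g (e i))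
  have hc : ∀ s ∈ T, ∀ i, σ s (e i) = c i s • e i := fun s hs i => by
    obtain ⟨d, hd⟩ := he s hs i
    show σ s (e i) = e.coord i (σ s (e i)) • e i
    rw [hd, map_smul, Basis.coord_apply, Basis.repr_self, Finsupp.single_eq_same, smul_eq_mul, _root_.mul_one]
  let χ : Fin (finrank k W) → T →* kˣ := fun i => MonoidHom.toHomUnits
    { toFun := fun s => c i s
      map_one' := by simp [c]
      map_mul' := fun a b => by
        show e.coord i (σ ((a : Γ) * b) (e i)) = c i a * c i b
        rw [map_mul, End.mul_apply, hc b b.2, map_smul, hc a a.2, map_smul, map_smul, Basis.coord_apply,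
          Basis.repr_self, Finsupp.single_eq_same, smul_eq_mul, smul_eq_mul, _root_.mul_one, mul_comm] }
  let DT := D.restrict T hT.cl
  have hirr : DT.SIrr Set.univ := D.sirr_restrict.mpr (by
    rw [Set.image_univ, Subtype.range_coe_subtype]; exact hT.irr)
  obtain ⟨r, ψ, hψ⟩ := Diag.exists_torusChars hirr χ fun i => (⟨c i, hσ.reg (e i) (e.coord i), rfl⟩ :
    Diag.RegChar DT (χ i))
  have hz : ∀ j, ∃ z : kˣ, z ^ N = ψ j ⟨t, ht⟩ := fun j => by
    obtain ⟨z, hz⟩ := IsAlgClosed.exists_pow_nat_eq (ψ j ⟨t, ht⟩ : k) (Nat.pos_of_ne_zero hN)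
    have hz0 : z ≠ 0 := fun h => (ψ j ⟨t, ht⟩).ne_zero (by rw [← hz, h, zero_pow hN])
    exact ⟨Units.mk0 z hz0, Units.ext (by rw [Units.val_pow_eq_pow_val]; exact hz)⟩
  choose z hz using hz
  obtain ⟨g, hg⟩ := Diag.surjective_of_indep hirr ψ hψ.reg hψ.indep z
  refine ⟨g, g.2, hσ.faith (e.ext fun i => ?_)⟩
  have hchi : χ i (g ^ N) = χ i ⟨t, ht⟩ := by
    obtain ⟨ex, hex⟩ := hψ.mono i
    rw [hex, MonoidHom.finsetProd_apply, MonoidHom.finsetProd_apply]
    refine Finset.prod_congr rfl fun j _ => ?_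
    rw [MonoidHom.zpow_apply, MonoidHom.zpow_apply, map_pow, hg, hz]
  rw [hc _ (T.pow_mem g.2 N), hc t ht]
  refine congrArg (· • e i) ?_
  have := congrArg Units.val hchi
  change c i ((g ^ N : T) : Γ) = c i t at this
  rwa [Subgroup.coe_pow] at this

/-- A homomorphism of a group without radical to a commutative group kills the maximal tori. -/
theorem torus_killed (hmul : HasMul D) (hσ : GenRep.Gen D σ) {B T : Subgroup Γ} (hB : IsBor D B) (hT : IsMax D T)
    (hTB : T ≤ B) (hrad : ∀ C : Subgroup Γ, D.IsCl C → D.SIrr C → C.Normal → C ≤ B → ∀ x ∈ C, x = 1)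
    {α : Type*} [CommGroup α] (φ : Γ →* α) : ∀ t ∈ T, φ t = 1 := by
  obtain ⟨N, π, hN, hπ1, hπT, hπn, hπχ, -, hπreg⟩ := exists_norm' (α := α) hmul hσ hT.tor
  obtain ⟨C, hCcl, hCirr, hCn, hCB, hπC⟩ := CharRad.exists_normal_norm hmul hσ hB hT hTB hπ1 hπT hπn hπreg
  intro t ht
  obtain ⟨s, hs, rfl⟩ := exists_root hσ hT.tor hN t ht
  rw [map_pow, ← hπχ φ s hs, hrad C hCcl hCirr hCn hCB _ (hπC s hs), map_one]

end Points

open Groth.Agent.Lib.RedPts Groth.Agent.Lib.RedPts.Points Scheme' Unipotent MaxTorusScheme MaxTorusApply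
  Groth.Agent.Lib.GrpSch WithConv Torus Torus.Centraliser Torus.MaxTorus RadU FieldDescent

attribute [local instance] baseAlgebra

variable {k : Type u} [Field k] [IsAlgClosed k] {G : Over (Spec (CommRingCat.of k))} [GrpObj G] [IsAffine G.left]
  [Smooth G.hom] [ConnectedSpace G.left]

theorem normal_eq_one (hG : Red.IsSemisimpleOver k G) {A : Type u} [CommRing A] [HopfAlgebra k A]
    [Algebra.FiniteType k A] [IsDomain A] (e : G ≅ GA k A) [IsMonHom e.hom] {C : Subgroup (HopfPts.Pt k A)}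
    (hCcl : (HopfPts.D k A).IsCl C) (hCirr : (HopfPts.D k A).SIrr C) (hCn : C.Normal) [Group.IsSolvable C] :
    ∀ x ∈ C, x = 1 := by
  haveI : IsMonHom e.inv := inferInstance
  haveI : IsIso e.inv.left := ((Over.forget _).mapIso e).isIso_inv
  obtain ⟨C', _, c, hc1, hc2, hc3, hc4, hc5, hfac, hpt⟩ := exists_subgroup C hCcl hCirr
  haveI := hc1
  haveI := hc2
  haveI := hc3
  haveI := hc4
  haveI : IsAffine C'.left := isAffine_of_isAffineHom c.left
  haveI : IsClosedImmersion (c ≫ e.inv).left := by rw [Over.comp_left]; infer_instance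
  have hn' : IsNormalPts (c ≫ e.inv) := fun g w => by
    obtain ⟨b, hb⟩ := ptHom_surjective (g ≫ e.hom)
    obtain ⟨x, hx, hwx⟩ := hpt w
    obtain ⟨w', hw'⟩ := hfac (𝟙_ _) (ptHom _ (b * x * b⁻¹)) fun f hf => by
      rw [algHomOf_ptHom, hf _ (hCn.conj_mem x hx b), map_zero]
    refine ⟨w', ?_⟩
    rw [← cancel_mono e.hom, MonObj.mul_comp, MonObj.mul_comp, GrpObj.inv_comp]
    simp only [Category.assoc, e.inv_hom_id, Category.comp_id]
    rw [hw', hwx, map_mul, map_mul, map_inv, hb]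
  haveI : IsIso C'.hom := trivial_of_normal_solvable hG (c ≫ e.inv) (isNormalHom_of_pts _ hn') hc5
  intro x hx
  obtain ⟨w, hw⟩ := hfac (𝟙_ _) (ptHom _ x) fun f hf => by rw [algHomOf_ptHom, hf x hx, map_zero]
  have h1 : w = 1 := Over.OverMorphism.ext (by rw [← cancel_mono C'.hom, Over.w, Over.w])
  exact ptHom_injective (by rw [map_one, ← hw, h1, MonObj.one_comp])

/-- A homomorphism from a semisimple group to a commutative group is trivial. -/
theorem hom_eq_one (hG : Red.IsSemisimpleOver k G) {H : Over (Spec (CommRingCat.of k))} [GrpObj H]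
    [IsCommMonObj H] (f : G ⟶ H) [IsMonHom f] : f = 1 := by
  obtain ⟨A, _, _, _, _, e, he⟩ := exists_GA G
  haveI := he
  haveI : IsMonHom e.inv := inferInstance
  haveI := locallyOfFiniteType_GA (k := k) (A := A)
  obtain ⟨T, _, iT, hT⟩ := MaxTorusExists.exists_maxTorus G
  haveI := hT.1
  haveI := hT.2.1
  have hMax := isMax_ptsOf_torus (iT ≫ e.hom) (isMaxTorus_comp e hT)
  obtain ⟨W, _, σ, hσ⟩ := GenRep.exists_gen (HopfPts.D k A) hasMul_pts pts_ext
  obtain ⟨B, hB, hTB⟩ := CartanOpen.exists_bor_containing hMax.tor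
  let φ : HopfPts.Pt k A →* (𝟙_ (Over (Spec (CommRingCat.of k))) ⟶ H) :=
    (postcomp (e.inv ≫ f) _).comp (ptHom (A := A) _)
  have hkill := torus_killed hasMul_pts hσ hB hMax hTB (fun C hcl hirr hn hle => by
    haveI := hB.solv
    haveI : Group.IsSolvable C := Group.isSolvable_of_isSolvable_injective (Subgroup.inclusion_injective hle)
    exact normal_eq_one hG e hcl hirr hn) φ
  obtain ⟨U, hUne, hU⟩ := CartanOpen.exists_open hT (CentralizerRed.isCentralizerOf_self hG.1 hT)
  haveI : IsClosedImmersion (η[H] : 𝟙_ _ ⟶ H).left :=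
    isClosedImmersion_of_comp_eq_id (Y := Spec (CommRingCat.of k)) H.hom η[H].left (by simp)
  let p := pullback.fst f η[H]
  haveI : IsClosedImmersion p.left :=
    MorphismProperty.of_isPullback (P := @IsClosedImmersion)
      ((IsPullback.of_hasPullback f η[H]).map (Over.forget _)).flip ‹_›
  haveI : JacobsonSpace G.left := LocallyOfFiniteType.jacobsonSpace G.hom
  haveI := isReduced_of_smooth_field G.hom
  haveI : IrreducibleSpace G.left := by
    obtain ⟨h⟩ : Nonempty ((GA k A).left ≃ₜ G.left) := ⟨(Scheme.homeoOfIso ((Over.forget _).mapIso e)).symm⟩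
    haveI : IrreducibleSpace (GA k A).left := inferInstanceAs (IrreducibleSpace (PrimeSpectrum A))
    refine (irreducibleSpace_def _).mpr ?_
    have := (IrreducibleSpace.isIrreducible_univ _).image h h.continuous.continuousOn
    rw [Set.image_univ, h.surjective.range_eq] at this
    exact this
  haveI : Surjective p.left := by
    refine ⟨fun w => ?_⟩
    have hsub : (U : Set G.left) ∩ closedPoints G.left ⊆ Set.range p.left := by
      rintro z ⟨hzU, hz⟩
      obtain ⟨x, hx⟩ := exists_point (mem_closedPoints_iff.mp hz)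
      obtain ⟨g, y, hgy⟩ := hU x ((congrArg (fun q : G.left => q ∈ U) (hx _)).mpr hzU)
      have hfx : x ≫ f = 𝟙 _ ≫ η[H] := by
        rw [← hgy, MonObj.mul_comp, MonObj.mul_comp, GrpObj.inv_comp]
        have hy : (y ≫ iT) ≫ f = 1 := by
          obtain ⟨t, ht⟩ := ptHom_surjective ((y ≫ iT) ≫ e.hom)
          have h1 := hkill t ⟨y, by rw [ht, Category.assoc]; rfl⟩
          change ptHom _ t ≫ e.inv ≫ f = 1 at h1
          rwa [ht, Category.assoc (y ≫ iT), e.hom_inv_id_assoc] at h1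
        rw [hy, _root_.mul_one, mul_inv_cancel, Hom.one_def, toUnit_unique (toUnit _) (𝟙 _)]
      refine ⟨(pullback.lift x (𝟙 _) hfx).left (IsLocalRing.closedPoint k), ?_⟩
      show (pullback.lift x (𝟙 _) hfx ≫ p).left (IsLocalRing.closedPoint k) = z
      rw [pullback.lift_fst]
      exact hx _
    have h1 : closure ((U : Set G.left) ∩ closedPoints G.left) ⊆ Set.range p.left :=
      closure_minimal hsub p.left.isClosedEmbedding.isClosed_range
    have h2 : (U : Set G.left) ⊆ closure ((U : Set G.left) ∩ closedPoints G.left) := by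
      refine fun z hz => ?_
      have := U.isOpen.inter_closure (t := closedPoints G.left)
      rw [closure_closedPoints, Set.inter_univ] at this
      exact this hz
    have h3 : closure (U : Set G.left) = Set.univ := (U.isOpen.dense hUne).closure_eq
    have h4 : closure (U : Set G.left) ⊆ Set.range p.left :=
      closure_minimal (h2.trans h1) p.left.isClosedEmbedding.isClosed_range
    exact h4 (h3 ▸ Set.mem_univ w)
  haveI : IsIso p.left := isIso_of_isClosedImmersion_of_surjective p.left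
  haveI : IsIso p := by
    haveI : IsIso ((Over.forget _).map p) := ‹IsIso p.left›
    exact isIso_of_reflects_iso p (Over.forget _)
  rw [← cancel_epi p, pullback.condition, MonObj.comp_one, Hom.one_def]
  congr 1
  exact toUnit_unique _ _

end Groth.Agent.H1.Classical.SemisimpleComm
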