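import Groth.Agent.H1.Classical.Fixed
import Mathlib.GroupTheory.Abelianization.Defs
import Mathlib.LinearAlgebra.Dimension.RankNullity

/-!
# Consequences of Lie–Kolchin for representations of solvable groups
-/

universe u v w

namespace Groth.Agent.H1.Classical.Solvable

set_option linter.style.haveILetI false
set_option linter.unusedSectionVars false

open Module Kolchin commutatorElement

variable {k : Type u} [Field k] {Γ : Type v} [Group Γ] {V : Type w} [AddCommGroup V] [Module k V]

/-- The character on an eigenvector. -/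
theorem commutator_fix (ρ : Representation k Γ V) {v : V} (hv : v ≠ 0) (h : ∀ g, ∃ c : k, ρ g v = c • v) :
    ∀ g ∈ commutator Γ, ρ g v = v := by
  choose χ hχ using h
  have hmul : ∀ x y, χ (x * y) = χ x * χ y := fun x y => smul_left_injective k hv (by
    show χ (x * y) • v = (χ x * χ y) • v
    rw [← hχ, map_mul, End.mul_apply, hχ, map_smul, hχ, smul_smul, mul_comm])
  have h1 : χ 1 = 1 := smul_left_injective k hv (by
    show χ 1 • v = (1 : k) • v
    rw [← hχ]; simp)
  let χh : Γ →* k := { toFun := χ, map_one' := h1, map_mul' := hmul }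
  intro g hg
  have : χh g = 1 := congrArg Units.val (MonoidHom.mem_ker.mp (Abelianization.commutator_subset_ker χh.toHomUnits hg))
  rw [hχ, show χ g = 1 from this, one_smul]

/-- Extending triviality of a derived subgroup from a quotient by an invariant line. -/
theorem derived_step (ρ : Representation k Γ V) {v : V} (hv : v ≠ 0) (h : ∀ g, ∃ c : k, ρ g v = c • v) (m : ℕ)
    (hm : ∀ g ∈ derivedSeries Γ m, ∀ x, ρ g x - x ∈ Submodule.span k {v}) :
    ∀ g ∈ derivedSeries Γ (max m 1 + 1), ρ g = 1 := by
  have hfix : ∀ a ∈ derivedSeries Γ (max m 1), ρ a v = v ∧ ∀ x, ρ a x - x ∈ Submodule.span k {v} := fun a ha =>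
    ⟨commutator_fix ρ hv h a (derivedSeries_one Γ ▸ derivedSeries_antitone Γ (le_max_right m 1) ha),
      hm a (derivedSeries_antitone Γ (le_max_left m 1) ha)⟩
  let φ : Γ →* (End k V)ˣ := (ρ : Γ →* End k V).toHomUnits
  have h2 : derivedSeries Γ (max m 1 + 1) ≤ φ.ker := by
    rw [derivedSeries_succ, Subgroup.commutator_le]
    intro x hx y hy
    rw [MonoidHom.mem_ker, map_commutatorElement, commutatorElement_eq_one_iff_mul_comm]
    refine Units.ext (LinearMap.ext fun z => ?_)
    obtain ⟨c, hc⟩ := Submodule.mem_span_singleton.mp ((hfix x hx).2 z)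
    obtain ⟨c', hc'⟩ := Submodule.mem_span_singleton.mp ((hfix y hy).2 z)
    rw [eq_sub_iff_add_eq] at hc hc'
    show ρ x (ρ y z) = ρ y (ρ x z)
    simp only [← hc, ← hc', map_add, map_smul, (hfix x hx).1, (hfix y hy).1]
    abel
  intro g hg
  exact congrArg Units.val (h2 hg)

/-- In a representation of a connected solvable group the derived group acts unipotently. -/
theorem isNilpotent_sub_one [IsAlgClosed k] (R : Subalgebra k (Γ → k)) [NoZeroDivisors R] [Group.IsSolvable Γ] :
    ∀ (d : ℕ) {V : Type w} [AddCommGroup V] [Module k V] [FiniteDimensional k V] (σ : Representation k Γ V),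
      EndFn R (fun g => σ g) → EndFn R (fun g => σ g⁻¹) → finrank k V = d →
      ∀ g ∈ commutator Γ, IsNilpotent (σ g - 1) := by
  intro d
  induction d using Nat.strong_induction_on with
  | _ d ih =>
  intro V _ _ _ σ hσ hσ' hd g hg
  rcases subsingleton_or_nontrivial V with hV | hV
  · exact ⟨1, LinearMap.ext fun x => Subsingleton.elim _ _⟩
  obtain ⟨v, hv, hvs⟩ := Fixed.exists_eigvec R σ hσ hσ'
  let L : Submodule k V := Submodule.span k {v}
  have hstab : ∀ x : Γ, L ≤ L.comap (σ x) := by
    intro x
    obtain ⟨c, hc⟩ := hvs x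
    rw [Submodule.span_singleton_le_iff_mem, Submodule.mem_comap, hc]
    exact Submodule.smul_mem _ c (Submodule.mem_span_singleton_self v)
  let τ : Representation k Γ (V ⧸ L) :=
    { toFun := fun x => L.mapQ L (σ x) (hstab x)
      map_one' := Submodule.linearMap_qext _ (LinearMap.ext fun x => by simp)
      map_mul' := fun x y => Submodule.linearMap_qext _ (LinearMap.ext fun z => by simp) }
  have hτ : EndFn R (fun x => τ x) := fun w l => by
    obtain ⟨z, rfl⟩ := Submodule.mkQ_surjective L w
    exact hσ z (l.comp L.mkQ)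
  have hτ' : EndFn R (fun x => τ x⁻¹) := fun w l => by
    obtain ⟨z, rfl⟩ := Submodule.mkQ_surjective L w
    exact hσ' z (l.comp L.mkQ)
  have hlt : finrank k (V ⧸ L) < d := by
    have h := Submodule.finrank_quotient_add_finrank L
    rw [finrank_span_singleton hv] at h
    omega
  obtain ⟨n, hn⟩ := ih _ hlt τ hτ hτ' rfl g hg
  refine ⟨n + 1, LinearMap.ext fun x => ?_⟩
  have key : ∀ (j : ℕ) (x : V), Submodule.Quotient.mk (p := L) ((((σ g - 1) ^ j : End k V)) x) =
      (((τ g - 1) ^ j : End k (V ⧸ L))) (Submodule.Quotient.mk x) := by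
    intro j
    induction j with
    | zero => simp
    | succ j ihj =>
      intro x
      rw [pow_succ', pow_succ', End.mul_apply, End.mul_apply, ← ihj]
      simp only [LinearMap.sub_apply, End.one_apply, Submodule.Quotient.mk_sub]
      rfl
  have hmem : ((σ g - 1) ^ n) x ∈ L := (Submodule.Quotient.mk_eq_zero L).mp (by rw [key, hn]; rfl)
  obtain ⟨c, hc⟩ := Submodule.mem_span_singleton.mp hmem
  rw [pow_succ', End.mul_apply, ← hc, map_smul, LinearMap.sub_apply, End.one_apply,
    commutator_fix σ hv hvs g hg, sub_self, smul_zero, LinearMap.zero_apply]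

end Groth.Agent.H1.Classical.Solvable
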