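import Groth.Agent.H1.Classical.PairTransporter
import Groth.Agent.H63.GrpIdentity
import Groth.Agent.Lib.GrpQ.Points
import Groth.Agent.Lib.GrpSch.SmoothReduced
import Groth.Agent.Lib.Unram.FlatUnramified

/-!
# Maximal tori are conjugate over a finite separable extension
-/

universe u

open CategoryTheory MonoidalCategory CartesianMonoidalCategory MonObj GrpObj AlgebraicGeometry Limits

namespace Groth.Agent.H1.Classical.TorusTransporter

set_option linter.style.haveILetI false
set_option linter.unusedSectionVars false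

open Groth.Agent.Lib.RedPts Groth.Agent.Lib.RedPts.Points Scheme' Groth.Agent.Lib.GrpSch FieldDescent
  Groth.Agent.Lib.RedPts.BC Groth.Agent.H63.GrpConnected Groth.Agent.H63.GrpComponent Groth.Agent.H63.GrpIdentity
  Groth.Agent.H63.GrpIrred

attribute [local instance] baseAlgebra

/-- Maximal tori of a possibly disconnected group are conjugate. -/
theorem maxTorus_conj' {K : Type u} [Field K] [IsAlgClosed K] {G : Over (Spec (CommRingCat.of K))} [GrpObj G]
    [IsAffine G.left] [Smooth G.hom] {T T' : Over (Spec (CommRingCat.of K))} [GrpObj T] [GrpObj T'] {iT : T ⟶ G}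
    {iT' : T' ⟶ G} (hT : AGF.IsMaxTorus iT) (hT' : AGF.IsMaxTorus iT') :
    ∃ (g : 𝟙_ (Over (Spec (CommRingCat.of K))) ⟶ G) (f : T ≅ T'), f.hom ≫ iT' = AGF.conjBy g iT := by
  letI := idGrp G
  haveI := isMonHom_idHom G
  haveI : IsClosedImmersion (idHom G).left := isClosedImmersion_idIncl G
  haveI : Flat (idHom G).left := flat_idIncl G
  haveI : IsLocallyNoetherian G.left := LocallyOfFiniteType.isLocallyNoetherian G.hom
  haveI : IsOpenImmersion (idHom G).left := IsOpenImmersion.of_flat_of_mono _
  haveI : IsAffine (idObj G).left := isAffine_of_isAffineHom (idHom G).left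
  haveI : Smooth (idObj G).hom := by rw [← Over.w (idHom G)]; infer_instance
  haveI : ConnectedSpace (idObj G).left := by
    have h : _root_.IsPreconnected (Set.range (idHom G).left) := by
      show _root_.IsPreconnected (Set.range (idIncl G))
      rw [range_idIncl, ← connectedComponent_unit]
      exact isPreconnected_connectedComponent
    haveI : PreconnectedSpace (idObj G).left := by
      refine ⟨?_⟩
      rw [← Set.image_univ] at h
      exact ((idHom G).left.isClosedEmbedding.isInducing.isPreconnected_image).mp h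
    exact { toNonempty := ⟨η[idObj G].left (IsLocalRing.closedPoint K)⟩ }
  haveI : Mono (idHom G) := Over.mono_of_mono_left _
  have lift : ∀ {U : Over (Spec (CommRingCat.of K))} [GrpObj U] (i : U ⟶ G), AGF.IsMaxTorus i →
      ∃ i₀ : U ⟶ idObj G, i₀ ≫ idHom G = i ∧ AGF.IsMaxTorus i₀ := by
    intro U _ i hi
    haveI := hi.1
    haveI := hi.2.1
    obtain ⟨-, -, hconn, -⟩ := TorusPts.torus_props i hi.2.2.1
    haveI := hconn
    obtain ⟨i₀, hi₀⟩ := exists_lift G i fun t => by
      rw [← connectedComponent_unit]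
      have hsub : Set.range i.left ⊆ connectedComponent (unitPt G) :=
        (isPreconnected_range i.left.continuous).subset_connectedComponent
          ⟨η[U].left (IsLocalRing.closedPoint K), by
            rw [← Scheme.Hom.comp_apply, ← Over.comp_left, IsMonHom.one_hom (f := i)]⟩
      exact hsub ⟨t, rfl⟩
    refine ⟨i₀, hi₀, ?_⟩
    haveI : IsMonHom (i₀ ≫ idHom G) := hi₀.symm ▸ inferInstance
    haveI : IsMonHom i₀ := CentralizerBorel.isMonHom_of_mono_comp i₀ (idHom G)
    haveI : Mono (i₀ ≫ idHom G) := hi₀.symm ▸ inferInstance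
    haveI : Mono i₀ := mono_of_mono i₀ (idHom G)
    exact ⟨inferInstance, inferInstance, hi.2.2.1, fun T'' _ j _ _ f hT'' hf => hi.2.2.2 T'' (j ≫ idHom G) f hT''
      (by rw [← Category.assoc, hf, hi₀])⟩
  obtain ⟨a, ha, hA⟩ := lift iT hT
  obtain ⟨b, hb, hB⟩ := lift iT' hT'
  obtain ⟨g, f, hf⟩ := MaxTorusApply.maxTorus_conj hA hB
  exact ⟨g ≫ idHom G, f, by rw [← hb, ← Category.assoc, hf, conjBy_map, ha]⟩

/-- A separable point of a smooth affine scheme. -/
theorem exists_separable_point {k : Type u} [Field k] (C : Over (Spec (CommRingCat.of k))) [IsAffine C.left]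
    [Smooth C.hom] [Nonempty C.left] :
    ∃ (L : Type u) (_ : Field L) (_ : Algebra k L) (_ : FiniteDimensional k L) (_ : Algebra.IsSeparable k L),
      Nonempty (Over.mk (extBase k L) ⟶ C) := by
  let Ks := SeparableClosure k
  let σ := extBase k Ks
  haveI : Smooth (Red.bc σ C).hom := bc_hom_of (P := @Smooth) σ C inferInstance
  haveI : Nonempty (Red.bc σ C).left := by
    obtain ⟨c⟩ := (inferInstance : Nonempty C.left)
    obtain ⟨w, -⟩ := Scheme.Pullback.exists_preimage_pullback (f := C.hom) (g := σ) c (IsLocalRing.closedPoint Ks)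
      (Subsingleton.elim (α := PrimeSpectrum k) _ _)
    exact ⟨w⟩
  haveI := geometricallyReduced_of_smooth_field (Red.bc σ C).hom
  obtain ⟨s, hs⟩ := Groth.Agent.Lib.GrpQ.exists_section (Red.bc σ C).hom
  let p : Over.mk σ ⟶ C := Over.homMk (s ≫ pullback.fst C.hom σ) (by
    have : s ≫ pullback.snd C.hom σ = 𝟙 _ := hs
    show (s ≫ pullback.fst C.hom σ) ≫ C.hom = σ
    rw [Category.assoc, pullback.condition, ← Category.assoc, this, Category.id_comp])
  let φ₀ : Γ(C.left, ⊤) →+* Ks :=
    ((s ≫ pullback.fst C.hom σ).appTop ≫ (Scheme.ΓSpecIso (CommRingCat.of Ks)).hom).hom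
  let φ : Γ(C.left, ⊤) →ₐ[k] Ks :=
    { φ₀ with
      commutes' := fun c => by
        show φ₀ (baseHom C c) = algebraMap k Ks c
        have h := congrArg (fun f => (Scheme.Hom.appTop f ≫ (Scheme.ΓSpecIso (CommRingCat.of Ks)).hom).hom
          ((Scheme.ΓSpecIso (CommRingCat.of k)).inv c)) (Over.w p)
        have hnat := congrArg (fun f => f.hom ((Scheme.ΓSpecIso (CommRingCat.of k)).inv c))
          (Scheme.ΓSpecIso_naturality (CommRingCat.ofHom (algebraMap k Ks)))
        simp only [CommRingCat.hom_comp, RingHom.comp_apply, Scheme.Hom.comp_appTop] at h hnat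
        refine h.trans (hnat.trans ?_)
        simp }
  haveI : Algebra.FiniteType k Γ(C.left, ⊤) := by
    have h : LocallyOfFiniteType C.hom := inferInstance
    rw [HasRingHomProperty.iff_of_isAffine (P := @LocallyOfFiniteType)] at h
    show (baseHom C).FiniteType
    exact h.comp (RingHom.FiniteType.of_surjective _
      (Scheme.ΓSpecIso (CommRingCat.of k)).symm.commRingCatIsoToRingEquiv.surjective)
  haveI : Algebra.IsAlgebraic k Ks := inferInstance
  haveI : Algebra.IsAlgebraic k φ.range :=
    Algebra.IsAlgebraic.of_injective φ.range.val Subtype.val_injective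
  haveI : Algebra.IsIntegral k φ.range := Algebra.IsAlgebraic.isIntegral
  haveI : Algebra.FiniteType k φ.range :=
    Algebra.FiniteType.of_surjective φ.rangeRestrict φ.rangeRestrict_surjective
  let hF : IsField φ.range := isField_of_isIntegral_of_isField' (Field.toIsField k)
  letI := hF.toField
  haveI : Module.Finite k φ.range := Algebra.IsIntegral.finite
  haveI : Algebra.IsSeparable k φ.range := Algebra.IsSeparable.of_algHom k Ks φ.range.val
  refine ⟨φ.range, inferInstance, inferInstance, inferInstance, inferInstance,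
    ⟨Over.homMk (Spec.map (CommRingCat.ofHom φ.rangeRestrict.toRingHom) ≫ C.left.isoSpec.inv) ?_⟩⟩
  show (Spec.map (CommRingCat.ofHom φ.rangeRestrict.toRingHom) ≫ C.left.isoSpec.inv) ≫ C.hom = extBase k φ.range
  have hC : C.left.isoSpec.inv ≫ C.hom = Spec.map (CommRingCat.ofHom (baseHom C)) := by
    rw [Iso.inv_comp_eq]
    refine (eq_toSpecΓ C.hom).trans ?_
    rfl
  rw [Category.assoc, hC, ← Spec.map_comp, ← CommRingCat.ofHom_comp]
  exact congrArg (fun f => Spec.map (CommRingCat.ofHom f)) φ.rangeRestrict.comp_algebraMap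

/-- Maximal tori are conjugate over a finite separable extension. -/
theorem conj_separable {k : Type u} [Field k] {G : Over (Spec (CommRingCat.of k))} [GrpObj G] [IsAffine G.left]
    [Smooth G.hom] {T₁ T₂ : Over (Spec (CommRingCat.of k))} [GrpObj T₁] [GrpObj T₂] {i₁ : T₁ ⟶ G} {i₂ : T₂ ⟶ G}
    (h₁ : Red.IsMaximalTorus i₁) (h₂ : Red.IsMaximalTorus i₂) :
    ∃ (k' : Type u) (_ : Field k') (_ : Algebra k k') (_ : FiniteDimensional k k') (_ : Algebra.IsSeparable k k')
      (g : 𝟙_ (Over (Spec (CommRingCat.of k'))) ⟶ Red.bc (extBase k k') G)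
      (f : Red.bc (extBase k k') T₁ ≅ Red.bc (extBase k k') T₂),
      f.hom ≫ (Over.pullback (extBase k k')).map i₂ = AGF.conjBy g ((Over.pullback (extBase k k')).map i₁) := by
  haveI := h₁.1
  haveI := h₁.2.1
  haveI := h₂.1
  haveI := h₂.2.1
  haveI := Groth.Agent.Lib.Tori.Basic.smooth_of_isTorus h₁.2.2.1
  haveI := Groth.Agent.Lib.Tori.Basic.isAffineHom_of_isTorus h₁.2.2.1
  haveI := Groth.Agent.Lib.Tori.Basic.smooth_of_isTorus h₂.2.2.1
  haveI := Groth.Agent.Lib.Tori.Basic.isAffineHom_of_isTorus h₂.2.2.1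
  haveI : IsAffine T₁.left := isAffine_of_isAffineHom T₁.hom
  haveI : IsAffine T₂.left := isAffine_of_isAffineHom T₂.hom
  haveI : IsClosedImmersion i₁.left := Groth.Agent.Lib.GrpQ.MonoClosed.isClosedImmersion_of_mono i₁
  haveI : IsClosedImmersion i₂.left := Groth.Agent.Lib.GrpQ.MonoClosed.isClosedImmersion_of_mono i₂
  obtain ⟨C, c, hcc, hCs, hC⟩ := Groth.Agent.Lib.MultSmooth.exists_strict_smooth' (G := G)
    (CentralizerScheme.isMultTypeFT_of_isTorus h₁.2.2.1) (CentralizerScheme.isMultTypeFT_of_isTorus h₂.2.2.1) i₁ i₂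
  haveI := hcc
  haveI := hCs
  haveI : IsAffine C.left := isAffine_of_isAffineHom c.left
  have hCT : ∀ {X : Over (Spec (CommRingCat.of k))} (g : X ⟶ G), (∃ z : X ⟶ C, z ≫ c = g) ↔
      Groth.Agent.Lib.FreeRes.Transports i₂ i₁ g ∧ Groth.Agent.Lib.FreeRes.TransportsBack i₂ i₁ g := by
    intro X g
    rw [hC X g]
    refine and_congr Iff.rfl (forall_congr' fun U => forall_congr' fun s => forall_congr' fun x =>
      exists_congr fun y => ?_)
    rw [GrpObj.comp_inv, _root_.inv_inv]
  haveI : Nonempty C.left := by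
    obtain ⟨K, _, _, _, _, hmax, -⟩ := exists_closure k
    haveI : IsAffineHom (Red.bc (extBase k K) G).hom := bc_hom_of (P := @IsAffineHom) _ G inferInstance
    haveI : IsAffine (Red.bc (extBase k K) G).left := isAffine_of_isAffineHom (Red.bc (extBase k K) G).hom
    haveI : Smooth (Red.bc (extBase k K) G).hom := bc_hom_of (P := @Smooth) _ G inferInstance
    obtain ⟨g, f, hf⟩ := maxTorus_conj' (hmax h₁) (hmax h₂)
    obtain ⟨a, b⟩ := PairTransporter.transports_conj g f hf
    obtain ⟨z, -⟩ := (hCT (down (extBase k K) g)).mpr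
      ⟨PairTransporter.transports_down _ g a, PairTransporter.transportsBack_down _ g b⟩
    exact ⟨z.left (IsLocalRing.closedPoint K)⟩
  obtain ⟨L, _, _, _, _, ⟨p⟩⟩ := exists_separable_point C
  let σ := extBase k L
  let κ : (Over.map σ).obj (𝟙_ (Over (Spec (CommRingCat.of L)))) ≅ Over.mk σ := Over.isoMk (Iso.refl _) (by
    show 𝟙 _ ≫ σ = 𝟙 _ ≫ σ
    rfl)
  let x : 𝟙_ (Over (Spec (CommRingCat.of L))) ⟶ Red.bc σ C := up σ (κ.hom ≫ p)
  set g := x ≫ (Over.pullback σ).map c
  obtain ⟨a, b⟩ := (hCT (down σ g)).mp ⟨down σ x, (down_map x c).symm⟩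
  refine ⟨L, inferInstance, inferInstance, inferInstance, inferInstance, g, ?_⟩
  haveI : Mono ((Over.pullback σ).map i₁) := inferInstance
  haveI : Mono ((Over.pullback σ).map i₂) := inferInstance
  refine PairTransporter.exists_iso_of_transports g (fun U s y => ?_) (fun U s y => ?_)
  · obtain ⟨y', hy'⟩ := a _ ((Over.map σ).map s) (down σ y)
    refine ⟨up σ y', down_injective ?_⟩
    simp only [down_mul, down_inv]
    rw [down_comp s g, down_map y, down_map (up σ y'), down_up]
    exact hy'
  · obtain ⟨y', hy'⟩ := b _ ((Over.map σ).map s) (down σ y)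
    refine ⟨up σ y', down_injective ?_⟩
    simp only [down_mul, down_inv]
    rw [down_comp s g, down_map y, down_map (up σ y'), down_up]
    exact hy'

end Groth.Agent.H1.Classical.TorusTransporter
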