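import Groth.Agent.H1.Classical.Torus.UnipotentPart
import Groth.Agent.H1.Classical.Torus.ImageTorus
import Groth.Agent.H1.Classical.MaxTorusExists
import Groth.Agent.H1.Classical.BorelExists

/-!
# Groups without subtori and the unipotent part of a solvable group
-/

universe u

open CategoryTheory MonoidalCategory CartesianMonoidalCategory MonObj GrpObj AlgebraicGeometry

namespace Groth.Agent.H1.Classical.Unipotent

set_option linter.style.haveILetI false
set_option linter.unusedSectionVars false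

open Groth.Agent.Lib.RedPts Groth.Agent.Lib.RedPts.Points Scheme' WithConv Torus Torus.Centraliser Complete
  MaxTorusScheme MaxTorusApply

attribute [local instance] baseAlgebra

variable {k : Type u} [Field k]

/-- No nontrivial rational point of order prime to the characteristic. -/
def NoTorsion (U : Over (Spec (CommRingCat.of k))) [GrpObj U] : Prop :=
  ∀ (x : 𝟙_ (Over (Spec (CommRingCat.of k))) ⟶ U) (m : ℕ), (m : k) ≠ 0 → x ^ m = 1 → x = 1

theorem pow_comp {U V X : Over (Spec (CommRingCat.of k))} [GrpObj U] [GrpObj V] (f : U ⟶ V) [IsMonHom f] (x : X ⟶ U)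
    (m : ℕ) : (x ^ m) ≫ f = (x ≫ f) ^ m :=
  map_pow (postcomp f X) x m

variable [IsAlgClosed k]

theorem noTorsion_of_mono {U V : Over (Spec (CommRingCat.of k))} [GrpObj U] [GrpObj V] (f : U ⟶ V) [IsMonHom f] [Mono f]
    (h : NoTorsion V) : NoTorsion U := fun x m hm hx => by
  rw [← cancel_mono f, MonObj.one_comp]
  exact h _ m hm (by rw [← pow_comp, hx, MonObj.one_comp])

section GA

variable {A : Type u} [CommRing A] [HopfAlgebra k A] [Algebra.FiniteType k A] [IsDomain A]

/-- In a group without subtori all points are unipotent. -/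
theorem nilp_GA (h : Red.HasNoSubtorus k (GA k A)) {W : Type u} [AddCommGroup W] [Module k W] [FiniteDimensional k W]
    {σ : Representation k (HopfPts.Pt k A) W} (hσ : GenRep.Gen (HopfPts.D k A) σ) :
    ∀ χ, IsNilpotent (σ χ - 1) := by
  haveI := locallyOfFiniteType (k := k) (A := A)
  obtain ⟨B, hB⟩ := exists_bor (k := k) (A := A)
  obtain ⟨S, -, hS, -⟩ := Torus.MaxTorus.exists_max hasMul_pts hσ hB
  obtain ⟨C, _, c, hc, hci, hCt, hp⟩ := exists_torus hS.tor
  haveI := hc
  haveI := hci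
  haveI : Mono c := Over.mono_of_mono_left c
  haveI : IsIso C.hom := h C c hCt
  have hbot : S = ⊥ := (Subgroup.eq_bot_iff_forall _).mpr fun s hs => by
    rw [← hp] at hs
    obtain ⟨x, hx⟩ := hs
    have h1 : x = 1 := Over.OverMorphism.ext (by rw [← cancel_mono C.hom, Over.w, Over.w])
    refine ptHom_injective ?_
    rw [map_one, ← show x ≫ c = ptHom (𝟙_ _) s from hx, h1, MonObj.one_comp]
  exact UnipotentPart.nilp_of_max_bot HopfPts.sirr_univ hasMul_pts hσ hB (hbot ▸ hS)

end GA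

/-- No subtorus means no torsion of order prime to the characteristic. -/
theorem noTorsion_of_hasNoSubtorus {U : Over (Spec (CommRingCat.of k))} [GrpObj U] [IsAffine U.left] [Smooth U.hom]
    [ConnectedSpace U.left] (h : Red.HasNoSubtorus k U) : NoTorsion U := by
  obtain ⟨A, _, _, _, _, e, he⟩ := exists_GA U
  haveI := he
  haveI : IsMonHom e.inv := inferInstance
  have h' : Red.HasNoSubtorus k (GA k A) := fun T _ j _ _ hT => h T (j ≫ e.inv) hT
  obtain ⟨W, _, σ, hσ⟩ := Torus.GenRep.exists_gen (HopfPts.D k A) hasMul_pts pts_ext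
  intro x m hm hx
  obtain ⟨χ, hχ⟩ := ptHom_surjective (x ≫ e.hom)
  have hχm : χ ^ m = 1 := ptHom_injective (by rw [map_pow, hχ, ← pow_comp, hx, MonObj.one_comp, map_one])
  rw [← cancel_mono e.hom, MonObj.one_comp, ← hχ, Cartan.eq_one_of_nilp hσ.faith hm hχm (nilp_GA h' hσ χ), map_one]

/-- No torsion of order prime to the characteristic means no subtorus. -/
theorem hasNoSubtorus_of_noTorsion {U : Over (Spec (CommRingCat.of k))} [GrpObj U] [IsAffine U.left] [Smooth U.hom]
    [ConnectedSpace U.left] (h : NoTorsion U) : Red.HasNoSubtorus k U := by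
  intro T _ j _ _ hT
  obtain ⟨A, _, _, _, _, e, he⟩ := exists_GA U
  haveI := he
  haveI := locallyOfFiniteType (k := k) (A := A)
  obtain ⟨-, hs, -, ha⟩ := TorusPts.torus_props (j ≫ e.hom) hT
  haveI := hs
  haveI := ha
  have htor := TorusPts.isTor_ptsOf (j ≫ e.hom) hT
  have hS : ∀ s ∈ ptsOf (j ≫ e.hom), s = 1 := fun s hs => pts_ext s 1 fun f hf => sub_eq_zero.mp
    (htor.dense (fun χ => f χ - f 1) ((HopfPts.D k A).R.sub_mem hf ((HopfPts.D k A).R.algebraMap_mem (f 1)))
      (fun t ht ⟨m, hm, htm⟩ => by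
        obtain ⟨x, hx⟩ := ht
        have hx' : x ≫ j ≫ e.hom = ptHom (𝟙_ _) t := hx
        have hxm : x ^ m = 1 := by
          rw [← cancel_mono (j ≫ e.hom), pow_comp, hx', ← map_pow, htm, map_one, MonObj.one_comp]
        have hone : x ≫ j = 1 := h (x ≫ j) m hm (by rw [← pow_comp, hxm, MonObj.one_comp])
        have : t = 1 := ptHom_injective (by rw [← hx', ← Category.assoc, hone, MonObj.one_comp, map_one])
        show f t - f 1 = 0
        rw [this, sub_self]) s hs)
  have hid : (toUnit T ≫ η[T]) = 𝟙 T := MaxTorusExists.hom_ext_of_points _ _ fun x => by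
    obtain ⟨s, hs⟩ := ptHom_surjective (x ≫ j ≫ e.hom)
    have hs1 := hS s ⟨x, hs.symm⟩
    rw [Category.comp_id, ← Category.assoc, toUnit_unique (x ≫ toUnit T) (toUnit _), ← Hom.one_def,
      ← cancel_mono (j ≫ e.hom), MonObj.one_comp, ← hs, hs1, map_one]
  haveI : IsIso (toUnit T) := ⟨η[T], hid, toUnit_unique _ _⟩
  haveI : IsIso (toUnit T).left := inferInstanceAs (IsIso ((Over.forget _).map (toUnit T)))
  show IsIso T.hom
  rw [← Over.w (toUnit T)]
  haveI : IsIso (𝟙_ (Over (Spec (CommRingCat.of k)))).hom := inferInstanceAs (IsIso (𝟙 _))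
  infer_instance

/-- The unipotent part of a connected solvable group. -/
theorem exists_unipPart (B : Over (Spec (CommRingCat.of k))) [GrpObj B] [IsAffine B.left] [Smooth B.hom]
    [ConnectedSpace B.left] (hsol : Red.IsSolvableGrp B) :
    ∃ (V : Over (Spec (CommRingCat.of k))) (_ : GrpObj V) (v : V ⟶ B),
      IsMonHom v ∧ IsClosedImmersion v.left ∧ Smooth V.hom ∧ ConnectedSpace V.left ∧ Red.HasNoSubtorus k V ∧
      AlgGrp.IsNormalHom v ∧
      (∀ (W : Over (Spec (CommRingCat.of k))) [GrpObj W] [IsAffine W.left] [Smooth W.hom] [ConnectedSpace W.left]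
        (f : W ⟶ B) [IsMonHom f], NoTorsion W → ∃ f', f' ≫ v = f) ∧
      (Red.IsTrivialGrp V → Red.IsTorus B) := by
  obtain ⟨A, _, _, _, _, e, he⟩ := exists_GA B
  haveI := he
  haveI : IsIso e.hom.left := ((Over.forget _).mapIso e).isIso_hom
  haveI : IsIso e.inv.left := ((Over.forget _).mapIso e).isIso_inv
  haveI : Smooth (GA k A).hom := by rw [← Over.w e.inv]; infer_instance
  haveI : Group.IsSolvable (HopfPts.Pt k A) := by
    obtain ⟨n, hn⟩ := hsol
    haveI : Group.IsSolvable (𝟙_ (Over (Spec (CommRingCat.of k))) ⟶ B) := (Group.isSolvable_def _).mpr ⟨n, hn _⟩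
    exact Group.isSolvable_of_isSolvable_injective
      (f := (postcomp e.inv (𝟙_ (Over (Spec (CommRingCat.of k))))).comp (ptHom (A := A) _))
      fun a b h => ptHom_injective ((cancel_mono e.inv).mp h)
  obtain ⟨W₀, _, σ, hσ⟩ := Torus.GenRep.exists_gen (HopfPts.D k A) hasMul_pts pts_ext
  obtain ⟨T, U, τ, hs⟩ := Split.exists_split (HopfPts.D k A) HopfPts.sirr_univ σ hσ
  obtain ⟨C, _, c, hc1, hc2, hc3, hc4, -, hfac, hpt⟩ := exists_subgroup U hs.clU hs.irrU
  haveI := hc1
  haveI := hc2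
  haveI := hc3
  haveI := hc4
  haveI : Mono c := Over.mono_of_mono_left c
  haveI : IsAffine C.left := isAffine_of_isAffineHom c.left
  haveI : IsMonHom e.inv := inferInstance
  haveI : IsClosedImmersion (c ≫ e.inv).left := by rw [Over.comp_left]; infer_instance
  have hnoC : NoTorsion C := fun x m hm hx => by
    obtain ⟨s, hsU, hxs⟩ := hpt x
    have hsm : s ^ m = 1 := ptHom_injective (by rw [map_pow, ← hxs, ← pow_comp, hx, MonObj.one_comp, map_one])
    rw [← cancel_mono c, MonObj.one_comp, hxs, Cartan.eq_one_of_nilp hσ.faith hm hsm ((hs.nilp s).mpr hsU), map_one]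
  refine ⟨C, inferInstance, c ≫ e.inv, inferInstance, inferInstance, inferInstance, inferInstance,
    hasNoSubtorus_of_noTorsion hnoC, ?_, ?_, ?_⟩
  · haveI : IsAffine (B ⊗ C).left := inferInstanceAs (IsAffine (Limits.pullback B.hom C.hom))
    haveI : Smooth (B ⊗ C).hom := inferInstanceAs (Smooth (Limits.pullback.fst B.hom C.hom ≫ B.hom))
    let Φ : B ⊗ C ⟶ B := fst B C * (snd B C ≫ c ≫ e.inv) * (fst B C)⁻¹
    obtain ⟨Φ', hΦ'⟩ := hfac (B ⊗ C) (Φ ≫ e.hom) (algHomOf_eq_zero (T := (U : Set (HopfPts.Pt k A))) _ fun x => by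
      obtain ⟨g, hg⟩ := ptHom_surjective (x ≫ fst B C ≫ e.hom)
      obtain ⟨s, hsU, hxs⟩ := hpt (x ≫ snd B C)
      refine ⟨g * s * g⁻¹, hs.normU.conj_mem s hsU g, ?_⟩
      simp only [Φ, MonObj.mul_comp, GrpObj.inv_comp, MonObj.comp_mul, GrpObj.comp_inv, Category.assoc,
        Iso.inv_hom_id, Category.comp_id]
      rw [map_mul, map_mul, map_inv, hg, ← hxs, Category.assoc])
    intro X g n
    refine ⟨lift g n ≫ Φ', ?_⟩
    rw [Category.assoc, ← Category.assoc Φ', hΦ', Category.assoc, e.hom_inv_id, Category.comp_id]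
    simp [Φ, MonObj.comp_mul, GrpObj.comp_inv]
  · intro W _ _ _ _ f _ hW
    obtain ⟨A', _, _, _, _, e', he'⟩ := exists_GA W
    haveI := he'
    haveI : IsMonHom e'.inv := inferInstance
    obtain ⟨r, hr, hrreg⟩ := exists_ptMap (e'.inv ≫ f ≫ e.hom)
    obtain ⟨W', _, σ', hσ'⟩ := Torus.GenRep.exists_gen (HopfPts.D k A') hasMul_pts pts_ext
    have h' : Red.HasNoSubtorus k (GA k A') := fun T' _ j _ _ hT' => hasNoSubtorus_of_noTorsion hW T' (j ≫ e'.inv) hT'
    obtain ⟨f', hf'⟩ := hfac W (f ≫ e.hom) (algHomOf_eq_zero (T := (U : Set (HopfPts.Pt k A))) _ fun x => by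
      obtain ⟨χ, hχ⟩ := ptHom_surjective (x ≫ e'.hom)
      refine ⟨r χ, (hs.nilp _).mp (ImageTorus.nilp_of_gen hσ' (nilp_GA h' hσ' χ) (ρ := σ.comp r)
        fun w l => hrreg _ (hσ.reg w l)), ?_⟩
      rw [← hr, hχ]
      simp only [Category.assoc, Iso.hom_inv_id_assoc])
    exact ⟨f', by rw [← Category.assoc, hf', Category.assoc, e.hom_inv_id, Category.comp_id]⟩
  · intro htriv
    haveI : IsIso C.hom := htriv
    have hU : U = ⊥ := (Subgroup.eq_bot_iff_forall _).mpr fun s hsU => by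
      obtain ⟨x, hx⟩ := hfac (𝟙_ (Over (Spec (CommRingCat.of k)))) (ptHom _ s)
        fun a ha => by rw [algHomOf_ptHom, ha s hsU, map_zero]
      have h1 : x = 1 := Over.OverMorphism.ext (by rw [← cancel_mono C.hom, Over.w, Over.w])
      refine ptHom_injective ?_
      rw [map_one, ← hx, h1, MonObj.one_comp]
    have hTor := UnipotentPart.isTor_top HopfPts.sirr_univ hσ fun T' U' τ' hs' => eq_bot_iff.mpr fun g hg =>
      hU ▸ (hs.nilp g).mp ((hs'.nilp g).mpr hg)
    haveI : IsClosedImmersion (𝟙 (GA k A) : GA k A ⟶ GA k A).left := by rw [Over.id_left]; infer_instance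
    haveI : ConnectedSpace (GA k A).left := e.hom.left.surjective.connectedSpace e.hom.left.continuous
    have hp : ptsOf (𝟙 (GA k A)) = ⊤ := eq_top_iff.mpr fun χ _ => ⟨ptHom _ χ, Category.comp_id (ptHom (A := A) (𝟙_ (Over (Spec (CommRingCat.of k)))) χ)⟩
    exact Groth.Agent.Lib.Tori.Basic.isTorus_congr (Grp.mkIso' e) (TorusPts.isTorus_of_isTor (𝟙 (GA k A)) (hp ▸ hTor))

/-- A connected solvable subgroup lies in a Borel subgroup. -/
theorem exists_borel_solvable {G H : Over (Spec (CommRingCat.of k))} [GrpObj G] [IsAffine G.left] [Smooth G.hom]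
    [ConnectedSpace G.left] [GrpObj H] (i : H ⟶ G) [IsMonHom i] [IsClosedImmersion i.left] [Smooth H.hom]
    [ConnectedSpace H.left] (hH : Red.IsSolvableGrp H) :
    ∃ (B : Over (Spec (CommRingCat.of k))) (_ : GrpObj B) (iB : B ⟶ G) (f : H ⟶ B),
      Red.IsBorelOver k iB ∧ f ≫ iB = i := by
  obtain ⟨A, _, _, _, _, e, he⟩ := exists_GA G
  haveI := he
  haveI : IsIso e.hom.left := ((Over.forget _).mapIso e).isIso_hom
  haveI : IsClosedImmersion (i ≫ e.hom).left := by rw [Over.comp_left]; infer_instance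
  haveI : IsAffine H.left := isAffine_of_isAffineHom i.left
  obtain ⟨B, _, iB, hB⟩ := BorelExists.exists_borel G
  haveI := hB.1
  obtain ⟨hirr, hsol, hpts⟩ := ptsOf_props (i ≫ e.hom) hH
  have hB₁ := isBorelOver_comp hB e
  haveI := hB₁.2.1
  obtain ⟨a, ha⟩ := (isBor_ptsOf (iB ≫ e.hom) hB₁).abs _ hsol hirr
  let γ : 𝟙_ (Over (Spec (CommRingCat.of k))) ⟶ G := ptHom _ a ≫ e.inv
  obtain ⟨f, hf⟩ := exists_factor (iB ≫ e.hom) (AGF.conjBy (ptHom _ a⁻¹) (i ≫ e.hom)) fun x => by
    obtain ⟨s, hs, hx⟩ := hpts x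
    exact ⟨a⁻¹ * s * a⁻¹⁻¹, by rw [_root_.inv_inv]; exact ha s hs, point_conj a⁻¹ s _ x hx⟩
  refine ⟨B, inferInstance, iB ≫ (ConjIso.conjIso γ).hom, f, isBorelOver_comp hB _, ?_⟩
  have h := conjBy_comp_eq e _ hf
  rw [← Category.assoc, ConjIso.comp_conjIso, h, Scheme'.conj_conj]
  rw [show γ * (ptHom _ a⁻¹ ≫ e.inv) = 1 by
    show (ptHom _ a ≫ e.inv) * _ = 1
    rw [← MonObj.mul_comp, ← map_mul, mul_inv_cancel, map_one, MonObj.one_comp], Scheme'.conjBy_one]

/-- A group without subtori is solvable. -/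
theorem isSolvableGrp_of_noTorsion {U : Over (Spec (CommRingCat.of k))} [GrpObj U] [IsAffine U.left] [Smooth U.hom]
    [ConnectedSpace U.left] (h : NoTorsion U) : Red.IsSolvableGrp U := by
  obtain ⟨A, _, _, _, _, e, he⟩ := exists_GA U
  haveI := he
  haveI : IsMonHom e.inv := inferInstance
  have h' : Red.HasNoSubtorus k (GA k A) := fun T _ j _ _ hT => hasNoSubtorus_of_noTorsion h T (j ≫ e.inv) hT
  obtain ⟨W, _, σ, hσ⟩ := Torus.GenRep.exists_gen (HopfPts.D k A) hasMul_pts pts_ext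
  obtain ⟨B, hB⟩ := exists_bor (k := k) (A := A)
  obtain ⟨S, -, hS, -⟩ := Torus.MaxTorus.exists_max hasMul_pts hσ hB
  have htop : B = ⊤ := eq_top_iff.mpr fun g _ => by
    have hbot : S = ⊥ := (Subgroup.eq_bot_iff_forall _).mpr fun s hs => by
      refine pts_ext s 1 fun f hf => sub_eq_zero.mp (hS.tor.dense (fun χ => f χ - f 1)
        ((HopfPts.D k A).R.sub_mem hf ((HopfPts.D k A).R.algebraMap_mem (f 1))) (fun t _ ⟨m, hm, htm⟩ => ?_) s hs)
      show f t - f 1 = 0
      rw [Cartan.eq_one_of_nilp hσ.faith hm htm (nilp_GA h' hσ t), sub_self]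
    exact Torus.MaxTorus.centralizer_le HopfPts.sirr_univ hasMul_pts hσ hB (hbot ▸ hS) bot_le
      (Subgroup.mem_centralizer_iff.mpr fun s hs => by rw [Subgroup.mem_bot.mp hs, _root_.one_mul, _root_.mul_one])
  haveI := hB.solv
  obtain ⟨C, _, c, hc1, hc2, hc3, hc4, hc5, hfac, -⟩ := exists_subgroup B hB.cl hB.irr
  obtain ⟨f, hf⟩ := hfac (GA k A) (𝟙 _) fun a ha => by
    have h0 : a = 0 := HopfPts.ev_injective k A (funext fun s => by
      show s.ofConv a = _
      rw [map_zero]
      exact ha s (htop ▸ Subgroup.mem_top s))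
    rw [h0, map_zero]
  haveI := hc1
  haveI := hc2
  haveI : Mono c := Over.mono_of_mono_left c
  haveI : IsIso c := ⟨f, by rw [← cancel_mono c, Category.assoc, hf, Category.comp_id, Category.id_comp], hf⟩
  haveI : IsMonHom (CategoryTheory.inv c) := inferInstanceAs (IsMonHom (asIso c).inv)
  exact isSolvableGrp_of_mono (e.hom ≫ CategoryTheory.inv c) hc5

end Groth.Agent.H1.Classical.Unipotent
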