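import Groth.Agent.H1.Classical.Unipotent
import Groth.Prelude.Def_Par
import Groth.Agent.H1.Classical.FieldDescent
import Groth.Agent.H1.Classical.CentralizerBorel
import Groth.Agent.H1.Classical.ConjIso

/-!
# Maximal unipotent subgroups
-/

universe u

open CategoryTheory MonoidalCategory CartesianMonoidalCategory MonObj GrpObj AlgebraicGeometry Limits

namespace Groth.Agent.H1.Classical.UnipotentRadical

set_option linter.style.haveILetI false
set_option linter.unusedSectionVars false

open Groth.Agent.Lib.RedPts Groth.Agent.Lib.RedPts.Points Scheme' Unipotent MaxTorusApply Groth.Agent.Lib.GrpSch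
  Groth.Agent.Lib.RedPts.BC FieldDescent

attribute [local instance] baseAlgebra

variable {k : Type u} [Field k] [IsAlgClosed k]

theorem noTorsion_bc_iff {K : Type u} [Field K] [Algebra k K] [Algebra.IsAlgebraic k K]
    (U : Over (Spec (CommRingCat.of k))) [GrpObj U] : NoTorsion (Red.bc (extBase k K) U) ↔ NoTorsion U := by
  have hbij : Function.Bijective (algebraMap k K) := IsAlgClosed.algebraMap_bijective_of_isIntegral
  haveI : IsIso (CommRingCat.ofHom (algebraMap k K)) :=
    (RingEquiv.ofBijective _ hbij).toCommRingCatIso.isIso_hom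
  haveI : IsIso (extBase k K) := inferInstanceAs (IsIso (Spec.map (CommRingCat.ofHom (algebraMap k K))))
  let κ : (Over.map (extBase k K)).obj (𝟙_ (Over (Spec (CommRingCat.of K)))) ≅ 𝟙_ (Over (Spec (CommRingCat.of k))) :=
    Over.isoMk (asIso (extBase k K)) (by
      show extBase k K ≫ 𝟙 _ = 𝟙 _ ≫ extBase k K
      rw [Category.comp_id, Category.id_comp])
  let φ : (𝟙_ (Over (Spec (CommRingCat.of K))) ⟶ Red.bc (extBase k K) U) ≃*
      ((Over.map (extBase k K)).obj (𝟙_ (Over (Spec (CommRingCat.of K)))) ⟶ U) := downMulEquiv _ _ U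
  let ψ : ((Over.map (extBase k K)).obj (𝟙_ (Over (Spec (CommRingCat.of K)))) ⟶ U) ≃*
      (𝟙_ (Over (Spec (CommRingCat.of k))) ⟶ U) :=
    { κ.homFromEquiv with map_mul' := fun a b => MonObj.comp_mul κ.inv a b }
  have hcast : ∀ m : ℕ, (m : K) ≠ 0 ↔ (m : k) ≠ 0 := fun m => by
    rw [← map_natCast (algebraMap k K) m, map_ne_zero]
  constructor
  · intro h x m hm hx
    apply (φ.trans ψ).symm.injective
    rw [map_one]
    exact h _ m ((hcast m).mpr hm) (by rw [← map_pow, hx, map_one])
  · intro h x m hm hx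
    apply (φ.trans ψ).injective
    rw [map_one]
    exact h _ m ((hcast m).mp hm) (by rw [← map_pow, hx, map_one])

variable {G : Over (Spec (CommRingCat.of k))} [GrpObj G] [IsAffine G.left] [Smooth G.hom] [ConnectedSpace G.left]

/-- A maximal unipotent subgroup is the unipotent part of a Borel subgroup. -/
theorem exists_borel_unip {U : Over (Spec (CommRingCat.of k))} [GrpObj U] (iU : U ⟶ G) [IsMonHom iU]
    (hU : IsClosedImmersion iU.left) [Smooth U.hom] [ConnectedSpace U.left] (nU : Red.HasNoSubtorus k U)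
    (maxU : ∀ (V : Over (Spec (CommRingCat.of k))) [GrpObj V] (j : V ⟶ G) [IsMonHom j] (f : U ⟶ V), IsClosedImmersion j.left →
      Smooth V.hom → ConnectedSpace V.left → Red.HasNoSubtorus k V → f ≫ j = iU → IsIso f) :
    ∃ (B : Over (Spec (CommRingCat.of k))) (_ : GrpObj B) (iB : B ⟶ G) (u : U ⟶ B),
      Red.IsBorelOver k iB ∧ u ≫ iB = iU ∧ IsMonHom u ∧ IsClosedImmersion u.left ∧ AlgGrp.IsNormalHom u ∧
      ∀ (W : Over (Spec (CommRingCat.of k))) [GrpObj W] [IsAffine W.left] [Smooth W.hom] [ConnectedSpace W.left]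
        (f : W ⟶ B) [IsMonHom f], NoTorsion W → ∃ f', f' ≫ u = f := by
  haveI := hU
  haveI : IsAffine U.left := isAffine_of_isAffineHom iU.left
  have hno := noTorsion_of_hasNoSubtorus nU
  obtain ⟨B, _, iB, f, hB, hf⟩ := exists_borel_solvable iU (isSolvableGrp_of_noTorsion hno)
  haveI := hB.1
  haveI := hB.2.1
  haveI := hB.2.2.1
  haveI := hB.2.2.2.1
  haveI : IsAffine B.left := isAffine_of_isAffineHom iB.left
  haveI : Mono iB := Over.mono_of_mono_left iB
  haveI : IsMonHom (f ≫ iB) := hf.symm ▸ inferInstance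
  haveI : IsMonHom f := CentralizerBorel.isMonHom_of_mono_comp f iB
  obtain ⟨V, _, v, hv1, hv2, hv3, hv4, hv5, hv6, hfac, -⟩ := exists_unipPart B hB.2.2.2.2.1
  haveI := hv1
  haveI := hv2
  obtain ⟨f', hf'⟩ := hfac U f hno
  haveI : IsClosedImmersion (v ≫ iB).left := by rw [Over.comp_left]; infer_instance
  haveI : IsIso f' := maxU V (v ≫ iB) f' inferInstance hv3 hv4 hv5 (by rw [← Category.assoc, hf', hf])
  haveI : IsClosedImmersion (f.left ≫ iB.left) := by rw [← Over.comp_left, hf]; infer_instance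
  refine ⟨B, inferInstance, iB, f, hB, hf, inferInstance, IsClosedImmersion.of_comp f.left iB.left, ?_, ?_⟩
  · intro T g n
    obtain ⟨n', hn'⟩ := hv6 T g (n ≫ f')
    exact ⟨n' ≫ CategoryTheory.inv f', by
      rw [← hf', ← Category.assoc n, hn', ← Category.assoc (n' ≫ CategoryTheory.inv f'), Category.assoc n',
        IsIso.inv_hom_id, Category.comp_id]⟩
  · intro W _ _ _ _ g _ hW
    obtain ⟨g', hg'⟩ := hfac W g hW
    exact ⟨g' ≫ CategoryTheory.inv f', by rw [← hf', Category.assoc, IsIso.inv_hom_id_assoc, hg']⟩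

/-- It is a unipotent radical. -/
theorem isUnipotentRadical_of {U B : Over (Spec (CommRingCat.of k))} [GrpObj U] [GrpObj B] [IsAffine B.left]
    [Smooth U.hom] [ConnectedSpace U.left] (nU : Red.HasNoSubtorus k U) (u : U ⟶ B) (hm : IsMonHom u)
    (hc : IsClosedImmersion u.left) (hn : AlgGrp.IsNormalHom u)
    (hfac : ∀ (W : Over (Spec (CommRingCat.of k))) [GrpObj W] [IsAffine W.left] [Smooth W.hom] [ConnectedSpace W.left]
      (f : W ⟶ B) [IsMonHom f], NoTorsion W → ∃ f', f' ≫ u = f) : Par.IsUnipotentRadical u := by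
  haveI := hm
  haveI := hc
  haveI : IsAffine U.left := isAffine_of_isAffineHom u.left
  refine ⟨hm, hc, hn, inferInstance, inferInstance, fun s => ?_, ?_⟩
  · obtain ⟨alg, halg, hσ⟩ := exists_geomPt_eq s
    obtain ⟨h1, h2, h3⟩ := bc_props (K := AlgebraicClosure ((Spec (CommRingCat.of k)).residueField s)) U
    show ConnectedSpace (Red.bc (Red.geomPt s) U).left ∧ Red.HasNoSubtorus _ (Red.bc (Red.geomPt s) U)
    rw [hσ]
    haveI := h1
    haveI := h2
    haveI := h3
    exact ⟨h3, hasNoSubtorus_of_noTorsion ((noTorsion_bc_iff U).mpr (noTorsion_of_hasNoSubtorus nU))⟩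
  · intro U' _ u' _ hc' _ hs' _ hfib
    haveI := hc'
    haveI := hs'
    haveI : IsAffine U'.left := isAffine_of_isAffineHom u'.left
    let s : Spec (CommRingCat.of k) := IsLocalRing.closedPoint k
    obtain ⟨alg, halg, hσ⟩ := exists_geomPt_eq s
    have h := hfib s
    revert h
    show ConnectedSpace (Red.bc (Red.geomPt s) U').left ∧ Red.HasNoSubtorus _ (Red.bc (Red.geomPt s) U') → _
    rw [hσ]
    rintro ⟨hconn, hno'⟩
    haveI := hconn
    haveI := connectedSpace_of_bc (K := AlgebraicClosure ((Spec (CommRingCat.of k)).residueField s)) U'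
    obtain ⟨h1, h2, -⟩ := bc_props (K := AlgebraicClosure ((Spec (CommRingCat.of k)).residueField s)) U'
    haveI := h1
    haveI := h2
    exact hfac U' u' ((noTorsion_bc_iff U').mp (noTorsion_of_hasNoSubtorus hno'))

/-- Maximal unipotent subgroups are conjugate. -/
theorem conj_unip {U U' : Over (Spec (CommRingCat.of k))} [GrpObj U] [GrpObj U'] (iU : U ⟶ G) [IsMonHom iU]
    (iU' : U' ⟶ G) [IsMonHom iU'] (hU : IsClosedImmersion iU.left) (hU' : IsClosedImmersion iU'.left)
    [Smooth U.hom] [Smooth U'.hom] [ConnectedSpace U.left] [ConnectedSpace U'.left]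
    (nU : Red.HasNoSubtorus k U) (nU' : Red.HasNoSubtorus k U')
    (maxU : ∀ (V : Over (Spec (CommRingCat.of k))) [GrpObj V] (j : V ⟶ G) [IsMonHom j] (f : U ⟶ V), IsClosedImmersion j.left →
      Smooth V.hom → ConnectedSpace V.left → Red.HasNoSubtorus k V → f ≫ j = iU → IsIso f)
    (maxU' : ∀ (V : Over (Spec (CommRingCat.of k))) [GrpObj V] (j : V ⟶ G) [IsMonHom j] (f : U' ⟶ V), IsClosedImmersion j.left →
      Smooth V.hom → ConnectedSpace V.left → Red.HasNoSubtorus k V → f ≫ j = iU' → IsIso f) :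
    ∃ (g : 𝟙_ (Over (Spec (CommRingCat.of k))) ⟶ G) (e : U ≅ U'), e.hom ≫ iU' = AGF.conjBy g iU := by
  haveI := hU
  haveI := hU'
  haveI : IsAffine U.left := isAffine_of_isAffineHom iU.left
  obtain ⟨B, _, iB, u, hB, hu, hum, -, -, -⟩ := exists_borel_unip iU hU nU maxU
  obtain ⟨B', _, iB', u', hB', hu', -, -, -, hfac⟩ := exists_borel_unip iU' hU' nU' maxU'
  haveI := hB.1
  haveI := hB'.1
  haveI := hB'.2.1
  haveI : Mono iB' := Over.mono_of_mono_left iB'
  haveI := hum
  obtain ⟨g, f, hf⟩ := borel_conj iB iB' hB hB'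
  rw [← ConjIso.comp_conjIso] at hf
  haveI : IsMonHom (f.hom ≫ iB') := hf.symm ▸ inferInstance
  haveI : IsMonHom f.hom := CentralizerBorel.isMonHom_of_mono_comp f.hom iB'
  obtain ⟨a, ha⟩ := hfac U (u ≫ f.hom) (noTorsion_of_hasNoSubtorus nU)
  have ha' : a ≫ iU' = iU ≫ (ConjIso.conjIso g).hom := by
    rw [← hu', ← Category.assoc, ha, Category.assoc, hf, ← Category.assoc, hu]
  haveI : IsMonHom (ConjIso.conjIso g).inv := inferInstance
  haveI : IsIso (ConjIso.conjIso g).inv.left := ((Over.forget _).mapIso (ConjIso.conjIso g)).isIso_inv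
  haveI : IsClosedImmersion (iU' ≫ (ConjIso.conjIso g).inv).left := by rw [Over.comp_left]; infer_instance
  haveI : IsIso a := maxU U' (iU' ≫ (ConjIso.conjIso g).inv) a inferInstance inferInstance inferInstance nU'
    (by rw [← Category.assoc, ha', Category.assoc, Iso.hom_inv_id, Category.comp_id])
  exact ⟨g, asIso a, by rw [asIso_hom, ha', ConjIso.comp_conjIso]⟩

/-- Without unipotent subgroups the group is a torus. -/
theorem isTorus_of_no_unip
    (h : ∀ (U : Over (Spec (CommRingCat.of k))) [GrpObj U] (i : U ⟶ G) [IsMonHom i], IsClosedImmersion i.left →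
      Smooth U.hom → ConnectedSpace U.left → Red.HasNoSubtorus k U → Red.IsTrivialGrp U) :
    Red.IsTorus G := by
  obtain ⟨A, _, _, _, _, e, he⟩ := exists_GA G
  haveI := he
  obtain ⟨B, _, iB, hB⟩ := BorelExists.exists_borel G
  haveI := hB.1
  haveI := hB.2.1
  haveI := hB.2.2.1
  haveI := hB.2.2.2.1
  haveI : IsAffine B.left := isAffine_of_isAffineHom iB.left
  obtain ⟨V, _, v, hv1, hv2, hv3, hv4, hv5, -, -, hT⟩ := exists_unipPart B hB.2.2.2.2.1
  haveI := hv1
  haveI := hv2
  haveI : IsClosedImmersion (v ≫ iB).left := by rw [Over.comp_left]; infer_instance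
  have hBT := hT (h V (v ≫ iB) inferInstance hv3 hv4 hv5)
  have hB₁ := isBorelOver_comp hB e
  haveI := hB₁.2.1
  haveI := locallyOfFiniteType_GA (k := k) (A := A)
  haveI : Mono iB := Over.mono_of_mono_left iB
  haveI : Mono (iB ≫ e.hom) := mono_comp _ _
  obtain ⟨W, _, σ, hσ⟩ := Torus.GenRep.exists_gen (HopfPts.D k A) hasMul_pts pts_ext
  have hcomm := (TorusPts.isTor_ptsOf (iB ≫ e.hom) hBT).comm
  have htop := Torus.UnipotentPart.eq_top_of_comm HopfPts.sirr_univ hasMul_pts hσ
    (MaxTorusScheme.isBor_ptsOf (iB ≫ e.hom) hB₁) hcomm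
  haveI : Smooth (GA k A).hom := by
    haveI : IsIso e.inv.left := ((Over.forget _).mapIso e).isIso_inv
    rw [← Over.w e.inv]; infer_instance
  obtain ⟨f, hf⟩ := MaxTorusScheme.exists_factor (iB ≫ e.hom) (𝟙 (GA k A)) fun x => by
    obtain ⟨s, hs⟩ := ptHom_surjective x
    exact ⟨s, htop ▸ Subgroup.mem_top s, by rw [Category.comp_id, hs]⟩
  haveI : IsIso (iB ≫ e.hom) :=
    ⟨f, by rw [← cancel_mono (iB ≫ e.hom), Category.assoc, hf, Category.comp_id, Category.id_comp], hf⟩
  haveI : IsIso iB := IsIso.of_isIso_comp_right iB e.hom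
  haveI : IsMonHom (asIso iB).hom := inferInstanceAs (IsMonHom iB)
  haveI : IsMonHom (asIso iB).symm.hom := inferInstanceAs (IsMonHom (asIso iB).inv)
  exact Groth.Agent.Lib.Tori.Basic.isTorus_congr (Grp.mkIso' (asIso iB).symm) hBT

end Groth.Agent.H1.Classical.UnipotentRadical
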