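import Groth.Agent.H1.Classical.HopfPts
import Mathlib.LinearAlgebra.TensorProduct.Basis
import Mathlib.GroupTheory.QuotientGroup.Basic

/-!
# Solvability on points implies solvability of all point groups
-/

universe u v w

namespace Groth.Agent.H1.Classical.Words

set_option linter.style.haveILetI false
set_option linter.unusedSectionVars false

open commutatorElement WithConv TensorProduct

section Group

variable {G : Type*} [Group G]

/-- The basic words of derived level `n`. -/
def W : ℕ → Set G
  | 0 => Set.univ
  | n + 1 => {x | ∃ a ∈ W n, ∃ b ∈ W n, x = ⁅a, b⁆}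

theorem W_conj (n : ℕ) {x : G} (hx : x ∈ (W n : Set G)) (g : G) : g * x * g⁻¹ ∈ (W n : Set G) := by
  induction n generalizing x with
  | zero => trivial
  | succ n ih =>
    obtain ⟨a, ha, b, hb, rfl⟩ := hx
    exact ⟨_, ih ha, _, ih hb, (conjugate_commutatorElement a b g)⟩

theorem W_le_derivedSeries (n : ℕ) : (W n : Set G) ⊆ derivedSeries G n := by
  induction n with
  | zero => intro x _; simp
  | succ n ih =>
    rintro _ ⟨a, ha, b, hb, rfl⟩
    rw [derivedSeries_succ]
    exact Subgroup.commutator_mem_commutator (ih ha) (ih hb)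

theorem derivedSeries_le_closure (n : ℕ) : derivedSeries G n ≤ Subgroup.closure (W n : Set G) := by
  induction n with
  | zero => rw [derivedSeries_zero, W, Subgroup.closure_univ]
  | succ n ih =>
    rw [derivedSeries_succ]
    refine (Subgroup.commutator_mono ih ih).trans ?_
    let N := Subgroup.closure (W (n + 1) : Set G)
    have : N.Normal := ⟨fun x hx g => by
      induction hx using Subgroup.closure_induction with
      | mem y hy => exact Subgroup.subset_closure (W_conj _ hy g)
      | one => simp
      | mul y z _ _ hy hz => rw [show g * (y * z) * g⁻¹ = (g * y * g⁻¹) * (g * z * g⁻¹) by group]; exact N.mul_mem hy hz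
      | inv y _ hy => rw [show g * y⁻¹ * g⁻¹ = (g * y * g⁻¹)⁻¹ by group]; exact N.inv_mem hy⟩
    rw [Subgroup.commutator_le]
    intro a ha b hb
    let π := QuotientGroup.mk' N
    have hcomm : ∀ x ∈ Subgroup.closure (W n : Set G), ∀ y ∈ (W n : Set G), π x * π y = π y * π x := by
      intro x hx y hy
      induction hx using Subgroup.closure_induction with
      | mem z hz =>
        rw [← commutatorElement_eq_one_iff_mul_comm, ← map_commutatorElement]
        exact (QuotientGroup.eq_one_iff _).mpr (Subgroup.subset_closure ⟨z, hz, y, hy, rfl⟩)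
      | one => simp
      | mul z z' _ _ hz hz' => rw [map_mul, mul_assoc, hz', ← mul_assoc, hz, mul_assoc]
      | inv z _ hz => rw [map_inv]; exact (Commute.inv_left hz)
    have hcomm' : ∀ y ∈ Subgroup.closure (W n : Set G), π a * π y = π y * π a := by
      intro y hy
      induction hy using Subgroup.closure_induction with
      | mem z hz => exact hcomm a ha z hz
      | one => simp
      | mul z z' _ _ hz hz' => rw [map_mul, ← mul_assoc, hz, mul_assoc, hz', mul_assoc]
      | inv z _ hz => rw [map_inv]; exact (Commute.inv_right hz)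
    refine (QuotientGroup.eq_one_iff _).mp ?_
    show π ⁅a, b⁆ = 1
    rw [map_commutatorElement, commutatorElement_eq_one_iff_mul_comm]
    exact hcomm' b hb

theorem map_W {H : Type*} [Group H] (f : G →* H) (n : ℕ) {x : G} (hx : x ∈ (W n : Set G)) :
    f x ∈ (W n : Set H) := by
  induction n generalizing x with
  | zero => trivial
  | succ n ih =>
    obtain ⟨a, ha, b, hb, rfl⟩ := hx
    exact ⟨_, ih ha, _, ih hb, map_commutatorElement f a b⟩

end Group

/-- Separated families of functions tensor to separated families. -/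
theorem tensor_eq_zero {k : Type u} [Field k] {M N : Type*} [AddCommGroup M] [Module k M] [AddCommGroup N]
    [Module k N] {X Y : Type*} (φ : X → M →ₗ[k] k) (ψ : Y → N →ₗ[k] k)
    (hφ : ∀ m, (∀ x, φ x m = 0) → m = 0) (hψ : ∀ n, (∀ y, ψ y n = 0) → n = 0) (t : M ⊗[k] N)
    (h : ∀ x y, TensorProduct.lid k k (TensorProduct.map (φ x) (ψ y) t) = 0) : t = 0 := by
  classical
  let b := Module.Free.chooseBasis k N
  let e := TensorProduct.equivFinsuppOfBasisRight (M := M) b
  suffices e t = 0 by simpa using this
  have ht : t = (e t).sum fun j m => m ⊗ₜ[k] b j := by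
    conv_lhs => rw [← e.symm_apply_apply t]
    rw [TensorProduct.equivFinsuppOfBasisRight_symm_apply]
  refine Finsupp.ext fun j => hφ _ fun x => ?_
  have hn : ((e t).sum fun j m => φ x m • b j) = 0 := by
    refine hψ _ fun y => ?_
    have := h x y
    rw [ht] at this
    simpa [Finsupp.sum, map_sum] using this
  have := congrArg (fun n => b.repr n j) hn
  simp only [Finsupp.sum, map_sum, map_smul, Module.Basis.repr_self, Finsupp.coe_finsetSum, Finset.sum_apply,
    Finsupp.smul_apply, Finsupp.single_apply, smul_eq_mul, map_zero, Finsupp.coe_zero, Pi.zero_apply] at this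
  by_cases hj : j ∈ (e t).support
  · simpa [mul_ite, Finset.sum_ite_eq', hj] using this
  · simp [Finsupp.notMem_support_iff.mp hj]

variable {k : Type u} [Field k] {A : Type v} [CommRing A] [HopfAlgebra k A]

open Bialgebra Coalgebra in
/-- The convolution group with values in any commutative algebra. -/
noncomputable instance (priority := 50) convGroup' {B : Type*} [CommRing B] [Algebra k B] :
    Group (WithConv (A →ₐ[k] B)) where
  inv f := toConv <| f.ofConv.comp (HopfAlgebra.antipodeAlgHom k A)
  inv_mul_cancel f := by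
    have H : (Algebra.TensorProduct.lmul' k).comp (Algebra.TensorProduct.map f.ofConv f.ofConv) =
        f.ofConv.comp (Algebra.TensorProduct.lmul' k) := by ext <;> simp
    trans toConv <| ((Algebra.TensorProduct.lmul' k).comp (Algebra.TensorProduct.map f.ofConv f.ofConv)).comp
      ((Algebra.TensorProduct.map (HopfAlgebra.antipodeAlgHom k A) (.id _ _)).comp (comulAlgHom k A))
    · rw [AlgHom.comp_assoc, ← AlgHom.comp_assoc (Algebra.TensorProduct.map f.ofConv f.ofConv),
        ← Algebra.TensorProduct.map_comp]; rfl
    rw [H, AlgHom.comp_assoc, WithConv.ext_iff, ← AlgHom.toLinearMap_injective.eq_iff]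
    change f.ofConv.toLinearMap.comp (toConv (HopfAlgebra.antipode k (A := A)) * toConv LinearMap.id).ofConv =
      ofConv (1 : WithConv <| A →ₗ[k] B)
    rw [LinearMap.antipode_mul_id]
    ext
    simp

/-- Post-composition on convolution groups. -/
noncomputable def push {B B' : Type*} [CommRing B] [Algebra k B] [CommRing B'] [Algebra k B'] (h : B →ₐ[k] B') :
    WithConv (A →ₐ[k] B) →* WithConv (A →ₐ[k] B') where
  toFun x := toConv (h.comp x.ofConv)
  map_one' := by
    apply ofConv_injective
    ext a
    show h ((1 : WithConv (A →ₐ[k] B)) a) = (1 : WithConv (A →ₐ[k] B')) a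
    simp
  map_mul' x y := ofConv_injective (AlgHom.comp_convMul_distrib h x y)

theorem exists_universal (hsep : ∀ a : A, (∀ χ : A →ₐ[k] k, χ a = 0) → a = 0) (n : ℕ) :
    ∃ (B : Type v) (_ : CommRing B) (_ : Algebra k B),
      (∀ b : B, (∀ χ : B →ₐ[k] k, χ b = 0) → b = 0) ∧
      ∃ u : WithConv (A →ₐ[k] B), u ∈ (W n : Set (WithConv (A →ₐ[k] B))) ∧
        ∀ (B' : Type w) [CommRing B'] [Algebra k B'], ∀ x ∈ (W n : Set (WithConv (A →ₐ[k] B'))),
          ∃ h : B →ₐ[k] B', x = push h u := by
  induction n with
  | zero =>
    exact ⟨A, inferInstance, inferInstance, hsep, toConv (AlgHom.id k A), trivial, fun B' _ _ x _ =>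
      ⟨x.ofConv, ofConv_injective (AlgHom.comp_id _).symm⟩⟩
  | succ n ih =>
    obtain ⟨B, _, _, hB, u, hu, huniv⟩ := ih
    let i₁ : B →ₐ[k] B ⊗[k] B := Algebra.TensorProduct.includeLeft
    let i₂ : B →ₐ[k] B ⊗[k] B := Algebra.TensorProduct.includeRight
    refine ⟨B ⊗[k] B, inferInstance, inferInstance, fun t ht => ?_, ⁅push i₁ u, push i₂ u⁆,
      ⟨_, map_W _ n hu, _, map_W _ n hu, rfl⟩, fun B' _ _ x hx => ?_⟩
    · refine tensor_eq_zero (fun χ : B →ₐ[k] k => χ.toLinearMap) (fun χ : B →ₐ[k] k => χ.toLinearMap) hB hB t
        fun x y => ?_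
      have h := ht ((Algebra.TensorProduct.lmul' k).comp (Algebra.TensorProduct.map x y))
      rw [← h]
      clear h ht
      induction t using TensorProduct.induction_on with
      | zero => simp
      | tmul a b => simp
      | add a b ha hb => simp only [map_add, ha, hb]
    · obtain ⟨a, ha, b, hb, rfl⟩ := hx
      obtain ⟨ha', rfl⟩ := huniv B' a ha
      obtain ⟨hb', rfl⟩ := huniv B' b hb
      refine ⟨Algebra.TensorProduct.lift ha' hb' (fun _ _ => .all ..), ?_⟩
      rw [map_commutatorElement]
      congr 1 <;>
        (apply ofConv_injective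
         show _ = (Algebra.TensorProduct.lift ha' hb' _).comp ((AlgHom.comp _ u.ofConv))
         rw [← AlgHom.comp_assoc]
         congr 1
         ext z
         simp [i₁, i₂, push])

/-- If the rational points form a solvable group of derived length `n`, so do all points. -/
theorem derivedSeries_eq_bot (hsep : ∀ a : A, (∀ χ : A →ₐ[k] k, χ a = 0) → a = 0) (n : ℕ)
    (hn : derivedSeries (WithConv (A →ₐ[k] k)) n = ⊥) (B' : Type w) [CommRing B'] [Algebra k B'] :
    derivedSeries (WithConv (A →ₐ[k] B')) n = ⊥ := by
  obtain ⟨B, _, _, hB, u, hu, huniv⟩ := exists_universal.{u, v, w} hsep n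
  have h1 : u = 1 := by
    apply ofConv_injective
    refine AlgHom.ext fun a => sub_eq_zero.mp (hB _ fun χ => ?_)
    have := map_W (push χ) n hu
    have h2 : push χ u = 1 := Subgroup.mem_bot.mp (hn ▸ W_le_derivedSeries n this)
    rw [map_sub, sub_eq_zero]
    show (push χ u).ofConv a = χ ((1 : WithConv (A →ₐ[k] B)) a)
    rw [h2]
    show (1 : WithConv (A →ₐ[k] k)) a = _
    simp
  refine eq_bot_iff.mpr ((derivedSeries_le_closure n).trans ?_)
  rw [Subgroup.closure_le]
  intro x hx
  obtain ⟨h, rfl⟩ := huniv B' x hx
  simp [h1]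

end Groth.Agent.H1.Classical.Words
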